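import Mathlib
import Groth.Prelude.Def_AlgGrp

set_option autoImplicit false
universe u v w

open CategoryTheory MonoidalCategory CartesianMonoidalCategory MonObj AlgebraicGeometry CategoryTheory.Limits

namespace Groth.Agent.AlgGrp79

section Gen
variable {C : Type u} [Category.{v} C] [CartesianMonoidalCategory C]

lemma one_def' {X M : C} [MonObj M] : (1 : X ⟶ M) = toUnit X ≫ η[M] := Hom.one_def

lemma mul_comp' {X M N : C} [MonObj M] [MonObj N] (g h : X ⟶ M) (f : M ⟶ N) [IsMonHom f] :
    (g * h) ≫ f = (g ≫ f) * (h ≫ f) := (IsMonHom.monoidHom f X).map_mul g h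

lemma isMonHom_of_forall {M N : C} [MonObj M] [GrpObj N] (f : M ⟶ N)
    (h : ∀ (T : C) (a b : T ⟶ M), (a * b) ≫ f = (a ≫ f) * (b ≫ f)) : IsMonHom f where
  one_hom := by
    have := h (𝟙_ C) 1 1
    simp only [_root_.mul_one] at this
    have h1 : (1 : 𝟙_ C ⟶ M) ≫ f = 1 := by
      simpa using this
    simpa [Hom.one_def, toUnit_unique (toUnit (𝟙_ C)) (𝟙 _)] using h1
  mul_hom := by
    have := h (M ⊗ M) (fst M M) (snd M M)
    simpa [Hom.mul_def, lift_fst_snd, MonoidalCategory.tensorHom_def, lift_comp_fst_snd] using this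

end Gen

section Act
variable {S : Scheme.{u}} {G X : Over S} [GrpObj G] (a : AlgGrp.Action G X)

lemma mul_act' {T : Over S} (g h : T ⟶ G) (x : T ⟶ X) :
    lift (g * h) x ≫ a.act = lift g (lift h x ≫ a.act) ≫ a.act := by
  have := lift (lift g h) x ≫= a.mul_act
  simpa [Hom.mul_def] using this

lemma one_act' {T : Over S} (x : T ⟶ X) : lift (1 : T ⟶ G) x ≫ a.act = x := by
  have := lift (toUnit T) x ≫= a.one_act
  simpa [Hom.one_def] using this

lemma comp_lift_act {T T' : Over S} (s : T' ⟶ T) (g : T ⟶ G) (x : T ⟶ X) :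
    s ≫ lift g x ≫ a.act = lift (s ≫ g) (s ≫ x) ≫ a.act := by
  rw [← Category.assoc, comp_lift]

@[simp] lemma inv_act_act {T : Over S} (g : T ⟶ G) (x : T ⟶ X) :
    lift g⁻¹ (lift g x ≫ a.act) ≫ a.act = x := by
  rw [← mul_act', inv_mul_cancel, one_act']

@[simp] lemma act_inv_act {T : Over S} (g : T ⟶ G) (x : T ⟶ X) :
    lift g (lift g⁻¹ x ≫ a.act) ≫ a.act = x := by
  rw [← mul_act', mul_inv_cancel, one_act']

noncomputable def shear : G ⊗ X ≅ G ⊗ X where
  hom := lift (fst G X) a.act
  inv := lift (fst G X) (lift (fst G X)⁻¹ (snd G X) ≫ a.act)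
  hom_inv_id := by
    ext : 1
    · simp
    · simp only [Category.assoc, lift_snd, Category.id_comp]
      rw [comp_lift_act]
      simp only [GrpObj.comp_inv, lift_fst, lift_snd]
      calc lift (fst G X)⁻¹ a.act ≫ a.act
          = lift (fst G X)⁻¹ (lift (fst G X) (snd G X) ≫ a.act) ≫ a.act := by rw [lift_fst_snd, Category.id_comp]
        _ = snd G X := inv_act_act a _ _
  inv_hom_id := by
    ext : 1
    · simp
    · simp only [Category.assoc, lift_snd, Category.id_comp]
      calc lift (fst G X) (lift (fst G X)⁻¹ (snd G X) ≫ a.act) ≫ a.act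
          = snd G X := act_inv_act a _ _

lemma shear_hom_snd : (shear a).hom ≫ snd G X = a.act := by simp [shear]

lemma act_left_prop (P : MorphismProperty Scheme.{u}) [P.IsStableUnderBaseChange]
    (h : P G.hom) : P a.act.left := by
  have : P.RespectsIso := MorphismProperty.IsStableUnderBaseChange.respectsIso
  have : IsIso (shear a).hom.left := inferInstanceAs (IsIso ((Over.forget _).map (shear a).hom))
  rw [← shear_hom_snd a, Over.comp_left, MorphismProperty.cancel_left_of_respectsIso P]
  exact MorphismProperty.pullback_snd _ _ h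

end Act

end Groth.Agent.AlgGrp79
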