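import Mathlib
import Groth.Prelude.Def_AlgGrp

set_option autoImplicit false
universe u v w

open CategoryTheory MonoidalCategory CartesianMonoidalCategory MonObj AlgebraicGeometry CategoryTheory.Limits

namespace Groth.Agent.AlgGrp79

lemma exists_preimage_of_isPullback {P X Y Z : Scheme.{u}} {p : P ⟶ X} {q : P ⟶ Y} {f : X ⟶ Z} {g : Y ⟶ Z}
    (h : IsPullback p q f g) (x : X) (y : Y) (hxy : f x = g y) : ∃ z : P, p z = x ∧ q z = y := by
  obtain ⟨z, hz1, hz2⟩ := Scheme.Pullback.exists_preimage_pullback (f := f) (g := g) x y hxy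
  refine ⟨h.isoPullback.inv z, ?_, ?_⟩
  · rw [← Scheme.Hom.comp_apply, h.isoPullback_inv_fst, hz1]
  · rw [← Scheme.Hom.comp_apply, h.isoPullback_inv_snd, hz2]

lemma whiskerLeft_isPullback {C : Type u} [Category.{v} C] [CartesianMonoidalCategory C] (M : C) {Y Z : C} (f : Y ⟶ Z) :
    IsPullback (M ◁ f) (snd M Y) (snd M Z) f := by
  refine ⟨⟨by simp⟩, ⟨PullbackCone.IsLimit.mk _ (fun s => lift (s.fst ≫ fst M Z) s.snd) ?_ ?_ ?_⟩⟩
  · intro s
    ext : 1
    · simp
    · simp [s.condition]
  · intro s; simp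
  · intro s m h1 h2
    ext : 1
    · simp [← h1]
    · simp [← h2]

lemma isPullback_left {B : Scheme.{u}} {P X Y Z : Over B} {p : P ⟶ X} {q : P ⟶ Y} {f : X ⟶ Z} {g : Y ⟶ Z}
    (h : IsPullback p q f g) : IsPullback p.left q.left f.left g.left := h.map (Over.forget B)


section Diag
variable {S : Scheme.{u}} (G : Over S) [GrpObj G]

lemma isPullback_diag_unit :
    IsPullback (lift (𝟙 G) (𝟙 G)) (toUnit G) (fst G G * (snd G G)⁻¹) η[G] := by
  refine ⟨⟨?_⟩, ⟨PullbackCone.IsLimit.mk _ (fun s => s.fst ≫ fst G G) ?_ ?_ ?_⟩⟩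
  · simp [MonObj.comp_mul, GrpObj.comp_inv, Hom.one_def]
  · intro s
    have h := s.condition
    rw [MonObj.comp_mul, GrpObj.comp_inv, toUnit_unique s.snd (toUnit _), ← Hom.one_def,
      mul_inv_eq_one] at h
    ext : 1
    · simp
    · simp [h]
  · intro s; exact toUnit_unique _ _
  · intro s m h1 h2
    simp [← h1]

lemma isPullback_unit_diag :
    IsPullback η[G] η[G] (lift (𝟙 G) (1 : G ⟶ G)) (lift (𝟙 G) (𝟙 G)) := by
  refine ⟨⟨?_⟩, ⟨PullbackCone.IsLimit.mk _ (fun s => toUnit _) ?_ ?_ ?_⟩⟩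
  · ext : 1
    · simp
    · simp [MonObj.comp_one, one_eq_one]
  · intro s
    have h1 := congrArg (· ≫ fst G G) s.condition
    have h2 := congrArg (· ≫ snd G G) s.condition
    simp only [Category.assoc, lift_fst, lift_snd, Category.comp_id, MonObj.comp_one] at h1 h2
    exact (h1.trans (h2.symm.trans Hom.one_def)).symm
  · intro s
    have h2 := congrArg (· ≫ snd G G) s.condition
    simp only [Category.assoc, lift_snd, Category.comp_id, MonObj.comp_one] at h2
    exact (h2.symm.trans Hom.one_def).symm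
  · intro s m h1 h2
    exact toUnit_unique _ _

lemma prop_diagonal_iff_unit (P : MorphismProperty Scheme.{u}) [P.IsStableUnderBaseChange] :
    P (pullback.diagonal G.hom) ↔ P η[G].left := by
  have e : (lift (𝟙 G) (𝟙 G)).left = pullback.diagonal G.hom := rfl
  rw [← e]
  exact ⟨fun h => P.of_isPullback (isPullback_left (isPullback_unit_diag G)).flip h,
    fun h => P.of_isPullback (isPullback_left (isPullback_diag_unit G)).flip h⟩

end Diag

end Groth.Agent.AlgGrp79
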