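import Mathlib
import Groth.Prelude.Def_AlgGrp
import Groth.Agent.AlgGrp79.Act
import Groth.Agent.AlgGrp79.Pullback

set_option autoImplicit false
universe u v w

open CategoryTheory MonoidalCategory CartesianMonoidalCategory MonObj AlgebraicGeometry CategoryTheory.Limits

namespace Groth.Agent.AlgGrp79

section Cover
variable {S : Scheme.{u}}

structure IsCov {X Y : Over S} (f : X ⟶ Y) : Prop where
  flat : Flat f.left
  surj : Surjective f.left
  lfp : LocallyOfFinitePresentation f.left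

lemma IsCov.of_left {X Y : Over S} (f : X ⟶ Y) [Flat f.left] [Surjective f.left] [LocallyOfFinitePresentation f.left] :
    IsCov f := ⟨‹_›, ‹_›, ‹_›⟩

lemma IsCov.id (X : Over S) : IsCov (𝟙 X) := by
  have : IsIso (𝟙 X : X ⟶ X).left := inferInstanceAs (IsIso (𝟙 X.left))
  exact .of_left _

lemma IsCov.comp {X Y Z : Over S} {f : X ⟶ Y} {g : Y ⟶ Z} (hf : IsCov f) (hg : IsCov g) : IsCov (f ≫ g) := by
  obtain ⟨_, _, _⟩ := hf
  obtain ⟨_, _, _⟩ := hg
  exact ⟨inferInstanceAs (Flat (f.left ≫ g.left)), inferInstanceAs (Surjective (f.left ≫ g.left)),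
    inferInstanceAs (LocallyOfFinitePresentation (f.left ≫ g.left))⟩

lemma IsCov.of_isPullback {P X Y Z : Over S} {p : P ⟶ X} {q : P ⟶ Y} {f : X ⟶ Z} {g : Y ⟶ Z}
    (h : IsPullback p q f g) (hf : IsCov f) : IsCov q := by
  have h' := isPullback_left h
  exact ⟨MorphismProperty.of_isPullback h' hf.flat, MorphismProperty.of_isPullback h' hf.surj,
    MorphismProperty.of_isPullback h' hf.lfp⟩

lemma IsCov.epi {X Y : Over S} {f : X ⟶ Y} (hf : IsCov f) : Epi f := by
  obtain ⟨_, _, _⟩ := hf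
  have : Epi ((Over.forget S).map f) := inferInstanceAs (Epi f.left)
  exact (Over.forget S).epi_of_epi_map this

lemma IsCov.desc {X Y Z : Over S} {f : X ⟶ Y} (hf : IsCov f) (φ : X ⟶ Z)
    (hφ : ∀ (T : Over S) (a b : T ⟶ X), a ≫ f = b ≫ f → a ≫ φ = b ≫ φ) :
    ∃ u : Y ⟶ Z, f ≫ u = φ := by
  obtain ⟨_, _, _⟩ := hf
  have h : ∀ {T : Scheme.{u}} (a b : T ⟶ X.left), a ≫ f.left = b ≫ f.left → a ≫ φ.left = b ≫ φ.left := by
    intro T a b hab
    have hb : b ≫ X.hom = a ≫ X.hom := by rw [← Over.w f, reassoc_of% hab]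
    exact congr($(hφ (Over.mk (a ≫ X.hom)) (Over.homMk a) (Over.homMk b hb) (by ext; exact hab)).left)
  refine ⟨Over.homMk (EffectiveEpi.desc f.left φ.left h) ?_, ?_⟩
  · rw [← cancel_epi f.left, EffectiveEpi.fac_assoc, Over.w, Over.w]
  · ext; simp

lemma IsCov.whiskerLeft (M : Over S) {X Y : Over S} {f : X ⟶ Y} (hf : IsCov f) : IsCov (M ◁ f) :=
  IsCov.of_isPullback (whiskerLeft_isPullback M f).flip hf

lemma IsCov.whiskerRight {X Y : Over S} {f : X ⟶ Y} (hf : IsCov f) (M : Over S) : IsCov (f ▷ M) := by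
  have : IsPullback (f ▷ M) (fst X M) (fst Y M) f := by
    refine ⟨⟨by simp⟩, ⟨PullbackCone.IsLimit.mk _ (fun s => lift s.snd (s.fst ≫ snd Y M)) ?_ ?_ ?_⟩⟩
    · intro s
      ext : 1
      · simp [s.condition]
      · simp
    · intro s; simp
    · intro s m h1 h2
      ext : 1
      · simp [← h2]
      · simp [← h1]
  exact IsCov.of_isPullback this.flip hf

lemma IsCov.exists_lift {X Y T : Over S} {f : X ⟶ Y} (hf : IsCov f) (x : T ⟶ Y) :
    ∃ (T' : Over S) (c : T' ⟶ T) (x' : T' ⟶ X), IsCov c ∧ x' ≫ f = c ≫ x :=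
  ⟨pullback f x, pullback.snd f x, pullback.fst f x,
    IsCov.of_isPullback (IsPullback.of_hasPullback f x) hf, pullback.condition⟩

end Cover

lemma lfp_left {k : Type u} [Field k] {X Y : Over (Spec (CommRingCat.of k))}
    [LocallyOfFiniteType X.hom] [LocallyOfFiniteType Y.hom] (f : X ⟶ Y) :
    LocallyOfFinitePresentation f.left := by
  have : LocallyOfFiniteType (f.left ≫ Y.hom) := by rw [Over.w]; infer_instance
  have : LocallyOfFiniteType f.left := locallyOfFiniteType_of_comp f.left Y.hom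
  have : IsLocallyNoetherian Y.left := LocallyOfFiniteType.isLocallyNoetherian Y.hom
  exact LocallyOfFinitePresentation.iff_locallyOfFiniteType.2 inferInstance

lemma isCov_of_flat_surjective {k : Type u} [Field k] {X Y : Over (Spec (CommRingCat.of k))}
    [LocallyOfFiniteType X.hom] [LocallyOfFiniteType Y.hom] (f : X ⟶ Y) [Flat f.left] [Surjective f.left] :
    IsCov f := ⟨‹_›, ‹_›, lfp_left f⟩

section Kernel
variable {S : Scheme.{u}} {G N Q : Over S} [GrpObj G] [GrpObj Q] (q : G ⟶ Q) [IsMonHom q] (i : N ⟶ G)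

lemma ker_comp (hK : AlgGrp.IsKernel i q) : i ≫ q = toUnit N ≫ η[Q] := hK.w

lemma exists_ker_of_comp_eq (hK : AlgGrp.IsKernel i q) {T : Over S} (a b : T ⟶ G) (h : a ≫ q = b ≫ q) :
    ∃ n : T ⟶ N, a⁻¹ * b = n ≫ i :=
  ⟨hK.lift (a⁻¹ * b) (toUnit T) (by rw [mul_comp', GrpObj.inv_comp, h, inv_mul_cancel, Hom.one_def]),
    (hK.lift_fst _ _ _).symm⟩

end Kernel

end Groth.Agent.AlgGrp79
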