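import Mathlib
import Groth.Prelude.Def_AlgGrp

set_option autoImplicit false
universe u v w

open CategoryTheory MonoidalCategory CartesianMonoidalCategory AlgebraicGeometry CategoryTheory.Limits
open scoped TensorProduct

namespace Groth.Agent.AlgGrp79

section Chart
variable (k : Type u) [Field k]

/-- `Spec A` as an object over `Spec k`. -/
noncomputable abbrev specO (A : Type u) [CommRing A] [Algebra k A] : Over (Spec (CommRingCat.of k)) :=
  Over.mk (Spec.map (CommRingCat.ofHom (algebraMap k A)))

variable {k}
variable {A B : Type u} [CommRing A] [Algebra k A] [CommRing B] [Algebra k B]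

instance {A : Type u} [CommRing A] [Algebra k A] : IsAffine (specO k A).left := inferInstanceAs (IsAffine (Spec (CommRingCat.of A)))

noncomputable def specPt (φ : A →ₐ[k] B) : specO k B ⟶ specO k A :=
  Over.homMk (Spec.map (CommRingCat.ofHom φ.toRingHom)) (by
    show Spec.map _ ≫ Spec.map _ = Spec.map _
    rw [← Spec.map_comp]; congr 1; ext1; exact φ.comp_algebraMap)

@[simp] lemma specPt_left (φ : A →ₐ[k] B) : (specPt φ).left = Spec.map (CommRingCat.ofHom φ.toRingHom) := rfl

lemma specPt_comp {C : Type u} [CommRing C] [Algebra k C] (φ : A →ₐ[k] B) (ψ : B →ₐ[k] C) :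
    specPt ψ ≫ specPt φ = specPt (ψ.comp φ) := by
  ext : 1
  show Spec.map _ ≫ Spec.map _ = Spec.map _
  rw [← Spec.map_comp]; rfl

lemma specPt_id : specPt (AlgHom.id k A) = 𝟙 _ := by
  ext : 1
  show Spec.map (CommRingCat.ofHom (RingHom.id A)) = 𝟙 _
  rw [CommRingCat.ofHom_id, Spec.map_id]

lemma exists_specPt (t : specO k B ⟶ specO k A) : ∃ φ : A →ₐ[k] B, specPt φ = t := by
  have h : Spec.map (CommRingCat.ofHom (algebraMap k A) ≫ Spec.preimage t.left) =
      Spec.map (CommRingCat.ofHom (algebraMap k B)) := by
    rw [Spec.map_comp, Spec.map_preimage]; exact Over.w t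
  refine ⟨{ (Spec.preimage t.left).hom with
    commutes' := fun r => congrArg (fun q => q r) (congrArg CommRingCat.Hom.hom (Spec.map_injective h)) }, ?_⟩
  ext : 1
  show Spec.map _ = _
  exact Spec.map_preimage _

/-- `Spec (A ⊗ B)` is the product of `Spec A` and `Spec B`. -/
noncomputable def tensorIso (A B : Type u) [CommRing A] [Algebra k A] [CommRing B] [Algebra k B] :
    specO k (A ⊗[k] B) ≅ specO k A ⊗ specO k B :=
  Over.isoMk (pullbackSpecIso k A B).symm (by
    show (pullbackSpecIso k A B).inv ≫ (pullback.fst _ _ ≫ Spec.map _) = Spec.map _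
    rw [pullbackSpecIso_inv_fst_assoc, ← Spec.map_comp]
    rfl)

lemma tensorIso_hom_fst : (tensorIso A B).hom ≫ fst (specO k A) (specO k B) = specPt Algebra.TensorProduct.includeLeft := by
  ext : 1
  exact pullbackSpecIso_inv_fst k A B

lemma tensorIso_hom_snd : (tensorIso A B).hom ≫ snd (specO k A) (specO k B) = specPt Algebra.TensorProduct.includeRight := by
  ext : 1
  exact pullbackSpecIso_inv_snd k A B

lemma tensorIso_natural {B' : Type u} [CommRing B'] [Algebra k B'] (φ : B →ₐ[k] B') :
    (tensorIso A B').hom ≫ (specO k A ◁ specPt φ) =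
      specPt (Algebra.TensorProduct.map (AlgHom.id k A) φ) ≫ (tensorIso A B).hom := by
  ext : 1
  · rw [Category.assoc, whiskerLeft_fst, tensorIso_hom_fst, Category.assoc, tensorIso_hom_fst, specPt_comp]
    congr 1
    ext x; simp
  · rw [Category.assoc, whiskerLeft_snd, reassoc_of% tensorIso_hom_snd, Category.assoc, tensorIso_hom_snd,
      specPt_comp, specPt_comp]
    congr 1

variable (X : Over (Spec (CommRingCat.of k))) (W : X.left.Opens) (hW : IsAffineOpen W)

/-- The `k`-algebra structure on the sections over an open. -/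
noncomputable abbrev secAlg : Algebra k Γ(X.left, W) :=
  ((Scheme.ΓSpecIso (CommRingCat.of k)).inv ≫ X.hom.appLE ⊤ W le_top).hom.toAlgebra

/-- The chart of an affine open. -/
noncomputable def chart : letI := secAlg X W; specO k Γ(X.left, W) ⟶ X :=
  letI := secAlg X W
  Over.homMk hW.fromSpec (by
    show hW.fromSpec ≫ X.hom = Spec.map _
    rw [RingHom.algebraMap_toAlgebra, CommRingCat.ofHom_hom, Spec.map_comp,
      ← IsAffineOpen.SpecMap_appLE_fromSpec X.hom (isAffineOpen_top _) hW le_top]
    congr 1
    rw [IsAffineOpen.fromSpec_top, Scheme.isoSpec_Spec_inv])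

lemma chart_left : letI := secAlg X W; (chart X W hW).left = hW.fromSpec := rfl

end Chart

end Groth.Agent.AlgGrp79
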