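import Mathlib
import Groth.Agent.AlgGrp79.Chart

set_option autoImplicit false
universe u v w

open CategoryTheory MonoidalCategory CartesianMonoidalCategory AlgebraicGeometry CategoryTheory.Limits
open scoped TensorProduct

namespace Groth.Agent.AlgGrp79

section Agree
variable {k : Type u} [Field k]

/-- The ideal of coefficients of an ideal of `B ⊗ R` along a basis of `B`. -/
lemma exists_coeffIdeal (B R : Type u) [CommRing B] [Algebra k B] [CommRing R] [Algebra k R] (J : Ideal (B ⊗[k] R)) :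
    ∃ I : Ideal R, ∀ (R' : Type u) [CommRing R'] [Algebra k R'] (φ : R →ₐ[k] R'),
      J ≤ RingHom.ker (Algebra.TensorProduct.map (AlgHom.id k B) φ) ↔ I ≤ RingHom.ker φ := by
  let b := Module.Free.chooseBasis k B
  refine ⟨Ideal.span {r | ∃ j ∈ J, ∃ n, TensorProduct.equivFinsuppOfBasisLeft b j n = r}, fun R' _ _ φ => ?_⟩
  have key : ∀ (x : B ⊗[k] R) n, TensorProduct.equivFinsuppOfBasisLeft b (Algebra.TensorProduct.map (AlgHom.id k B) φ x) n =
      φ (TensorProduct.equivFinsuppOfBasisLeft b x n) := by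
    intro x n
    induction x using TensorProduct.induction_on with
    | zero => simp
    | tmul x y => simp
    | add x y hx hy => simp only [map_add, Finsupp.add_apply, hx, hy]
  constructor
  · intro h
    rw [Ideal.span_le]
    rintro _ ⟨j, hj, n, rfl⟩
    show φ _ = 0
    rw [← key, show Algebra.TensorProduct.map (AlgHom.id k B) φ j = 0 from h hj]
    simp
  · intro h j hj
    show Algebra.TensorProduct.map (AlgHom.id k B) φ j = 0
    apply (TensorProduct.equivFinsuppOfBasisLeft b).injective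
    ext n
    rw [key, show φ (TensorProduct.equivFinsuppOfBasisLeft b j n) = 0 from h (Ideal.subset_span ⟨j, hj, n, rfl⟩)]
    simp

/-- The equalizer ideal of two maps from an affine scheme to a separated scheme. -/
lemma exists_eqIdeal {Z : Over (Spec (CommRingCat.of k))} [IsSeparated Z.hom] (P : Type u) [CommRing P] [Algebra k P]
    (f g : specO k P ⟶ Z) :
    ∃ J : Ideal P, ∀ (P' : Type u) [CommRing P'] [Algebra k P'] (φ : P →ₐ[k] P'),
      specPt φ ≫ f = specPt φ ≫ g ↔ J ≤ RingHom.ker φ := by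
  have := isClosedImmersion_equalizer_ι_left f g
  let e := (equalizer.ι f g).left
  have : IsAffine (equalizer f g).left := isAffine_of_isAffineHom e
  let ρ : CommRingCat.of P ⟶ Γ((equalizer f g).left, ⊤) := (Scheme.ΓSpecIso (CommRingCat.of P)).inv ≫ e.appTop
  have hρ : Function.Surjective ρ.hom :=
    ((IsClosedImmersion.isAffine_surjective_of_isAffine (f := e)).2).comp
      (ConcreteCategory.bijective_of_isIso (Scheme.ΓSpecIso (CommRingCat.of P)).inv).2
  have hρe : (equalizer f g).left.isoSpec.hom ≫ Spec.map ρ = e := by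
    rw [Spec.map_comp, Scheme.isoSpec_hom, ← Scheme.toSpecΓ_naturality_assoc]
    show e ≫ (Spec (CommRingCat.of P)).toSpecΓ ≫ _ = e
    rw [← Scheme.isoSpec_hom, Scheme.isoSpec_Spec_hom, ← Spec.map_comp, Iso.inv_hom_id, Spec.map_id]
    exact Category.comp_id e
  refine ⟨RingHom.ker ρ.hom, fun P' _ _ φ => ⟨fun h => ?_, fun h => ?_⟩⟩
  · have hl := congr($(equalizer.lift_ι (specPt φ) h).left)
    rw [Over.comp_left, specPt_left, show (equalizer.ι f g).left = e from rfl, ← hρe] at hl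
    have h2 : CommRingCat.ofHom φ.toRingHom =
        ρ ≫ Spec.preimage ((equalizer.lift (specPt φ) h).left ≫ (equalizer f g).left.isoSpec.hom) := by
      apply Spec.map_injective
      rw [Spec.map_comp, Spec.map_preimage, Category.assoc]
      exact hl.symm
    intro x hx
    show φ x = 0
    have h3 := congrArg (fun q => q x) (congrArg CommRingCat.Hom.hom h2)
    simp only [CommRingCat.hom_ofHom, CommRingCat.hom_comp, RingHom.comp_apply] at h3
    rw [RingHom.mem_ker] at hx
    erw [hx, map_zero] at h3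
    exact h3
  · obtain ⟨ψ, hψ⟩ : ∃ ψ : Γ((equalizer f g).left, ⊤) →+* P', ψ.comp ρ.hom = φ.toRingHom :=
      ⟨RingHom.liftOfSurjective ρ.hom hρ ⟨φ.toRingHom, h⟩, RingHom.liftOfRightInverse_comp _ _ _ _⟩
    let z : Spec (CommRingCat.of P') ⟶ (equalizer f g).left := Spec.map (CommRingCat.ofHom ψ) ≫ (equalizer f g).left.isoSpec.inv
    have hz : z ≫ e = (specPt φ).left := by
      rw [← hρe, Category.assoc, Iso.inv_hom_id_assoc, ← Spec.map_comp, specPt_left, ← hψ]
      rfl
    have hw : z ≫ (equalizer f g).hom = (specO k P').hom := by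
      have h1 : e ≫ (specO k P).hom = (equalizer f g).hom := Over.w (equalizer.ι f g)
      rw [← h1, reassoc_of% hz, Over.w]
    have hz' : (Over.homMk z hw : specO k P' ⟶ equalizer f g) ≫ equalizer.ι f g = specPt φ := by
      ext : 1; exact hz
    rw [← hz', Category.assoc, Category.assoc, equalizer.condition]

variable {X Y Z : Over (Spec (CommRingCat.of k))}

/-- `f` and `g` agree along `t`. -/
def Agree (f g : X ⊗ Y ⟶ Z) {T : Over (Spec (CommRingCat.of k))} (t : T ⟶ Y) : Prop :=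
  (X ◁ t) ≫ f = (X ◁ t) ≫ g

lemma Agree.comp {f g : X ⊗ Y ⟶ Z} {T T' : Over (Spec (CommRingCat.of k))} {t : T ⟶ Y} (h : Agree f g t) (s : T' ⟶ T) :
    Agree f g (s ≫ t) := by
  simp only [Agree, MonoidalCategory.whiskerLeft_comp, Category.assoc] at h ⊢
  rw [h]

lemma agree_iff_forall_pts {f g : X ⊗ Y ⟶ Z} {T : Over (Spec (CommRingCat.of k))} {t : T ⟶ Y} :
    Agree f g t ↔ ∀ (T' : Over (Spec (CommRingCat.of k))) (x : T' ⟶ X) (s : T' ⟶ T), lift x (s ≫ t) ≫ f = lift x (s ≫ t) ≫ g := by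
  refine ⟨fun h T' x s => ?_, fun h => ?_⟩
  · rw [show lift x (s ≫ t) = lift x s ≫ (X ◁ t) by simp, Category.assoc, Category.assoc]
    exact congrArg _ h
  · have := h (X ⊗ T) (fst X T) (snd X T)
    rwa [show lift (fst X T) (snd X T ≫ t) = X ◁ t by ext <;> simp] at this

lemma over_hom_ext_cover {A Z : Over (Spec (CommRingCat.of k))} (𝒰 : A.left.OpenCover) (f g : A ⟶ Z)
    (h : ∀ i, 𝒰.f i ≫ f.left = 𝒰.f i ≫ g.left) : f = g := by
  ext : 1; exact 𝒰.hom_ext _ _ h

lemma hom_ext_chart_left {X T Z : Over (Spec (CommRingCat.of k))} (f g : X ⊗ T ⟶ Z)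
    (S : Set X.left.affineOpens) (hS : ⨆ W : S, W.1.1 = ⊤)
    (h : ∀ W ∈ S, letI := secAlg X W.1;
      ((chart X W.1 W.2) ▷ T) ≫ f = ((chart X W.1 W.2) ▷ T) ≫ g) : f = g := by
  refine over_hom_ext_cover (Scheme.Pullback.openCoverOfLeft (X.left.openCoverOfIsOpenCover (fun W : S => W.1.1)
    (.mk hS)) X.hom T.hom) f g ?_
  rintro ⟨W, hWS⟩
  let := secAlg X W.1
  let e : Spec Γ(X.left, W.1) ⟶ W.1 := W.2.isoSpec.inv
  have hc : (chart X W.1 W.2).left = e ≫ W.1.ι := rfl
  have h' := congr($(h W hWS).left)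
  rw [Over.comp_left, Over.comp_left] at h'
  let ψ : (specO k Γ(X.left, W.1) ⊗ T).left ⟶ pullback (W.1.ι ≫ X.hom) T.hom :=
    pullback.map _ _ _ _ e (𝟙 _) (𝟙 _) (by
      rw [Category.comp_id, ← Category.assoc, ← hc]; exact (Over.w (chart X W.1 W.2)).symm) (by simp)
  have hψ : ((chart X W.1 W.2) ▷ T).left = ψ ≫ pullback.map (W.1.ι ≫ X.hom) T.hom X.hom T.hom W.1.ι (𝟙 _) (𝟙 _) (by simp) (by simp) := by
    apply pullback.hom_ext
    · simp [ψ, hc, pullback.lift_fst, pullback.lift_fst_assoc]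
    · simp [ψ, pullback.lift_snd, pullback.lift_snd_assoc]
  have : IsIso ψ := pullback.map_isIso ..
  rw [hψ] at h'
  exact (cancel_epi ψ).1 ((Category.assoc _ _ _).symm.trans (h'.trans (Category.assoc _ _ _)))

lemma exists_agreeIdeal [IsSeparated Z.hom] (R : Type u) [CommRing R] [Algebra k R] (f g : X ⊗ specO k R ⟶ Z) :
    ∃ I : Ideal R, ∀ (R' : Type u) [CommRing R'] [Algebra k R'] (φ : R →ₐ[k] R'),
      Agree f g (specPt φ) ↔ I ≤ RingHom.ker φ := by
  have hJ : ∀ W : X.left.affineOpens, ∃ I : Ideal R, ∀ (R' : Type u) [CommRing R'] [Algebra k R'] (φ : R →ₐ[k] R'),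
      letI := secAlg X W.1
      (chart X W.1 W.2 ▷ specO k R') ≫ (X ◁ specPt φ) ≫ f = (chart X W.1 W.2 ▷ specO k R') ≫ (X ◁ specPt φ) ≫ g ↔
        I ≤ RingHom.ker φ := by
    intro W
    let := secAlg X W.1
    obtain ⟨J, hJ⟩ := exists_eqIdeal (Γ(X.left, W.1) ⊗[k] R)
      ((tensorIso _ R).hom ≫ (chart X W.1 W.2 ▷ _) ≫ f) ((tensorIso _ R).hom ≫ (chart X W.1 W.2 ▷ _) ≫ g)
    obtain ⟨I, hI⟩ := exists_coeffIdeal (Γ(X.left, W.1)) R J
    refine ⟨I, fun R' _ _ φ => ?_⟩
    rw [← hI, ← hJ, ← reassoc_of% tensorIso_natural φ, ← reassoc_of% tensorIso_natural φ, cancel_epi (tensorIso _ R').hom,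
      whisker_exchange_assoc, whisker_exchange_assoc]
  choose I hI using hJ
  refine ⟨⨆ W, I W, fun R' _ _ φ => ⟨fun h => iSup_le fun W => (hI W R' φ).1 (congrArg _ h), fun h => ?_⟩⟩
  exact hom_ext_chart_left _ _ Set.univ (top_le_iff.1 ((iSup_affineOpens_eq_top X.left).ge.trans (iSup_le fun W => le_iSup (fun V : (Set.univ : Set X.left.affineOpens) => V.1.1) ⟨W, trivial⟩))) fun W _ => (hI W R' φ).2 ((le_iSup I W).trans h)

end Agree

end Groth.Agent.AlgGrp79
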