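import Mathlib
import Groth.Agent.AlgGrp79.Agree

set_option autoImplicit false
universe u v w

open CategoryTheory MonoidalCategory CartesianMonoidalCategory AlgebraicGeometry CategoryTheory.Limits
open scoped TensorProduct

namespace Groth.Agent.AlgGrp79

section Repr
variable {k : Type u} [Field k]

lemma appLE_congr_hom {X Y : Scheme.{u}} {f g : X ⟶ Y} (h : f = g) (U : Y.Opens) (V : X.Opens) (e : V ≤ f ⁻¹ᵁ U) :
    f.appLE U V e = g.appLE U V (h ▸ e) := by subst h; rfl

/-- The map on sections over affine opens induced by a morphism, as an algebra map. -/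
noncomputable def secMap {T Y : Over (Spec (CommRingCat.of k))} (t : T ⟶ Y) (V : T.left.Opens) (W : Y.left.Opens)
    (e : V ≤ t.left ⁻¹ᵁ W) : letI := secAlg Y W; letI := secAlg T V; Γ(Y.left, W) →ₐ[k] Γ(T.left, V) :=
  letI := secAlg Y W; letI := secAlg T V
  { (t.left.appLE W V e).hom with
    commutes' := fun r => by
      show (((Scheme.ΓSpecIso (CommRingCat.of k)).inv ≫ Y.hom.appLE ⊤ W le_top) ≫ t.left.appLE W V e) r =
        ((Scheme.ΓSpecIso (CommRingCat.of k)).inv ≫ T.hom.appLE ⊤ V le_top) r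
      rw [Category.assoc, Scheme.Hom.appLE_comp_appLE, appLE_congr_hom (Over.w t)] }

lemma chart_comp {T Y : Over (Spec (CommRingCat.of k))} (t : T ⟶ Y) (V : T.left.Opens) (hV : IsAffineOpen V)
    (W : Y.left.Opens) (hW : IsAffineOpen W) (e : V ≤ t.left ⁻¹ᵁ W) :
    letI := secAlg Y W; letI := secAlg T V
    specPt (secMap t V W e) ≫ chart Y W hW = chart T V hV ≫ t := by
  ext : 1
  exact IsAffineOpen.SpecMap_appLE_fromSpec t.left hW hV e

lemma hom_ext_chart_right {X T Z : Over (Spec (CommRingCat.of k))} (f g : X ⊗ T ⟶ Z)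
    (S : Set T.left.affineOpens) (hS : ⨆ W : S, W.1.1 = ⊤)
    (h : ∀ V ∈ S, letI := secAlg T V.1;
      (X ◁ chart T V.1 V.2) ≫ f = (X ◁ chart T V.1 V.2) ≫ g) : f = g := by
  let σ : T ⊗ X ⟶ X ⊗ T := lift (snd T X) (fst T X)
  suffices σ ≫ f = σ ≫ g by
    have := congrArg (lift (snd X T) (fst X T) ≫ ·) this
    simpa [σ, ← Category.assoc, lift_fst_snd] using this
  refine hom_ext_chart_left _ _ S hS fun V hV => ?_
  let := secAlg T V.1
  have e : (chart T V.1 V.2 ▷ X) ≫ σ = lift (snd _ X) (fst _ X) ≫ (X ◁ chart T V.1 V.2) := by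
    ext <;> simp [σ]
  rw [reassoc_of% e, reassoc_of% e, h V hV]

lemma agree_of_charts {X Y Z : Over (Spec (CommRingCat.of k))} {f g : X ⊗ Y ⟶ Z} {T : Over (Spec (CommRingCat.of k))}
    {t : T ⟶ Y} (S : Set T.left.affineOpens) (hS : ⨆ W : S, W.1.1 = ⊤)
    (h : ∀ V ∈ S, letI := secAlg T V.1; Agree f g (chart T V.1 V.2 ≫ t)) : Agree f g t :=
  hom_ext_chart_right _ _ S hS fun V hV => by
    have := h V hV
    simpa [Agree] using this

/-- A condition on points which is local and given by an ideal on affine charts is given by a closed subscheme. -/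
lemma exists_closed_repr (Y : Over (Spec (CommRingCat.of k)))
    (P : ∀ (T : Over (Spec (CommRingCat.of k))), (T ⟶ Y) → Prop)
    (hcomp : ∀ (T T' : Over (Spec (CommRingCat.of k))) (t : T ⟶ Y) (s : T' ⟶ T), P T t → P T' (s ≫ t))
    (hloc : ∀ (T : Over (Spec (CommRingCat.of k))) (t : T ⟶ Y)
      (S : Set T.left.affineOpens) (_ : ⨆ W : S, W.1.1 = ⊤),
      (∀ V ∈ S, letI := secAlg T V.1; P _ (chart T V.1 V.2 ≫ t)) → P T t)
    (hrep : ∀ W : Y.left.affineOpens, letI := secAlg Y W.1; ∃ I : Ideal Γ(Y.left, W.1),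
      ∀ (R' : Type u) [CommRing R'] [Algebra k R'] (φ : Γ(Y.left, W.1) →ₐ[k] R'),
        P _ (specPt φ ≫ chart Y W.1 W.2) ↔ I ≤ RingHom.ker φ) :
    ∃ (Z : Over (Spec (CommRingCat.of k))) (j : Z ⟶ Y), IsClosedImmersion j.left ∧
      ∀ (T : Over (Spec (CommRingCat.of k))) (t : T ⟶ Y), P T t ↔ ∃ z : T ⟶ Z, z ≫ j = t := by
  choose I hI using hrep
  let J : Y.left.IdealSheafData :=
    { ideal := I
      map_ideal_basicOpen := fun W s => by
        let := secAlg Y W.1
        let := secAlg Y (Y.left.affineBasicOpen s).1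
        have le : (Y.left.affineBasicOpen s).1 ≤ (𝟙 Y : Y ⟶ Y).left ⁻¹ᵁ W.1 := Y.left.basicOpen_le s
        have hc := chart_comp (𝟙 Y) (Y.left.affineBasicOpen s).1 (Y.left.affineBasicOpen s).2 W.1 W.2 le
        rw [Category.comp_id] at hc
        have heq : (Y.left.presheaf.map (homOfLE (Y.left.basicOpen_le s)).op).hom = (secMap (𝟙 Y) (Y.left.affineBasicOpen s).1 W.1 le).toRingHom := by
          show _ = (Scheme.Hom.appLE (𝟙 Y.left) W.1 (Y.left.affineBasicOpen s).1 le).hom
          simp [Scheme.Hom.appLE]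
          rfl
        refine Eq.trans (congrArg (fun q => Ideal.map q (I W)) heq) ?_
        apply le_antisymm
        · have := (hI (Y.left.affineBasicOpen s) _ (Ideal.Quotient.mkₐ k (I (Y.left.affineBasicOpen s)))).2
            (fun x hx => Ideal.Quotient.eq_zero_iff_mem.2 hx)
          rw [← hc, ← Category.assoc, specPt_comp, hI W] at this
          refine Ideal.map_le_iff_le_comap.2 fun x hx => ?_
          rw [Ideal.mem_comap]
          exact Ideal.Quotient.eq_zero_iff_mem.1 (this hx)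
        · intro x hx
          have h1 : P _ (specPt (Ideal.Quotient.mkₐ k ((I W).map (secMap (𝟙 Y) (Y.left.affineBasicOpen s).1 W.1 le).toRingHom)) ≫
              chart Y (Y.left.affineBasicOpen s).1 (Y.left.affineBasicOpen s).2) := by
            rw [← hc, ← Category.assoc, specPt_comp, hI W]
            intro x hx
            exact Ideal.Quotient.eq_zero_iff_mem.2 (Ideal.mem_map_of_mem _ hx)
          exact Ideal.Quotient.eq_zero_iff_mem.1 ((hI (Y.left.affineBasicOpen s) _ _).1 h1 hx) }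
  let j : Over.mk (J.subschemeι ≫ Y.hom) ⟶ Y := Over.homMk J.subschemeι rfl
  refine ⟨Over.mk (J.subschemeι ≫ Y.hom), j, inferInstanceAs (IsClosedImmersion J.subschemeι), fun T t => ⟨fun h => ?_, ?_⟩⟩
  · have hker : J.subschemeι.ker ≤ t.left.ker := by
      rw [Scheme.IdealSheafData.ker_subschemeι]
      refine Scheme.IdealSheafData.le_ofIdeals_iff.2 fun W a ha => ?_
      rw [RingHom.mem_ker]
      refine TopCat.Sheaf.eq_of_locally_eq' T.left.sheaf
        (fun V : {V : T.left.affineOpens // V.1 ≤ t.left ⁻¹ᵁ W.1} => V.1.1) _ (fun V => homOfLE V.2) ?_ _ _ fun V => ?_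
      · intro x hx
        obtain ⟨_, ⟨V, hV, rfl⟩, hxV, hVW⟩ :=
          T.left.isBasis_affineOpens.exists_subset_of_mem_open hx (t.left ⁻¹ᵁ W.1).2
        exact TopologicalSpace.Opens.mem_iSup.2 ⟨⟨⟨V, hV⟩, hVW⟩, hxV⟩
      · let := secAlg Y W.1
        let := secAlg T V.1.1
        have h3 : P _ (specPt (secMap t V.1.1 W.1 V.2) ≫ chart Y W.1 W.2) := by
          rw [chart_comp t V.1.1 V.1.2 W.1 W.2 V.2]; exact hcomp _ _ _ _ h
        have h4 := (hI W _ _).1 h3 ha
        erw [map_zero]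
        exact h4
    refine ⟨Over.homMk (IsClosedImmersion.lift J.subschemeι t.left hker) ?_, ?_⟩
    · show IsClosedImmersion.lift J.subschemeι t.left hker ≫ J.subschemeι ≫ Y.hom = T.hom
      rw [IsClosedImmersion.lift_fac_assoc, Over.w]
    · ext : 1; exact IsClosedImmersion.lift_fac J.subschemeι t.left hker
  · rintro ⟨z, rfl⟩
    refine hcomp _ _ _ _ (hloc _ _ {V | ∃ W : Y.left.affineOpens, V.1 ≤ J.subschemeι ⁻¹ᵁ W.1} ?_ ?_)
    · refine top_le_iff.1 fun x _ => ?_
      obtain ⟨_, ⟨W, hW, rfl⟩, hxW, -⟩ := Y.left.isBasis_affineOpens.exists_subset_of_mem_open (Set.mem_univ (J.subschemeι x)) isOpen_univ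
      obtain ⟨_, ⟨V, hV, rfl⟩, hxV, hVW⟩ := J.subscheme.isBasis_affineOpens.exists_subset_of_mem_open hxW (J.subschemeι ⁻¹ᵁ W).2
      exact TopologicalSpace.Opens.mem_iSup.2 ⟨⟨⟨V, hV⟩, ⟨W, hW⟩, hVW⟩, hxV⟩
    rintro V ⟨W, hVW⟩
    let := secAlg Y W.1
    let := secAlg (Over.mk (J.subschemeι ≫ Y.hom)) V.1
    rw [← chart_comp j V.1 V.2 W.1 W.2 hVW, hI W]
    intro a ha
    show (J.subschemeι.appLE W.1 V.1 hVW).hom a = 0
    have h0 : (J.subschemeι.app W.1).hom a = 0 :=
      RingHom.mem_ker.1 (show a ∈ RingHom.ker (J.subschemeι.app W.1).hom by rw [J.ker_subschemeι_app]; exact ha)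
    rw [Scheme.Hom.appLE, CommRingCat.hom_comp, RingHom.comp_apply, h0]
    erw [map_zero]

end Repr

end Groth.Agent.AlgGrp79
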