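import Mathlib
import Groth.Prelude.Def_AlgGrp
import Groth.Agent.AlgGrp79.Repr

set_option autoImplicit false
universe u v w

open CategoryTheory MonoidalCategory CartesianMonoidalCategory MonObj AlgebraicGeometry CategoryTheory.Limits
open scoped commutatorElement

namespace Groth.Agent.AlgGrp79

section Fix
variable {k : Type u} [Field k]

lemma exists_agree_repr {X Y Z : Over (Spec (CommRingCat.of k))} [IsSeparated Z.hom] (f g : X ⊗ Y ⟶ Z) :
    ∃ (Y' : Over (Spec (CommRingCat.of k))) (j : Y' ⟶ Y), IsClosedImmersion j.left ∧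
      ∀ (T : Over (Spec (CommRingCat.of k))) (t : T ⟶ Y), Agree f g t ↔ ∃ z : T ⟶ Y', z ≫ j = t := by
  refine exists_closed_repr Y (fun T t => Agree f g t) (fun T T' t s h => h.comp s)
    (fun T t S hS h => agree_of_charts S hS h) fun W => ?_
  let := secAlg Y W.1
  obtain ⟨I, hI⟩ := exists_agreeIdeal Γ(Y.left, W.1) ((X ◁ chart Y W.1 W.2) ≫ f) ((X ◁ chart Y W.1 W.2) ≫ g)
  exact ⟨I, fun R' _ _ φ => by rw [← hI]; simp [Agree]⟩

lemma exists_fixed_repr {X Y : Over (Spec (CommRingCat.of k))} (a : Y ⊗ X ⟶ X)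
    (hstab : ∀ U : X.left.Opens, (snd Y X).left ⁻¹ᵁ U ≤ a.left ⁻¹ᵁ U) :
    ∃ (Z : Over (Spec (CommRingCat.of k))) (j : Z ⟶ X), IsClosedImmersion j.left ∧
      ∀ (T : Over (Spec (CommRingCat.of k))) (t : T ⟶ X), Agree a (snd Y X) t ↔ ∃ z : T ⟶ Z, z ≫ j = t := by
  refine exists_closed_repr X (fun T t => Agree a (snd Y X) t) (fun T T' t s h => h.comp s)
    (fun T t S hS h => agree_of_charts S hS h) fun W => ?_
  let := secAlg X W.1
  let v := chart X W.1 W.2
  have hr : Set.range ((Y ◁ v) ≫ a).left ⊆ Set.range v.left := by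
    rintro _ ⟨z, rfl⟩
    have h1 : (Y ◁ v).left z ∈ (snd Y X).left ⁻¹ᵁ W.1 := by
      show (snd Y X).left ((Y ◁ v).left z) ∈ W.1
      rw [← Scheme.Hom.comp_apply, ← Over.comp_left, whiskerLeft_snd, Over.comp_left, Scheme.Hom.comp_apply]
      exact W.2.range_fromSpec.le ⟨_, rfl⟩
    rw [chart_left, W.2.range_fromSpec, Over.comp_left, Scheme.Hom.comp_apply]
    exact hstab W.1 h1
  have : IsOpenImmersion v.left := by rw [chart_left]; infer_instance
  let a' : Y ⊗ specO k Γ(X.left, W.1) ⟶ specO k Γ(X.left, W.1) :=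
    Over.homMk (IsOpenImmersion.lift v.left _ hr) (by
      rw [← Over.w v, IsOpenImmersion.lift_fac_assoc, Over.w])
  have ha' : a' ≫ v = (Y ◁ v) ≫ a := by ext : 1; exact IsOpenImmersion.lift_fac _ _ _
  have : Mono v := Over.mono_of_mono_left v
  obtain ⟨I, hI⟩ := exists_agreeIdeal Γ(X.left, W.1) a' (snd Y _)
  refine ⟨I, fun R' _ _ φ => ?_⟩
  rw [← hI]
  simp only [Agree, MonoidalCategory.whiskerLeft_comp, Category.assoc]
  rw [← ha', whiskerLeft_snd, whiskerLeft_snd, ← Category.assoc, ← Category.assoc]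
  exact ⟨fun h => (cancel_mono v).1 (h.trans (by simp [Category.assoc, v])), fun h => by rw [h]; simp [Category.assoc, v]⟩

end Fix

end Groth.Agent.AlgGrp79
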