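import Mathlib
import Groth.Agent.AlgGrp79.FixedLocus
import Groth.Agent.AlgGrp79.Pullback

set_option autoImplicit false
universe u v w

open CategoryTheory MonoidalCategory CartesianMonoidalCategory MonObj AlgebraicGeometry CategoryTheory.Limits
open scoped TensorProduct

namespace Groth.Agent.AlgGrp79

section Rigidity
variable {k : Type u} [Field k]

/-- Global sections of the product of an anti-affine scheme and an affine scheme. -/
lemma isIso_snd_appTop {X Y : Over (Spec (CommRingCat.of k))} [QuasiCompact X.hom] [QuasiSeparated X.hom] [IsAffine Y.left]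
    (hX : Function.Bijective ((Scheme.ΓSpecIso (CommRingCat.of k)).inv ≫ X.hom.appTop).hom) :
    IsIso (snd X Y).left.appTop := by
  have : IsIso ((Scheme.ΓSpecIso (CommRingCat.of k)).inv ≫ X.hom.appTop) :=
    (ConcreteCategory.isIso_iff_bijective _).2 hX
  have : IsIso X.hom.appTop := IsIso.of_isIso_comp_left (Scheme.ΓSpecIso (CommRingCat.of k)).inv _
  have H : IsPullback (fst X Y).left (snd X Y).left X.hom Y.hom := IsPullback.of_hasPullback _ _
  have : CompactSpace X.left := QuasiCompact.compactSpace_of_compactSpace X.hom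
  have : QuasiSeparatedSpace X.left := (quasiSeparated_iff_quasiSeparatedSpace X.hom).1 inferInstance
  have hiso := isIso_pushoutSection_of_isQuasiSeparated_of_flat_right H
    (US := ⊤) (UT := ⊤) (UX := ⊤) (UY := ⊤) (by simp) (by simp) (by simp)
    (isAffineOpen_top _) (isAffineOpen_top _) isCompact_univ isQuasiSeparated_univ
  have hpush : IsPushout X.hom.appTop Y.hom.appTop (fst X Y).left.appTop (snd X Y).left.appTop := by
    have := (isIso_pushoutSection_iff ..).mp hiso
    simp only [Scheme.Hom.appTop, Scheme.Hom.app_eq_appLE]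
    exact this
  exact hpush.isIso_inr_of_isIso

lemma eq_snd_of_range_subset_affine {X Y Z : Over (Spec (CommRingCat.of k))} [QuasiCompact X.hom] [QuasiSeparated X.hom]
    [IsAffine Y.left]
    (hX : Function.Bijective ((Scheme.ΓSpecIso (CommRingCat.of k)).inv ≫ X.hom.appTop).hom)
    (f : X ⊗ Y ⟶ Z) (U : Z.left.Opens) (hU : IsAffineOpen U) (hr : Set.range f.left ⊆ U)
    (s : Y ⟶ X ⊗ Y) (hs : s ≫ snd X Y = 𝟙 Y) : f = snd X Y ≫ s ≫ f := by
  have : IsAffine (U : Scheme.{u}) := hU
  have := isIso_snd_appTop (Y := Y) hX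
  let φ : (X ⊗ Y).left ⟶ (U : Scheme.{u}) := IsOpenImmersion.lift U.ι f.left (by rwa [Scheme.Opens.range_ι])
  let ψ : Y.left ⟶ (U : Scheme.{u}) :=
    Y.left.isoSpec.hom ≫ Spec.map (φ.appTop ≫ inv (snd X Y).left.appTop) ≫ (U : Scheme.{u}).isoSpec.inv
  have hψ : (snd X Y).left ≫ ψ = φ := by
    simp only [ψ, Scheme.isoSpec_hom]
    rw [Scheme.toSpecΓ_naturality_assoc, ← Spec.map_comp_assoc, Category.assoc, IsIso.inv_hom_id, Category.comp_id,
      ← Scheme.toSpecΓ_naturality_assoc, ← Scheme.isoSpec_hom, Iso.hom_inv_id, Category.comp_id]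
  have hs' : s.left ≫ (snd X Y).left = 𝟙 _ := by rw [← Over.comp_left, hs]; rfl
  have hf : f.left = (snd X Y).left ≫ (ψ ≫ U.ι) := by
    rw [reassoc_of% hψ]; exact (IsOpenImmersion.lift_fac _ _ _).symm
  ext : 1
  rw [Over.comp_left, Over.comp_left, hf, reassoc_of% hs']

/-- `f` and `g` agree over the open `U`. -/
def AgreeOn {X Y Z : Over (Spec (CommRingCat.of k))} (f g : X ⊗ Y ⟶ Z) (U : Y.left.Opens) : Prop :=
  ∀ (T : Over (Spec (CommRingCat.of k))) (t : T ⟶ Y), Set.range t.left ⊆ U → Agree f g t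

lemma specMap_quotient_surjective {R : Type u} [CommRing R] {R' : Type u} [CommRing R'] (φ : R →+* R') 
    (h : (Set.univ : Set (PrimeSpectrum R)).Subsingleton) [Nontrivial R'] :
    Surjective (Spec.map (CommRingCat.ofHom φ)) :=
  ⟨fun x => ⟨Classical.arbitrary (PrimeSpectrum R'), h trivial trivial⟩⟩

/-- The infinitesimal neighbourhoods of a point with constant fibre lie in the agreement locus. -/
lemma agree_nhd {X Y Z : Over (Spec (CommRingCat.of k))} [QuasiCompact X.hom] [QuasiSeparated X.hom]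
    [IsLocallyNoetherian Y.left] [IsSeparated Z.hom]
    (hX : Function.Bijective ((Scheme.ΓSpecIso (CommRingCat.of k)).inv ≫ X.hom.appTop).hom)
    (x₀ : 𝟙_ (Over (Spec (CommRingCat.of k))) ⟶ X) (y₀ : 𝟙_ (Over (Spec (CommRingCat.of k))) ⟶ Y) (f : X ⊗ Y ⟶ Z)
    (hf : (Set.range ((X ◁ y₀) ≫ f).left).Subsingleton) :
    ∃ U : Y.left.Opens, y₀.left (IsLocalRing.closedPoint k) ∈ U ∧
      AgreeOn f (snd X Y ≫ lift (toUnit Y ≫ x₀) (𝟙 Y) ≫ f) U := by
  set g := snd X Y ≫ lift (toUnit Y ≫ x₀) (𝟙 Y) ≫ f with hg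
  obtain ⟨_, ⟨W, hW, rfl⟩, hyW, -⟩ := Y.left.isBasis_affineOpens.exists_subset_of_mem_open
    (Set.mem_univ (y₀.left (IsLocalRing.closedPoint k))) isOpen_univ
  let := secAlg Y W
  let R := Γ(Y.left, W)
  have : IsNoetherianRing R := IsLocallyNoetherian.component_noetherian (X := Y.left) ⟨W, hW⟩
  let v := chart Y W hW
  have : IsOpenImmersion v.left := by rw [chart_left]; infer_instance
  let u : specO k k ⟶ 𝟙_ (Over (Spec (CommRingCat.of k))) := toUnit _
  have hr0 : Set.range (u ≫ y₀).left ⊆ Set.range v.left := by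
    rintro _ ⟨p, rfl⟩
    rw [chart_left, hW.range_fromSpec, Over.comp_left, Scheme.Hom.comp_apply]
    rw [show u.left p = IsLocalRing.closedPoint k from Subsingleton.elim (α := PrimeSpectrum k) _ _]
    exact hyW
  obtain ⟨α, hα⟩ := exists_specPt (k := k) (A := R) (B := k)
    (Over.homMk (IsOpenImmersion.lift v.left _ hr0) (by rw [← Over.w v, IsOpenImmersion.lift_fac_assoc, Over.w]))
  have hαv : specPt α ≫ v = u ≫ y₀ := by
    rw [hα]; ext : 1; exact IsOpenImmersion.lift_fac _ _ _
  let m : Ideal R := RingHom.ker α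
  have hm : m.IsMaximal := RingHom.ker_isMaximal_of_surjective α fun c => ⟨algebraMap k R c, α.commutes c⟩
  obtain ⟨I, hI⟩ := exists_agreeIdeal R ((X ◁ v) ≫ f) ((X ◁ v) ≫ g)
  have hpow : ∀ n : ℕ, I ≤ m ^ (n + 1) := by
    intro n
    let A := R ⧸ m ^ (n + 1)
    have hle : m ^ (n + 1) ≤ m := Ideal.pow_le_self (Nat.succ_ne_zero n)
    let β : A →ₐ[k] k := Ideal.Quotient.liftₐ _ α fun a ha => hle ha
    let t : specO k A ⟶ Y := specPt (Ideal.Quotient.mkₐ k (m ^ (n + 1))) ≫ v
    have hβ : specPt β ≫ t = u ≫ y₀ := by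
      rw [← hαv, ← Category.assoc, specPt_comp]; congr 2
    have hsing : (Set.univ : Set (PrimeSpectrum A)).Subsingleton := by
      rintro p - q -
      apply PrimeSpectrum.comap_injective_of_surjective (Ideal.Quotient.mk (m ^ (n + 1))) Ideal.Quotient.mk_surjective
      have key : ∀ p : PrimeSpectrum A, (p.comap (Ideal.Quotient.mk (m ^ (n + 1)))).asIdeal = m := fun p => by
        refine (hm.eq_of_le (p.comap _).isPrime.ne_top ((p.comap _).isPrime.le_of_pow_le (n := n + 1) fun a ha => ?_)).symm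
        show Ideal.Quotient.mk _ a ∈ p.asIdeal
        rw [Ideal.Quotient.eq_zero_iff_mem.2 ha]; exact p.asIdeal.zero_mem
      exact PrimeSpectrum.ext ((key p).trans (key q).symm)
    have : Surjective (X ◁ specPt β).left := by
      have : Surjective (specPt β).left := specMap_quotient_surjective β.toRingHom hsing
      exact MorphismProperty.of_isPullback (P := @Surjective) (isPullback_left (whiskerLeft_isPullback X (specPt β))).flip this
    have hsub : (Set.range ((X ◁ t) ≫ f).left).Subsingleton := by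
      have e : (X ◁ specPt β) ≫ (X ◁ t) ≫ f = (X ◁ u) ≫ (X ◁ y₀) ≫ f := by
        rw [← MonoidalCategory.whiskerLeft_comp_assoc, hβ, MonoidalCategory.whiskerLeft_comp_assoc]
      refine hf.anti ?_
      rintro _ ⟨p, rfl⟩
      obtain ⟨q, rfl⟩ := (X ◁ specPt β).left.surjective p
      refine ⟨(X ◁ u).left q, ?_⟩
      rw [← Scheme.Hom.comp_apply, ← Over.comp_left, ← e, Over.comp_left, Scheme.Hom.comp_apply]
    let s : specO k A ⟶ X ⊗ specO k A := lift (toUnit _ ≫ x₀) (𝟙 _)
    obtain ⟨U, hU, hUr⟩ : ∃ U : Z.left.Opens, IsAffineOpen U ∧ Set.range ((X ◁ t) ≫ f).left ⊆ U := by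
      let z := ((X ◁ t) ≫ f).left (s.left ((specPt β).left (IsLocalRing.closedPoint k)))
      obtain ⟨_, ⟨U, hU, rfl⟩, hzU, -⟩ := Z.left.isBasis_affineOpens.exists_subset_of_mem_open (Set.mem_univ z) isOpen_univ
      exact ⟨U, hU, fun p hp => by rw [hsub hp ⟨_, rfl⟩]; exact hzU⟩
    have h := eq_snd_of_range_subset_affine hX _ U hU hUr s (lift_snd _ _)
    have hag : Agree f g t := by
      rw [Agree, h, hg, whiskerLeft_snd_assoc]
      congr 1
      simp only [← Category.assoc]
      congr 1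
      ext <;> simp [s]
    have hag' : Agree ((X ◁ v) ≫ f) ((X ◁ v) ≫ g) (specPt (Ideal.Quotient.mkₐ k (m ^ (n + 1)))) := by
      simpa [Agree, t] using hag
    exact fun a ha => Ideal.Quotient.eq_zero_iff_mem.1 ((hI _ _).1 hag' ha)
  have hann : ∀ a ∈ I, ∃ r ∈ m, r * a = a := by
    intro a ha
    obtain ⟨r, hr⟩ := (m.mem_iInf_smul_pow_eq_bot_iff a).1 ((Submodule.mem_iInf _).2 fun i => by
      rw [smul_eq_mul, Ideal.mul_top]
      exact Ideal.pow_le_pow_right (Nat.le_succ i) (hpow i ha))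
    exact ⟨r, r.2, hr⟩
  classical
  obtain ⟨S, hS⟩ := (IsNoetherian.noetherian I : I.FG)
  obtain ⟨s, hsm, hs⟩ : ∃ s ∉ m, ∀ a ∈ I, s * a = 0 := by
    have hmem : ∀ a ∈ S, ∃ r ∈ m, r * a = a := fun a ha => hann a (hS ▸ Ideal.subset_span ha)
    choose r hr1 hr2 using hmem
    refine ⟨∏ a ∈ S.attach, (1 - r a.1 a.2), fun h => ?_, fun a ha => ?_⟩
    · obtain ⟨a, -, h'⟩ := hm.isPrime.prod_mem_iff.1 h
      exact hm.ne_top ((Ideal.eq_top_iff_one _).2 (by simpa using m.add_mem h' (hr1 a.1 a.2)))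
    · rw [← hS] at ha
      refine Submodule.span_induction (fun b hb => ?_) (mul_zero _) (fun x y _ _ hx hy => by rw [mul_add, hx, hy, add_zero])
        (fun c x _ hx => by rw [smul_eq_mul, mul_left_comm, hx, mul_zero]) ha
      rw [← Finset.prod_erase_mul _ _ (Finset.mem_attach S ⟨b, hb⟩), _root_.mul_assoc, sub_mul, hr2, _root_.one_mul, sub_self, mul_zero]
  refine ⟨Y.left.basicOpen s, ?_, fun T t ht => ?_⟩
  · have hs' : IsLocalRing.closedPoint k ∈ (specPt α).left ⁻¹' (PrimeSpectrum.basicOpen s : Set (PrimeSpectrum R)) := by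
      show α s ∉ (IsLocalRing.closedPoint k).asIdeal
      intro h
      refine hsm (RingHom.mem_ker.2 ?_)
      have : (IsLocalRing.closedPoint k).asIdeal = ⊥ := IsLocalRing.maximalIdeal_eq_bot
      rwa [this] at h
    have h2 : v.left ((specPt α).left (IsLocalRing.closedPoint k)) ∈ Y.left.basicOpen s := by
      rw [← hW.fromSpec_image_basicOpen]
      exact ⟨_, hs', rfl⟩
    rw [← Scheme.Hom.comp_apply, ← Over.comp_left, hαv, Over.comp_left, Scheme.Hom.comp_apply,
      show u.left (IsLocalRing.closedPoint k) = IsLocalRing.closedPoint k from Subsingleton.elim (α := PrimeSpectrum k) _ _] at h2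
    exact h2
  · let := secAlg Y (Y.left.basicOpen s)
    let d := chart Y _ (hW.basicOpen s)
    have : IsOpenImmersion d.left := by rw [chart_left]; infer_instance
    have hd : Agree f g d := by
      have le : Y.left.basicOpen s ≤ (𝟙 Y : Y ⟶ Y).left ⁻¹ᵁ W := Y.left.basicOpen_le s
      have hc := chart_comp (𝟙 Y) (Y.left.basicOpen s) (hW.basicOpen s) W hW le
      rw [Category.comp_id] at hc
      have hI' : I ≤ RingHom.ker (secMap (𝟙 Y) (Y.left.basicOpen s) W le) := by
        intro a ha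
        have hu : IsUnit (secMap (𝟙 Y) (Y.left.basicOpen s) W le s) := by
          show IsUnit ((Scheme.Hom.appLE (𝟙 Y.left) W (Y.left.basicOpen s) le) s)
          simp only [Scheme.Hom.appLE, Scheme.Hom.id_app, Category.id_comp]
          exact Y.left.toRingedSpace.isUnit_res_basicOpen s
        rw [RingHom.mem_ker, ← hu.mul_right_eq_zero, ← map_mul, hs a ha, map_zero]
      have := (hI _ _).2 hI'
      show Agree f g (chart Y _ (hW.basicOpen s))
      rw [← hc]
      simpa [Agree] using this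
    have hr : Set.range t.left ⊆ Set.range d.left := by
      rw [chart_left, IsAffineOpen.range_fromSpec]; exact ht
    let t' : T ⟶ specO k Γ(Y.left, Y.left.basicOpen s) := Over.homMk (IsOpenImmersion.lift d.left _ hr)
      (by rw [← Over.w d, IsOpenImmersion.lift_fac_assoc, Over.w])
    have : t' ≫ d = t := by ext : 1; exact IsOpenImmersion.lift_fac _ _ _
    rw [← this]; exact hd.comp t'

end Rigidity

end Groth.Agent.AlgGrp79
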