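import Mathlib
import Groth.Agent.Unr55.EtAscent

set_option autoImplicit false
universe u v w

open CategoryTheory AlgebraicGeometry CategoryTheory.Limits TensorProduct

namespace Groth.Agent.AlgGrp79

lemma formallySmooth_of_geomReduced_field (k L : Type u) [Field k] [Field L] [Algebra k L]
    [Algebra.EssFiniteType k L] [IsReduced (AlgebraicClosure k ⊗[k] L)] : Algebra.FormallySmooth k L := by
  obtain _ | ⟨p, hp, hpk⟩ := CharP.exists' k
  · infer_instance
  have : ExpChar k p := .prime hp.out
  have : CharP L p := .of_ringHom_of_ne_zero (algebraMap k L) p hp.out.ne_zero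
  obtain ⟨s, hs, H⟩ := exists_isTranscendenceBasis_and_isSeparable_of_linearIndepOn_pow_of_essFiniteType
    (k := k) (K := L) p hp.out (fun t ht => by
      rw [LinearIndepOn, Fintype.linearIndependent_iff]
      intro c hc
      choose d hd using fun i => IsAlgClosed.exists_pow_nat_eq (algebraMap k (AlgebraicClosure k) (c i)) hp.out.pos
      have : CharP (AlgebraicClosure k ⊗[k] L) p :=
        charP_of_injective_ringHom
          (f := (Algebra.TensorProduct.includeRight : L →ₐ[k] AlgebraicClosure k ⊗[k] L).toRingHom)
          (Algebra.TensorProduct.includeRight_injective (RingHom.injective _)) p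
      have : ExpChar (AlgebraicClosure k ⊗[k] L) p := .prime hp.out
      have h0 : ∑ i, d i ⊗ₜ[k] ((i : L)) = 0 := by
        apply IsReduced.eq_zero
        refine ⟨p, ?_⟩
        rw [sum_pow_char]
        simp only [Algebra.TensorProduct.tmul_pow, hd, Algebra.algebraMap_eq_smul_one,
          TensorProduct.smul_tmul, ← TensorProduct.tmul_sum, hc, TensorProduct.tmul_zero]
      intro i
      have hd0 : d i = 0 := by
        let b := Module.Free.chooseBasis k (AlgebraicClosure k)
        apply b.repr.injective
        ext j
        rw [map_zero, Finsupp.coe_zero, Pi.zero_apply]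
        have h1 := congrArg (TensorProduct.lid k L ∘ (b.coord j).rTensor L) h0
        simp only [Function.comp_apply, map_sum, LinearMap.rTensor_tmul, TensorProduct.lid_tmul, map_zero] at h1
        exact Fintype.linearIndependent_iff.1 ht _ h1 i
      have := hd i
      rw [hd0, zero_pow hp.out.ne_zero] at this
      exact (map_eq_zero _).1 this.symm)
  have : Algebra.IsSeparable (↥(IntermediateField.adjoin k (Set.range ((↑) : s → L)))) L := by
    convert! H <;> simp
  exact .of_algebraicIndependent_of_isSeparable hs.1

lemma exists_algHom_of_etale_isSepClosed (K B : Type u) [Field K] [IsSepClosed K] [CommRing B] [Algebra K B]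
    [Algebra.Etale K B] [Nontrivial B] : Nonempty (B →ₐ[K] K) := by
  obtain ⟨p, hp⟩ := Ideal.exists_maximal B
  have : Algebra.EssFiniteType K B := inferInstance
  exact ⟨(Pi.evalAlgHom K _ (⟨p, hp.isPrime⟩ : PrimeSpectrum B)).comp
    (Algebra.FormallyEtale.equivPiOfIsSepClosed K B).toAlgHom⟩

lemma exists_eval_ne_zero (K : Type u) [Field K] [Infinite K] {σ : Type} (p : MvPolynomial σ K) (hp : p ≠ 0) :
    ∃ x : σ → K, MvPolynomial.eval x p ≠ 0 := by
  by_contra h
  exact hp (MvPolynomial.funext fun x => by rw [map_zero]; by_contra hx; exact h ⟨x, hx⟩)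

lemma infinite_of_isSepClosed (K : Type u) [Field K] [IsSepClosed K] : Infinite K := by
  refine ⟨fun hf => ?_⟩
  let := Fintype.ofFinite K
  have : IsAlgClosed K := inferInstance
  exact not_finite K

lemma exists_point_of_standardSmooth (K C : Type u) [Field K] [IsSepClosed K] [CommRing C] [Algebra K C]
    [Algebra.IsStandardSmooth K C] [Nontrivial C] : Nonempty (C →ₐ[K] K) := by
  have := infinite_of_isSepClosed K
  obtain ⟨n, g, hgC, hg⟩ := RingHom.IsStandardSmooth.exists_etale_mvPolynomial
    (f := algebraMap K C) (RingHom.isStandardSmooth_algebraMap.2 ‹_›)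
  let P := MvPolynomial (Fin n) K
  algebraize [g]
  have : IsScalarTower K P C := IsScalarTower.of_algebraMap_eq fun x => (RingHom.congr_fun hgC x).symm
  have hopen : IsOpen (Set.range (PrimeSpectrum.comap (algebraMap P C))) :=
    (PrimeSpectrum.isOpenMap_comap_of_hasGoingDown_of_finitePresentation (R := P) (S := C)).isOpen_range
  obtain ⟨q, hq⟩ : (Set.range (PrimeSpectrum.comap (algebraMap P C))).Nonempty := Set.range_nonempty _
  obtain ⟨_, ⟨_, ⟨h, rfl⟩, rfl⟩, hqh, hsub⟩ :=
    PrimeSpectrum.isBasis_basic_opens.exists_subset_of_mem_open hq hopen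
  have h0 : h ≠ 0 := by rintro rfl; simp at hqh
  obtain ⟨x, hx⟩ := exists_eval_ne_zero K h h0
  let ε : P →ₐ[K] K := MvPolynomial.aeval x
  let m : PrimeSpectrum P := ⟨RingHom.ker ε.toRingHom, RingHom.ker_isPrime _⟩
  obtain ⟨q', hq'⟩ := hsub (show m ∈ PrimeSpectrum.basicOpen h by
    simp only [PrimeSpectrum.mem_basicOpen, m, RingHom.mem_ker]
    exact hx)
  algebraize [ε.toRingHom]
  let B := K ⊗[P] C
  have hne : Nontrivial B := by
    refine ⟨⟨0, 1, fun he => ?_⟩⟩
    have hle : RingHom.ker ε.toRingHom ≤ RingHom.ker ((algebraMap C q'.asIdeal.ResidueField).comp (algebraMap P C)) := by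
      intro r hr
      have : r ∈ (PrimeSpectrum.comap (algebraMap P C) q').asIdeal := by rw [hq']; exact hr
      rw [RingHom.mem_ker, RingHom.comp_apply, Ideal.algebraMap_residueField_eq_zero]
      exact this
    let kk : K →+* q'.asIdeal.ResidueField := (algebraMap C q'.asIdeal.ResidueField).comp (algebraMap K C)
    have hk : kk.comp ε.toRingHom = (algebraMap C q'.asIdeal.ResidueField).comp (algebraMap P C) := by
      apply RingHom.ext
      intro r
      have hr : r - MvPolynomial.C (ε r) ∈ RingHom.ker ε.toRingHom := by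
        rw [RingHom.mem_ker]
        show ε (r - MvPolynomial.C (ε r)) = 0
        rw [map_sub, sub_eq_zero]
        exact (ε.commutes (ε r)).symm
      have := hle hr
      rw [RingHom.mem_ker, map_sub, sub_eq_zero] at this
      rw [this]
      simp [kk, IsScalarTower.algebraMap_apply K P C]
      rfl
    algebraize [kk]
    have : IsScalarTower P K q'.asIdeal.ResidueField := IsScalarTower.of_algebraMap_eq fun r => by
      rw [IsScalarTower.algebraMap_apply P C q'.asIdeal.ResidueField]
      exact (RingHom.congr_fun hk r).symm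
    let φ : B →ₐ[P] q'.asIdeal.ResidueField :=
      Algebra.TensorProduct.lift (IsScalarTower.toAlgHom P K _) (IsScalarTower.toAlgHom P C _) fun _ _ => Commute.all _ _
    simpa using congrArg φ he
  have : Algebra.Etale K B := inferInstance
  obtain ⟨ψ⟩ := exists_algHom_of_etale_isSepClosed K B
  refine ⟨{ (ψ.toRingHom.comp (Algebra.TensorProduct.includeRight : C →ₐ[P] B).toRingHom) with
    commutes' := fun r => ?_ }⟩
  show ψ (1 ⊗ₜ[P] algebraMap K C r) = algebraMap K K r
  rw [IsScalarTower.algebraMap_apply K P C, Algebra.algebraMap_eq_smul_one (A := C), ← TensorProduct.smul_tmul]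
  have e : (algebraMap K P r • (1 : K)) ⊗ₜ[P] (1 : C) = algebraMap K B r := by
    rw [Algebra.TensorProduct.algebraMap_apply]
    congr 1
    rw [Algebra.smul_def, mul_one]
    exact ε.commutes r
  rw [e, AlgHom.commutes]

lemma exists_standardSmooth_localization (K A : Type u) [Field K] [CommRing A] [Algebra K A]
    [Algebra.Smooth K A] [Nontrivial A] :
    ∃ s : A, Nontrivial (Localization.Away s) ∧ Algebra.IsStandardSmooth K (Localization.Away s) := by
  obtain ⟨s, hs, h⟩ := Algebra.Smooth.exists_span_eq_top_isStandardSmooth K A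
  by_contra hne
  push Not at hne
  have : ∀ x ∈ s, x ∈ nilradical A := by
    intro x hx
    rw [mem_nilradical]
    by_contra hnil
    apply hne x ?_ (h x hx)
    exact not_subsingleton_iff_nontrivial.1 fun hh => hnil ((IsLocalization.subsingleton_iff (S := Localization.Away x) (M := Submonoid.powers x)).1 hh)
  have htop : nilradical A = ⊤ := top_le_iff.1 (hs ▸ Ideal.span_le.2 this)
  have : (1 : A) ∈ nilradical A := htop ▸ Submodule.mem_top
  rw [mem_nilradical] at this
  obtain ⟨n, hn⟩ := this
  simp at hn

lemma isReduced_of_smooth_field (K A : Type u) [Field K] [CommRing A] [Algebra K A] [Algebra.Smooth K A] :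
    IsReduced A := by
  obtain ⟨s, hs, h⟩ := Algebra.Smooth.exists_span_eq_top_isStandardSmooth K A
  suffices hred : ∀ x : s, IsReduced (Localization.Away (x : A)) by
    refine ⟨fun a ha => ?_⟩
    have key : ∀ x ∈ s, x ∈ ((⊥ : Ideal A).colon ({a} : Set A)).radical := by
      intro x hx
      have := hred ⟨x, hx⟩
      obtain ⟨⟨_, n, rfl⟩, hn⟩ := (IsLocalization.map_eq_zero_iff (Submonoid.powers x) (Localization.Away x) a).1
        ((ha.map (algebraMap A (Localization.Away x))).eq_zero)
      exact ⟨n, Submodule.mem_colon.2 fun b hb => by simpa [Set.mem_singleton_iff.1 hb] using hn⟩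
    have htop : ((⊥ : Ideal A).colon ({a} : Set A)).radical = ⊤ := top_le_iff.1 (hs ▸ Ideal.span_le.2 key)
    rw [Ideal.radical_eq_top, Ideal.eq_top_iff_one] at htop
    simpa using Submodule.mem_colon.1 htop a rfl
  intro x
  have := h x.1 x.2
  obtain ⟨n, g, hgC, hg⟩ := RingHom.IsStandardSmooth.exists_etale_mvPolynomial
    (f := algebraMap K (Localization.Away (x : A))) (RingHom.isStandardSmooth_algebraMap.2 this)
  algebraize [g]
  exact Groth.Agent.Unr55.isReduced_of_etale (A := MvPolynomial (Fin n) K)

lemma exists_point_of_smooth (K A : Type u) [Field K] [IsSepClosed K] [CommRing A] [Algebra K A]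
    [Algebra.Smooth K A] [Nontrivial A] : Nonempty (A →ₐ[K] K) := by
  obtain ⟨s, _, _⟩ := exists_standardSmooth_localization K A
  obtain ⟨φ⟩ := exists_point_of_standardSmooth K (Localization.Away s)
  exact ⟨φ.comp (IsScalarTower.toAlgHom K A _)⟩

lemma exists_point_of_geomReduced (K A : Type u) [Field K] [IsSepClosed K] [CommRing A] [Algebra K A]
    [Algebra.FiniteType K A] [Nontrivial A] [IsReduced (AlgebraicClosure K ⊗[K] A)] :
    Nonempty (A →ₐ[K] K) := by
  have : Algebra.IsGeometricallyReduced K A := (Algebra.isGeometricallyReduced_field_iff K A).2 ‹_›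
  have hA : IsReduced A := Algebra.isReduced_of_isGeometricallyReduced (k := K)
  have : IsNoetherianRing A := Algebra.FiniteType.isNoetherianRing K A
  obtain ⟨q, hq⟩ := Ideal.nonempty_minimalPrimes (show (⊥ : Ideal A) ≠ ⊤ from bot_ne_top)
  have := hq.1.1
  let L := Localization.AtPrime q
  have : IsReduced L := isReduced_localizationPreserves q.primeCompl L hA
  have hfield : IsField L := by
    rw [IsLocalRing.isField_iff_maximalIdeal_eq, eq_bot_iff]
    intro x hx
    rw [Submodule.mem_bot]
    refine IsNilpotent.eq_zero ?_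
    rw [← mem_nilradical, nilradical_eq_sInf, Submodule.mem_sInf]
    intro (P : Ideal L) hP
    have hP' : P.IsPrime := hP
    have h1 : P.under A = q := by
      obtain ⟨hp1, hp2⟩ := (IsLocalization.isPrime_iff_isPrime_disjoint q.primeCompl L P).1 hP'
      have hle : P.under A ≤ q := fun y hy => by
        by_contra hyq
        exact hp2.ne_of_mem hyq hy rfl
      exact le_antisymm hle (hq.2 ⟨hp1, bot_le⟩ hle)
    have h2 : P = IsLocalRing.maximalIdeal L := by
      rw [← IsLocalization.map_comap q.primeCompl L P, ← IsLocalization.AtPrime.map_eq_maximalIdeal q L]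
      exact congrArg _ h1
    exact h2 ▸ hx
  have : IsReduced (AlgebraicClosure K ⊗[K] L) := by
    let := (Algebra.TensorProduct.map (Algebra.ofId A L) (AlgHom.id K (AlgebraicClosure K))).toAlgebra
    have : IsLocalization (Algebra.algebraMapSubmonoid (A ⊗[K] AlgebraicClosure K) q.primeCompl)
        (L ⊗[K] AlgebraicClosure K) := by
      refine IsLocalization.tensorProduct_tensorProduct _ _ q.primeCompl _ ?_
      ext; simp [RingHom.algebraMap_toAlgebra]
    have : IsReduced (A ⊗[K] AlgebraicClosure K) :=
      isReduced_of_injective (Algebra.TensorProduct.comm K A (AlgebraicClosure K)) (AlgEquiv.injective _)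
    have : IsReduced (L ⊗[K] AlgebraicClosure K) :=
      isReduced_localizationPreserves (Algebra.algebraMapSubmonoid (A ⊗[K] AlgebraicClosure K) q.primeCompl) _ this
    exact isReduced_of_injective (Algebra.TensorProduct.comm K (AlgebraicClosure K) L) (AlgEquiv.injective _)
  let : Field L := hfield.toField
  have : Algebra.EssFiniteType A L := Algebra.EssFiniteType.of_isLocalization L q.primeCompl
  have : Algebra.EssFiniteType K L := Algebra.EssFiniteType.comp K A L
  have : Algebra.FinitePresentation K A := Algebra.FinitePresentation.of_finiteType.1 ‹_›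
  have : Algebra.IsSmoothAt K q := formallySmooth_of_geomReduced_field K L
  obtain ⟨f, hf, _⟩ := Algebra.IsSmoothAt.exists_notMem_smooth K q
  have : Nontrivial (Localization.Away f) := not_subsingleton_iff_nontrivial.1 fun hh =>
    hf (by
      obtain ⟨n, hn⟩ := (IsLocalization.subsingleton_iff (S := Localization.Away f) (M := Submonoid.powers f)).1 hh
      exact ‹q.IsPrime›.mem_of_pow_mem n (by simp only at hn; rw [hn]; exact q.zero_mem))
  obtain ⟨φ⟩ := exists_point_of_smooth K (Localization.Away f)
  exact ⟨φ.comp (IsScalarTower.toAlgHom K A _)⟩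

end Groth.Agent.AlgGrp79
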