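import Mathlib
import Groth.Prelude.Def_AlgGrp
import Groth.Prelude.Def_Red
import Groth.Agent.SGA3a.GrpSep
import Groth.Agent.AlgGrp79.SepPoint
import Groth.Agent.AlgGrp79.Pullback

set_option autoImplicit false
universe u v w

open CategoryTheory MonoidalCategory CartesianMonoidalCategory MonObj AlgebraicGeometry CategoryTheory.Limits TensorProduct

namespace Groth.Agent.AlgGrp79

variable {K : Type u} [Field K] {X : Scheme.{u}}

def secPts (f : X ⟶ Spec (CommRingCat.of K)) : Set X :=
  {p | ∃ s : Spec (CommRingCat.of K) ⟶ X, s ≫ f = 𝟙 _ ∧ s (IsLocalRing.closedPoint K) = p}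

lemma fromSpec_comp_eq (f : X ⟶ Spec (CommRingCat.of K)) {W : X.Opens} (hW : IsAffineOpen W) :
    hW.fromSpec ≫ f = Spec.map ((Scheme.ΓSpecIso (CommRingCat.of K)).inv ≫ f.appLE ⊤ W le_top) := by
  rw [Spec.map_comp, ← IsAffineOpen.SpecMap_appLE_fromSpec f (isAffineOpen_top _) hW le_top]
  simp [IsAffineOpen.fromSpec_top, Scheme.isoSpec_Spec_inv]

lemma secPts_inter_nonempty_of_algHom (f : X ⟶ Spec (CommRingCat.of K)) (U : X.Opens) (W : X.Opens) (hW : IsAffineOpen W) (hWU : W ≤ U)
    (h : letI := ((Scheme.ΓSpecIso (CommRingCat.of K)).inv ≫ f.appLE ⊤ W le_top).hom.toAlgebra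
      Nonempty (Γ(X, W) →ₐ[K] K)) :
    ((U : Set X) ∩ secPts f).Nonempty := by
  let := ((Scheme.ΓSpecIso (CommRingCat.of K)).inv ≫ f.appLE ⊤ W le_top).hom.toAlgebra
  obtain ⟨φ⟩ := h
  let s : Spec (CommRingCat.of K) ⟶ X := Spec.map (CommRingCat.ofHom φ.toRingHom) ≫ hW.fromSpec
  refine ⟨s (IsLocalRing.closedPoint K), hWU ?_, s, ?_, rfl⟩
  · rw [← hW.opensRange_fromSpec]; exact ⟨_, rfl⟩
  · have e := fromSpec_comp_eq f hW
    have h1 : (Scheme.ΓSpecIso (CommRingCat.of K)).inv ≫ f.appLE ⊤ W le_top ≫ CommRingCat.ofHom φ.toRingHom = 𝟙 _ := by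
      ext r
      exact φ.commutes r
    rw [Category.assoc, e, ← Spec.map_comp, Category.assoc, h1, Spec.map_id]

lemma exists_affine_le (U : X.Opens) (hU : (U : Set X).Nonempty) :
    ∃ W : X.Opens, IsAffineOpen W ∧ W ≤ U ∧ Nontrivial Γ(X, W) := by
  obtain ⟨x, hx⟩ := hU
  obtain ⟨_, ⟨W, hW, rfl⟩, hxW, hWU⟩ := X.isBasis_affineOpens.exists_subset_of_mem_open hx U.2
  refine ⟨W, hW, hWU, ?_⟩
  by_contra h
  rw [not_nontrivial_iff_subsingleton] at h
  exact (PrimeSpectrum.isEmpty_iff_subsingleton.2 h).false (hW.primeIdealOf ⟨x, hxW⟩)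

lemma dense_secPts_of_smooth [IsSepClosed K] (f : X ⟶ Spec (CommRingCat.of K)) [Smooth f] :
    Dense (secPts f) := by
  rw [dense_iff_inter_open]
  intro U hU hne
  obtain ⟨W, hW, hWU, hnt⟩ := exists_affine_le ⟨U, hU⟩ hne
  refine secPts_inter_nonempty_of_algHom f ⟨U, hU⟩ W hW hWU ?_
  let := ((Scheme.ΓSpecIso (CommRingCat.of K)).inv ≫ f.appLE ⊤ W le_top).hom.toAlgebra
  have : Algebra.Smooth K Γ(X, W) := by
    rw [← RingHom.smooth_algebraMap, RingHom.algebraMap_toAlgebra, CommRingCat.hom_comp]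
    exact RingHom.Smooth.respectsIso.2 _
      (Scheme.ΓSpecIso (CommRingCat.of K)).commRingCatIsoToRingEquiv.symm
      (f.smooth_appLE (isAffineOpen_top _) hW le_top)
  exact exists_point_of_smooth K _

lemma isReduced_tensor_of_geometricallyReduced (f : X ⟶ Spec (CommRingCat.of K)) [GeometricallyReduced f]
    {W : X.Opens} (hW : IsAffineOpen W) (L : Type u) [Field L] [Algebra K L] :
    letI := ((Scheme.ΓSpecIso (CommRingCat.of K)).inv ≫ f.appLE ⊤ W le_top).hom.toAlgebra
    _root_.IsReduced (L ⊗[K] Γ(X, W)) := by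
  let := ((Scheme.ΓSpecIso (CommRingCat.of K)).inv ≫ f.appLE ⊤ W le_top).hom.toAlgebra
  have h : AlgebraicGeometry.IsReduced (pullback (Spec.map (CommRingCat.ofHom (algebraMap K L))) f) :=
    GeometricallyReduced.geometrically_isReduced (Spec.map (CommRingCat.ofHom (algebraMap K L))) _ _ (IsPullback.of_hasPullback _ _).flip
  have e : Spec.map (CommRingCat.ofHom (algebraMap K Γ(X, W))) = hW.fromSpec ≫ f := by
    rw [fromSpec_comp_eq f hW]; rfl
  let j : pullback (Spec.map (CommRingCat.ofHom (algebraMap K L))) (Spec.map (CommRingCat.ofHom (algebraMap K Γ(X, W)))) ⟶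
      pullback (Spec.map (CommRingCat.ofHom (algebraMap K L))) f :=
    pullback.map _ _ _ _ (𝟙 _) hW.fromSpec (𝟙 _) (by simp) (by simp [e])
  have : IsOpenImmersion j := inferInstance
  have : AlgebraicGeometry.IsReduced (Spec (CommRingCat.of (L ⊗[K] Γ(X, W)))) :=
    isReduced_of_isOpenImmersion ((pullbackSpecIso K L Γ(X, W)).inv ≫ j)
  exact (affine_isReduced_iff (CommRingCat.of (L ⊗[K] Γ(X, W)))).1 this

lemma dense_secPts_of_geometricallyReduced [IsSepClosed K] (f : X ⟶ Spec (CommRingCat.of K))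
    [LocallyOfFiniteType f] [GeometricallyReduced f] : Dense (secPts f) := by
  rw [dense_iff_inter_open]
  intro U hU hne
  obtain ⟨W, hW, hWU, hnt⟩ := exists_affine_le ⟨U, hU⟩ hne
  refine secPts_inter_nonempty_of_algHom f ⟨U, hU⟩ W hW hWU ?_
  let := ((Scheme.ΓSpecIso (CommRingCat.of K)).inv ≫ f.appLE ⊤ W le_top).hom.toAlgebra
  have : Algebra.FiniteType K Γ(X, W) := by
    rw [← RingHom.finiteType_algebraMap, RingHom.algebraMap_toAlgebra, CommRingCat.hom_comp]
    exact RingHom.finiteType_respectsIso.2 _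
      (Scheme.ΓSpecIso (CommRingCat.of K)).commRingCatIsoToRingEquiv.symm
      (f.finiteType_appLE (isAffineOpen_top _) hW le_top)
  have := isReduced_tensor_of_geometricallyReduced f hW (AlgebraicClosure K)
  exact exists_point_of_geomReduced K _

lemma isReduced_of_smooth (f : X ⟶ Spec (CommRingCat.of K)) [Smooth f] : AlgebraicGeometry.IsReduced X := by
  have : ∀ W : X.affineOpens, _root_.IsReduced Γ(X, W) := fun W => by
    let := ((Scheme.ΓSpecIso (CommRingCat.of K)).inv ≫ f.appLE ⊤ W.1 le_top).hom.toAlgebra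
    have : Algebra.Smooth K Γ(X, W) := by
      rw [← RingHom.smooth_algebraMap, RingHom.algebraMap_toAlgebra, CommRingCat.hom_comp]
      exact RingHom.Smooth.respectsIso.2 _
        (Scheme.ΓSpecIso (CommRingCat.of K)).commRingCatIsoToRingEquiv.symm
        (f.smooth_appLE (isAffineOpen_top _) W.2 le_top)
    exact isReduced_of_smooth_field K _
  suffices h : ∀ i, AlgebraicGeometry.IsReduced (X.affineCover.X i) from IsReduced.of_openCover (𝒰 := X.affineCover) _
  intro i
  have hU := isAffineOpen_opensRange (X.affineCover.f i)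
  have := this ⟨_, hU⟩
  have : AlgebraicGeometry.IsReduced (X.affineCover.f i).opensRange := by
    have := (affine_isReduced_iff Γ(X, (X.affineCover.f i).opensRange)).2 this
    exact isReduced_of_isOpenImmersion hU.isoSpec.hom
  exact isReduced_of_isOpenImmersion (X.affineCover.f i).isoOpensRange.hom

section Pts
variable (k K' : Type u) [Field k] [Field K'] [Algebra k K']

noncomputable abbrev Pt : Over (Spec (CommRingCat.of k)) := Over.mk (Spec.map (CommRingCat.ofHom (algebraMap k K')))

def PtsDense (X : Over (Spec (CommRingCat.of k))) : Prop :=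
  ∀ (Z : Over (Spec (CommRingCat.of k))) (c : Z ⟶ X), IsClosedImmersion c.left →
    (∀ x : Pt k K' ⟶ X, ∃ z : Pt k K' ⟶ Z, z ≫ c = x) → IsIso c

variable {k K'}

lemma ptsDense_of_dense (X : Over (Spec (CommRingCat.of k)))
    (hred : AlgebraicGeometry.IsReduced (pullback X.hom (Spec.map (CommRingCat.ofHom (algebraMap k K')))))
    (hd : Dense (secPts (K := K') (pullback.snd X.hom (Spec.map (CommRingCat.ofHom (algebraMap k K')))))) :
    PtsDense k K' X := by
  intro Z c _ h
  have : (Spec.map (CommRingCat.ofHom (algebraMap k K'))) = (Pt k K').hom := rfl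
  let σ := Spec.map (CommRingCat.ofHom (algebraMap k K'))
  let c' : pullback Z.hom σ ⟶ pullback X.hom σ := pullback.map _ _ _ _ c.left (𝟙 _) (𝟙 _) (by simp) (by simp)
  have sq : IsPullback c' (pullback.fst Z.hom σ) (pullback.fst X.hom σ) c.left := by
    refine IsPullback.of_right (h₁₂ := pullback.snd X.hom σ) (v₁₃ := σ) ?_ (by simp [c', pullback.lift_fst]) (IsPullback.of_hasPullback X.hom σ).flip
    simpa [c', pullback.lift_snd] using (IsPullback.of_hasPullback Z.hom σ).flip
  have hci : IsClosedImmersion c' := MorphismProperty.of_isPullback sq.flip ‹_›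
  have : Surjective c' := by
    refine ⟨fun p => ?_⟩
    have hsub : secPts (K := K') (pullback.snd X.hom σ) ⊆ Set.range c'.base := by
      rintro _ ⟨s, hs, rfl⟩
      have hw : (s ≫ pullback.fst X.hom σ) ≫ X.hom = (Pt k K').hom := by
        rw [Category.assoc, pullback.condition, reassoc_of% hs]; rfl
      obtain ⟨z, hz⟩ := h (Over.homMk (s ≫ pullback.fst X.hom σ) hw)
      refine ⟨(pullback.lift z.left (𝟙 _) (by rw [Over.w, Category.id_comp]; rfl) : Spec _ ⟶ pullback Z.hom σ) (IsLocalRing.closedPoint K'), ?_⟩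
      rw [← Scheme.Hom.comp_apply]
      refine congrArg (fun t : Spec (CommRingCat.of K') ⟶ pullback X.hom σ => t (IsLocalRing.closedPoint K')) ?_
      apply pullback.hom_ext
      · simpa [c', pullback.lift_fst, pullback.lift_fst_assoc] using congr($(hz).left)
      · simpa [c', pullback.lift_snd, pullback.lift_snd_assoc] using hs.symm
    have : Dense (Set.range c'.base) := hd.mono hsub
    have h2 := this.closure_eq
    rw [c'.isClosedEmbedding.isClosed_range.closure_eq] at h2
    exact (Set.ext_iff.1 h2 p).2 (Set.mem_univ p)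
  have : IsIso c' := isIso_of_isClosedImmersion_of_surjective c'
  have hcov : (@Surjective ⊓ @Flat ⊓ @QuasiCompact : MorphismProperty Scheme.{u}) (pullback.fst X.hom σ) :=
    ⟨⟨MorphismProperty.pullback_fst _ _ inferInstance, MorphismProperty.pullback_fst _ _ inferInstance⟩,
      MorphismProperty.pullback_fst _ _ inferInstance⟩
  have hfl : (MorphismProperty.isomorphisms Scheme.{u}) c.left :=
    MorphismProperty.of_isPullback_of_descendsAlong (Q := @Surjective ⊓ @Flat ⊓ @QuasiCompact) sq hcov ‹IsIso c'›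
  have : IsIso ((Over.forget _).map c) := hfl
  exact isIso_of_reflects_iso c (Over.forget _)

lemma ptsDense_of_smooth [IsSepClosed K'] (X : Over (Spec (CommRingCat.of k))) [Smooth X.hom] : PtsDense k K' X := by
  have hs : Smooth (pullback.snd X.hom (Spec.map (CommRingCat.ofHom (algebraMap k K')))) :=
    MorphismProperty.pullback_snd _ _ ‹_›
  exact ptsDense_of_dense X (isReduced_of_smooth (pullback.snd X.hom _)) (dense_secPts_of_smooth _)

lemma ptsDense_of_geometricallyReduced [IsSepClosed K'] (X : Over (Spec (CommRingCat.of k)))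
    [LocallyOfFiniteType X.hom] [GeometricallyReduced X.hom] : PtsDense k K' X := by
  have hs : LocallyOfFiniteType (pullback.snd X.hom (Spec.map (CommRingCat.ofHom (algebraMap k K')))) :=
    MorphismProperty.pullback_snd _ _ ‹_›
  exact ptsDense_of_dense X inferInstance (dense_secPts_of_geometricallyReduced _)

lemma PtsDense.hom_ext {X Y : Over (Spec (CommRingCat.of k))} (hX : PtsDense k K' X) [IsSeparated Y.hom]
    (f g : X ⟶ Y) (h : ∀ x : Pt k K' ⟶ X, x ≫ f = x ≫ g) : f = g := by
  have := isClosedImmersion_equalizer_ι_left f g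
  have := hX (equalizer f g) (equalizer.ι f g) this fun x => ⟨equalizer.lift x (h x), equalizer.lift_ι _ _⟩
  rw [← cancel_epi (equalizer.ι f g)]
  exact equalizer.condition f g

lemma PtsDense.exists_lift {X X' Y : Over (Spec (CommRingCat.of k))} (hX : PtsDense k K' X)
    (f : X ⟶ X') (c : Y ⟶ X') [IsClosedImmersion c.left]
    (h : ∀ x : Pt k K' ⟶ X, ∃ y : Pt k K' ⟶ Y, y ≫ c = x ≫ f) : ∃ f' : X ⟶ Y, f' ≫ c = f := by
  have hci : IsClosedImmersion (pullback.snd c f).left :=
    MorphismProperty.of_isPullback (isPullback_left (IsPullback.of_hasPullback c f)) ‹_›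
  have := hX _ (pullback.snd c f) hci fun x => by
    obtain ⟨y, hy⟩ := h x
    exact ⟨pullback.lift y x hy, pullback.lift_snd _ _ _⟩
  exact ⟨inv (pullback.snd c f) ≫ pullback.fst c f, by simp [pullback.condition]⟩

lemma isSeparated_grp (G : Over (Spec (CommRingCat.of k))) [GrpObj G] : IsSeparated G.hom :=
  SGA3a.isSeparated_of_subsingleton G

end Pts

end Groth.Agent.AlgGrp79
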