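import Mathlib
import Groth.Prelude.Def_AlgGrp
import Groth.Agent.AlgGrp79.Act
import Groth.Agent.AlgGrp79.Cover
import Groth.Agent.AlgGrp79.SepDense
import Groth.Agent.AlgGrp79.Rigidity
import Groth.Agent.Grp57.Component
import Groth.Agent.Grp57.Morph

set_option autoImplicit false
universe u v w

open CategoryTheory MonoidalCategory CartesianMonoidalCategory MonObj AlgebraicGeometry CategoryTheory.Limits
open scoped commutatorElement

namespace Groth.Agent.AlgGrp79

section RigidityGlobal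
variable {k : Type u} [Field k]

lemma connectedSpace_of_antiAffine {X : Over (Spec (CommRingCat.of k))}
    (hX : Function.Bijective ((Scheme.ΓSpecIso (CommRingCat.of k)).inv ≫ X.hom.appTop).hom) :
    ConnectedSpace X.left := by
  let ε : k →+* Γ(X.left, ⊤) := ((Scheme.ΓSpecIso (CommRingCat.of k)).inv ≫ X.hom.appTop).hom
  have hnt : Nontrivial Γ(X.left, ⊤) := RingHom.domain_nontrivial (RingEquiv.ofBijective ε hX).symm.toRingHom
  have hne : Nonempty X.left := by
    by_contra h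
    have : IsEmpty X.left := not_nonempty_iff.1 h
    exact zero_ne_one (α := Γ(X.left, ⊤)) (TopCat.Presheaf.section_ext X.left.sheaf ⊤ 0 1 fun z _ => (IsEmpty.false z).elim)
  refine connectedSpace_iff_clopen.2 ⟨hne, fun Z hZ => ?_⟩
  by_contra hcon
  rw [not_or] at hcon
  obtain ⟨a, ha⟩ := Set.nonempty_iff_ne_empty.2 hcon.1
  obtain ⟨b, hb⟩ := (Set.ne_univ_iff_exists_notMem Z).1 hcon.2
  let O : Bool → X.left.Opens := fun i => if i then ⟨Z, hZ.isOpen⟩ else ⟨Zᶜ, hZ.compl.isOpen⟩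
  let σ : ∀ i, Γ(X.left, O i) := fun i => if i then 1 else 0
  have hcompat : TopCat.Presheaf.IsCompatible X.left.sheaf.1 O σ := by
    intro i j
    apply TopCat.Presheaf.section_ext X.left.sheaf
    intro z hz
    rcases i with _ | _ <;> rcases j with _ | _
    · rfl
    · exact absurd hz.2 hz.1
    · exact absurd hz.1 hz.2
    · rfl
  obtain ⟨e, he, -⟩ := TopCat.Sheaf.existsUnique_gluing' X.left.sheaf O ⊤ (fun i => homOfLE le_top)
    (fun z _ => TopologicalSpace.Opens.mem_iSup.2 <| by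
      by_cases h : z ∈ Z
      · exact ⟨true, h⟩
      · exact ⟨false, h⟩) σ hcompat
  have hge : ∀ i z (hz : z ∈ O i), X.left.presheaf.germ ⊤ z trivial e = X.left.presheaf.germ (O i) z hz (σ i) := by
    intro i z hz
    rw [← he i]
    exact (X.left.presheaf.germ_res_apply (homOfLE le_top) z hz e).symm
  obtain ⟨c, hc⟩ := hX.2 e
  rcases eq_or_ne c 0 with rfl | h0
  · have h1 : X.left.presheaf.germ ⊤ a trivial e = X.left.presheaf.germ (O true) a ha 1 := hge true a ha
    have h2 : X.left.presheaf.germ ⊤ a trivial e = 0 := by rw [← hc, map_zero, map_zero]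
    exact zero_ne_one (α := X.left.presheaf.stalk a) (h2.symm.trans (h1.trans (map_one _)))
  · have hu : IsUnit (X.left.presheaf.germ ⊤ b trivial e) := by
      rw [← hc]; exact ((isUnit_iff_ne_zero.2 h0).map ε).map (X.left.presheaf.germ ⊤ b trivial).hom
    have h1 : X.left.presheaf.germ ⊤ b trivial e = X.left.presheaf.germ (O false) b hb 0 := hge false b hb
    rw [h1, map_zero] at hu
    exact not_isUnit_zero hu

lemma agreeOn_iSup {X Y Z : Over (Spec (CommRingCat.of k))} {f g : X ⊗ Y ⟶ Z} {J : Type*} (U : J → Y.left.Opens)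
    (h : ∀ i, AgreeOn f g (U i)) : AgreeOn f g (⨆ i, U i) := by
  intro T t ht
  refine agree_of_charts {V | ∃ i, V.1 ≤ t.left ⁻¹ᵁ U i} (top_le_iff.1 fun x _ => ?_) ?_
  · obtain ⟨i, hi⟩ := TopologicalSpace.Opens.mem_iSup.1 (ht ⟨x, rfl⟩)
    obtain ⟨_, ⟨V, hV, rfl⟩, hxV, hVW⟩ := T.left.isBasis_affineOpens.exists_subset_of_mem_open (show x ∈ t.left ⁻¹ᵁ U i from hi) (t.left ⁻¹ᵁ U i).2
    exact TopologicalSpace.Opens.mem_iSup.2 ⟨⟨⟨V, hV⟩, i, hVW⟩, hxV⟩
  · rintro V ⟨i, hV⟩
    let := secAlg T V.1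
    refine h i _ _ ?_
    rintro _ ⟨z, rfl⟩
    rw [Over.comp_left, Scheme.Hom.comp_apply]
    exact hV (V.2.range_fromSpec.le ⟨z, rfl⟩)

lemma eq_of_agreeOn_top {X Y Z : Over (Spec (CommRingCat.of k))} {f g : X ⊗ Y ⟶ Z} (h : AgreeOn f g ⊤) : f = g := by
  simpa [Agree] using h Y (𝟙 Y) (by simp)

/-- Rigidity: irreducible reduced parameter space. -/
lemma eq_of_agreeOn_irreducible {X Y Z : Over (Spec (CommRingCat.of k))} [IrreducibleSpace Y.left] [IsReduced Y.left]
    [IsSeparated Z.hom] {f g : X ⊗ Y ⟶ Z} (U : Y.left.Opens) (hU : (U : Set Y.left).Nonempty) (h : AgreeOn f g U) :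
    f = g := by
  have : IsIntegral Y.left := isIntegral_of_irreducibleSpace_of_isReduced Y.left
  refine hom_ext_chart_right f g Set.univ (top_le_iff.1 ((iSup_affineOpens_eq_top Y.left).ge.trans (iSup_le fun W => le_iSup (fun V : (Set.univ : Set Y.left.affineOpens) => V.1.1) ⟨W, trivial⟩))) fun W _ => ?_
  let := secAlg Y W.1
  obtain ⟨I, hI⟩ := exists_agreeIdeal Γ(Y.left, W.1) ((X ◁ chart Y W.1 W.2) ≫ f) ((X ◁ chart Y W.1 W.2) ≫ g)
  suffices hI0 : ∀ a ∈ I, a = 0 by
    have := (hI _ (AlgHom.id k _)).2 (fun a ha => by simp [hI0 a ha])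
    simpa [Agree, specPt_id] using this
  intro a ha
  rcases isEmpty_or_nonempty W.1 with hW | hW
  · have : Subsingleton Γ(Y.left, W.1) := ⟨fun p q => TopCat.Presheaf.section_ext Y.left.sheaf W.1 p q fun z hz => (hW.false ⟨z, hz⟩).elim⟩
    exact Subsingleton.elim _ _
  obtain ⟨⟨x, hx⟩⟩ := hW
  have hne : ((U ⊓ W.1 : Y.left.Opens) : Set Y.left).Nonempty :=
    nonempty_preirreducible_inter U.2 W.1.2 hU ⟨x, hx⟩
  obtain ⟨y, hy⟩ := hne
  obtain ⟨_, ⟨V, hV, rfl⟩, hyV, hVUW⟩ := Y.left.isBasis_affineOpens.exists_subset_of_mem_open hy (U ⊓ W.1).2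
  let := secAlg Y V
  have le : V ≤ (𝟙 Y : Y ⟶ Y).left ⁻¹ᵁ W.1 := fun z hz => (hVUW hz).2
  have hc := chart_comp (𝟙 Y) V hV W.1 W.2 le
  rw [Category.comp_id] at hc
  have hag : Agree f g (chart Y V hV) := h _ _ fun z hz => (hVUW (hV.range_fromSpec.le hz)).1
  rw [← hc] at hag
  have hker := (hI _ (secMap (𝟙 Y) V W.1 le)).1 (by simpa [Agree] using hag) ha
  have : Nonempty V := ⟨⟨y, hyV⟩⟩
  have hinj : Function.Injective (Y.left.presheaf.map (homOfLE (show V ≤ W.1 from le)).op).hom :=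
    map_injective_of_isIntegral Y.left (homOfLE (show V ≤ W.1 from le))
  refine hinj (Eq.trans ?_ (map_zero _).symm)
  have : (secMap (𝟙 Y) V W.1 le) a = (Y.left.presheaf.map (homOfLE (show V ≤ W.1 from le)).op).hom a := by
    show (Scheme.Hom.appLE (𝟙 Y.left) W.1 V le) a = _
    simp [Scheme.Hom.appLE]
    rfl
  rw [← this]; exact hker

/-- Rigidity: connected parameter space over an algebraically closed field. -/
lemma eq_snd_of_connected [IsAlgClosed k] {X Y Z : Over (Spec (CommRingCat.of k))} [QuasiCompact X.hom] [QuasiSeparated X.hom]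
    [LocallyOfFiniteType Y.hom] [ConnectedSpace Y.left] [IsSeparated Z.hom]
    (hX : Function.Bijective ((Scheme.ΓSpecIso (CommRingCat.of k)).inv ≫ X.hom.appTop).hom)
    (x₀ : 𝟙_ (Over (Spec (CommRingCat.of k))) ⟶ X) (y₀ : 𝟙_ (Over (Spec (CommRingCat.of k))) ⟶ Y) (f : X ⊗ Y ⟶ Z)
    (hf : (Set.range ((X ◁ y₀) ≫ f).left).Subsingleton) :
    f = snd X Y ≫ lift (toUnit Y ≫ x₀) (𝟙 Y) ≫ f := by
  have : IsLocallyNoetherian Y.left := LocallyOfFiniteType.isLocallyNoetherian Y.hom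
  have : JacobsonSpace Y.left := LocallyOfFiniteType.jacobsonSpace Y.hom
  set g := snd X Y ≫ lift (toUnit Y ≫ x₀) (𝟙 Y) ≫ f with hg
  let Ω : Y.left.Opens := ⨆ U : {U : Y.left.Opens // AgreeOn f g U}, U.1
  have hΩ : AgreeOn f g Ω := agreeOn_iSup _ fun U => U.2
  have hmem : ∀ y : 𝟙_ (Over (Spec (CommRingCat.of k))) ⟶ Y, (Set.range ((X ◁ y) ≫ f).left).Subsingleton →
      y.left (IsLocalRing.closedPoint k) ∈ Ω := fun y hy => by
    obtain ⟨U, hyU, hU⟩ := agree_nhd hX x₀ y f hy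
    exact TopologicalSpace.Opens.mem_iSup.2 ⟨⟨U, hU⟩, hyU⟩
  have hclosed : IsClosed (Ω : Set Y.left) := by
    refine closure_subset_iff_isClosed.1 fun x hx => by_contra fun hxΩ => ?_
    obtain ⟨y, hy, hyc⟩ := nonempty_inter_closedPoints (Z := closure (Ω : Set Y.left) \ Ω)
      ⟨x, hx, hxΩ⟩ (isClosed_closure.inter Ω.2.isClosed_compl).isLocallyClosed
    let y' : 𝟙_ (Over (Spec (CommRingCat.of k))) ⟶ Y :=
      Over.homMk (pointOfClosedPoint Y.hom y hyc) (pointOfClosedPoint_comp _ _ _)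
    have hy' : y'.left (IsLocalRing.closedPoint k) = y := pointOfClosedPoint_apply Y.hom y hyc _
    refine hy.2 (hy' ▸ hmem y' ?_)
    let E := equalizer f g
    let e : E ⟶ X ⊗ Y := equalizer.ι f g
    have : IsClosedImmersion e.left := isClosedImmersion_equalizer_ι_left f g
    let O : Over (Spec (CommRingCat.of k)) := Over.mk (Ω.ι ≫ Y.hom)
    let j : O ⟶ Y := Over.homMk Ω.ι rfl
    obtain ⟨z, hz⟩ : ∃ z : X ⊗ O ⟶ E, z ≫ e = X ◁ j :=
      ⟨equalizer.lift _ (hΩ O j (Ω.range_ι.le)), equalizer.lift_ι _ _⟩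
    have hsub : (snd X Y).left ⁻¹' (Ω : Set Y.left) ⊆ Set.range e.left := by
      intro p hp
      obtain ⟨q, hq, -⟩ := exists_preimage_of_isPullback (isPullback_left (whiskerLeft_isPullback X j)) p ⟨_, hp⟩ rfl
      exact ⟨z.left q, by rw [← Scheme.Hom.comp_apply, ← Over.comp_left, hz, hq]⟩
    have hall : (snd X Y).left ⁻¹' closure (Ω : Set Y.left) ⊆ Set.range e.left := by
      have : UniversallyOpen X.hom := inferInstance
      have : UniversallyOpen (snd X Y).left := MorphismProperty.pullback_snd _ _ ‹_›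
      rw [(snd X Y).left.isOpenMap.preimage_closure_eq_closure_preimage (snd X Y).left.continuous]
      exact e.left.isClosedEmbedding.isClosed_range.closure_subset_iff.2 hsub
    have hpt : ∀ p, (snd X Y).left p ∈ closure (Ω : Set Y.left) → f.left p = g.left p := by
      intro p hp
      obtain ⟨q, rfl⟩ := hall hp
      rw [← Scheme.Hom.comp_apply, ← Scheme.Hom.comp_apply, ← Over.comp_left, ← Over.comp_left, equalizer.condition]
    rintro _ ⟨p, rfl⟩ _ ⟨q, rfl⟩
    have hval : ∀ p : ↥(X ⊗ 𝟙_ (Over (Spec (CommRingCat.of k)))).left,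
        ((X ◁ y') ≫ f).left p = (y' ≫ lift (toUnit Y ≫ x₀) (𝟙 Y) ≫ f).left (IsLocalRing.closedPoint k) := by
      intro p
      have hp : (snd X Y).left ((X ◁ y').left p) = y := by
        rw [← Scheme.Hom.comp_apply, ← Over.comp_left, whiskerLeft_snd, Over.comp_left, Scheme.Hom.comp_apply, ← hy']
        exact congrArg _ (Subsingleton.elim (α := PrimeSpectrum k) _ _)
      rw [Over.comp_left, Scheme.Hom.comp_apply, hpt _ (by rw [hp]; exact hy.1), hg, Over.comp_left, Scheme.Hom.comp_apply,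
        hp, ← hy', ← Scheme.Hom.comp_apply]
      rfl
    rw [hval p, hval q]
  have hne : (Ω : Set Y.left).Nonempty := ⟨_, hmem y₀ hf⟩
  have htop : Ω = ⊤ := by
    ext1
    exact (IsClopen.eq_univ ⟨hclosed, Ω.2⟩ hne)
  exact eq_of_agreeOn_top (htop ▸ hΩ)

/-- A connected algebraic group is covered by products of two points of a nonempty open. -/
lemma isCov_open_mul {G : Over (Spec (CommRingCat.of k))} [GrpObj G] [LocallyOfFiniteType G.hom] [ConnectedSpace G.left]
    (U : G.left.Opens) (hU : (U : Set G.left).Nonempty) :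
    IsCov (((Over.homMk U.ι rfl : Over.mk (U.ι ≫ G.hom) ⟶ G) ⊗ₘ (Over.homMk U.ι rfl : Over.mk (U.ι ≫ G.hom) ⟶ G)) ≫ μ[G]) := by
  set O : Over (Spec (CommRingCat.of k)) := Over.mk (U.ι ≫ G.hom)
  set j : O ⟶ G := Over.homMk U.ι rfl
  have : LocallyOfFiniteType O.hom := inferInstanceAs (LocallyOfFiniteType (U.ι ≫ G.hom))
  have : LocallyOfFiniteType (O ⊗ O).hom := inferInstanceAs (LocallyOfFiniteType (pullback.fst O.hom O.hom ≫ O.hom))
  have hflat : Flat (j ⊗ₘ j).left := by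
    have hj : IsOpenImmersion j.left := inferInstanceAs (IsOpenImmersion U.ι)
    have h1 : Flat (j ▷ O).left := MorphismProperty.of_isPullback (P := @Flat)
      (isPullback_left (show IsPullback (j ▷ O) (fst O O) (fst G O) j from ?_)).flip inferInstance
    · have h2 : Flat (G ◁ j).left := MorphismProperty.of_isPullback (P := @Flat)
        (isPullback_left (whiskerLeft_isPullback G j)).flip inferInstance
      rw [MonoidalCategory.tensorHom_def, Over.comp_left]; infer_instance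
    refine ⟨⟨by simp⟩, ⟨PullbackCone.IsLimit.mk _ (fun s => lift s.snd (s.fst ≫ snd G O)) ?_ ?_ ?_⟩⟩
    · intro s
      ext : 1
      · simp [s.condition]
      · simp
    · intro s; simp
    · intro s m h1 h2
      ext : 1
      · simp [← h2]
      · simp [← h1]
  have : Flat μ[G].left := Grp57.mul_prop @Flat inferInstance
  have : Flat (((j ⊗ₘ j) ≫ μ[G])).left := by rw [Over.comp_left]; infer_instance
  have hirr : IsIrreducible (Set.univ : Set G.left) := by
    have := (Grp57.connectedComponent_unit G).1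
    rwa [PreconnectedSpace.connectedComponent_eq_univ] at this
  have hd : Dense (U : Set G.left) := by
    have : PreirreducibleSpace G.left := ⟨hirr.2⟩
    exact U.2.dense hU
  have : Surjective ((j ⊗ₘ j) ≫ μ[G]).left := by
    refine ⟨fun x => ?_⟩
    obtain ⟨w, ⟨hw1, hw2⟩, hwx⟩ := (Grp57.mul_image_dense U U hd hU).ge (Set.mem_univ x)
    have hw : w ∈ Set.range (j ⊗ₘ j).left := by
      have h : ((j ⊗ₘ j).left : _ ⟶ (G ⊗ G).left) = pullback.map (U.ι ≫ G.hom)
          (U.ι ≫ G.hom) G.hom G.hom U.ι U.ι (𝟙 _) (by simp) (by simp) := by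
        apply pullback.hom_ext
        · rw [pullback.lift_fst]; simp [j, O]
        · rw [pullback.lift_snd]; simp [j, O]
      rw [h, Scheme.Pullback.range_map, Scheme.Opens.range_ι]
      exact ⟨hw1, hw2⟩
    obtain ⟨q, rfl⟩ := hw
    exact ⟨q, by rw [Over.comp_left, Scheme.Hom.comp_apply]; exact hwx⟩
  exact isCov_of_flat_surjective _

lemma range_subsingleton_of_eq {A Z : Over (Spec (CommRingCat.of k))} {f : A ⟶ Z} {z : 𝟙_ (Over (Spec (CommRingCat.of k))) ⟶ Z}
    (h : f = toUnit A ≫ z) : (Set.range f.left).Subsingleton := by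
  subst h
  rintro _ ⟨p, rfl⟩ _ ⟨q, rfl⟩
  simp only [Over.comp_left, Scheme.Hom.comp_apply]
  exact congrArg _ (Subsingleton.elim (α := PrimeSpectrum k) _ _)

lemma commute_antiAffine {H G : Over (Spec (CommRingCat.of k))} [GrpObj H] [GrpObj G] [LocallyOfFiniteType H.hom] [QuasiCompact H.hom]
    [LocallyOfFiniteType G.hom] [ConnectedSpace G.left]
    (hO : Function.Bijective ((Scheme.ΓSpecIso (CommRingCat.of k)).inv ≫ H.hom.appTop).hom)
    (φ : H ⟶ G) [IsMonHom φ] {T : Over (Spec (CommRingCat.of k))} (h : T ⟶ H) (g : T ⟶ G) :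
    (h ≫ φ) * g = g * (h ≫ φ) := by
  have := isSeparated_grp G
  have : IsLocallyNoetherian G.left := LocallyOfFiniteType.isLocallyNoetherian G.hom
  have : QuasiSeparated H.hom := by have := isSeparated_grp H; infer_instance
  let F : H ⊗ G ⟶ G := (fst H G ≫ φ) * snd H G * (fst H G ≫ φ)⁻¹ * (snd H G)⁻¹
  have hF : ∀ {T : Over (Spec (CommRingCat.of k))} (x : T ⟶ H) (y : T ⟶ G),
      lift x y ≫ F = (x ≫ φ) * y * (x ≫ φ)⁻¹ * y⁻¹ := fun x y => by
    simp [F, MonObj.comp_mul, GrpObj.comp_inv]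
  obtain ⟨U, hU, hag⟩ := agree_nhd hO η[H] η[G] F (range_subsingleton_of_eq (z := η[G]) (by
    rw [show H ◁ η[G] = lift (fst H _) (1 : H ⊗ _ ⟶ G) from CartesianMonoidalCategory.hom_ext _ _ (by simp)
      (by rw [whiskerLeft_snd, lift_snd, one_def', toUnit_unique (snd H (𝟙_ _)) (toUnit _)]), hF,
      _root_.mul_one, mul_inv_cancel, inv_one, _root_.mul_one, one_def']))
  have key : ∀ {T : Over (Spec (CommRingCat.of k))} (x : T ⟶ H) (v : T ⟶ Over.mk (U.ι ≫ G.hom)),
      (x ≫ φ) * (v ≫ Over.homMk U.ι rfl) = (v ≫ Over.homMk U.ι rfl) * (x ≫ φ) := fun {T} x v => by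
    set y := v ≫ (Over.homMk U.ι rfl : Over.mk (U.ι ≫ G.hom) ⟶ G)
    have := agree_iff_forall_pts.1 (hag _ y (by
      rw [Over.comp_left]; rintro _ ⟨p, rfl⟩; rw [Scheme.Hom.comp_apply]; exact U.range_ι.le ⟨_, rfl⟩)) T x (𝟙 T)
    rw [Category.id_comp, hF, lift_snd_assoc, ← Category.assoc, comp_lift, comp_toUnit_assoc, Category.comp_id, hF,
      Category.assoc, IsMonHom.one_hom, ← one_def'] at this
    simp only [_root_.one_mul, inv_one, _root_.mul_one, mul_inv_cancel] at this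
    exact eq_of_div_eq_one (by rw [div_eq_mul_inv, _root_.mul_inv_rev, ← _root_.mul_assoc]; exact this)
  obtain ⟨T', c, v, hc, hv⟩ := (isCov_open_mul U ⟨_, hU⟩).exists_lift g
  have := hc.epi
  rw [← cancel_epi c, MonObj.comp_mul, MonObj.comp_mul, ← hv, ← Category.assoc c h]
  have e : v ≫ ((Over.homMk U.ι rfl : Over.mk (U.ι ≫ G.hom) ⟶ G) ⊗ₘ (Over.homMk U.ι rfl : Over.mk (U.ι ≫ G.hom) ⟶ G)) ≫ μ[G] =
      ((v ≫ fst _ _) ≫ Over.homMk U.ι rfl) * ((v ≫ snd _ _) ≫ Over.homMk U.ι rfl) := by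
    rw [Hom.mul_def, ← Category.assoc]; congr 1; ext <;> simp
  rw [e, ← _root_.mul_assoc, key, _root_.mul_assoc, key, _root_.mul_assoc]

end RigidityGlobal

end Groth.Agent.AlgGrp79
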