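import Mathlib
import Groth.Prelude.Def_AlgGrp
import Groth.Prelude.Def_Red2
import Groth.Agent.AlgGrp79.Act
import Groth.Agent.AlgGrp79.Pullback
import Groth.Agent.AlgGrp79.Cover
import Groth.Agent.AlgGrp79.SepDense
import Groth.Agent.AlgGrp79.RigidityGlobal
import Groth.Agent.ConsPts12.Cons
import Groth.Agent.Cons62.Basic
import Groth.Agent.FBase64.PointCmp
import Groth.Agent.S14578

set_option autoImplicit false
universe u v w

open CategoryTheory MonoidalCategory CartesianMonoidalCategory MonObj AlgebraicGeometry CategoryTheory.Limits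
open scoped commutatorElement

namespace Groth.Agent.AlgGrp79

section DenseInterior

/-- A dense constructible set has dense interior. -/
lemma dense_interior_of_constructible {X : Scheme.{u}} {E : Set X} (hE : Topology.IsLocallyConstructible E)
    (hd : Dense E) : Dense (interior E) := by
  rw [dense_iff_inter_open]
  intro W hW hne
  obtain ⟨x, hx⟩ := hne
  obtain ⟨η₀, hη⟩ := QuasiSober.sober (isIrreducible_irreducibleComponent (x := x))
    (isClosed_irreducibleComponent)
  have hspec : η₀ ⤳ x := hη.specializes mem_irreducibleComponent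
  have hW0 : η₀ ∈ W := hspec.mem_open hW hx
  have hmax : ∀ x' : X, x' ⤳ η₀ → x' = η₀ := by
    intro x' hx'
    refine hx'.antisymm ?_ |>.eq
    rw [specializes_iff_mem_closure]
    have hsub : irreducibleComponent x ⊆ closure {x'} := by
      have : closure {η₀} ⊆ closure {x'} :=
        closure_minimal (Set.singleton_subset_iff.2 (specializes_iff_mem_closure.1 hx')) isClosed_closure
      rwa [hη.def] at this
    have := (irreducibleComponent_mem_irreducibleComponents x).2 (isIrreducible_singleton.closure : IsIrreducible (closure {x'})) hsub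
    have h1 : x' ∈ irreducibleComponent x := this (subset_closure rfl)
    rw [← hη.def] at h1
    exact h1
  obtain ⟨hind, hpro⟩ := ConsPts12.isLocallyConstructible_iff.1 hE
  by_cases h : η₀ ∈ E
  · exact ⟨η₀, hW0, (ConsPts12.mem_interior_iff hind _).2 fun x' hx' => hmax x' hx' ▸ h⟩
  · exfalso
    have hc := (ConsPts12.isLocallyConstructible_iff.1 (Cons62.isLocallyConstructible_compl hE)).1
    have : η₀ ∈ interior Eᶜ := (ConsPts12.mem_interior_iff hc _).2 fun x' hx' => hmax x' hx' ▸ h
    obtain ⟨z, hz, hzE⟩ := hd.inter_open_nonempty _ isOpen_interior ⟨η₀, this⟩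
    exact interior_subset hz hzE

end DenseInterior

section Image
variable {k : Type u} [Field k]

lemma schDominant_toImage {X Y : Scheme.{u}} (f : X ⟶ Y) [QuasiCompact f] : IsSchemeTheoreticallyDominant f.toImage := by
  refine ⟨Scheme.IdealSheafData.ext_of_iSup_eq_top
    (fun U : Y.affineOpens => ⟨f.imageι ⁻¹ᵁ U.1, U.2.preimage f.imageι⟩) ?_ fun U => ?_⟩
  · refine top_le_iff.1 fun z _ => ?_
    obtain ⟨U, hU⟩ := TopologicalSpace.Opens.mem_iSup.1 ((iSup_affineOpens_eq_top Y).ge (show f.imageι z ∈ (⊤ : Y.Opens) from trivial))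
    exact TopologicalSpace.Opens.mem_iSup.2 ⟨U, hU⟩
  · rw [Scheme.Hom.ker_apply, Scheme.IdealSheafData.ideal_bot, Pi.bot_apply, ← RingHom.injective_iff_ker_eq_bot]
    exact f.toImage_app_injective U

lemma exists_lift_of_dominant {A B Y X' : Over (Spec (CommRingCat.of k))} (w : A ⟶ B) [IsSchemeTheoreticallyDominant w.left]
    [QuasiCompact w.left] (φ : B ⟶ X') (c : Y ⟶ X') [IsClosedImmersion c.left] (y : A ⟶ Y) (h : y ≫ c = w ≫ φ) :
    ∃ φ' : B ⟶ Y, φ' ≫ c = φ := by
  let s := pullback.snd c φ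
  have hci : IsClosedImmersion s.left :=
    MorphismProperty.of_isPullback (isPullback_left (IsPullback.of_hasPullback c φ)) ‹_›
  have hw : (pullback.lift y w h).left ≫ s.left = w.left := by rw [← Over.comp_left, pullback.lift_snd]
  have : IsIso s.left := by
    rw [IsClosedImmersion.isIso_iff_ker_eq_bot, ← le_bot_iff, ← w.left.ker_eq_bot, ← hw]
    exact Scheme.Hom.le_ker_comp _ _
  have : IsIso ((Over.forget _).map s) := this
  have : IsIso s := isIso_of_reflects_iso s (Over.forget _)
  exact ⟨inv s ≫ pullback.fst c φ, by simp [s, pullback.condition]⟩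

lemma schDominant_tensor {A B A' B' : Over (Spec (CommRingCat.of k))} (g : A ⟶ B) (g' : A' ⟶ B')
    [IsSchemeTheoreticallyDominant g.left] [QuasiCompact g.left]
    [IsSchemeTheoreticallyDominant g'.left] [QuasiCompact g'.left] :
    IsSchemeTheoreticallyDominant (g ⊗ₘ g').left ∧ QuasiCompact (g ⊗ₘ g').left := by
  have hfl : ∀ (P Q : Over (Spec (CommRingCat.of k))), Flat (fst P Q).left ∧ Flat (snd P Q).left := fun P Q =>
    ⟨MorphismProperty.pullback_fst _ _ inferInstance, MorphismProperty.pullback_snd _ _ inferInstance⟩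
  have hr : IsPullback (g ▷ A') (fst A A') (fst B A') g := by
    refine ⟨⟨by simp⟩, ⟨PullbackCone.IsLimit.mk _ (fun s => lift s.snd (s.fst ≫ snd B A')) ?_ ?_ ?_⟩⟩
    · intro s
      ext : 1
      · simp [s.condition]
      · simp
    · intro s; simp
    · intro s m h1 h2
      ext : 1
      · simp [← h2]
      · simp [← h1]
  have := (hfl B A').1
  have : Flat (snd B B').left := (hfl B B').2
  have h1 : IsSchemeTheoreticallyDominant (g ▷ A').left :=
    IsSchemeTheoreticallyDominant.of_isPullback (isPullback_left hr).flip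
  have h1' : QuasiCompact (g ▷ A').left := MorphismProperty.of_isPullback (P := @QuasiCompact) (isPullback_left hr).flip ‹_›
  have h2 : IsSchemeTheoreticallyDominant (B ◁ g').left :=
    IsSchemeTheoreticallyDominant.of_isPullback (isPullback_left (whiskerLeft_isPullback B g')).flip
  have h2' : QuasiCompact (B ◁ g').left :=
    MorphismProperty.of_isPullback (P := @QuasiCompact) (isPullback_left (whiskerLeft_isPullback B g')).flip ‹_›
  rw [MonoidalCategory.tensorHom_def, Over.comp_left]
  exact ⟨inferInstance, inferInstance⟩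

lemma closed_of_dominant {H G K' : Over (Spec (CommRingCat.of k))} [GrpObj H] [GrpObj G] (f : H ⟶ G) [IsMonHom f]
    (i : K' ⟶ G) [IsClosedImmersion i.left] (g : H ⟶ K') (hgi : g ≫ i = f)
    [IsSchemeTheoreticallyDominant g.left] [QuasiCompact g.left] :
    (∃ e : 𝟙_ (Over (Spec (CommRingCat.of k))) ⟶ K', e ≫ i = η[G]) ∧
      ∀ (T : Over (Spec (CommRingCat.of k))) (k₁ k₂ : T ⟶ K'), ∃ k₃ : T ⟶ K', k₃ ≫ i = (k₁ ≫ i)⁻¹ * (k₂ ≫ i) := by
  refine ⟨⟨η[H] ≫ g, by rw [Category.assoc, hgi, IsMonHom.one_hom]⟩, fun T k₁ k₂ => ?_⟩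
  have := (schDominant_tensor g g).1
  have := (schDominant_tensor g g).2
  obtain ⟨m, hm⟩ := exists_lift_of_dominant (g ⊗ₘ g) ((fst K' K' ≫ i)⁻¹ * (snd K' K' ≫ i)) i
    (((fst H H)⁻¹ * snd H H) ≫ g) (by
      rw [Category.assoc, hgi, mul_comp', GrpObj.inv_comp, MonObj.comp_mul, GrpObj.comp_inv,
        tensorHom_fst_assoc, tensorHom_snd_assoc, hgi])
  exact ⟨lift k₁ k₂ ≫ m, by rw [Category.assoc, hm, MonObj.comp_mul, GrpObj.comp_inv, lift_fst_assoc, lift_snd_assoc]⟩

lemma exists_grpObj_closed {G K' : Over (Spec (CommRingCat.of k))} [GrpObj G] (i : K' ⟶ G) [Mono i]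
    (h1 : ∃ e : 𝟙_ (Over (Spec (CommRingCat.of k))) ⟶ K', e ≫ i = η[G])
    (h2 : ∀ (T : Over (Spec (CommRingCat.of k))) (k₁ k₂ : T ⟶ K'), ∃ k₃ : T ⟶ K', k₃ ≫ i = (k₁ ≫ i)⁻¹ * (k₂ ≫ i)) :
    ∃ (_ : GrpObj K'), IsMonHom i := by
  obtain ⟨e, he⟩ := h1
  have hinv : ∀ (T : Over (Spec (CommRingCat.of k))) (a : T ⟶ K'), ∃ b : T ⟶ K', b ≫ i = (a ≫ i)⁻¹ := fun T a => by
    obtain ⟨c, hc⟩ := h2 T a (toUnit T ≫ e)
    exact ⟨c, by rw [hc, Category.assoc, he, ← one_def', _root_.mul_one]⟩
  have hmul : ∀ (T : Over (Spec (CommRingCat.of k))) (a b : T ⟶ K'), ∃ c : T ⟶ K', c ≫ i = (a ≫ i) * (b ≫ i) := fun T a b => by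
    obtain ⟨a', ha'⟩ := hinv T a
    obtain ⟨c, hc⟩ := h2 T a' b
    exact ⟨c, by rw [hc, ha', _root_.inv_inv]⟩
  obtain ⟨m, hm⟩ := hmul (K' ⊗ K') (fst K' K') (snd K' K')
  obtain ⟨ν, hν⟩ := hinv K' (𝟙 K')
  rw [Category.id_comp] at hν
  have hm' : ∀ {T : Over (Spec (CommRingCat.of k))} (a b : T ⟶ K'), (lift a b ≫ m) ≫ i = (a ≫ i) * (b ≫ i) := fun a b => by
    rw [Category.assoc, hm, MonObj.comp_mul, lift_fst_assoc, lift_snd_assoc]
  let M : GrpObj K' :=
    { one := e
      mul := m
      inv := ν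
      one_mul := by
        rw [← cancel_mono i, Category.assoc, hm, MonObj.comp_mul, whiskerRight_fst_assoc, whiskerRight_snd_assoc, he,
          toUnit_unique (fst (𝟙_ _) K') (toUnit _), ← one_def', _root_.one_mul, leftUnitor_hom]
      mul_one := by
        rw [← cancel_mono i, Category.assoc, hm, MonObj.comp_mul, whiskerLeft_fst_assoc, whiskerLeft_snd_assoc, he,
          toUnit_unique (snd K' (𝟙_ _)) (toUnit _), ← one_def', _root_.mul_one, rightUnitor_hom]
      mul_assoc := by
        rw [← cancel_mono i]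
        simp only [Category.assoc, hm, MonObj.comp_mul, whiskerLeft_fst_assoc, whiskerLeft_snd_assoc,
          whiskerRight_fst_assoc, whiskerRight_snd_assoc, associator_hom_fst_assoc, associator_hom_snd_fst_assoc,
          associator_hom_snd_snd_assoc, ← Category.assoc _ m i]
        simp only [Category.assoc, hm, MonObj.comp_mul, associator_hom_snd_fst_assoc, associator_hom_snd_snd_assoc,
          _root_.mul_assoc]
      left_inv := by
        rw [← cancel_mono i, hm', hν, Category.id_comp, inv_mul_cancel, Category.assoc, he, one_def']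
      right_inv := by
        rw [← cancel_mono i, hm', hν, Category.id_comp, mul_inv_cancel, Category.assoc, he, one_def'] }
  refine ⟨M, ⟨he, ?_⟩⟩
  show m ≫ i = (i ⊗ₘ i) ≫ μ[G]
  rw [hm, Hom.mul_def]
  congr 1

lemma surjective_of_dominant_hom {H K' : Over (Spec (CommRingCat.of k))} [GrpObj H] [GrpObj K']
    [LocallyOfFiniteType H.hom] [LocallyOfFiniteType K'.hom] (g : H ⟶ K') [IsMonHom g]
    [IsDominant g.left] [QuasiCompact g.left] : Surjective g.left := by
  have := lfp_left g
  have hE : Topology.IsLocallyConstructible (Set.range g.left) := by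
    rw [← Set.image_univ]
    exact g.left.isLocallyConstructible_image (Topology.IsLocallyConstructible.univ)
  have hd : Dense (interior (Set.range g.left)) := dense_interior_of_constructible hE g.left.denseRange
  let U : K'.left.Opens := ⟨interior (Set.range g.left), isOpen_interior⟩
  have hne : (U : Set K'.left).Nonempty := hd.nonempty_iff.2 ⟨η[K'].left (IsLocalRing.closedPoint k)⟩
  refine ⟨fun x => ?_⟩
  obtain ⟨w, ⟨hw1, hw2⟩, hwx⟩ := (Grp57.mul_image_dense U U hd hne).ge (Set.mem_univ x)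
  have e : (g ⊗ₘ g) ≫ μ[K'] = μ[H] ≫ g := (IsMonHom.mul_hom g).symm
  have := Grp57.range_mem_of_pair g e (interior_subset hw1) (interior_subset hw2)
  rwa [hwx] at this

end Image

end Groth.Agent.AlgGrp79
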