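import Groth.Agent.AlgGrp79.Homogeneous
import Groth.Agent.FBase64.Products
import Mathlib.AlgebraicGeometry.Morphisms.UnderlyingMap
import Groth.Agent.PtTop50.Jacobson

set_option autoImplicit false
universe u v w

open CategoryTheory MonoidalCategory CartesianMonoidalCategory MonObj AlgebraicGeometry CategoryTheory.Limits
open scoped commutatorElement

namespace Groth.Agent.AlgGrp79

section Batch

/-- A morphism from a reduced scheme lifts through a surjective closed immersion. -/
theorem exists_lift_of_surjective_closed {k : Type u} [Field k] {F G T : Over (Spec (CommRingCat.of k))}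
    (j : F ⟶ G) [IsClosedImmersion j.left] [Surjective j.left] [IsReduced T.left] (f : T ⟶ G) :
    ∃ g : T ⟶ F, g ≫ j = f := by
  have : IsIso (pullback.snd j.left f.left) := isIso_of_isClosedImmersion_of_surjective _
  have h : (inv (pullback.snd j.left f.left) ≫ pullback.fst j.left f.left) ≫ j.left = f.left := by
    rw [Category.assoc, pullback.condition, IsIso.inv_hom_id_assoc]
  refine ⟨Over.homMk (inv (pullback.snd j.left f.left) ≫ pullback.fst j.left f.left) ?_, ?_⟩
  · show (inv (pullback.snd j.left f.left) ≫ pullback.fst j.left f.left) ≫ F.hom = _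
    rw [← Over.w j, ← Category.assoc, h, Over.w]
  · ext : 1
    exact h

/-- Finite type schemes: an open, closed or constructible-complement argument for surjectivity through points. -/
theorem surjective_of_pts {k K : Type u} [Field k] [Field K] [Algebra k K] [IsAlgClosed K]
    {X Y : Over (Spec (CommRingCat.of k))} [LocallyOfFiniteType X.hom] [QuasiCompact X.hom] [LocallyOfFiniteType Y.hom]
    [QuasiCompact Y.hom] [QuasiSeparated Y.hom] (f : X ⟶ Y)
    (h : ∀ y : Over.mk (Spec.map (CommRingCat.ofHom (algebraMap k K))) ⟶ Y,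
      ∃ x : Over.mk (Spec.map (CommRingCat.ofHom (algebraMap k K))) ⟶ X, x ≫ f = y) : Surjective f.left := by
  have := lfp_left f
  have : QuasiCompact f.left := by
    have : QuasiCompact (f.left ≫ Y.hom) := by rw [Over.w]; infer_instance
    exact .of_comp f.left Y.hom
  have : JacobsonSpace Y.left := LocallyOfFiniteType.jacobsonSpace Y.hom
  by_contra hs
  obtain ⟨y, hy⟩ : ∃ y, y ∉ Set.range f.left := by
    by_contra h2; exact hs ⟨fun y => not_not.1 fun h3 => h2 ⟨y, h3⟩⟩
  have : CompactSpace Y.left := QuasiCompact.compactSpace_of_compactSpace Y.hom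
  have : QuasiSeparatedSpace Y.left := quasiSeparatedSpace_of_quasiSeparated Y.hom
  have hcons : Topology.IsConstructible (Set.range f.left) := by
    rw [← Set.image_univ]
    exact f.left.isConstructible_image Topology.IsConstructible.univ
  obtain ⟨y', hy'⟩ := PtTop50.exists_closedPoint_of_isConstructible hcons.compl ⟨y, hy⟩
  let t : Spec (CommRingCat.of K) ⟶ Spec (CommRingCat.of k) := Spec.map (CommRingCat.ofHom (algebraMap k K))
  have : Surjective t := ⟨fun y => ⟨default, Subsingleton.elim _ _⟩⟩
  let P := pullback Y.hom t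
  have : Surjective (pullback.fst Y.hom t) := MorphismProperty.pullback_fst (P := @Surjective) _ _ ‹_›
  have : JacobsonSpace P := LocallyOfFiniteType.jacobsonSpace (pullback.snd Y.hom t)
  obtain ⟨z, hz⟩ := (pullback.fst Y.hom t).surjective y'
  obtain ⟨z', hz', hz'c⟩ := nonempty_inter_closedPoints (Z := pullback.fst Y.hom t ⁻¹' {y'}) ⟨z, hz⟩
    (hy'.2.preimage (pullback.fst Y.hom t).continuous).isLocallyClosed
  let s := pointOfClosedPoint (pullback.snd Y.hom t) z' hz'c
  have hs' : s ≫ pullback.snd Y.hom t = 𝟙 _ := pointOfClosedPoint_comp _ z' hz'c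
  obtain ⟨x, hx⟩ := h (Over.homMk (s ≫ pullback.fst Y.hom t) (by
    show (s ≫ pullback.fst Y.hom t) ≫ Y.hom = _
    rw [Category.assoc, pullback.condition, reassoc_of% hs']; rfl))
  refine hy'.1 ⟨x.left (IsLocalRing.closedPoint K), ?_⟩
  have h1 := congr(($hx).left (IsLocalRing.closedPoint K))
  rw [Over.comp_left, Scheme.Hom.comp_apply] at h1
  rw [h1]
  show pullback.fst Y.hom t (s (IsLocalRing.closedPoint K)) = y'
  rw [pointOfClosedPoint_apply]
  exact hz'

end Batch

end Groth.Agent.AlgGrp79
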