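import Mathlib
import Groth.Prelude.Def_AlgGrp
import Groth.Agent.AlgGrp79.Act
import Groth.Agent.AlgGrp79.Pullback
import Groth.Agent.AlgGrp79.Cover
import Groth.Agent.FlatMor66.FlatDescentSource

set_option autoImplicit false
universe u v w

open CategoryTheory MonoidalCategory CartesianMonoidalCategory MonObj AlgebraicGeometry CategoryTheory.Limits

namespace Groth.Agent.AlgGrp79

section KernelPts
variable {S : Scheme.{u}}

lemma mono_of_isKernel {N G Q : Over S} [GrpObj Q] {i : N ⟶ G} {q : G ⟶ Q} (h : AlgGrp.IsKernel i q) : Mono i :=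
  ⟨fun a b hab => h.hom_ext hab (toUnit_unique _ _)⟩

lemma isKernel_comp_one {N G Q : Over S} [GrpObj Q] {i : N ⟶ G} {q : G ⟶ Q} (h : AlgGrp.IsKernel i q)
    {T : Over S} (n : T ⟶ N) : (n ≫ i) ≫ q = 1 := by
  rw [Category.assoc, h.w, one_def', comp_toUnit_assoc]

lemma exists_ker_of_comp_one {N G Q : Over S} [GrpObj Q] {i : N ⟶ G} {q : G ⟶ Q} (h : AlgGrp.IsKernel i q)
    {T : Over S} (g : T ⟶ G) (hg : g ≫ q = 1) : ∃ n : T ⟶ N, n ≫ i = g :=
  ⟨h.lift g (toUnit T) (by rw [hg, one_def']), h.lift_fst _ _ _⟩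

lemma isKernel_of_pts {N G Q : Over S} [GrpObj Q] (i : N ⟶ G) (q : G ⟶ Q) [Mono i]
    (h0 : i ≫ q = 1) (h : ∀ (T : Over S) (g : T ⟶ G), g ≫ q = 1 → ∃ n : T ⟶ N, n ≫ i = g) :
    AlgGrp.IsKernel i q := by
  have H : ∀ s : PullbackCone q η[Q], s.fst ≫ q = 1 := fun s => by
    rw [s.condition, one_def', toUnit_unique s.snd (toUnit _)]
  refine ⟨⟨by rw [h0, one_def']⟩, ⟨PullbackCone.IsLimit.mk _ (fun s => (h s.pt s.fst (H s)).choose) ?_ ?_ ?_⟩⟩
  · intro s; exact (h s.pt s.fst (H s)).choose_spec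
  · intro s; exact toUnit_unique _ _
  · intro s m h1 _
    rw [← cancel_mono i, (h s.pt s.fst (H s)).choose_spec, h1]

lemma IsCov.lift_mono {T' T N G : Over S} {c : T' ⟶ T} (hc : IsCov c) (i : N ⟶ G) [Mono i]
    (g : T ⟶ G) (n : T' ⟶ N) (h : n ≫ i = c ≫ g) : ∃ m : T ⟶ N, m ≫ i = g := by
  obtain ⟨m, hm⟩ := hc.desc n fun U a b hab => by
    rw [← cancel_mono i, Category.assoc, Category.assoc, h, reassoc_of% hab]
  have := hc.epi
  exact ⟨m, by rw [← cancel_epi c, reassoc_of% hm, h]⟩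

lemma IsCov.isIso_of_mono {X Y : Over S} {f : X ⟶ Y} [Mono f]
    (h : ∃ (T : Over S) (c : T ⟶ Y) (x : T ⟶ X), IsCov c ∧ x ≫ f = c) : IsIso f := by
  obtain ⟨T, c, x, hc, hx⟩ := h
  obtain ⟨s, hs⟩ := hc.lift_mono f (𝟙 Y) x (by simpa using hx)
  exact ⟨⟨s, by rw [← cancel_mono f, Category.assoc, hs, Category.comp_id, Category.id_comp], hs⟩⟩

/-- The torsor square `N ⊗ G ⇉ G → Q` of a kernel. -/
lemma isPullback_kernel_torsor {N G Q : Over S} [GrpObj G] [GrpObj Q] (i : N ⟶ G) (q : G ⟶ Q) [IsMonHom q]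
    (hK : AlgGrp.IsKernel i q) :
    IsPullback ((fst N G ≫ i) * snd N G) (snd N G) q q := by
  have := mono_of_isKernel hK
  have H : ∀ s : PullbackCone q q, (s.fst * s.snd⁻¹) ≫ q = 1 := fun s => by
    rw [mul_comp', GrpObj.inv_comp, ← s.condition, mul_inv_cancel]
  refine ⟨⟨by rw [mul_comp', isKernel_comp_one hK, _root_.one_mul]⟩, ⟨PullbackCone.IsLimit.mk _
    (fun s => lift (exists_ker_of_comp_one hK (s.fst * s.snd⁻¹) (H s)).choose s.snd) ?_ ?_ ?_⟩⟩
  · intro s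
    rw [MonObj.comp_mul, lift_fst_assoc, lift_snd, (exists_ker_of_comp_one hK _ (H s)).choose_spec, inv_mul_cancel_right]
  · intro s; simp
  · intro s m h1 h2
    ext : 1
    · rw [lift_fst, ← cancel_mono i, (exists_ker_of_comp_one hK _ (H s)).choose_spec, ← h1, ← h2, MonObj.comp_mul,
        Category.assoc, mul_inv_cancel_right]
    · simp [← h2]

lemma left_flat_of_comp_cov {X Y Z : Over S} {f : X ⟶ Y} (hf : IsCov f) (g : Y ⟶ Z) [Flat (f ≫ g).left] :
    Flat g.left := by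
  have := hf.flat; have := hf.surj
  have : Flat (f.left ≫ g.left) := by rw [← Over.comp_left]; infer_instance
  exact FlatMor66.flat_of_comp_surjective f.left g.left

end KernelPts

end Groth.Agent.AlgGrp79
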