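import Mathlib
import Groth.Prelude.Def_AlgGrp
import Groth.Agent.AlgGrp79.SepDense
import Groth.Agent.AlgGrp79.Pullback

set_option autoImplicit false
universe u v w

open CategoryTheory MonoidalCategory CartesianMonoidalCategory MonObj AlgebraicGeometry CategoryTheory.Limits TensorProduct

namespace Groth.Agent.AlgGrp79

variable {k : Type u} [Field k] {K : Type u} [Field K] [Algebra k K]

lemma geometricallyReduced_of_smooth {X : Scheme.{u}} (f : X ⟶ Spec (CommRingCat.of k)) [Smooth f] :
    GeometricallyReduced f := by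
  refine ⟨?_⟩
  intro L _ y Y p q h
  have : Smooth q := MorphismProperty.of_isPullback h ‹Smooth f›
  exact isReduced_of_smooth q

lemma eq_zero_of_forall_algHom [IsSepClosed K] (A : Type u) [CommRing A] [Algebra k A] [Algebra.FiniteType k A]
    [GeometricallyReduced (Spec.map (CommRingCat.ofHom (algebraMap k A)))]
    (a : A) (h : ∀ φ : A →ₐ[k] K, φ a = 0) : a = 0 := by
  let X : Over (Spec (CommRingCat.of k)) := Over.mk (Spec.map (CommRingCat.ofHom (algebraMap k A)))
  have : GeometricallyReduced X.hom := ‹_›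
  have : LocallyOfFiniteType X.hom := by
    rw [show X.hom = Spec.map (CommRingCat.ofHom (algebraMap k A)) from rfl, HasRingHomProperty.Spec_iff (P := @LocallyOfFiniteType)]
    exact RingHom.finiteType_algebraMap.2 ‹_›
  let π := CommRingCat.ofHom (Ideal.Quotient.mk (Ideal.span {a}))
  let Z : Over (Spec (CommRingCat.of k)) := Over.mk (Spec.map π ≫ X.hom)
  let c : Z ⟶ X := Over.homMk (Spec.map π)
  have hc : IsClosedImmersion c.left := IsClosedImmersion.spec_of_surjective π Ideal.Quotient.mk_surjective
  have := ptsDense_of_geometricallyReduced (K' := K) X Z c hc fun x => by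
    obtain ⟨ψ, hψ⟩ : ∃ ψ, Spec.map ψ = x.left := ⟨Spec.preimage x.left, Spec.map_preimage _⟩
    have hw : CommRingCat.ofHom (algebraMap k A) ≫ ψ = CommRingCat.ofHom (algebraMap k K) := by
      apply Spec.map_injective
      rw [Spec.map_comp, hψ]
      exact Over.w x
    let φ : A →ₐ[k] K := { ψ.hom with commutes' := fun r => RingHom.congr_fun (congrArg CommRingCat.Hom.hom hw) r }
    let ψ' : CommRingCat.of (A ⧸ Ideal.span {a}) ⟶ CommRingCat.of K :=
      CommRingCat.ofHom (Ideal.Quotient.lift _ ψ.hom (fun y hy => by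
        obtain ⟨z, rfl⟩ := Ideal.mem_span_singleton'.1 hy
        have : ψ.hom a = 0 := h φ
        simp [this]))
    have hψ' : Spec.map ψ' ≫ Spec.map π = x.left := by
      rw [← Spec.map_comp, ← hψ]; congr 1
    exact ⟨Over.homMk (Spec.map ψ') (by
      show Spec.map ψ' ≫ Spec.map π ≫ X.hom = _
      rw [← Category.assoc, hψ']; exact Over.w x), by ext; exact hψ'⟩
  have : IsIso ((Over.forget _).map c) := inferInstance
  have : IsIso (Spec.map π) := this
  have : IsIso (Scheme.Spec.map π.op) := this
  have : IsIso π.op := isIso_of_reflects_iso π.op Scheme.Spec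
  have : IsIso π := isIso_of_op π
  have hb := (ConcreteCategory.bijective_of_isIso π).1 (a₁ := a) (a₂ := 0)
  exact hb (by rw [map_zero]; exact Ideal.Quotient.eq_zero_iff_mem.2 (Ideal.mem_span_singleton_self a))

lemma eq_zero_of_forall_map_algHom [IsSepClosed K] (A B : Type u) [CommRing A] [Algebra k A] [Algebra.FiniteType k A]
    [GeometricallyReduced (Spec.map (CommRingCat.ofHom (algebraMap k A)))] [CommRing B] [Algebra k B]
    (r : A ⊗[k] B) (h : ∀ φ : A →ₐ[k] K, Algebra.TensorProduct.map φ (AlgHom.id k B) r = 0) : r = 0 := by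
  let b := Module.Free.chooseBasis k B
  apply ((TensorProduct.congr (LinearEquiv.refl k A) b.repr).trans (TensorProduct.finsuppScalarRight k k A _)).injective
  ext j
  rw [map_zero, Finsupp.coe_zero, Pi.zero_apply]
  have hco : ((TensorProduct.congr (LinearEquiv.refl k A) b.repr).trans (TensorProduct.finsuppScalarRight k k A _)) r j =
      TensorProduct.rid k A ((b.coord j).lTensor A r) := by
    clear h
    induction r using TensorProduct.induction_on with
    | zero => simp
    | tmul x y => simp
    | add x y hx hy => simp only [map_add, Finsupp.add_apply, hx, hy]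
  rw [hco]
  refine eq_zero_of_forall_algHom (k := k) (K := K) A _ fun φ => ?_
  have e : φ (TensorProduct.rid k A ((b.coord j).lTensor A r)) =
      TensorProduct.rid k K ((b.coord j).lTensor K (Algebra.TensorProduct.map φ (AlgHom.id k B) r)) := by
    clear h hco
    induction r using TensorProduct.induction_on with
    | zero => simp
    | tmul x y => simp
    | add x y hx hy => simp [hx, hy]
  rw [e, h φ]; simp

lemma geometricallyReduced_chart {X : Scheme.{u}} (f : X ⟶ Spec (CommRingCat.of k)) [GeometricallyReduced f]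
    {W : Scheme.{u}} (v : W ⟶ X) [IsOpenImmersion v] : GeometricallyReduced (v ≫ f) := by
  refine ⟨?_⟩
  intro L _ y P p q hpq
  let m : P ⟶ pullback f y := pullback.lift (p ≫ v) q (by rw [Category.assoc]; exact hpq.w)
  have sq : IsPullback m p (pullback.fst f y) v :=
    (IsPullback.of_right (h₁₂ := pullback.snd f y) (v₁₃ := y)
      (by simpa [m, pullback.lift_snd] using hpq.flip) (by simp [m, pullback.lift_fst])
      (IsPullback.of_hasPullback f y).flip)
  have : IsOpenImmersion m := MorphismProperty.of_isPullback (P := @IsOpenImmersion) sq.flip ‹_›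
  have := GeometricallyReduced.geometrically_isReduced (f := f) y _ _ (IsPullback.of_hasPullback f y)
  exact isReduced_of_isOpenImmersion m

lemma isIso_snd_of_chart [IsSepClosed K] {X Y Z : Over (Spec (CommRingCat.of k))} [LocallyOfFiniteType X.hom] [GeometricallyReduced X.hom]
    (c : Z ⟶ X ⊗ Y) [IsClosedImmersion c.left]
    (h : ∀ (T : Over (Spec (CommRingCat.of k))) (t : T ⟶ Pt k K) (x : Pt k K ⟶ X) (y : T ⟶ Y),
      ∃ z : T ⟶ Z, z ≫ c = lift (t ≫ x) y)
    {A B : CommRingCat.{u}} (u : Spec A ⟶ X.left) [IsOpenImmersion u] (v : Spec B ⟶ Y.left)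
    (m : pullback (u ≫ X.hom) (v ≫ Y.hom) ⟶ (X ⊗ Y).left)
    (hm1 : m ≫ (fst X Y).left = pullback.fst _ _ ≫ u) (hm2 : m ≫ (snd X Y).left = pullback.snd _ _ ≫ v) :
    IsIso (pullback.snd c.left m) := by
  obtain ⟨α, hα⟩ : ∃ α, Spec.map α = u ≫ X.hom := ⟨Spec.preimage _, Spec.map_preimage _⟩
  obtain ⟨β, hβ⟩ : ∃ β, Spec.map β = v ≫ Y.hom := ⟨Spec.preimage _, Spec.map_preimage _⟩
  let : Algebra k A := α.hom.toAlgebra
  let : Algebra k B := β.hom.toAlgebra
  have hgr : GeometricallyReduced (Spec.map (CommRingCat.ofHom (algebraMap k A))) := by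
    have := geometricallyReduced_chart X.hom u
    rwa [← hα] at this
  have hft : Algebra.FiniteType k A := by
    have : LocallyOfFiniteType (u ≫ X.hom) := inferInstance
    rw [← hα, HasRingHomProperty.Spec_iff (P := @LocallyOfFiniteType)] at this
    exact RingHom.finiteType_algebraMap.1 this
  let e : Spec (CommRingCat.of (A ⊗[k] B)) ⟶ pullback (u ≫ X.hom) (v ≫ Y.hom) :=
    (pullbackSpecIso k A B).inv ≫ (pullback.congrHom hα hβ).hom
  have he1 : e ≫ pullback.fst _ _ = Spec.map (CommRingCat.ofHom Algebra.TensorProduct.includeLeftRingHom) := by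
    simp [e, pullback.congrHom_hom, pullback.lift_fst]
    exact pullbackSpecIso_inv_fst k A B
  have he2 : e ≫ pullback.snd _ _ = Spec.map (CommRingCat.ofHom (Algebra.TensorProduct.includeRight (R := k) (A := A) (B := B)).toRingHom) := by
    simp [e, pullback.congrHom_hom, pullback.lift_snd]
    exact pullbackSpecIso_inv_snd k A B
  have hiso : IsIso e := by
    have : IsIso (pullbackSpecIso k A B).inv := inferInstance
    exact IsIso.comp_isIso
  let g := pullback.snd c.left m
  have : IsClosedImmersion g := MorphismProperty.pullback_snd _ _ inferInstance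
  let g' := g ≫ inv e
  have : IsClosedImmersion g' := inferInstance
  suffices IsIso g' by
    have h2 : IsIso (g' ≫ e) := inferInstance
    simpa [g'] using h2
  refine IsClosedImmersion.isIso_of_injective_of_isAffine ((injective_iff_map_eq_zero g'.appTop.hom).2 fun r hr => ?_)
  obtain ⟨r', rfl⟩ : ∃ r', (Scheme.ΓSpecIso (CommRingCat.of (A ⊗[k] B))).inv r' = r :=
    (ConcreteCategory.bijective_of_isIso _).2 r
  suffices r' = 0 by rw [this, map_zero]
  refine eq_zero_of_forall_map_algHom (K := K) A B r' fun φ => ?_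
  let T : Over (Spec (CommRingCat.of k)) := Over.mk (Spec.map (CommRingCat.ofHom (algebraMap k (K ⊗[k] B))))
  let t : T ⟶ Pt k K := Over.homMk (Spec.map (CommRingCat.ofHom Algebra.TensorProduct.includeLeftRingHom)) (by
    show Spec.map _ ≫ Spec.map _ = Spec.map _
    rw [← Spec.map_comp]; rfl)
  let x : Pt k K ⟶ X := Over.homMk (Spec.map (CommRingCat.ofHom φ.toRingHom) ≫ u) (by
    show (Spec.map _ ≫ u) ≫ X.hom = Spec.map _
    rw [Category.assoc, ← hα, ← Spec.map_comp]; congr 1; ext1; exact φ.comp_algebraMap)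
  let y : T ⟶ Y := Over.homMk (Spec.map (CommRingCat.ofHom (Algebra.TensorProduct.includeRight (R := k) (A := K) (B := B)).toRingHom) ≫ v) (by
    show (Spec.map _ ≫ v) ≫ Y.hom = Spec.map _
    rw [Category.assoc, ← hβ, ← Spec.map_comp]; congr 1; ext1
    exact (Algebra.TensorProduct.includeRight (R := k) (A := K) (B := B)).comp_algebraMap)
  obtain ⟨z, hz⟩ := h T t x y
  let ψ := CommRingCat.ofHom (Algebra.TensorProduct.map φ (AlgHom.id k B)).toRingHom
  let w : T.left ⟶ pullback c.left m := pullback.lift z.left (Spec.map ψ ≫ e) (by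
    have h1 := congr($(hz).left)
    rw [Over.comp_left] at h1
    rw [h1]
    apply pullback.hom_ext
    · show (lift (t ≫ x) y).left ≫ (fst X Y).left = ((Spec.map ψ ≫ e) ≫ m) ≫ (fst X Y).left
      rw [← Over.comp_left, lift_fst, Category.assoc, hm1, Category.assoc, reassoc_of% he1, ← Spec.map_comp_assoc, Over.comp_left]
      show Spec.map _ ≫ Spec.map _ ≫ u = _
      rw [← Spec.map_comp_assoc]
      congr 2
    · show (lift (t ≫ x) y).left ≫ (snd X Y).left = ((Spec.map ψ ≫ e) ≫ m) ≫ (snd X Y).left
      rw [← Over.comp_left, lift_snd, Category.assoc, hm2, Category.assoc, reassoc_of% he2, ← Spec.map_comp_assoc]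
      show Spec.map _ ≫ v = _
      congr 2
      ext a
      simp [ψ])
  have hw : w ≫ g' = Spec.map ψ := by
    simp [w, g', g, pullback.lift_snd_assoc]
  have h3 : (Spec.map ψ).appTop ((Scheme.ΓSpecIso (CommRingCat.of (A ⊗[k] B))).inv r') = 0 := by
    rw [← hw, Scheme.Hom.comp_appTop, ConcreteCategory.comp_apply]
    erw [hr, map_zero]
  have h4 := congrArg (fun q => q r') (Scheme.ΓSpecIso_inv_naturality ψ)
  simp only [ConcreteCategory.comp_apply] at h4
  exact (ConcreteCategory.bijective_of_isIso (Scheme.ΓSpecIso (CommRingCat.of (K ⊗[k] B))).inv).1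
    ((h4.trans h3).trans (map_zero _).symm)

/-- A closed subscheme of `X ⊗ Y` containing all the slices at `K`-points of `X` is everything. -/
lemma isIso_of_contains_slices [IsSepClosed K] {X Y Z : Over (Spec (CommRingCat.of k))}
    [LocallyOfFiniteType X.hom] [GeometricallyReduced X.hom] (c : Z ⟶ X ⊗ Y) [IsClosedImmersion c.left]
    (h : ∀ (T : Over (Spec (CommRingCat.of k))) (t : T ⟶ Pt k K) (x : Pt k K ⟶ X) (y : T ⟶ Y),
      ∃ z : T ⟶ Z, z ≫ c = lift (t ≫ x) y) : IsIso c := by
  suffices IsIso c.left by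
    have : IsIso ((Over.forget _).map c) := this
    exact isIso_of_reflects_iso c (Over.forget _)
  refine (IsZariskiLocalAtTarget.iff_of_openCover (P := MorphismProperty.isomorphisms Scheme.{u})
    (Scheme.Pullback.openCoverOfLeftRight X.left.affineCover Y.left.affineCover X.hom Y.hom)).2 ?_
  rintro ⟨i, j⟩
  have : IsOpenImmersion (X.left.affineCover.f i) := X.left.affineCover.map_prop i
  exact @isIso_snd_of_chart _ _ _ _ _ _ X Y Z _ _ c _ h _ _ (X.left.affineCover.f i) ‹_› (Y.left.affineCover.f j) _
    (pullback.lift_fst _ _ _) (pullback.lift_snd _ _ _)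

lemma exists_lift_of_slices [IsSepClosed K] {X Y V V' : Over (Spec (CommRingCat.of k))}
    [LocallyOfFiniteType X.hom] [GeometricallyReduced X.hom] (f : X ⊗ Y ⟶ V) (c : V' ⟶ V) [IsClosedImmersion c.left]
    (h : ∀ (T : Over (Spec (CommRingCat.of k))) (t : T ⟶ Pt k K) (x : Pt k K ⟶ X) (y : T ⟶ Y),
      ∃ z : T ⟶ V', z ≫ c = lift (t ≫ x) y ≫ f) : ∃ f' : X ⊗ Y ⟶ V', f' ≫ c = f := by
  have hci : IsClosedImmersion (pullback.snd c f).left :=
    MorphismProperty.of_isPullback (isPullback_left (IsPullback.of_hasPullback c f)) ‹_›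
  have := isIso_of_contains_slices (K := K) (pullback.snd c f) fun T t x y => by
    obtain ⟨z, hz⟩ := h T t x y
    exact ⟨pullback.lift z (lift (t ≫ x) y) hz, pullback.lift_snd _ _ _⟩
  exact ⟨inv (pullback.snd c f) ≫ pullback.fst c f, by simp [pullback.condition]⟩

end Groth.Agent.AlgGrp79
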