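import Mathlib
import Groth.Prelude.Def_AlgGrp
import Groth.Prelude.Def_SGA7a
import Groth.Agent.AlgGrp79.Act
import Groth.Agent.AlgGrp79.Pullback
import Groth.Agent.AlgGrp79.Cover
import Groth.Agent.AlgGrp79.KernelPts
import Groth.Agent.AlgGrp79.SepDense
import Groth.Agent.AlgGrp79.ProdDense
import Groth.Agent.Unr55.DescProps
import Groth.Agent.FBase64.Geometric

set_option autoImplicit false
universe u v w

open CategoryTheory MonoidalCategory CartesianMonoidalCategory MonObj AlgebraicGeometry CategoryTheory.Limits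
open scoped commutatorElement

namespace Groth.Agent.AlgGrp79


lemma smooth_left_of_kernel {k : Type u} [Field k] {N G Q : Over (Spec (CommRingCat.of k))} [GrpObj G] [GrpObj Q]
    [LocallyOfFiniteType G.hom] [QuasiCompact G.hom] [LocallyOfFiniteType Q.hom]
    (i : N ⟶ G) (q : G ⟶ Q) [IsMonHom q] [Flat q.left] [Surjective q.left]
    (hker : AlgGrp.IsKernel i q) [Smooth N.hom] : Smooth q.left := by
  have := isSeparated_grp Q
  have : QuasiCompact q.left := by
    have : QuasiCompact (q.left ≫ Q.hom) := by rw [Over.w]; infer_instance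
    exact QuasiCompact.of_comp q.left Q.hom
  exact MorphismProperty.of_isPullback_of_descendsAlong (P := @Smooth)
    (Q := @Surjective ⊓ @Flat ⊓ @QuasiCompact) (isPullback_left (isPullback_kernel_torsor i q hker)).flip
    ⟨⟨‹_›, ‹_›⟩, ‹_›⟩ (MorphismProperty.pullback_snd (P := @Smooth) _ _ ‹_›)

lemma affine_left_of_kernel {k : Type u} [Field k] {N G Q : Over (Spec (CommRingCat.of k))} [GrpObj G] [GrpObj Q]
    [LocallyOfFiniteType G.hom] [QuasiCompact G.hom] [LocallyOfFiniteType Q.hom]
    (i : N ⟶ G) (q : G ⟶ Q) [IsMonHom q] [Flat q.left] [Surjective q.left]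
    (hker : AlgGrp.IsKernel i q) [IsAffine N.left] : IsAffineHom q.left := by
  have := isSeparated_grp Q
  have : QuasiCompact q.left := by
    have : QuasiCompact (q.left ≫ Q.hom) := by rw [Over.w]; infer_instance
    exact QuasiCompact.of_comp q.left Q.hom
  have := Unr55.isAffineHom.{u}
  exact MorphismProperty.of_isPullback_of_descendsAlong (P := @IsAffineHom)
    (Q := Unr55.fpqc) (isPullback_left (isPullback_kernel_torsor i q hker)).flip
    ⟨⟨‹_›, ‹_›⟩, ‹_›⟩ (MorphismProperty.pullback_snd (P := @IsAffineHom) _ _ inferInstance)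

end Groth.Agent.AlgGrp79
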