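import Groth.Agent.Var76.ActTrans
import Groth.Agent.FBase64.PointCmp
import Mathlib.AlgebraicGeometry.Group.Smooth
import Groth.Prelude.Def_Red

set_option autoImplicit false
universe u v w

open CategoryTheory MonoidalCategory CartesianMonoidalCategory MonObj AlgebraicGeometry CategoryTheory.Limits
open scoped commutatorElement

namespace Groth.Agent.AlgGrp79

section ReducedUnit
open Var76.ActTrans

/-- A scheme with Jacobson space whose local rings at closed points are reduced is reduced. -/
lemma isReduced_of_closedPoints {X : Scheme.{u}} [JacobsonSpace X]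
    (h : ∀ x : X, IsClosed {x} → _root_.IsReduced (X.presheaf.stalk x)) : IsReduced X := by
  refine ⟨fun U => ⟨fun s hs => X.IsSheaf.section_ext fun x hx => ?_⟩⟩
  let V : Set X := {y | ∃ (W : X.Opens) (i : W ≤ U), y ∈ W ∧ X.presheaf.map (homOfLE i).op s = 0}
  have hVopen : IsOpen V := isOpen_iff_forall_mem_open.2 fun y ⟨W, i, hy, hW⟩ =>
    ⟨W, fun z hz => ⟨W, i, hz, hW⟩, W.isOpen, hy⟩
  suffices x ∈ V by
    obtain ⟨W, i, hxW, hW⟩ := this
    exact ⟨W, i, hxW, by rw [hW, map_zero]⟩
  by_contra hxV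
  obtain ⟨y, ⟨hyU, hyV⟩, hy⟩ := nonempty_inter_closedPoints (Z := (U : Set X) ∩ Vᶜ) ⟨x, hx, hxV⟩
    (U.isOpen.isLocallyClosed.inter hVopen.isClosed_compl.isLocallyClosed)
  have := h y hy
  have hg : X.presheaf.germ U y hyU s = 0 := IsNilpotent.eq_zero (hs.map (X.presheaf.germ U y hyU).hom)
  obtain ⟨W, hyW, iW, iW', hW⟩ := X.presheaf.germ_eq y hyU hyU s 0 (by rw [hg, map_zero])
  exact hyV ⟨W, iW.le, hyW, by rw [map_zero] at hW; exact hW⟩

lemma isReduced_of_stalk_unit {K : Type u} [Field K] [IsAlgClosed K] (G : Over (Spec (CommRingCat.of K))) [GrpObj G]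
    [LocallyOfFiniteType G.hom] (t : ↥((𝟙_ (Over (Spec (CommRingCat.of K)))).left))
    (h : _root_.IsReduced ↑(G.left.presheaf.stalk ((η[G]).left.base t))) : IsReduced G.left := by
  have : JacobsonSpace G.left := LocallyOfFiniteType.jacobsonSpace G.hom
  refine isReduced_of_closedPoints fun x hx => ?_
  have he : IsClosed {(η[G]).left t} := by
    have := (pointEquivClosedPoint G.hom ⟨(η[G]).left, Over.w _⟩).2
    rwa [Subsingleton.elim (α := PrimeSpectrum K) t (IsLocalRing.closedPoint K)]
  obtain ⟨σ, hσ⟩ := exists_lTrans_eq x ((η[G]).left t) hx he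
  let e := ((Over.forget _).mapIso (lTrans σ)).hom
  have hx' : _root_.IsReduced (G.left.presheaf.stalk (e x)) := by
    show _root_.IsReduced (G.left.presheaf.stalk ((lTrans σ).hom.left x))
    rw [hσ]; exact h
  exact @FBase64.isReduced_stalk_of_iso G.left G.left ((lTrans σ).hom.left) (inferInstanceAs (IsIso e)) x hx'

end ReducedUnit

end Groth.Agent.AlgGrp79
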