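import Groth.Agent.AlgGrp79.ReducedUnit
import Groth.Agent.AlgGrp79.SepDense
import Groth.Agent.FlatMor67.RegularSmooth
import Groth.Agent.S14588
import Groth.Agent.AlgGrp79.Repr
import Mathlib.AlgebraicGeometry.Morphisms.Smooth

set_option autoImplicit false
universe u v w

open CategoryTheory MonoidalCategory CartesianMonoidalCategory MonObj AlgebraicGeometry CategoryTheory.Limits
open scoped commutatorElement

namespace Groth.Agent.AlgGrp79

section RegUnit

/-- A finite type scheme over a field is smooth at a rational point with regular local ring. -/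
lemma mem_smoothLocus_of_regular_section {k : Type u} [Field k] {X : Scheme.{u}} (f : X ⟶ Spec (CommRingCat.of k))
    [LocallyOfFinitePresentation f] (s : Spec (CommRingCat.of k) ⟶ X) (hs : s ≫ f = 𝟙 _)
    (c : Spec (CommRingCat.of k)) (hreg : IsRegularLocalRing (X.presheaf.stalk (s c))) :
    s c ∈ f.smoothLocus := by
  obtain ⟨V, hV, hxV, -⟩ := exists_isAffineOpen_mem_and_subset (U := ⊤) (show s c ∈ (⊤ : X.Opens) from trivial)
  let U : (Spec (CommRingCat.of k)).Opens := ⊤
  have hU : IsAffineOpen U := isAffineOpen_top _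
  rw [Scheme.Hom.mem_smoothLocus, formallySmooth_stalkMap_iff U hU V hV le_top hxV]
  let e : k ≃+* Γ(Spec (CommRingCat.of k), U) :=
    (Scheme.ΓSpecIso (CommRingCat.of k)).symm.commRingCatIsoToRingEquiv
  let : Field Γ(Spec (CommRingCat.of k), U) :=
    (MulEquiv.isField (Field.toIsField k) e.symm.toMulEquiv).toField
  let : Algebra Γ(Spec (CommRingCat.of k), U) Γ(X, V) := (f.appLE U V le_top).hom.toAlgebra
  have hfp : Algebra.FinitePresentation Γ(Spec (CommRingCat.of k), U) Γ(X, V) :=
    f.finitePresentation_appLE hU hV le_top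
  have hUs : U ≤ s ⁻¹ᵁ V := fun c' _ => by
    show s c' ∈ V; rwa [Subsingleton.elim (α := PrimeSpectrum k) c' c]
  let ρ : Γ(X, V) →+* Γ(Spec (CommRingCat.of k), U) := (s.appLE V U hUs).hom
  have hρ : ∀ r, ρ (algebraMap Γ(Spec (CommRingCat.of k), U) Γ(X, V) r) = r := fun r => by
    show (f.appLE U V le_top ≫ s.appLE V U hUs).hom r = r
    rw [Scheme.Hom.appLE_comp_appLE, appLE_congr_hom hs]
    simp [Scheme.Hom.appLE]
    erw [CategoryTheory.Functor.map_id]
    rfl
  set m := (hV.primeIdealOf ⟨s c, hxV⟩).asIdeal with hm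
  have hker : m = RingHom.ker ρ := by
    rw [hm, ← IsAffineOpen.comap_primeIdealOf_appLE (f := s) V hV U hU hUs (x := c) trivial]
    show Ideal.comap ρ _ = _
    rw [Ideal.eq_bot_of_prime (hU.primeIdealOf ⟨c, trivial⟩).asIdeal]
    rfl
  have hmax : m.IsMaximal := hker ▸ RingHom.ker_isMaximal_of_surjective ρ fun r => ⟨_, hρ r⟩
  have hsur : Function.Surjective (algebraMap Γ(Spec (CommRingCat.of k), U) m.ResidueField) := by
    intro y
    obtain ⟨q, rfl⟩ := (Ideal.bijective_algebraMap_quotient_residueField m).2 y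
    obtain ⟨a, rfl⟩ := Ideal.Quotient.mk_surjective q
    refine ⟨ρ a, ?_⟩
    rw [IsScalarTower.algebraMap_apply Γ(Spec (CommRingCat.of k), U) (Γ(X, V) ⧸ m) m.ResidueField]
    congr 1
    show Ideal.Quotient.mk m _ = Ideal.Quotient.mk m a
    rw [Ideal.Quotient.eq, hker, RingHom.mem_ker, map_sub, hρ, sub_self]
  let eres : Γ(Spec (CommRingCat.of k), U) ≃ₐ[Γ(Spec (CommRingCat.of k), U)] m.ResidueField :=
    AlgEquiv.ofBijective (Algebra.ofId _ _) ⟨(algebraMap Γ(Spec (CommRingCat.of k), U) m.ResidueField).injective, hsur⟩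
  have : Algebra.FormallySmooth Γ(Spec (CommRingCat.of k), U) m.ResidueField := .of_equiv eres
  let : Algebra Γ(X, V) (X.presheaf.stalk (s c)) := TopCat.Presheaf.algebra_section_stalk X.presheaf ⟨s c, hxV⟩
  have := hV.isLocalization_stalk ⟨s c, hxV⟩
  let est : X.presheaf.stalk (s c) ≃ₐ[Γ(X, V)] Localization.AtPrime m :=
    IsLocalization.algEquiv m.primeCompl _ _
  have : IsRegularLocalRing (Localization.AtPrime m) := IsRegularLocalRing.of_ringEquiv est.toRingEquiv
  exact FlatMor67.isSmoothAt_of_regular m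

end RegUnit

end Groth.Agent.AlgGrp79
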