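import Groth.Agent.AlgGrp79.Orbit
import Groth.Agent.AlgGrp79.KernelDescent
import Groth.Agent.AlgGrp79.SepDense
import Groth.Agent.AlgGrp79.RegUnit
import Groth.Agent.FlatCrit65.GenFlat
import Groth.Agent.FlatMor66.FlatDescentSource
import Groth.Agent.S19507
import Groth.Prelude.Def_AGF

set_option autoImplicit false
universe u v w

open CategoryTheory MonoidalCategory CartesianMonoidalCategory MonObj AlgebraicGeometry CategoryTheory.Limits
open scoped commutatorElement

namespace Groth.Agent.AlgGrp79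

section Homogeneous
open Var76.ActTrans

/-- Over an algebraically closed field, an equivariant map to a space with transitive rational points which is flat
over some non-empty open is flat, and it is surjective once the source is non-empty. -/
theorem flat_surjective_of_transitive_algClosed {K : Type u} [Field K] [IsAlgClosed K]
    {G X Y : Over (Spec (CommRingCat.of K))} [GrpObj G]
    [LocallyOfFiniteType X.hom] [LocallyOfFiniteType Y.hom]
    (a : AlgGrp.Action G X) (b : AlgGrp.Action G Y) (f : X ⟶ Y) (hf : (G ◁ f) ≫ b.act = a.act ≫ f)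
    (htr : ∀ y y' : 𝟙_ (Over (Spec (CommRingCat.of K))) ⟶ Y,
      ∃ g : 𝟙_ (Over (Spec (CommRingCat.of K))) ⟶ G, lift g y ≫ b.act = y')
    (V : Y.left.Opens) (hV : (V : Set Y.left).Nonempty) (hflat : Flat (f.left ∣_ V)) :
    Flat f.left ∧ (Nonempty X.left → ∀ y : Y.left, IsClosed {y} → y ∈ Set.range f.left) := by
  have : JacobsonSpace Y.left := LocallyOfFiniteType.jacobsonSpace Y.hom
  have : JacobsonSpace X.left := LocallyOfFiniteType.jacobsonSpace X.hom
  have hcomm : ∀ σ : 𝟙_ (Over (Spec (CommRingCat.of K))) ⟶ G,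
      (xTrans a σ).hom ≫ f = f ≫ (xTrans b σ).hom := fun σ => by
    rw [comp_xTrans b f σ]
    have h := congr(lift (toUnit X ≫ σ) (𝟙 X) ≫ $hf)
    rw [lift_whiskerLeft_assoc, Category.id_comp] at h
    rw [h, ← Category.assoc]
    rfl
  have hmove : ∀ (y y' : Y.left), IsClosed {y} → IsClosed {y'} → ∃ σ : 𝟙_ (Over (Spec (CommRingCat.of K))) ⟶ G,
      (xTrans b σ).hom.left y = y' := by
    intro y y' hy hy'
    obtain ⟨σ, hσ⟩ := htr (sec Y y hy) (sec Y y' hy')
    refine ⟨σ, ?_⟩
    have h : sec Y y hy ≫ (xTrans b σ).hom = sec Y y' hy' := by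
      rw [comp_xTrans, toUnit_unique (toUnit _) (𝟙 _), Category.id_comp, hσ]
    have h1 := congr(($h).left (IsLocalRing.closedPoint K))
    rwa [Over.comp_left, Scheme.Hom.comp_apply, sec_apply, sec_apply] at h1
  constructor
  · obtain ⟨v, hv, hvc⟩ := nonempty_inter_closedPoints hV V.isOpen.isLocallyClosed
    let W : (𝟙_ (Over (Spec (CommRingCat.of K))) ⟶ G) → Y.left.Opens := fun σ => (xTrans b σ).hom.left ⁻¹ᵁ V
    refine (IsZariskiLocalAtTarget.iff_of_iSup_eq_top (P := @Flat) W ?_).2 fun σ => ?_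
    · refine top_le_iff.1 fun y _ => ?_
      obtain ⟨y', hy'mem, hy'⟩ : ∃ y', y' ∈ closure {y} ∧ y' ∈ closedPoints Y.left :=
        nonempty_inter_closedPoints ⟨y, subset_closure rfl⟩ isClosed_closure.isLocallyClosed
      obtain ⟨σ, hσ⟩ := hmove y' v hy' hvc
      have hy'' : y' ∈ W σ := by show (xTrans b σ).hom.left y' ∈ V; rw [hσ]; exact hv
      exact TopologicalSpace.Opens.mem_iSup.2 ⟨σ, (specializes_iff_mem_closure.2 hy'mem).mem_open (W σ).isOpen hy''⟩
    · -- the restriction over a translate is a translate of the restriction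
      let T : Y.left ⟶ Y.left := (xTrans b σ).hom.left
      let T' : X.left ⟶ X.left := (xTrans a σ).hom.left
      have : IsIso T := ((Over.forget _).mapIso (xTrans b σ)).isIso_hom
      have : IsIso T' := ((Over.forget _).mapIso (xTrans a σ)).isIso_hom
      have hsq : IsPullback T' f.left f.left T := IsPullback.of_horiz_isIso ⟨by
        rw [← Over.comp_left, ← Over.comp_left, hcomm]⟩
      have e1 : IsPullback ((f.left ⁻¹ᵁ W σ).ι ≫ T') (f.left ∣_ W σ) f.left ((W σ).ι ≫ T) :=
        ((isPullback_morphismRestrict f.left (W σ)).flip.paste_horiz hsq)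
      have e2 : IsPullback (f.left ⁻¹ᵁ V).ι (f.left ∣_ V) f.left V.ι := (isPullback_morphismRestrict f.left V).flip
      let eW : (W σ : Scheme.{u}) ⟶ (V : Scheme.{u}) := IsOpenImmersion.lift V.ι ((W σ).ι ≫ T) (by
        rintro _ ⟨z, rfl⟩
        rw [Scheme.Opens.range_ι, Scheme.Hom.comp_apply]
        exact z.2)
      have heW : eW ≫ V.ι = (W σ).ι ≫ T := IsOpenImmersion.lift_fac _ _ _
      rw [← heW] at e1
      let l : (f.left ⁻¹ᵁ W σ : Scheme.{u}) ⟶ (f.left ⁻¹ᵁ V : Scheme.{u}) :=
        e2.lift ((f.left ⁻¹ᵁ W σ).ι ≫ T') ((f.left ∣_ W σ) ≫ eW) (by simpa using e1.w)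
      have e3 : IsPullback l (f.left ∣_ W σ) (f.left ∣_ V) eW := by
        refine IsPullback.of_right (h₁₂ := (f.left ⁻¹ᵁ V).ι) ?_ (e2.lift_snd _ _ _) e2
        rw [show l ≫ (f.left ⁻¹ᵁ V).ι = (f.left ⁻¹ᵁ W σ).ι ≫ T' from e2.lift_fst _ _ _]
        exact e1
      exact MorphismProperty.of_isPullback e3 hflat
  · intro ⟨x⟩ y hy
    obtain ⟨x', -, hx'⟩ := nonempty_inter_closedPoints (Z := (Set.univ : Set X.left)) ⟨x, trivial⟩ isClosed_univ.isLocallyClosed
    have hfx : IsClosed {f.left x'} := by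
      have h := (pointEquivClosedPoint Y.hom ⟨(sec X x' hx' ≫ f).left, Over.w _⟩).2
      simp [pointEquivClosedPoint] at h
      erw [sec_apply] at h
      exact h
    obtain ⟨σ, hσ⟩ := hmove _ y hfx hy
    refine ⟨(xTrans a σ).hom.left x', ?_⟩
    rw [← Scheme.Hom.comp_apply, ← Over.comp_left, hcomm, Over.comp_left, Scheme.Hom.comp_apply, hσ]

/-- Homogeneity of the target: flatness and surjectivity of an equivariant map to a reduced space. -/
theorem flat_surjective_of_transitive {k K : Type u} [Field k] [Field K] [Algebra k K] [IsAlgClosed K]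
    {G X Y : Over (Spec (CommRingCat.of k))} [GrpObj G] [LocallyOfFiniteType X.hom] [QuasiCompact X.hom]
    [LocallyOfFiniteType Y.hom] [QuasiSeparated Y.hom] [Nonempty X.left] [IsReduced Y.left]
    (a : AlgGrp.Action G X) (b : AlgGrp.Action G Y) (f : X ⟶ Y) (hf : (G ◁ f) ≫ b.act = a.act ≫ f)
    (htr : ∀ y y' : Over.mk (Spec.map (CommRingCat.ofHom (algebraMap k K))) ⟶ Y,
      ∃ g : Over.mk (Spec.map (CommRingCat.ofHom (algebraMap k K))) ⟶ G, lift g y ≫ b.act = y') :
    Flat f.left ∧ Surjective f.left := by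
  let t : Spec (CommRingCat.of K) ⟶ Spec (CommRingCat.of k) := Spec.map (CommRingCat.ofHom (algebraMap k K))
  have : LocallyOfFiniteType f.left := by
    have : LocallyOfFiniteType (f.left ≫ Y.hom) := by rw [Over.w]; infer_instance
    exact locallyOfFiniteType_of_comp f.left Y.hom
  have : QuasiCompact f.left := by
    have : QuasiCompact (f.left ≫ Y.hom) := by rw [Over.w]; infer_instance
    exact .of_comp f.left Y.hom
  obtain ⟨U, hUd, hUf, -⟩ := FlatCrit65.exists_dense_flat_lfp f.left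
  have : LocallyOfFiniteType (Red.bc t X).hom := inferInstanceAs (LocallyOfFiniteType (pullback.snd X.hom t))
  have : LocallyOfFiniteType (Red.bc t Y).hom := inferInstanceAs (LocallyOfFiniteType (pullback.snd Y.hom t))
  let fK : Red.bc t X ⟶ Red.bc t Y := (Over.pullback t).map f
  let pX : (Red.bc t X).left ⟶ X.left := pullback.fst X.hom t
  let pY : (Red.bc t Y).left ⟶ Y.left := pullback.fst Y.hom t
  have hsq : IsPullback pX fK.left f.left pY := by
    refine IsPullback.of_bot (h₃₁ := t) (v₂₁ := pullback.snd Y.hom t) (v₂₂ := Y.hom) ?_ ?_ (IsPullback.of_hasPullback Y.hom t)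
    · rw [show fK.left ≫ pullback.snd Y.hom t = pullback.snd X.hom t from Over.w fK, Over.w]
      exact IsPullback.of_hasPullback X.hom t
    · exact (ActBC.pullback_map_left_fst t f).symm
  have hfK : (Red.bc t G ◁ fK) ≫ (b.bc t).act = (a.bc t).act ≫ fK :=
    (AlgGrp.Action.isEquivariant_bc t (a := a) (b := b) (φ := f) hf.symm).symm
  have htrK : ∀ y y' : 𝟙_ (Over (Spec (CommRingCat.of K))) ⟶ Red.bc t Y,
      ∃ g : 𝟙_ (Over (Spec (CommRingCat.of K))) ⟶ Red.bc t G, lift g y ≫ (b.bc t).act = y' := by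
    intro y y'
    let T' := 𝟙_ (Over (Spec (CommRingCat.of K)))
    let e : Over.mk t ≅ (Over.map t).obj T' := Over.isoMk (Iso.refl _) (by simp [T'])
    let he := (Over.mapPullbackAdj t).homEquiv T'
    obtain ⟨g, hg⟩ := htr (e.hom ≫ (he Y).symm y) (e.hom ≫ (he Y).symm y')
    refine ⟨he G (e.inv ≫ g), ?_⟩
    have h := AlgGrp.Action.lift_homEquiv_bc_act t b (e.inv ≫ g) ((he Y).symm y)
    rw [Equiv.apply_symm_apply] at h
    rw [h, ← Equiv.eq_symm_apply]
    rw [← cancel_epi e.hom, ← hg, comp_lift_act, Iso.hom_inv_id_assoc]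
  have : Surjective t := ⟨fun y => ⟨default, Subsingleton.elim _ _⟩⟩
  have : Surjective pX := MorphismProperty.pullback_fst (P := @Surjective) _ _ ‹_›
  have : Surjective pY := MorphismProperty.pullback_fst (P := @Surjective) _ _ ‹_›
  obtain ⟨x0⟩ := ‹Nonempty X.left›
  obtain ⟨u0, hu0, -⟩ := hUd.inter_open_nonempty _ isOpen_univ ⟨f.left x0, trivial⟩ |>.imp fun u hu => And.intro hu.2 trivial
  obtain ⟨v0, hv0⟩ := pY.surjective u0
  have hflat : Flat (fK.left ∣_ (pY ⁻¹ᵁ U)) := by
    have e1 := (isPullback_morphismRestrict fK.left (pY ⁻¹ᵁ U)).flip.paste_horiz hsq.flip.flip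
    have e2 : IsPullback (f.left ⁻¹ᵁ U).ι (f.left ∣_ U) f.left U.ι := (isPullback_morphismRestrict f.left U).flip
    rw [← morphismRestrict_ι pY U] at e1
    let l : (fK.left ⁻¹ᵁ (pY ⁻¹ᵁ U) : Scheme.{u}) ⟶ (f.left ⁻¹ᵁ U : Scheme.{u}) :=
      e2.lift ((fK.left ⁻¹ᵁ (pY ⁻¹ᵁ U)).ι ≫ pX) ((fK.left ∣_ (pY ⁻¹ᵁ U)) ≫ (pY ∣_ U)) (by simpa using e1.w)
    have e3 : IsPullback l (fK.left ∣_ (pY ⁻¹ᵁ U)) (f.left ∣_ U) (pY ∣_ U) := by
      refine IsPullback.of_right (h₁₂ := (f.left ⁻¹ᵁ U).ι) ?_ (e2.lift_snd _ _ _) e2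
      rw [show l ≫ (f.left ⁻¹ᵁ U).ι = _ from e2.lift_fst _ _ _]
      exact e1
    exact MorphismProperty.of_isPullback e3 hUf
  obtain ⟨h1, h2⟩ := flat_surjective_of_transitive_algClosed (a.bc t) (b.bc t) fK hfK htrK (pY ⁻¹ᵁ U)
    ⟨v0, show pY v0 ∈ U from hv0 ▸ hu0⟩ hflat
  have hfl : Flat f.left := by
    have : Flat t := inferInstance
    have : Flat pX := inferInstanceAs (Flat (pullback.fst X.hom t))
    have : Flat pY := inferInstanceAs (Flat (pullback.fst Y.hom t))
    have : Flat (pX ≫ f.left) := by rw [hsq.w]; infer_instance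
    exact FlatMor66.flat_of_comp_surjective pX f.left
  refine ⟨hfl, ?_⟩
  have : LocallyOfFinitePresentation f.left := lfp_left f
  have hopen : IsOpen (Set.range f.left) := by rw [← Set.image_univ]; exact f.left.isOpenMap _ isOpen_univ
  have hXK : Nonempty (Red.bc t X).left := ⟨(pX.surjective x0).choose⟩
  have : JacobsonSpace (Red.bc t Y).left := LocallyOfFiniteType.jacobsonSpace (Red.bc t Y).hom
  refine ⟨fun y => ?_⟩
  by_contra hy
  obtain ⟨z, hz⟩ := pY.surjective y
  obtain ⟨z', hz'm, hz'c⟩ := nonempty_inter_closedPoints (Z := pY ⁻¹' (Set.range f.left)ᶜ)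
    ⟨z, fun h => hy (hz ▸ h)⟩ (hopen.isClosed_compl.preimage pY.continuous).isLocallyClosed
  obtain ⟨w, hw⟩ := h2 hXK z' hz'c
  refine hz'm ⟨pX w, ?_⟩
  rw [← hw, ← Scheme.Hom.comp_apply, hsq.w, Scheme.Hom.comp_apply]

/-- Surjective morphisms of finite type schemes are surjective on points with values in algebraically closed fields. -/
theorem exists_pt_lift {k K : Type u} [Field k] [Field K] [Algebra k K] [IsAlgClosed K]
    {X Y : Over (Spec (CommRingCat.of k))} [LocallyOfFiniteType X.hom] [LocallyOfFiniteType Y.hom]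
    (f : X ⟶ Y) [Surjective f.left] (y : Over.mk (Spec.map (CommRingCat.ofHom (algebraMap k K))) ⟶ Y) :
    ∃ x : Over.mk (Spec.map (CommRingCat.ofHom (algebraMap k K))) ⟶ X, x ≫ f = y := by
  let y' : Spec (CommRingCat.of K) ⟶ Y.left := y.left
  let P := pullback f.left y'
  have : LocallyOfFiniteType f.left := by
    have : LocallyOfFiniteType (f.left ≫ Y.hom) := by rw [Over.w]; infer_instance
    exact locallyOfFiniteType_of_comp f.left Y.hom
  have : LocallyOfFiniteType (pullback.snd f.left y') := inferInstance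
  have : JacobsonSpace P := LocallyOfFiniteType.jacobsonSpace (pullback.snd f.left y')
  have : Nonempty P := by
    have : Surjective (pullback.snd f.left y') := inferInstance
    exact ⟨((pullback.snd f.left y').surjective (IsLocalRing.closedPoint K)).choose⟩
  obtain ⟨p, -, hp⟩ := nonempty_inter_closedPoints (Z := (Set.univ : Set P)) Set.univ_nonempty isClosed_univ.isLocallyClosed
  let s := pointOfClosedPoint (pullback.snd f.left y') p hp
  have hs : s ≫ pullback.snd f.left y' = 𝟙 _ := pointOfClosedPoint_comp _ p hp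
  refine ⟨Over.homMk (s ≫ pullback.fst f.left y') ?_, ?_⟩
  · show (s ≫ pullback.fst f.left y') ≫ X.hom = _
    rw [← Over.w f, Category.assoc, pullback.condition_assoc, reassoc_of% hs]
    exact Over.w y
  · ext : 1
    show (s ≫ pullback.fst f.left y') ≫ f.left = y'
    rw [Category.assoc, pullback.condition, reassoc_of% hs]

/-- A surjective homomorphism of algebraic groups with reduced target is flat. -/
theorem flat_of_surjective_hom {k : Type u} [Field k] {G H : Over (Spec (CommRingCat.of k))} [GrpObj G] [GrpObj H]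
    [LocallyOfFiniteType G.hom] [QuasiCompact G.hom] [LocallyOfFiniteType H.hom] [IsReduced H.left]
    (φ : G ⟶ H) [IsMonHom φ] [Surjective φ.left] : Flat φ.left := by
  have : IsLocallyNoetherian H.left := LocallyOfFiniteType.isLocallyNoetherian H.hom
  have : QuasiSeparated H.hom := (HasAffineProperty.iff_of_isAffine (P := @QuasiSeparated)).2 inferInstance
  have : Nonempty G.left := ⟨(η[G]).left (IsLocalRing.closedPoint k)⟩
  refine (flat_surjective_of_transitive (K := AlgebraicClosure k) (NonAbH1.trivialAction G)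
    ((NonAbH1.trivialAction H).restrict φ) φ ?_ fun y y' => ?_).1
  · show (G ◁ φ) ≫ (φ ▷ H) ≫ μ[H] = μ[G] ≫ φ
    rw [IsMonHom.mul_hom, MonoidalCategory.tensorHom_def', Category.assoc]
  · obtain ⟨g, hg⟩ := exists_pt_lift φ (y' * y⁻¹)
    refine ⟨g, ?_⟩
    show lift g y ≫ (φ ▷ H) ≫ μ[H] = y'
    rw [lift_whiskerRight_assoc, ← Hom.mul_def, hg, inv_mul_cancel_right]

end Homogeneous

end Groth.Agent.AlgGrp79
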