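import Groth.Agent.AlgGrp79.OpenSubgroup
import Groth.Agent.SGA3a.Homog3
import Groth.Agent.SchBasics.Closure
import Mathlib.AlgebraicGeometry.AlgClosed.Basic
import Mathlib.AlgebraicGeometry.Geometrically.Integral

set_option autoImplicit false
universe u
open CategoryTheory CategoryTheory.Limits MonoidalCategory CartesianMonoidalCategory MonObj GrpObj AlgebraicGeometry

namespace Groth.Agent.AlgGrp79

/-- `i ▷ X` is the base change of `i` along the first projection -/
lemma whiskerRight_isPullback' {C : Type*} [Category C] [CartesianMonoidalCategory C] {Y Z : C} (i : Y ⟶ Z)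
    (X : C) : IsPullback (fst Y X) (i ▷ X) i (fst Z X) := by
  refine ⟨⟨(whiskerRight_fst i X).symm⟩, ⟨PullbackCone.IsLimit.mk _
    (fun s => lift s.fst (s.snd ≫ snd Z X)) (fun s => lift_fst _ _) (fun s => ?_) (fun s m h1 h2 => ?_)⟩⟩
  · apply CartesianMonoidalCategory.hom_ext
    · simp only [Category.assoc, whiskerRight_fst, lift_fst_assoc]; exact s.condition
    · simp
  · apply CartesianMonoidalCategory.hom_ext
    · simpa using h1
    · rw [lift_snd, ← h2]; simp

section Swap
variable {k : Type u} [Field k] {G X : Over (Spec (CommRingCat.of k))}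

lemma swap_prop (P : MorphismProperty Scheme.{u}) [P.RespectsIso] {T : Over (Spec (CommRingCat.of k))}
    (f g : T ⟶ X) : P (lift f g).left ↔ P (lift g f).left := by
  have e : lift f g = lift g f ≫ (β_ X X).hom := by
    apply CartesianMonoidalCategory.hom_ext <;> simp
  have : IsIso (β_ X X).hom.left := ((Over.forget _).mapIso (β_ X X)).isIso_hom
  rw [e, Over.comp_left, P.cancel_right_of_respectsIso]

end Swap

section BC
variable {S S' : Scheme.{u}} (f : S' ⟶ S) {G G0 X : Over S} [GrpObj G] [GrpObj G0]
  (a : AlgGrp.Action G X) (a0 : AlgGrp.Action G0 X)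

lemma bc_act_comp (i : G0 ⟶ G) (ha0 : a0.act = (i ▷ X) ≫ a.act) :
    (a0.bc f).act = ((Over.pullback f).map i ▷ Red.bc f X) ≫ (a.bc f).act := by
  simp [AlgGrp.Action.bc_act, ha0, Functor.LaxMonoidal.μ_natural_left_assoc]

/-- the graph morphism of the base-changed action is the base change of the graph morphism -/
lemma bc_graph_key :
    lift (a.bc f).act (snd (Red.bc f G) (Red.bc f X)) ≫ Functor.LaxMonoidal.μ (Over.pullback f) X X =
      Functor.LaxMonoidal.μ (Over.pullback f) G X ≫ (Over.pullback f).map (lift a.act (snd G X)) := by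
  let F := Over.pullback f
  have h : (Functor.LaxMonoidal.μ F G X ≫ F.map (lift a.act (snd G X))) ≫ Functor.OplaxMonoidal.δ F X X =
      lift (a.bc f).act (snd (Red.bc f G) (Red.bc f X)) := by
    apply CartesianMonoidalCategory.hom_ext
    · simp [F]
    · simp [F]
  rw [← h, Category.assoc, Functor.Monoidal.δ_μ, Category.comp_id]

lemma bc_graph_prop (P : MorphismProperty Scheme.{u}) [P.RespectsIso] :
    P (lift (a.bc f).act (snd (Red.bc f G) (Red.bc f X))).left ↔
      P ((Over.pullback f).map (lift a.act (snd G X))).left := by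
  have hμ : ∀ (A B : Over S), IsIso (Functor.LaxMonoidal.μ (Over.pullback f) A B).left := fun A B =>
    ((Over.forget _).mapIso (Functor.Monoidal.μIso (Over.pullback f) A B)).isIso_hom
  have := hμ G X
  have := hμ X X
  have h := congrArg Over.Hom.left (bc_graph_key f a)
  rw [Over.comp_left, Over.comp_left] at h
  rw [← P.cancel_right_of_respectsIso _ (Functor.LaxMonoidal.μ (Over.pullback f) X X).left, h,
    P.cancel_left_of_respectsIso]

lemma map_left_isPullback {A B : Over S} (φ : A ⟶ B) :
    IsPullback (pullback.fst A.hom f) ((Over.pullback f).map φ).left φ.left (pullback.fst B.hom f) := by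
  refine IsPullback.of_bot ?_ (SGA3a.prO_naturality f φ).symm (IsPullback.of_hasPullback B.hom f)
  rw [show ((Over.pullback f).map φ).left ≫ pullback.snd B.hom f = pullback.snd A.hom f from Over.w _,
    Over.w φ]
  exact IsPullback.of_hasPullback A.hom f

lemma range_map_left {A B : Over S} (φ : A ⟶ B) :
    Set.range ((Over.pullback f).map φ).left = (pullback.fst B.hom f) ⁻¹' Set.range φ.left := by
  have h := map_left_isPullback f φ
  ext z
  refine ⟨?_, ?_⟩
  · rintro ⟨w, rfl⟩
    refine ⟨(pullback.fst A.hom f) w, ?_⟩
    exact congr($(h.w) w)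
  · rintro ⟨w, hw⟩
    obtain ⟨v, -, hv⟩ := exists_preimage_of_isPullback h w z hw
    exact ⟨v, hv⟩

lemma isDominant_map_left [UniversallyOpen f] {A B : Over S} (φ : A ⟶ B) [IsDominant φ.left] :
    IsDominant ((Over.pullback f).map φ).left := by
  refine ⟨?_⟩
  show Dense _
  rw [range_map_left]
  exact φ.left.denseRange.preimage (pullback.fst B.hom f).isOpenMap

lemma isDominant_of_map_left [Surjective f] {A B : Over S} (φ : A ⟶ B)
    [IsDominant ((Over.pullback f).map φ).left] : IsDominant φ.left := by
  have : IsDominant (((Over.pullback f).map φ).left ≫ pullback.fst B.hom f) := inferInstance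
  rw [show ((Over.pullback f).map φ).left ≫ pullback.fst B.hom f = pullback.fst A.hom f ≫ φ.left from
    SGA3a.prO_naturality f φ] at this
  exact IsDominant.of_comp (pullback.fst A.hom f) φ.left

end BC

section AlgClosed
variable {k : Type u} [Field k] {G G0 X : Over (Spec (CommRingCat.of k))} [GrpObj G] [GrpObj G0]
  (a : AlgGrp.Action G X) (a0 : AlgGrp.Action G0 X) (i : G0 ⟶ G)

lemma isDominant_graph_neutral_algClosed [IsAlgClosed k] [LocallyOfFiniteType G.hom]
    [QuasiCompact G.hom] [IrreducibleSpace ↥(X ⊗ X).left] [LocallyOfFiniteType X.hom]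
    [IsSeparated X.hom] [QuasiCompact X.hom]
    [IsOpenImmersion i.left] (hi : Set.range i.left = connectedComponent (Grp57.unitPt G))
    (ha0 : a0.act = (i ▷ X) ≫ a.act) (h : IsDominant (lift a.act (snd G X)).left) :
    IsDominant (lift a0.act (snd G0 X)).left := by
  have : JacobsonSpace G.left := LocallyOfFiniteType.jacobsonSpace G.hom
  have : QuasiCompact ((lift a.act (snd G X)).left ≫ (X ⊗ X).hom) := by
    rw [Over.w]
    show QuasiCompact (pullback.fst G.hom X.hom ≫ G.hom)
    infer_instance
  have : QuasiSeparated (X ⊗ X).hom := by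
    show QuasiSeparated (pullback.fst X.hom X.hom ≫ X.hom)
    infer_instance
  have : QuasiCompact (lift a.act (snd G X)).left :=
    QuasiCompact.of_comp _ (X ⊗ X).hom
  set ξ := genericPoint ↥(X ⊗ X).left
  obtain ⟨z, hz⟩ := SchBasics.exists_specializes_of_mem_closure_range (lift a.act (snd G X)).left
    (y := ξ) (by rw [(Scheme.Hom.denseRange _).closure_range]; trivial)
  have hzξ : (lift a.act (snd G X)).left z = ξ :=
    (hz.antisymm (genericPoint_specializes _)).eq
  set g := (fst G X).left z
  obtain ⟨c, hcg, hcc⟩ := nonempty_inter_closedPoints (Z := connectedComponent g)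
    ⟨g, mem_connectedComponent⟩ isClosed_connectedComponent.isLocallyClosed
  let cO : 𝟙_ (Over (Spec (CommRingCat.of k))) ⟶ G :=
    Over.homMk (pointOfClosedPoint G.hom c hcc) (pointOfClosedPoint_comp G.hom c hcc)
  -- left translation by `c⁻¹` on the first factor
  let τG : G ⟶ G := (toUnit G ≫ cO)⁻¹ * 𝟙 G
  let τ : G ⊗ X ⟶ G ⊗ X := τG ▷ X
  let cX : X ⊗ X ⟶ X := lift (toUnit (X ⊗ X) ≫ cO) (fst X X) ≫ a.act
  let A : X ⊗ X ≅ X ⊗ X :=
    { hom := lift cX (snd X X)
      inv := lift (lift (toUnit (X ⊗ X) ≫ cO)⁻¹ (fst X X) ≫ a.act) (snd X X)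
      hom_inv_id := by
        apply CartesianMonoidalCategory.hom_ext
        · simp only [Category.assoc, lift_fst, Category.id_comp, comp_lift_act, GrpObj.comp_inv,
            cX]
          rw [← Category.assoc _ _ cO, toUnit_unique (lift _ _ ≫ toUnit _) (toUnit _)]
          exact inv_act_act a _ _
        · simp
      inv_hom_id := by
        apply CartesianMonoidalCategory.hom_ext
        · simp only [Category.assoc, lift_fst, Category.id_comp, comp_lift_act, cX]
          rw [← Category.assoc _ _ cO, toUnit_unique (lift _ _ ≫ toUnit _) (toUnit _)]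
          exact act_inv_act a _ _
        · simp }
  have hτ1 : τ ≫ fst G X = fst G X ≫ τG := by simp [τ]
  have key : τ ≫ lift a.act (snd G X) ≫ A.hom = lift a.act (snd G X) := by
    apply CartesianMonoidalCategory.hom_ext
    · have h1 : (τ ≫ lift a.act (snd G X)) ≫ cX =
          lift (toUnit (G ⊗ X) ≫ cO) (τ ≫ a.act) ≫ a.act := by
        simp only [cX]
        rw [comp_lift_act, ← Category.assoc _ (toUnit (X ⊗ X)) cO,
          toUnit_unique ((τ ≫ lift a.act (snd G X)) ≫ toUnit (X ⊗ X)) (toUnit _), Category.assoc τ,
          lift_fst]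
      simp only [Category.assoc, A, lift_fst]
      rw [← Category.assoc τ (lift a.act (snd G X)) cX, h1]
      have h2 : τ ≫ a.act = lift (fst G X ≫ τG) (snd G X) ≫ a.act := by
        congr 1
      rw [h2, ← mul_act']
      conv_rhs => rw [← Category.id_comp a.act]
      congr 1
      apply CartesianMonoidalCategory.hom_ext
      · rw [lift_fst, Category.id_comp]
        simp only [τG, comp_mul, GrpObj.comp_inv, Category.comp_id]
        rw [← Category.assoc, toUnit_unique (fst G X ≫ toUnit G) (toUnit _), mul_inv_cancel_left]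
      · simp
    · simp [A, τ]
  have hA : IsIso A.hom.left := ((Over.forget _).mapIso A).isIso_hom
  have hξ' : (lift a.act (snd G X)).left (τ.left z) = ξ := by
    have h1 : A.hom.left ((lift a.act (snd G X)).left (τ.left z)) = ξ := by
      rw [← Scheme.Hom.comp_apply, ← Scheme.Hom.comp_apply, ← Over.comp_left, ← Over.comp_left,
        key, hzξ]
    refine (Specializes.antisymm ?_ (genericPoint_specializes _)).eq
    rw [← A.hom.left.homeomorph.isInducing.specializes_iff]
    show A.hom.left _ ⤳ A.hom.left ξ
    rw [h1]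
    exact genericPoint_specializes _
  have hmem : (fst G X).left (τ.left z) ∈ Set.range i.left := by
    rw [← Scheme.Hom.comp_apply, ← Over.comp_left, hτ1, Over.comp_left, Scheme.Hom.comp_apply, hi]
    have hc : τG.left c = Grp57.unitPt G := by
      have h1 : cO ≫ τG = 1 := by
        simp only [τG, comp_mul, GrpObj.comp_inv, Category.comp_id]
        rw [← Category.assoc, toUnit_unique (cO ≫ toUnit G) (𝟙 _), Category.id_comp, inv_mul_cancel]
      have h2 := congr($(congrArg Over.Hom.left h1) (IsLocalRing.closedPoint k))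
      simp only [Over.comp_left, Scheme.Hom.comp_apply] at h2
      rw [show cO.left (IsLocalRing.closedPoint k) = c from pointOfClosedPoint_apply G.hom c hcc _] at h2
      rw [h2]
      exact congrArg η[G].left (Subsingleton.elim (α := PrimeSpectrum k) _ _)
    have hg : g ∈ connectedComponent c := by
      rw [← connectedComponent_eq hcg]; exact mem_connectedComponent
    rw [← hc]
    exact τG.left.continuous.mapsTo_connectedComponent c hg
  obtain ⟨u, hu⟩ := hmem
  obtain ⟨w, -, hw⟩ := exists_preimage_of_isPullback
    (isPullback_left (whiskerRight_isPullback' i X)) u (τ.left z) hu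
  have hw' : (lift a0.act (snd G0 X)).left w = ξ := by
    have e : lift a0.act (snd G0 X) = (i ▷ X) ≫ lift a.act (snd G X) := by
      apply CartesianMonoidalCategory.hom_ext <;> simp [ha0]
    rw [e, Over.comp_left, Scheme.Hom.comp_apply, hw, hξ']
  refine ⟨fun y => ?_⟩
  have hmem : ξ ∈ Set.range (lift a0.act (snd G0 X)).left := ⟨w, hw'⟩
  refine closure_mono (Set.singleton_subset_iff.2 hmem) ?_
  rw [genericPoint_closure]
  trivial

/-- homogeneity for the group implies it for the neutral component, pointwise at rational points -/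
lemma mem_range_graph_neutral [IrreducibleSpace X.left]
    (hi : Set.range i.left = connectedComponent (Grp57.unitPt G))
    (ha0 : a0.act = (i ▷ X) ≫ a.act) (hΦ : Surjective (lift a.act (snd G X)).left)
    (x y : 𝟙_ (Over (Spec (CommRingCat.of k))) ⟶ X) :
    (lift y x).left (IsLocalRing.closedPoint k) ∈ Set.range (lift a0.act (snd G0 X)).left := by
  have hu : (Set.univ : Set X.left) ∈ irreducibleComponents X.left :=
    ⟨IrreducibleSpace.isIrreducible_univ _, fun s _ _ => Set.subset_univ s⟩
  obtain ⟨g, hg, hgy⟩ : y.left (IsLocalRing.closedPoint k) ∈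
      (a.orbitMap x).left '' connectedComponent (Grp57.unitPt G) := by
    rw [SGA3a.orbit_neutral_eq a hΦ x hu (Set.mem_univ _)]; trivial
  rw [← hi] at hg
  obtain ⟨g0, rfl⟩ := hg
  refine ⟨(lift (𝟙 G0) (toUnit G0 ≫ x)).left g0, ?_⟩
  have e : lift (𝟙 G0) (toUnit G0 ≫ x) ≫ lift a0.act (snd G0 X) =
      (i ≫ a.orbitMap x) ≫ lift (𝟙 X) (toUnit X ≫ x) := by
    apply CartesianMonoidalCategory.hom_ext
    · simp only [Category.assoc, lift_fst, ha0, Category.comp_id, AlgGrp.Action.orbitMap]
      rw [← Category.assoc (lift _ _), ← Category.assoc i]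
      congr 1
      apply CartesianMonoidalCategory.hom_ext
      · simp
      · simp
    · simp only [Category.assoc, lift_snd]
      simp only [← Category.assoc]
      congr 1
      exact toUnit_unique _ _
  have e2 : y ≫ lift (𝟙 X) (toUnit X ≫ x) = lift y x := by
    rw [comp_lift, Category.comp_id, ← Category.assoc, toUnit_unique (y ≫ toUnit X) (𝟙 _),
      Category.id_comp]
  rw [← Scheme.Hom.comp_apply, ← Over.comp_left, e]
  simp only [Over.comp_left, Scheme.Hom.comp_apply]
  rw [hgy, ← Scheme.Hom.comp_apply, ← Over.comp_left, e2]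

end AlgClosed

section Descent
variable {k : Type u} [Field k] {G G0 X : Over (Spec (CommRingCat.of k))} [GrpObj G] [GrpObj G0]
  (a : AlgGrp.Action G X) (a0 : AlgGrp.Action G0 X) (i : G0 ⟶ G) [IsMonHom i] [IsOpenImmersion i.left]

lemma range_bc_eq_connectedComponent [ConnectedSpace G0.left] {K : Type u} [Field K] (σ : k →+* K) :
    Set.range ((Over.pullback (Spec.map (CommRingCat.ofHom σ))).map i).left =
      connectedComponent (Grp57.unitPt (Grp57.bc G σ)) := by
  have hC := range_eq_connectedComponent i
  rw [range_map_left, hC]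
  have hcl : IsClopen (Grp57.proj G σ ⁻¹' connectedComponent (Grp57.unitPt G)) :=
    IsClopen.preimage ⟨isClosed_connectedComponent, hC ▸ i.left.isOpenEmbedding.isOpen_range⟩
      (Grp57.proj G σ).continuous
  have hu : Grp57.unitPt (Grp57.bc G σ) ∈ Grp57.proj G σ ⁻¹' connectedComponent (Grp57.unitPt G) := by
    rw [Set.mem_preimage, Grp57.proj_unitPt]; exact mem_connectedComponent
  exact Set.Subset.antisymm
    ((Grp57.isIrreducible_preimage_connectedComponent_unit G σ).isConnected.isPreconnected.subset_connectedComponent hu)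
    (hcl.connectedComponent_subset hu)

omit [GrpObj G] in
lemma irreducibleSpace_prod_bc [GeometricallyIntegral X.hom] {K : Type u} [Field K]
    [UniversallyOpen X.hom] (σ : k →+* K) :
    IrreducibleSpace ↥((Over.pullback (Spec.map (CommRingCat.ofHom σ))).obj (X ⊗ X)).left := by
  have h1 : GeometricallyIrreducible (X ⊗ X).hom := by
    have : IrreducibleSpace X.left := by
      have := GeometricallyIrreducible.irreducibleSpace_of_subsingleton X.hom
      exact this
    show GeometricallyIrreducible (pullback.fst X.hom X.hom ≫ X.hom)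
    exact GeometricallyIrreducible.comp _ _
  have h2 : GeometricallyIrreducible
      ((Over.pullback (Spec.map (CommRingCat.ofHom σ))).obj (X ⊗ X)).hom :=
    MorphismProperty.pullback_snd _ _ h1
  exact GeometricallyIrreducible.irreducibleSpace_of_subsingleton
    ((Over.pullback (Spec.map (CommRingCat.ofHom σ))).obj (X ⊗ X)).hom

theorem homogeneous_iff_neutral [LocallyOfFiniteType G.hom] [QuasiCompact G.hom]
    [IsSeparated X.hom] [LocallyOfFiniteType X.hom] [QuasiCompact X.hom]
    [GeometricallyIntegral X.hom] [ConnectedSpace G0.left]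
    (ha0 : a0.act = (i ▷ X) ≫ a.act) :
    (Surjective (lift (snd G X) a.act).left ↔ Surjective (lift (snd G0 X) a0.act).left) ∧
    (IsDominant (lift (snd G X) a.act).left ↔ IsDominant (lift (snd G0 X) a0.act).left) := by
  rw [swap_prop @Surjective, swap_prop @Surjective (snd G0 X), swap_prop @IsDominant,
    swap_prop @IsDominant (snd G0 X)]
  have e : lift a0.act (snd G0 X) = (i ▷ X) ≫ lift a.act (snd G X) := by
    apply CartesianMonoidalCategory.hom_ext <;> simp [ha0]
  have : UniversallyOpen X.hom := by
    have : Flat X.hom := inferInstance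
    infer_instance
  refine ⟨⟨fun h => ⟨fun ξ => ?_⟩, fun h => ?_⟩, ⟨fun h => ?_, fun h => ?_⟩⟩
  · let L := AlgebraicClosure ((X ⊗ X).left.residueField ξ)
    let p : Spec (CommRingCat.of L) ⟶ (X ⊗ X).left :=
      Spec.map (CommRingCat.ofHom (algebraMap ((X ⊗ X).left.residueField ξ) L)) ≫
        (X ⊗ X).left.fromSpecResidueField ξ
    obtain ⟨σ, hσ⟩ := Grp57.exists_specMap (L := L) (X ⊗ X).hom p
    let f := Spec.map (CommRingCat.ofHom σ)
    have hΦ := SGA3a.surjective_bc_shear a f h
    have hXL : IrreducibleSpace ↥(Red.bc f X).left := by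
      have : GeometricallyIrreducible (Red.bc f X).hom :=
        MorphismProperty.pullback_snd _ _ (inferInstance : GeometricallyIrreducible X.hom)
      exact GeometricallyIrreducible.irreducibleSpace_of_subsingleton (Red.bc f X).hom
    let q : 𝟙_ (Over (Spec (CommRingCat.of L))) ⟶ (Over.pullback f).obj (X ⊗ X) :=
      Over.homMk (pullback.lift p (𝟙 _) (by rw [hσ, Category.id_comp])) (pullback.lift_snd _ _ _)
    have hm := mem_range_graph_neutral (a.bc f) (a0.bc f) ((Over.pullback f).map i)
      (range_bc_eq_connectedComponent i σ) (bc_act_comp f a a0 i ha0) hΦ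
      (q ≫ (Over.pullback f).map (snd X X)) (q ≫ (Over.pullback f).map (fst X X))
    obtain ⟨w, hw⟩ := hm
    have e2 : lift (q ≫ (Over.pullback f).map (fst X X)) (q ≫ (Over.pullback f).map (snd X X)) ≫
        Functor.LaxMonoidal.μ (Over.pullback f) X X = q := by
      have hd : lift ((Over.pullback f).map (fst X X)) ((Over.pullback f).map (snd X X)) =
          Functor.OplaxMonoidal.δ (Over.pullback f) X X := by
        apply CartesianMonoidalCategory.hom_ext <;> simp
      rw [← comp_lift, Category.assoc, hd, Functor.Monoidal.δ_μ, Category.comp_id]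
    refine ⟨(pullback.fst (G0 ⊗ X).hom f)
      ((Functor.LaxMonoidal.μ (Over.pullback f) G0 X).left w), ?_⟩
    have h1 := congr($(congrArg Over.Hom.left (bc_graph_key f a0)) w)
    simp only [Over.comp_left, Scheme.Hom.comp_apply] at h1
    rw [hw, ← Scheme.Hom.comp_apply, ← Over.comp_left, e2] at h1
    have h2 := congr($(SGA3a.prO_naturality f (lift a0.act (snd G0 X)))
      ((Functor.LaxMonoidal.μ (Over.pullback f) G0 X).left w))
    simp only [Scheme.Hom.comp_apply] at h2
    rw [← h2, ← h1, ← Scheme.Hom.comp_apply,
      show q.left ≫ SGA3a.prO f (X ⊗ X) = p from pullback.lift_fst _ _ _]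
    show ((X ⊗ X).left.fromSpecResidueField ξ) _ = ξ
    exact Scheme.fromSpecResidueField_apply _ _
  · rw [e, Over.comp_left] at h
    exact Surjective.of_comp (i ▷ X).left _
  · let K := AlgebraicClosure k
    let σ := algebraMap k K
    let f := Spec.map (CommRingCat.ofHom σ)
    have : Flat f := Grp57.flat_to_field σ
    have : Surjective f := ⟨fun x => ⟨IsLocalRing.closedPoint K, Subsingleton.elim (α := PrimeSpectrum k) _ _⟩⟩
    have : UniversallyOpen f := by
      show UniversallyOpen (Spec.map (CommRingCat.ofHom σ))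
      infer_instance
    have := isDominant_map_left f (lift a.act (snd G X))
    have hK : IsDominant (lift (a.bc f).act (snd (Red.bc f G) (Red.bc f X))).left :=
      (bc_graph_prop f a @IsDominant).2 this
    have hI := irreducibleSpace_prod_bc (X := X) σ
    have hI' : IrreducibleSpace ↥(Red.bc f X ⊗ Red.bc f X).left :=
      ((Over.forget _).mapIso (Functor.Monoidal.μIso (Over.pullback f) X X)).hom.homeomorph.irreducibleSpace_iff.2 hI
    have : LocallyOfFiniteType (Red.bc f G).hom := MorphismProperty.pullback_snd _ _ ‹_›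
    have : QuasiCompact (Red.bc f G).hom := MorphismProperty.pullback_snd _ _ ‹_›
    have : LocallyOfFiniteType (Red.bc f X).hom := MorphismProperty.pullback_snd _ _ ‹_›
    have : QuasiCompact (Red.bc f X).hom := MorphismProperty.pullback_snd _ _ ‹_›
    have : IsSeparated (Red.bc f X).hom := MorphismProperty.pullback_snd _ _ ‹_›
    have : IsOpenImmersion ((Over.pullback f).map i).left :=
      MorphismProperty.of_isPullback (P := @IsOpenImmersion) (map_left_isPullback f i) ‹_›
    have h0 := isDominant_graph_neutral_algClosed (a.bc f) (a0.bc f) ((Over.pullback f).map i)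
      (range_bc_eq_connectedComponent i σ) (bc_act_comp f a a0 i ha0) hK
    have := (bc_graph_prop f a0 @IsDominant).1 h0
    exact isDominant_of_map_left f _
  · rw [e, Over.comp_left] at h
    exact IsDominant.of_comp (i ▷ X).left _

end Descent

end Groth.Agent.AlgGrp79
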