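import Groth.Agent.AlgGrp79.KernelDescent
import Groth.Agent.AlgGrp79.Homogeneous
import Groth.Agent.AlgGrp79.Image
import Groth.Agent.AlgGrp79.Batch
import Groth.Agent.AlgGrp79.NeutralHomog
import Groth.Agent.AGF80.SepSubgroup
import Groth.Agent.Unr55.DescProps
import Groth.Agent.RedPts82.Points
import Groth.Agent.RedPts82.Coord
import Groth.Agent.RedPts82.DSChar

/-!
A homomorphism of algebraic groups over a field with finite kernel is finite; a monomorphism is a closed immersion.
-/

set_option autoImplicit false
set_option backward.isDefEq.respectTransparency.types false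
universe u

open CategoryTheory MonoidalCategory CartesianMonoidalCategory MonObj AlgebraicGeometry CategoryTheory.Limits

namespace Groth.Agent.AlgGrp79

variable {k : Type u} [Field k]

theorem exists_reduced_subgroup [IsAlgClosed k] (G : Over (Spec (CommRingCat.of k))) [GrpObj G] [LocallyOfFiniteType G.hom] :
    ∃ (Gr : Over (Spec (CommRingCat.of k))) (_ : GrpObj Gr) (r : Gr ⟶ G), IsMonHom r ∧ IsClosedImmersion r.left ∧
      Surjective r.left ∧ IsReduced Gr.left := by
  let R : G.left.IdealSheafData := Scheme.IdealSheafData.vanishingIdeal ⊤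
  let Z : Over (Spec (CommRingCat.of k)) := Over.mk (R.subschemeι ≫ G.hom)
  let z : Z ⟶ G := Over.homMk R.subschemeι rfl
  have hci : IsClosedImmersion z.left := inferInstanceAs (IsClosedImmersion R.subschemeι)
  have hsurj : Surjective z.left := ⟨fun x => by
    have : x ∈ Set.range R.subschemeι := by
      rw [Scheme.IdealSheafData.range_subschemeι, Scheme.IdealSheafData.coe_support_vanishingIdeal]; trivial
    exact this⟩
  have hred : IsReduced Z.left := SchBasics.isReduced_vanishingIdeal_subscheme _
  have : LocallyOfFiniteType Z.hom := inferInstanceAs (LocallyOfFiniteType (R.subschemeι ≫ G.hom))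
  have hgr : GeometricallyReduced Z.hom := by
    have : IsReduced (FBase.bc Z.hom (AlgebraicClosure k)) := by
      have hiso : IsIso (Spec.map (CommRingCat.ofHom (algebraMap k (AlgebraicClosure k)))) := by
        rw [isIso_SpecMap_iff]
        exact IsAlgClosed.algebraMap_bijective_of_isIntegral
      have : IsIso (pullback.fst Z.hom (Spec.map (CommRingCat.ofHom (algebraMap k (AlgebraicClosure k))))) :=
        MorphismProperty.pullback_fst (P := MorphismProperty.isomorphisms Scheme.{u}) _ _ hiso
      exact @isReduced_of_isOpenImmersion _ _ (pullback.fst Z.hom (Spec.map (CommRingCat.ofHom (algebraMap k (AlgebraicClosure k))))) (@IsOpenImmersion.of_isIso _ _ _ this) hred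
    exact FBase64.geometricallyReduced_of_isReduced_perfect _ (AlgebraicClosure k)
  obtain ⟨-, hgrp, hhom⟩ := AGF80.SepPoints.smooth_subgroup G Z z hci hgr fun k' _ _ _ x hx => by
    let T : Over (Spec (CommRingCat.of k)) := Over.mk (Spec.map (CommRingCat.ofHom (algebraMap k k')))
    have : IsReduced T.left := inferInstanceAs (IsReduced (Spec (CommRingCat.of k')))
    obtain ⟨y, hy⟩ := exists_lift_of_surjective_closed z (Over.homMk x hx : T ⟶ G)
    exact ⟨y.left, congr(($hy).left)⟩
  exact ⟨Z, hgrp, z, hhom, hci, hsurj, hred⟩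

theorem isFinite_hom_algClosed [IsAlgClosed k] {G H N : Over (Spec (CommRingCat.of k))} [GrpObj G] [GrpObj H]
    [LocallyOfFiniteType G.hom] [QuasiCompact G.hom] [LocallyOfFiniteType H.hom]
    (f : G ⟶ H) [IsMonHom f] (i : N ⟶ G) (hker : AlgGrp.IsKernel i f) (hN : IsFinite N.hom) : IsFinite f.left := by
  obtain ⟨Gr, _, r, _, _, _, hred⟩ := exists_reduced_subgroup G
  have : LocallyOfFiniteType Gr.hom := by rw [← Over.w r]; infer_instance
  have : QuasiCompact Gr.hom := by rw [← Over.w r]; infer_instance
  have := isSeparated_grp H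
  have := isSeparated_grp G
  have := isSeparated_grp Gr
  let φ : Gr ⟶ H := r ≫ f
  have : QuasiCompact φ.left := by
    have : QuasiCompact (φ.left ≫ H.hom) := by rw [Over.w]; infer_instance
    exact QuasiCompact.of_comp φ.left H.hom
  let D : Over (Spec (CommRingCat.of k)) := Over.mk (φ.left.imageι ≫ H.hom)
  let ι' : D ⟶ H := Over.homMk φ.left.imageι rfl
  let g : Gr ⟶ D := Over.homMk φ.left.toImage (by
    show φ.left.toImage ≫ φ.left.imageι ≫ H.hom = Gr.hom
    rw [Scheme.Hom.toImage_imageι_assoc, Over.w])
  have hgi : g ≫ ι' = φ := by ext : 1; exact φ.left.toImage_imageι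
  have : IsClosedImmersion ι'.left := inferInstanceAs (IsClosedImmersion φ.left.imageι)
  have : IsSchemeTheoreticallyDominant g.left := schDominant_toImage φ.left
  have : QuasiCompact g.left := by
    have : QuasiCompact (g.left ≫ ι'.left) := by rw [← Over.comp_left, hgi]; infer_instance
    exact .of_comp g.left ι'.left
  have : Mono ι' := Over.mono_of_mono_left ι'
  have : LocallyOfFiniteType D.hom := inferInstanceAs (LocallyOfFiniteType (φ.left.imageι ≫ H.hom))
  obtain ⟨h1, h2⟩ := closed_of_dominant φ ι' g hgi
  obtain ⟨_, _⟩ := exists_grpObj_closed ι' h1 h2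
  have : IsMonHom g := RedPts82.isMonHom_of_points g fun X x y => by
    rw [← cancel_mono ι', mul_comp' (x ≫ g) (y ≫ g) ι']
    simp only [Category.assoc, hgi]
    rw [mul_comp']
  have := schDominant_toImage φ.left
  have : IsReduced D.left := IsSchemeTheoreticallyDominant.isReduced φ.left.toImage
  have : IsDominant g.left := inferInstance
  have := surjective_of_dominant_hom g
  have : Flat g.left := flat_of_surjective_hom g
  have := mono_of_isKernel hker
  let P := pullback r i
  let j : P ⟶ Gr := pullback.fst r i
  have hP : IsFinite P.hom := by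
    have h := isPullback_left (IsPullback.of_hasPullback r i)
    have : IsClosedImmersion (pullback.snd r i).left := MorphismProperty.of_isPullback h ‹IsClosedImmersion r.left›
    rw [← Over.w (pullback.snd r i)]
    infer_instance
  have hkg : AlgGrp.IsKernel j g := by
    refine isKernel_of_pts j g ?_ fun T x hx => ?_
    · rw [← cancel_mono ι', Category.assoc, hgi, MonObj.one_comp, ← Category.assoc]
      show (pullback.fst r i ≫ r) ≫ f = 1
      rw [pullback.condition, Category.assoc, hker.w, one_def', comp_toUnit_assoc]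
    · obtain ⟨n, hn⟩ := exists_ker_of_comp_one hker (x ≫ r) (by
        rw [Category.assoc, show r ≫ f = g ≫ ι' from hgi.symm, ← Category.assoc, hx, MonObj.one_comp])
      exact ⟨pullback.lift x n hn.symm, pullback.lift_fst _ _ _⟩
  have : QuasiCompact g.left := inferInstance
  have := Unr55.isFinite.{u}
  have hgfin : IsFinite g.left :=
    MorphismProperty.of_isPullback_of_descendsAlong (P := @IsFinite) (Q := Unr55.fpqc)
      (isPullback_left (isPullback_kernel_torsor j g hkg)).flip ⟨⟨‹_›, ‹_›⟩, ‹_›⟩
      (MorphismProperty.pullback_snd (P := @IsFinite) _ _ hP)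
  have hφ : IsFinite φ.left := by rw [← hgi, Over.comp_left]; infer_instance
  have hrf : IsFinite (r.left ≫ f.left) := by rw [← Over.comp_left]; exact hφ
  have : UniversallyClosed f.left := .of_comp_surjective r.left f.left
  have : LocallyOfFiniteType f.left := by
    have : LocallyOfFiniteType (f.left ≫ H.hom) := by rw [Over.w]; infer_instance
    exact locallyOfFiniteType_of_comp f.left H.hom
  have : IsSeparated f.left := by
    have : IsSeparated (f.left ≫ H.hom) := by rw [Over.w]; infer_instance
    exact IsSeparated.of_comp f.left H.hom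
  have : IsProper f.left := {}
  have : LocallyQuasiFinite f.left := .of_finite_preimage_singleton _ fun y => by
    refine (((r.left ≫ f.left).finite_preimage_singleton y).image r.left).subset ?_
    intro x hx
    obtain ⟨x', rfl⟩ := r.left.surjective x
    exact ⟨x', hx, rfl⟩
  exact IsFinite.of_isProper_of_locallyQuasiFinite f.left

lemma isKernel_bc {K : Type u} [Field K] (t : Spec (CommRingCat.of K) ⟶ Spec (CommRingCat.of k))
    {N G Q : Over (Spec (CommRingCat.of k))} [GrpObj Q] {i : N ⟶ G} {q : G ⟶ Q} (h : AlgGrp.IsKernel i q) :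
    AlgGrp.IsKernel ((Over.pullback t).map i) ((Over.pullback t).map q) := by
  have := mono_of_isKernel h
  haveI : (Over.pullback t).IsRightAdjoint := (Over.mapPullbackAdj t).isRightAdjoint
  have h1 : ∀ X : Over (Spec (CommRingCat.of K)), RedPts82.toBase t (1 : X ⟶ Red.bc t Q) = 1 := fun X => RedPts82.toBase_one t
  refine isKernel_of_pts _ _ (RedPts82.toBase_injective t ?_) fun T g hg => ?_
  · rw [h1, ← Category.id_comp ((Over.pullback t).map i), Category.assoc, ← Functor.map_comp, RedPts82.toBase_comp_map, h.w,
      one_def', comp_toUnit_assoc]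
  · obtain ⟨n, hn⟩ := exists_ker_of_comp_one h (RedPts82.toBase t g) (by
      rw [← RedPts82.toBase_comp_map, hg, h1])
    exact ⟨RedPts82.ofBase t n, RedPts82.toBase_injective t (by rw [RedPts82.toBase_comp_map, RedPts82.toBase_ofBase, hn])⟩

theorem isFinite_hom_of_finite_kernel {G H N : Over (Spec (CommRingCat.of k))} [GrpObj G] [GrpObj H]
    [LocallyOfFiniteType G.hom] [QuasiCompact G.hom] [LocallyOfFiniteType H.hom]
    (f : G ⟶ H) [IsMonHom f] (i : N ⟶ G) (hker : AlgGrp.IsKernel i f) (hN : IsFinite N.hom) : IsFinite f.left := by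
  let t : Spec (CommRingCat.of (AlgebraicClosure k)) ⟶ Spec (CommRingCat.of k) :=
    Spec.map (CommRingCat.ofHom (algebraMap k (AlgebraicClosure k)))
  have hflat : Flat t := by
    rw [HasRingHomProperty.Spec_iff (P := @Flat)]
    exact RingHom.flat_algebraMap_iff.2 (inferInstance : Module.Flat k _)
  have hs : Surjective t := ⟨fun _ => ⟨IsLocalRing.closedPoint _, Subsingleton.elim (α := PrimeSpectrum k) _ _⟩⟩
  have hqc : QuasiCompact t := inferInstance
  have : LocallyOfFiniteType (Red.bc t G).hom := MorphismProperty.pullback_snd (P := @LocallyOfFiniteType) _ _ ‹_›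
  have : QuasiCompact (Red.bc t G).hom := MorphismProperty.pullback_snd (P := @QuasiCompact) _ _ ‹_›
  have : LocallyOfFiniteType (Red.bc t H).hom := MorphismProperty.pullback_snd (P := @LocallyOfFiniteType) _ _ ‹_›
  have hfin := isFinite_hom_algClosed ((Over.pullback t).map f) _ (isKernel_bc t hker)
    (MorphismProperty.pullback_snd (P := @IsFinite) _ _ hN)
  have := Unr55.isFinite.{u}
  refine MorphismProperty.of_isPullback_of_descendsAlong (P := @IsFinite) (Q := Unr55.fpqc)
    (map_left_isPullback t f).flip ⟨⟨?_, ?_⟩, ?_⟩ hfin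
  · exact MorphismProperty.pullback_fst (P := @Surjective) _ _ hs
  · exact MorphismProperty.pullback_fst (P := @Flat) _ _ hflat
  · exact MorphismProperty.pullback_fst (P := @QuasiCompact) _ _ hqc

theorem isClosedImmersion_hom_of_trivial_kernel {G H : Over (Spec (CommRingCat.of k))} [GrpObj G] [GrpObj H]
    [LocallyOfFiniteType G.hom] [QuasiCompact G.hom] [LocallyOfFiniteType H.hom]
    (f : G ⟶ H) [IsMonHom f] (h : ∀ (T : Over (Spec (CommRingCat.of k))) (g : T ⟶ G), g ≫ f = 1 → g = 1) :
    IsClosedImmersion f.left := by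
  have := isSeparated_grp G
  have : Mono (η[G] : 𝟙_ (Over (Spec (CommRingCat.of k))) ⟶ G) := ⟨fun a b _ => toUnit_unique a b⟩
  have hker : AlgGrp.IsKernel η[G] f := isKernel_of_pts _ _ (by rw [IsMonHom.one_hom, one_def', toUnit_unique (toUnit (𝟙_ (Over (Spec (CommRingCat.of k))))) (𝟙 _), Category.id_comp])
    fun T g hg => ⟨toUnit T, by rw [h T g hg, one_def']⟩
  have := isFinite_hom_of_finite_kernel f η[G] hker (inferInstanceAs (IsFinite (𝟙 _)))
  have : Mono f := ⟨fun {T} a b hab => by
    have := h T (a * b⁻¹) (by rw [mul_comp', GrpObj.inv_comp, hab, mul_inv_cancel])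
    exact mul_inv_eq_one.1 this⟩
  have : Mono f.left := inferInstanceAs (Mono ((Over.forget _).map f))
  exact (IsClosedImmersion.iff_isFinite_and_mono _).2 ⟨‹_›, ‹_›⟩

end Groth.Agent.AlgGrp79
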