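import Groth.Agent.RedPts82.DSCoord
import Groth.Agent.RedPts82.DSChar
import Groth.Agent.AlgGrp79.Chart
import Groth.Agent.AlgGrp79.Batch
import Groth.Agent.AlgGrp79.KernelPts
import Groth.Agent.RedPts82.TorusBasic
import Groth.Prelude.Def_AlgGrp

set_option autoImplicit false
universe u v w

open CategoryTheory MonoidalCategory CartesianMonoidalCategory MonObj AlgebraicGeometry CategoryTheory.Limits
open scoped commutatorElement TensorProduct nonZeroDivisors

namespace Groth.Agent.AlgGrp79

section DSHom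
open Groth.Agent.RedPts82
variable {k : Type u} [Field k]

local notation "Sk" => Spec (CommRingCat.of k)

/-- The tautological point of a diagonalisable group with values in its group algebra. -/
lemma exists_taut (M : Type) [AddCommGroup M] :
    ∃ t : specO k (MonoidAlgebra k (Multiplicative M)) ⟶ Red.DS Sk M, Function.Injective (dsFn t) := by
  let c : Multiplicative M →* Γ((specO k (MonoidAlgebra k (Multiplicative M))).left, ⊤) :=
    (Scheme.ΓSpecIso (CommRingCat.of (MonoidAlgebra k (Multiplicative M)))).inv.hom.toMonoidHom.comp (MonoidAlgebra.of k _)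
  obtain ⟨t, ht⟩ := dsFn_surjective (S := Sk) (X := specO k (MonoidAlgebra k (Multiplicative M))) c
  refine ⟨t, fun a b hab => ?_⟩
  rw [ht, ht] at hab
  exact Multiplicative.ofAdd.injective (MonoidAlgebra.of_injective
    ((ConcreteCategory.bijective_of_isIso (Scheme.ΓSpecIso (CommRingCat.of (MonoidAlgebra k (Multiplicative M)))).inv).1 hab))

/-- A homomorphism of diagonalisable groups over a field comes from the character groups. -/
lemma exists_eq_DSmap {M N : Type} [AddCommGroup M] [AddCommGroup N] (α : Red.DS Sk M ⟶ Red.DS Sk N) [IsMonHom α] :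
    ∃ φ : N →+ M, α = Red.DSmap Sk φ := by
  let x₀ : Sk := IsLocalRing.closedPoint k
  have h : ∀ a : N, ∃ m : M, α ≫ Red.chi Sk a = Red.chi Sk m := by
    intro a
    obtain ⟨U, hx, m, hm⟩ := exists_chi_nhd (α ≫ Red.chi Sk a) x₀
    have hU : U = ⊤ := by
      ext y
      have : y = x₀ := Subsingleton.elim _ _
      simp [this, hx]
    subst hU
    refine ⟨m, ?_⟩
    have h1 := hm (Red.DS Sk M) ((Red.DS Sk M).hom ≫ (Sk).topIso.inv)
      (by rw [Category.assoc, ← Scheme.topIso_hom, Iso.inv_hom_id, Category.comp_id]) (𝟙 _)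
    simpa using h1
  choose f hf using h
  obtain ⟨t, ht⟩ := exists_taut (k := k) M
  have hfn : ∀ a, dsFn t (f a) = dsFn (t ≫ α) a := by
    intro a
    rw [← gmFn_chi, ← gmFn_chi, Category.assoc, hf]
  refine ⟨AddMonoidHom.mk' f fun a b => ht (by rw [hfn, dsFn_add, dsFn_add, hfn, hfn]), ?_⟩
  have key : ∀ {X : Over Sk} (x : X ⟶ Red.DS Sk M) (a : N), dsFn (x ≫ α) a = dsFn x (f a) := by
    intro X x a
    rw [← gmFn_chi, ← gmFn_chi, Category.assoc, hf]
  have h2 : 𝟙 _ ≫ α = 𝟙 _ ≫ Red.DSmap Sk (AddMonoidHom.mk' f fun a b => ht (by rw [hfn, dsFn_add, dsFn_add, hfn, hfn])) :=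
    dsFn_injective fun a => by rw [key, dsFn_DSmap]; rfl
  simpa using h2

end DSHom

end Groth.Agent.AlgGrp79
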