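import Groth.Prelude.Def_CoactBr
import Groth.Prelude.Def_GLin5
import Groth.Prelude.Def_AGF
import Groth.Agent.AlgGrp79.DSHomField
import Groth.Agent.RedPts82.Coord
import Groth.Agent.Unr55.DescProps
import Groth.Agent.AlgGrp79.NeutralHomog

/-!
Diagonalisable subgroups of `GL_m` over a field: gradings, conjugacy, rationality.
-/

set_option autoImplicit false
set_option backward.isDefEq.respectTransparency.types false
universe u

open CategoryTheory CategoryTheory.Limits MonoidalCategory CartesianMonoidalCategory MonObj AlgebraicGeometry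
open Groth.Agent.RedPts82 CoordGrp CoactBr
open scoped TensorProduct

noncomputable section

namespace Groth.Agent.AlgGrp79.GLnDiag

variable {k : Type u} [CommRing k] {m : ℕ}

/-- constants -/
def cst (X : Over (Spec (CommRingCat.of k))) : k →+* Γ(X.left, ⊤) :=
  ((Scheme.ΓSpecIso (CommRingCat.of k)).inv ≫ X.hom.appTop).hom

@[reducible] def gAlg (X : Over (Spec (CommRingCat.of k))) : Algebra k Γ(X.left, ⊤) := (cst X).toAlgebra

lemma comp_cst {X Y : Over (Spec (CommRingCat.of k))} (f : Y ⟶ X) (a : k) : f.left.appTop (cst X a) = cst Y a := by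
  show (((Scheme.ΓSpecIso (CommRingCat.of k)).inv ≫ X.hom.appTop) ≫ f.left.appTop) a = _
  rw [Category.assoc, ← Scheme.Hom.comp_appTop, Over.w]
  rfl

/-- the algebra map of a point of an affine scheme -/
def coAlg {X : Over (Spec (CommRingCat.of k))} {A : Type u} [CommRing A] [Algebra k A] (x : X ⟶ sp k A) :
    letI := gAlg X; A →ₐ[k] Γ(X.left, ⊤) :=
  letI := gAlg X
  { toRingHom := ((Scheme.ΓSpecIso (CommRingCat.of A)).inv ≫ x.left.appTop).hom
    commutes' := fun r => by
      have h : x.left.appTop ((sp k A).hom.appTop ((Scheme.ΓSpecIso (CommRingCat.of k)).inv r)) = cst X r :=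
        comp_cst x r
      show x.left.appTop ((Scheme.ΓSpecIso (CommRingCat.of A)).inv (algebraMap k A r)) = _
      have h2 := congr($(Scheme.ΓSpecIso_inv_naturality (CommRingCat.ofHom (algebraMap k A))) r)
      simp only [CommRingCat.comp_apply, CommRingCat.hom_ofHom] at h2
      erw [h2]
      exact h }

/-- the canonical map to the affinization -/
def affPt (X : Over (Spec (CommRingCat.of k))) : letI := gAlg X; X ⟶ sp k Γ(X.left, ⊤) :=
  letI := gAlg X
  Over.homMk X.left.toSpecΓ (by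
    show X.left.toSpecΓ ≫ Spec.map (CommRingCat.ofHom (cst X)) = X.hom
    rw [show CommRingCat.ofHom (cst X) = (Scheme.ΓSpecIso (CommRingCat.of k)).inv ≫ X.hom.appTop from rfl,
      Spec.map_comp, ← Scheme.toSpecΓ_naturality_assoc, ← SpecMap_ΓSpecIso_hom, ← Spec.map_comp, Iso.inv_hom_id,
      Spec.map_id, Category.comp_id])

lemma eq_affPt_pt {X : Over (Spec (CommRingCat.of k))} {A : Type u} [CommRing A] [Algebra k A] (x : X ⟶ sp k A) :
    letI := gAlg X; x = affPt X ≫ pt (coAlg x) := by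
  letI := gAlg X
  ext : 1
  show x.left = X.left.toSpecΓ ≫ Spec.map ((Scheme.ΓSpecIso (CommRingCat.of A)).inv ≫ x.left.appTop)
  rw [Spec.map_comp]
  erw [← Scheme.toSpecΓ_naturality_assoc]
  show x.left = x.left ≫ (Spec (CommRingCat.of A)).toSpecΓ ≫ _
  rw [← SpecMap_ΓSpecIso_hom]
  have e : Spec.map (Scheme.ΓSpecIso (CommRingCat.of A)).hom ≫ Spec.map (Scheme.ΓSpecIso (CommRingCat.of A)).inv =
      𝟙 (Spec (CommRingCat.of A)) := by rw [← Spec.map_comp, Iso.inv_hom_id, Spec.map_id]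
  exact ((congrArg (x.left ≫ ·) e).trans (Category.comp_id x.left)).symm

lemma coAlg_affPt_pt {X : Over (Spec (CommRingCat.of k))} {A : Type u} [CommRing A] [Algebra k A] :
    letI := gAlg X; ∀ (φ : A →ₐ[k] Γ(X.left, ⊤)) (a : A), coAlg (affPt X ≫ pt φ) a = φ a := by
  letI := gAlg X
  intro φ a
  show ((Scheme.ΓSpecIso (CommRingCat.of A)).inv ≫ (X.left.toSpecΓ ≫ Spec.map (CommRingCat.ofHom φ.toRingHom)).appTop) a = φ a
  rw [Scheme.Hom.comp_appTop, ← Scheme.ΓSpecIso_inv_naturality_assoc, Scheme.toSpecΓ_appTop, Iso.inv_hom_id,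
    Category.comp_id]
  rfl

/-- the matrix of a point of `GL_m` -/
def glFn {X : Over (Spec (CommRingCat.of k))} (x : X ⟶ sp k (GLn m k)) : Matrix (Fin m) (Fin m) Γ(X.left, ⊤) :=
  fun i j => x.left.appTop ((Scheme.ΓSpecIso (CommRingCat.of (GLn m k))).inv (GLn.X i j))

lemma glFn_comp {X Y : Over (Spec (CommRingCat.of k))} (f : Y ⟶ X) (x : X ⟶ sp k (GLn m k)) :
    glFn (f ≫ x) = (glFn x).map f.left.appTop := by
  ext i j
  simp [glFn, Scheme.Hom.comp_appTop]

lemma glFn_affPt_pt {X : Over (Spec (CommRingCat.of k))} :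
    letI := gAlg X; ∀ (φ : GLn m k →ₐ[k] Γ(X.left, ⊤)) (i j : Fin m), glFn (affPt X ≫ pt φ) i j = φ (GLn.X i j) := by
  letI := gAlg X
  intro φ i j
  exact coAlg_affPt_pt φ (GLn.X i j)

lemma glFn_det {X : Over (Spec (CommRingCat.of k))} (x : X ⟶ sp k (GLn m k)) :
    letI := gAlg X; (glFn x).det * coAlg x GLn.Dinv = 1 := by
  letI := gAlg X
  rw [show glFn x = (coAlg x).mapMatrix (GLn.genMat m k) from rfl, ← AlgHom.map_det, ← GLn.det_eq, ← map_mul,
    GLn.det_mul_Dinv, map_one]

lemma glFn_isUnit {X : Over (Spec (CommRingCat.of k))} (x : X ⟶ sp k (GLn m k)) : IsUnit (glFn x).det := by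
  letI := gAlg X
  exact IsUnit.of_mul_eq_one _ (glFn_det x)

lemma glFn_injective {X : Over (Spec (CommRingCat.of k))} {x y : X ⟶ sp k (GLn m k)} (h : glFn x = glFn y) : x = y := by
  letI := gAlg X
  rw [eq_affPt_pt x, eq_affPt_pt y]
  congr 2
  refine GLn.algHom_ext (fun i j => congrFun (congrFun h i) j) ?_
  exact left_inv_eq_right_inv (by rw [_root_.mul_comm, glFn_det]) (by rw [h, glFn_det])

lemma glFn_surjective {X : Over (Spec (CommRingCat.of k))} (M : Matrix (Fin m) (Fin m) Γ(X.left, ⊤)) (hM : IsUnit M.det) :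
    ∃ x : X ⟶ sp k (GLn m k), glFn x = M := by
  letI := gAlg X
  obtain ⟨d, hd⟩ := isUnit_iff_exists_inv.1 hM
  refine ⟨affPt X ≫ pt (GLn.pt m k M d hd), ?_⟩
  ext i j
  rw [glFn_affPt_pt]
  exact GLn.pt_X M d hd i j

lemma glFn_mul {X : Over (Spec (CommRingCat.of k))} (x y : X ⟶ sp k (GLn m k)) : glFn (x * y) = glFn x * glFn y := by
  letI := gAlg X
  conv_lhs => rw [eq_affPt_pt x, eq_affPt_pt y, ← MonObj.comp_mul, pt_mul_pt]
  ext i j
  rw [glFn_affPt_pt, AlgHom.comp_apply]
  show _ = (glFn x * glFn y) i j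
  rw [show Bialgebra.comulAlgHom k (GLn m k) (GLn.X i j) = _ from GLn.comul_X i j, map_sum, Matrix.mul_apply]
  exact Finset.sum_congr rfl fun l _ => by rw [Algebra.TensorProduct.lift_tmul]; rfl

lemma glFn_one {X : Over (Spec (CommRingCat.of k))} : glFn (1 : X ⟶ sp k (GLn m k)) = 1 := by
  have h := glFn_mul (1 : X ⟶ sp k (GLn m k)) 1
  rw [_root_.one_mul] at h
  obtain ⟨u, hu⟩ := (Matrix.isUnit_iff_isUnit_det _).2 (glFn_isUnit (1 : X ⟶ sp k (GLn m k)))
  rw [← hu] at h ⊢
  simpa using congrArg ((↑u⁻¹ : Matrix (Fin m) (Fin m) Γ(X.left, ⊤)) * ·) h.symm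

variable {K : Type u} [CommRing K] [Algebra k K]

lemma cst_map (X : Over (Spec (CommRingCat.of K))) (a : k) :
    cst ((Over.map (Spec.map (CommRingCat.ofHom (algebraMap k K)))).obj X) a = cst X (algebraMap k K a) := by
  show ((Scheme.ΓSpecIso (CommRingCat.of k)).inv ≫ (X.hom ≫ Spec.map (CommRingCat.ofHom (algebraMap k K))).appTop) a = _
  rw [Scheme.Hom.comp_appTop, ← Scheme.ΓSpecIso_inv_naturality_assoc]
  rfl

section Gradings

variable {F : Type u} [Field F] {M : Type} [AddCommGroup M] [Fintype M] [DecidableEq M]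

/-- a grading by orthogonal idempotents -/
structure OrthIdem (P : M → Matrix (Fin m) (Fin m) F) : Prop where
  mul : ∀ a b, P a * P b = if a = b then P a else 0
  sum : ∑ a, P a = 1

lemma exists_ev {X : Over (Spec (CommRingCat.of F))} (t : X ⟶ Red.DS (Spec (CommRingCat.of F)) M) :
    ∃ ev : MonoidAlgebra F (Multiplicative M) →+* Γ(X.left, ⊤),
      ∀ a r, ev (MonoidAlgebra.single (Multiplicative.ofAdd a) r) = cst X r * dsFn t a :=
  ⟨MonoidAlgebra.liftNCRingHom (cst X)
    { toFun := fun g => dsFn t (Multiplicative.toAdd g)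
      map_one' := dsFn_zero t
      map_mul' := fun g g' => dsFn_add t _ _ }
    (fun _ _ => Commute.all _ _), fun _ _ => MonoidAlgebra.liftNC_single _ _ _ _⟩

lemma exists_taut_lift {X : Over (Spec (CommRingCat.of F))} (t : X ⟶ Red.DS (Spec (CommRingCat.of F)) M)
    (t₀ : sp F (MonoidAlgebra F (Multiplicative M)) ⟶ Red.DS (Spec (CommRingCat.of F)) M)
    (ht₀ : ∀ a, dsFn t₀ a = (Scheme.ΓSpecIso (CommRingCat.of (MonoidAlgebra F (Multiplicative M)))).inv
      (MonoidAlgebra.single (Multiplicative.ofAdd a) 1)) :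
    ∃ g : X ⟶ sp F (MonoidAlgebra F (Multiplicative M)), g ≫ t₀ = t ∧
      ∀ a r, g.left.appTop ((Scheme.ΓSpecIso (CommRingCat.of (MonoidAlgebra F (Multiplicative M)))).inv
        (MonoidAlgebra.single (Multiplicative.ofAdd a) r)) = cst X r * dsFn t a := by
  letI := gAlg X
  obtain ⟨ev, hev⟩ := exists_ev t
  let φ : MonoidAlgebra F (Multiplicative M) →ₐ[F] Γ(X.left, ⊤) :=
    { toRingHom := ev
      commutes' := fun r => by
        show ev (MonoidAlgebra.single (Multiplicative.ofAdd (0 : M)) r) = cst X r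
        rw [hev, dsFn_zero, _root_.mul_one] }
  have key : ∀ a r, (affPt X ≫ pt φ).left.appTop
      ((Scheme.ΓSpecIso (CommRingCat.of (MonoidAlgebra F (Multiplicative M)))).inv
        (MonoidAlgebra.single (Multiplicative.ofAdd a) r)) = cst X r * dsFn t a := fun a r => by
    rw [← hev]; exact coAlg_affPt_pt φ _
  refine ⟨_, dsFn_injective fun a => ?_, key⟩
  rw [dsFn_comp, ht₀, key, map_one, _root_.one_mul]

lemma exists_taut' : ∃ t₀ : sp F (MonoidAlgebra F (Multiplicative M)) ⟶ Red.DS (Spec (CommRingCat.of F)) M,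
    ∀ a, dsFn t₀ a = (Scheme.ΓSpecIso (CommRingCat.of (MonoidAlgebra F (Multiplicative M)))).inv
      (MonoidAlgebra.single (Multiplicative.ofAdd a) 1) :=
  dsFn_surjective (S := Spec (CommRingCat.of F)) (X := sp F (MonoidAlgebra F (Multiplicative M)))
    ((Scheme.ΓSpecIso (CommRingCat.of (MonoidAlgebra F (Multiplicative M)))).inv.hom.toMonoidHom.comp
      (MonoidAlgebra.of F _))

/-- matrices from a grading -/
def gradMat (P : M → Matrix (Fin m) (Fin m) F) {X : Over (Spec (CommRingCat.of F))}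
    (t : X ⟶ Red.DS (Spec (CommRingCat.of F)) M) : Matrix (Fin m) (Fin m) Γ(X.left, ⊤) :=
  ∑ a, dsFn t a • (P a).map (cst X)

lemma gradMat_injective {P Q : M → Matrix (Fin m) (Fin m) F}
    (h : ∀ (X : Over (Spec (CommRingCat.of F))) (t : X ⟶ Red.DS (Spec (CommRingCat.of F)) M), gradMat P t = gradMat Q t) :
    P = Q := by
  obtain ⟨t₀, ht₀⟩ := exists_taut' (F := F) (M := M)
  funext b
  ext i j
  let inv' := (Scheme.ΓSpecIso (CommRingCat.of (MonoidAlgebra F (Multiplicative M)))).inv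
  have hc : ∀ r, cst (sp F (MonoidAlgebra F (Multiplicative M))) r =
      inv' (MonoidAlgebra.single (Multiplicative.ofAdd (0 : M)) r) := fun r => by
    have h2 := congr($(Scheme.ΓSpecIso_inv_naturality (CommRingCat.ofHom (algebraMap F (MonoidAlgebra F (Multiplicative M))))) r)
    exact h2.symm
  have hP : ∀ P : M → Matrix (Fin m) (Fin m) F, gradMat P t₀ i j =
      inv' (∑ a, MonoidAlgebra.single (Multiplicative.ofAdd a) (P a i j)) := fun P => by
    rw [gradMat, Matrix.sum_apply, map_sum]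
    refine Finset.sum_congr rfl fun a _ => ?_
    rw [Matrix.smul_apply, Matrix.map_apply, ht₀, hc, smul_eq_mul]
    refine (map_mul inv'.hom _ _).symm.trans (congrArg inv' ?_)
    rw [MonoidAlgebra.single_mul_single, ← ofAdd_add, add_zero, _root_.one_mul]
  have := h _ t₀
  have := congrFun (congrFun this i) j
  rw [hP, hP] at this
  have h2 := congrArg (fun z : MonoidAlgebra F (Multiplicative M) => z.coeff (Multiplicative.ofAdd b))
    ((ConcreteCategory.bijective_of_isIso inv').1 this)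
  simpa [MonoidAlgebra.coeff_sum, Finsupp.single_apply, Finsupp.finset_sum_apply] using h2

/-- homomorphisms from `D(M)` to matrices are gradings -/
theorem exists_grading
    (fn : ∀ (X : Over (Spec (CommRingCat.of F))), (X ⟶ Red.DS (Spec (CommRingCat.of F)) M) → Matrix (Fin m) (Fin m) Γ(X.left, ⊤))
    (hc : ∀ (X Y : Over (Spec (CommRingCat.of F))) (g : Y ⟶ X) t, fn Y (g ≫ t) = (fn X t).map g.left.appTop)
    (hm : ∀ X t t', fn X (t * t') = fn X t * fn X t') (h1 : ∀ X, fn X 1 = 1) :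
    ∃ P : M → Matrix (Fin m) (Fin m) F, OrthIdem P ∧ ∀ X t, fn X t = gradMat P t := by
  obtain ⟨t₀, ht₀⟩ := exists_taut' (F := F) (M := M)
  let R₀ := MonoidAlgebra F (Multiplicative M)
  have hsurj := fun i j => (ConcreteCategory.bijective_of_isIso (Scheme.ΓSpecIso (CommRingCat.of R₀)).inv).2
    (fn (sp F R₀) t₀ i j)
  choose A hA using hsurj
  let P : M → Matrix (Fin m) (Fin m) F := fun a i j => MonoidAlgebra.coeff (A i j : R₀) (Multiplicative.ofAdd a)
  have hfn : ∀ X t, fn X t = gradMat P t := by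
    intro X t
    obtain ⟨g, hg, hgv⟩ := exists_taut_lift t t₀ ht₀
    rw [← hg, hc]
    ext i j
    rw [Matrix.map_apply, ← hA i j, gradMat, Matrix.sum_apply]
    have e : A i j = ∑ a : M, MonoidAlgebra.single (Multiplicative.ofAdd a) (P a i j) := by
      refine MonoidAlgebra.ext (Finsupp.ext fun b => ?_)
      obtain ⟨b, rfl⟩ := Multiplicative.ofAdd.surjective b
      simp [P, MonoidAlgebra.coeff_sum, Finsupp.single_apply, Finsupp.finset_sum_apply]
    conv_lhs => rw [e]
    erw [map_sum, map_sum]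
    refine Finset.sum_congr rfl fun a _ => ?_
    rw [hgv, Matrix.smul_apply, Matrix.map_apply, smul_eq_mul, _root_.mul_comm, hg]
  refine ⟨P, ⟨fun a b => ?_, ?_⟩, hfn⟩
  · let R₂ := MonoidAlgebra F (Multiplicative (M × M))
    let inv₂ := (Scheme.ΓSpecIso (CommRingCat.of R₂)).inv
    have hc₂ : ∀ r, cst (sp F R₂) r = inv₂ (MonoidAlgebra.single (Multiplicative.ofAdd (0 : M × M)) r) := fun r => by
      have h2 := congr($(Scheme.ΓSpecIso_inv_naturality (CommRingCat.ofHom (algebraMap F R₂))) r)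
      exact h2.symm
    obtain ⟨t₁, ht₁⟩ := dsFn_surjective (S := Spec (CommRingCat.of F)) (X := sp F R₂) (M := M)
      (inv₂.hom.toMonoidHom.comp ((MonoidAlgebra.of F _).comp (AddMonoidHom.toMultiplicative (AddMonoidHom.inl M M))))
    obtain ⟨t₂, ht₂⟩ := dsFn_surjective (S := Spec (CommRingCat.of F)) (X := sp F R₂) (M := M)
      (inv₂.hom.toMonoidHom.comp ((MonoidAlgebra.of F _).comp (AddMonoidHom.toMultiplicative (AddMonoidHom.inr M M))))
    have key := hm _ t₁ t₂
    rw [hfn, hfn, hfn] at key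
    ext i j
    have e := congrFun (congrFun key i) j
    let ι₂ : R₂ →+* Γ((sp F R₂).left, ⊤) := inv₂.hom
    have h₁ : ∀ a, dsFn t₁ a = ι₂ (MonoidAlgebra.single (Multiplicative.ofAdd (a, (0 : M))) 1) := fun a => ht₁ a
    have h₂ : ∀ a, dsFn t₂ a = ι₂ (MonoidAlgebra.single (Multiplicative.ofAdd ((0 : M), a)) 1) := fun a => ht₂ a
    have hc₃ : ∀ r, cst (sp F R₂) r = ι₂ (MonoidAlgebra.single (Multiplicative.ofAdd (0 : M × M)) r) := hc₂
    have hdiag : ∀ x r, ι₂ (MonoidAlgebra.single (Multiplicative.ofAdd (x, (0 : M))) (1 : F)) *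
        ι₂ (MonoidAlgebra.single (Multiplicative.ofAdd ((0 : M), x)) 1) *
        ι₂ (MonoidAlgebra.single (Multiplicative.ofAdd (0 : M × M)) r) =
        ι₂ (MonoidAlgebra.single (Multiplicative.ofAdd (x, x)) r) := fun x r => by
      rw [← map_mul, ← map_mul, MonoidAlgebra.single_mul_single, MonoidAlgebra.single_mul_single]
      simp [← ofAdd_add]
    have hpair : ∀ x y r r', ι₂ (MonoidAlgebra.single (Multiplicative.ofAdd (x, (0 : M))) (1 : F)) *
        ι₂ (MonoidAlgebra.single (Multiplicative.ofAdd (0 : M × M)) r) *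
        (ι₂ (MonoidAlgebra.single (Multiplicative.ofAdd ((0 : M), y)) (1 : F)) *
          ι₂ (MonoidAlgebra.single (Multiplicative.ofAdd (0 : M × M)) r')) =
        ι₂ (MonoidAlgebra.single (Multiplicative.ofAdd (x, y)) (r * r')) := fun x y r r' => by
      rw [← map_mul, ← map_mul, ← map_mul, MonoidAlgebra.single_mul_single, MonoidAlgebra.single_mul_single,
        MonoidAlgebra.single_mul_single]
      simp [← ofAdd_add]
    have hsum : ∀ {τ : Type} (s : Finset τ) (f : τ → R₂), ∑ x ∈ s, ι₂ (f x) = ι₂ (∑ x ∈ s, f x) :=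
      fun s f => (map_sum ι₂ f s).symm
    simp only [gradMat, Matrix.sum_apply, Matrix.mul_apply, Matrix.smul_apply, Matrix.map_apply, dsFn_mul, h₁, h₂,
      hc₃, smul_eq_mul, Finset.sum_mul, Finset.mul_sum, hdiag, hpair, hsum] at e
    have hι : Function.Injective ι₂ := (ConcreteCategory.bijective_of_isIso inv₂).1
    have h2 := congrArg (fun z : R₂ => MonoidAlgebra.coeff z (Multiplicative.ofAdd (a, b))) (hι e)
    dsimp only [R₂] at h2
    simp [MonoidAlgebra.coeff_sum, Finsupp.single_apply, Finsupp.finset_sum_apply, Finset.sum_ite_eq', Prod.mk.injEq, ite_and] at h2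
    rw [Matrix.mul_apply, ← h2]
    by_cases hab : a = b
    · subst hab; simp
    · simp [hab]
  · have h := h1 (sp F F)
    rw [hfn] at h
    ext i j
    have e := congrFun (congrFun h i) j
    simp only [gradMat, Matrix.sum_apply, Matrix.smul_apply, Matrix.map_apply, dsFn_one, _root_.one_smul,
      ← map_sum] at e
    rw [Matrix.sum_apply]
    have hid : cst (sp F F) = (Scheme.ΓSpecIso (CommRingCat.of F)).inv.hom :=
      RingHom.ext fun r => by
        have h2 := congr($(Scheme.ΓSpecIso_inv_naturality (CommRingCat.ofHom (algebraMap F F))) r)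
        exact h2.symm
    have hinj : Function.Injective (cst (sp F F)) := by
      rw [hid]; exact (ConcreteCategory.bijective_of_isIso (Scheme.ΓSpecIso (CommRingCat.of F)).inv).1
    refine hinj (e.trans ?_)
    by_cases hij : i = j <;> simp [Matrix.one_apply, hij]

lemma OrthIdem.exists_diagonal {P : M → Matrix (Fin m) (Fin m) F} (hP : OrthIdem P) :
    ∃ (d : Fin m → M) (g g' : Matrix (Fin m) (Fin m) F), g * g' = 1 ∧ g' * g = 1 ∧
      ∀ a, g * P a * g' = Matrix.diagonal fun i => if d i = a then 1 else 0 := by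
  let L : M → Module.End F (Fin m → F) := fun a => Matrix.toLin' (P a)
  have hmul : ∀ a b x, L a (L b x) = if a = b then L a x else 0 := fun a b x => by
    show Matrix.toLin' (P a) (Matrix.toLin' (P b) x) = _
    rw [← LinearMap.comp_apply, ← Matrix.toLin'_mul, hP.mul]
    split_ifs <;> simp [L]
  let V : M → Submodule F (Fin m → F) := fun a => LinearMap.range (L a)
  have hfix : ∀ a x, x ∈ V a → L a x = x := by
    rintro a _ ⟨y, rfl⟩; rw [hmul, if_pos rfl]
  have hkill : ∀ a b x, a ≠ b → x ∈ V b → L a x = 0 := by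
    rintro a b _ hab ⟨y, rfl⟩; rw [hmul, if_neg hab]
  have hint : DirectSum.IsInternal V := by
    rw [DirectSum.isInternal_submodule_iff_iSupIndep_and_iSup_eq_top]
    constructor
    · intro a
      rw [Submodule.disjoint_def]
      intro x hx hx'
      rw [← hfix a x hx]
      have : ⨆ (b) (_ : b ≠ a), V b ≤ LinearMap.ker (L a) :=
        iSup₂_le fun b hb y hy => hkill a b y (Ne.symm hb) hy
      exact this hx'
    · rw [eq_top_iff]
      intro x _
      have : x = ∑ a, L a x := by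
        simp only [L, ← LinearMap.sum_apply, ← map_sum, hP.sum, Matrix.toLin'_one, LinearMap.id_apply]
      rw [this]
      exact Submodule.sum_mem _ fun a _ => Submodule.mem_iSup_of_mem a ⟨x, rfl⟩
  let v : ∀ a, Module.Basis (Fin (Module.finrank F (V a))) F (V a) := fun a => Module.finBasis F (V a)
  let B := hint.collectedBasis v
  let e : (Σ a, Fin (Module.finrank F (V a))) ≃ Fin m := B.indexEquiv (Pi.basisFun F (Fin m))
  let b := B.reindex e
  let d : Fin m → M := fun i => (e.symm i).1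
  have hb : ∀ i, b i ∈ V (d i) := fun i => by
    simp only [b, Module.Basis.reindex_apply]
    exact hint.collectedBasis_mem v (e.symm i)
  refine ⟨d, b.toMatrix (Pi.basisFun F (Fin m)), (Pi.basisFun F (Fin m)).toMatrix b, b.toMatrix_mul_toMatrix_flip _,
    (Pi.basisFun F (Fin m)).toMatrix_mul_toMatrix_flip _, fun a => ?_⟩
  have hPa : P a = LinearMap.toMatrix (Pi.basisFun F (Fin m)) (Pi.basisFun F (Fin m)) (L a) := by
    rw [LinearMap.toMatrix_eq_toMatrix', LinearMap.toMatrix'_toLin']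
  rw [hPa, basis_toMatrix_mul_linearMap_toMatrix_mul_basis_toMatrix]
  ext i j
  rw [LinearMap.toMatrix_apply]
  by_cases h : d j = a
  · rw [hfix a _ (h ▸ hb j), Module.Basis.repr_self]
    simp [Matrix.diagonal, Finsupp.single_apply]
    aesop
  · rw [hkill a (d j) _ (Ne.symm h) (hb j), map_zero]
    simp [Matrix.diagonal]
    aesop

end Gradings

end Groth.Agent.AlgGrp79.GLnDiag

namespace Groth.Agent.AlgGrp79.GLnDiag

variable {k : Type u} [Field k] {m : ℕ} {M : Type} [AddCommGroup M]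
variable {K : Type u} [Field K] [Algebra k K]

/-- the base map -/
abbrev fm (k K : Type u) [Field k] [Field K] [Algebra k K] : Spec (CommRingCat.of K) ⟶ Spec (CommRingCat.of k) :=
  Spec.map (CommRingCat.ofHom (algebraMap k K))

lemma exists_bcDS : ∃ χ : Red.DS (Spec (CommRingCat.of K)) M ≅ Red.bc (fm k K) (Red.DS (Spec (CommRingCat.of k)) M),
    ∀ (X : Over (Spec (CommRingCat.of K))),
      (∀ (t : X ⟶ Red.DS (Spec (CommRingCat.of K)) M) a, dsFn (toBase (fm k K) (t ≫ χ.hom)) a = dsFn t a) ∧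
      (∀ (t : X ⟶ Red.bc (fm k K) (Red.DS (Spec (CommRingCat.of k)) M)) a, dsFn (t ≫ χ.inv) a = dsFn (toBase (fm k K) t) a) := by
  obtain ⟨u, hu⟩ := dsFn_surjective (S := Spec (CommRingCat.of k)) (M := M)
    (X := (Over.map (fm k K)).obj (Red.DS (Spec (CommRingCat.of K)) M))
    { toFun := fun g => (dsFn (𝟙 (Red.DS (Spec (CommRingCat.of K)) M)) (Multiplicative.toAdd g) :)
      map_one' := dsFn_zero _
      map_mul' := fun g g' => dsFn_add _ _ _ }
  obtain ⟨v, hv⟩ := dsFn_surjective (S := Spec (CommRingCat.of K)) (M := M)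
    (X := Red.bc (fm k K) (Red.DS (Spec (CommRingCat.of k)) M))
    { toFun := fun g => (dsFn (toBase (fm k K) (𝟙 (Red.bc (fm k K) (Red.DS (Spec (CommRingCat.of k)) M)))) (Multiplicative.toAdd g) :)
      map_one' := dsFn_zero _
      map_mul' := fun g g' => dsFn_add _ _ _ }
  have h1 : ∀ (X : Over (Spec (CommRingCat.of K))) (t : X ⟶ Red.DS (Spec (CommRingCat.of K)) M) a,
      dsFn (toBase (fm k K) (t ≫ ofBase (fm k K) u)) a = dsFn t a := fun X t a => by
    rw [toBase_comp, toBase_ofBase, dsFn_comp, hu]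
    exact (dsFn_comp t (𝟙 _) a).symm.trans (congrArg (dsFn · a) (Category.comp_id t))
  have h2 : ∀ (X : Over (Spec (CommRingCat.of K))) (t : X ⟶ Red.bc (fm k K) (Red.DS (Spec (CommRingCat.of k)) M)) a,
      dsFn (t ≫ v) a = dsFn (toBase (fm k K) t) a := fun X t a => by
    rw [dsFn_comp, hv]
    refine ((dsFn_comp ((Over.map (fm k K)).map t) (toBase (fm k K) (𝟙 _)) a).symm.trans ?_)
    rw [← toBase_comp, Category.comp_id]
  refine ⟨⟨ofBase (fm k K) u, v, ?_, ?_⟩, fun X => ⟨h1 X, h2 X⟩⟩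
  · refine dsFn_injective fun a => ?_
    rw [h2]
    have := h1 _ (𝟙 _) a
    rwa [Category.id_comp] at this
  · apply toBase_injective
    refine dsFn_injective fun a => ?_
    rw [h1]
    have := h2 _ (𝟙 _) a
    rwa [Category.id_comp] at this

variable [Fintype M] [DecidableEq M]

/-- the matrix of `diag d` -/
abbrev dP (d : Fin m → M) {F : Type u} [Field F] (a : M) : Matrix (Fin m) (Fin m) F :=
  Matrix.diagonal fun i => if d i = a then 1 else 0

lemma gradMat_dP (d : Fin m → M) {X : Over (Spec (CommRingCat.of k))}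
    (t : X ⟶ Red.DS (Spec (CommRingCat.of k)) M) :
    gradMat (dP d) t = Matrix.diagonal fun i => dsFn t (d i) := by
  ext i j
  simp only [gradMat, Matrix.sum_apply, Matrix.smul_apply, Matrix.map_apply, dP, Matrix.diagonal_apply, smul_eq_mul]
  by_cases h : i = j
  · simp [h, apply_ite (cst X)]
  · simp [h]

lemma gradMat_conj (P : M → Matrix (Fin m) (Fin m) k) (g g' : Matrix (Fin m) (Fin m) k) {X : Over (Spec (CommRingCat.of k))}
    (t : X ⟶ Red.DS (Spec (CommRingCat.of k)) M) :
    gradMat (fun a => g * P a * g') t = g.map (cst X) * gradMat P t * g'.map (cst X) := by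
  simp only [gradMat, Finset.mul_sum, Finset.sum_mul, Matrix.map_mul, Matrix.mul_smul, Matrix.smul_mul]

/-- the diagonal homomorphism -/
lemma exists_diagHom (d : Fin m → M) :
    ∃ (i : Red.DS (Spec (CommRingCat.of k)) M ⟶ sp k (GLn m k)) (_ : IsMonHom i),
      ∀ (X : Over (Spec (CommRingCat.of k))) (t : X ⟶ Red.DS (Spec (CommRingCat.of k)) M),
        glFn (t ≫ i) = Matrix.diagonal fun l => dsFn t (d l) := by
  obtain ⟨i, hi⟩ := glFn_surjective (k := k) (m := m) (X := Red.DS (Spec (CommRingCat.of k)) M)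
    (Matrix.diagonal fun l => dsFn (𝟙 (Red.DS (Spec (CommRingCat.of k)) M)) (d l)) (by
      rw [Matrix.det_diagonal]
      exact IsUnit.prod_iff.2 fun l _ => dsFn_isUnit _ _)
  have h : ∀ (X : Over (Spec (CommRingCat.of k))) (t : X ⟶ Red.DS (Spec (CommRingCat.of k)) M),
      glFn (t ≫ i) = Matrix.diagonal fun l => dsFn t (d l) := fun X t => by
    rw [glFn_comp, hi, Matrix.diagonal_map (map_zero _)]
    congr 1
  refine ⟨i, isMonHom_of_points i fun X x y => glFn_injective ?_, h⟩
  rw [glFn_mul, h, h, h, Matrix.diagonal_mul_diagonal]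
  simp [dsFn_mul]

lemma exists_grading_hom {F : Type u} [Field F] [Algebra k F] (i : Red.DS (Spec (CommRingCat.of F)) M ⟶ Red.bc (fm k F) (sp k (GLn m k)))
    [IsMonHom i] :
    ∃ P : M → Matrix (Fin m) (Fin m) F, OrthIdem P ∧
      ∀ (X : Over (Spec (CommRingCat.of F))) (t : X ⟶ Red.DS (Spec (CommRingCat.of F)) M),
        glFn (toBase (fm k F) (t ≫ i)) = gradMat P t :=
  exists_grading (fun _ t => (glFn (toBase (fm k F) (t ≫ i)) :))
    (fun X Y g t => by rw [Category.assoc, toBase_comp, glFn_comp]; rfl)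
    (fun X t t' => by rw [mul_comp', toBase_mul, glFn_mul])
    (fun X => by
      rw [MonObj.one_comp]
      have h := toBase_mul (fm k F) (1 : X ⟶ Red.bc (fm k F) (sp k (GLn m k))) 1
      rw [_root_.one_mul] at h
      rw [mul_eq_left.1 h.symm, glFn_one])

lemma exists_grading_hom' (i : Red.DS (Spec (CommRingCat.of k)) M ⟶ sp k (GLn m k)) [IsMonHom i] :
    ∃ P : M → Matrix (Fin m) (Fin m) k, OrthIdem P ∧
      ∀ (X : Over (Spec (CommRingCat.of k))) (t : X ⟶ Red.DS (Spec (CommRingCat.of k)) M),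
        glFn (t ≫ i) = gradMat P t :=
  exists_grading (fun _ t => glFn (t ≫ i))
    (fun X Y g t => by rw [Category.assoc, glFn_comp])
    (fun X t t' => by rw [mul_comp', glFn_mul])
    (fun X => by rw [MonObj.one_comp, glFn_one])

lemma exists_ratPt (f : Matrix (Fin m) (Fin m) k) (hf : IsUnit f.det) :
    ∃ x : 𝟙_ (Over (Spec (CommRingCat.of k))) ⟶ sp k (GLn m k),
      glFn x = f.map (cst (𝟙_ (Over (Spec (CommRingCat.of k))))) :=
  glFn_surjective _ (by rw [← RingHom.mapMatrix_apply, ← RingHom.map_det]; exact hf.map _)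

lemma glFn_toUnit {X : Over (Spec (CommRingCat.of k))} (x : 𝟙_ (Over (Spec (CommRingCat.of k))) ⟶ sp k (GLn m k))
    (f : Matrix (Fin m) (Fin m) k) (hx : glFn x = f.map (cst _)) : glFn (toUnit X ≫ x) = f.map (cst X) := by
  rw [glFn_comp, hx, Matrix.map_map]
  congr 1

lemma exists_ratPt_bc (f : Matrix (Fin m) (Fin m) K) (hf : IsUnit f.det) :
    ∃ x : 𝟙_ (Over (Spec (CommRingCat.of K))) ⟶ Red.bc (fm k K) (sp k (GLn m k)),
      ∀ X : Over (Spec (CommRingCat.of K)), glFn (toBase (fm k K) (toUnit X ≫ x)) = f.map (cst X) := by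
  obtain ⟨p, hp⟩ := glFn_surjective (k := k) (X := (Over.map (fm k K)).obj (𝟙_ (Over (Spec (CommRingCat.of K)))))
    (f.map (cst (𝟙_ (Over (Spec (CommRingCat.of K)))))) (by
      rw [← RingHom.mapMatrix_apply, ← RingHom.map_det]; exact hf.map _)
  refine ⟨ofBase (fm k K) p, fun X => ?_⟩
  rw [toBase_comp, toBase_ofBase, glFn_comp, hp]
  ext a b
  exact comp_cst (toUnit X) (f a b)

lemma glFn_conj {X : Over (Spec (CommRingCat.of k))} (x y : X ⟶ sp k (GLn m k)) (A : Matrix (Fin m) (Fin m) Γ(X.left, ⊤))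
    (hA : glFn x * A = 1) : glFn (x * y * x⁻¹) = glFn x * glFn y * A := by
  have h2 : glFn x⁻¹ = A := by
    refine left_inv_eq_right_inv ?_ hA
    rw [← glFn_mul, inv_mul_cancel, glFn_one]
  rw [glFn_mul, glFn_mul, h2]

lemma toBase_inv' {X : Over (Spec (CommRingCat.of K))} (x : X ⟶ Red.bc (fm k K) (sp k (GLn m k))) :
    toBase (fm k K) x⁻¹ = (toBase (fm k K) x)⁻¹ := by
  refine eq_inv_of_mul_eq_one_left ?_
  rw [← toBase_mul, inv_mul_cancel]
  have h := toBase_mul (fm k K) (1 : X ⟶ Red.bc (fm k K) (sp k (GLn m k))) 1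
  rw [_root_.one_mul] at h
  exact mul_eq_left.1 h.symm

lemma glFn_toBase_conjBy {T X : Over (Spec (CommRingCat.of K))} (x : 𝟙_ (Over (Spec (CommRingCat.of K))) ⟶ Red.bc (fm k K) (sp k (GLn m k)))
    (f f' : Matrix (Fin m) (Fin m) K) (hx : ∀ X : Over (Spec (CommRingCat.of K)), glFn (toBase (fm k K) (toUnit X ≫ x)) = f.map (cst X))
    (hf : f * f' = 1) (i : T ⟶ Red.bc (fm k K) (sp k (GLn m k))) (t : X ⟶ T) :
    glFn (toBase (fm k K) (t ≫ AGF.conjBy x i)) =
      f.map (cst X) * (@id (Matrix (Fin m) (Fin m) Γ(X.left, ⊤)) (glFn (toBase (fm k K) (t ≫ i)) :)) * f'.map (cst X) := by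
  rw [MonObj.comp_mul, MonObj.comp_mul, GrpObj.comp_inv, ← Category.assoc, toUnit_unique (t ≫ toUnit T) (toUnit X),
    toBase_mul, toBase_mul, toBase_inv']
  have h1 := glFn_conj (toBase (fm k K) (toUnit X ≫ x)) (toBase (fm k K) (t ≫ i))
  have hA := hx X
  generalize toBase (fm k K) (toUnit X ≫ x) = a at *
  generalize toBase (fm k K) (t ≫ i) = b at *
  rw [h1 (f'.map (cst X))]
  · rw [hA]; rfl
  · rw [hA]; exact (Matrix.map_mul (f := cst X)).symm.trans (by rw [hf, Matrix.map_one _ (map_zero _) (map_one _)])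

/-- rationality of diagonalisable subgroups -/
theorem exists_descent (σ' : Over (Spec (CommRingCat.of K))) [GrpObj σ']
    (i' : σ' ⟶ Red.bc (fm k K) (sp k (GLn m k))) [IsMonHom i'] (hi' : IsClosedImmersion i'.left)
    (e : Grp.mk σ' ≅ Grp.mk (Red.DS (Spec (CommRingCat.of K)) M)) :
    ∃ (i : Red.DS (Spec (CommRingCat.of k)) M ⟶ sp k (GLn m k)) (_ : IsMonHom i), IsClosedImmersion i.left ∧
      ∃ (g : 𝟙_ (Over (Spec (CommRingCat.of K))) ⟶ Red.bc (fm k K) (sp k (GLn m k)))
        (φ : σ' ≅ Red.bc (fm k K) (Red.DS (Spec (CommRingCat.of k)) M)),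
        AGF.conjBy g i' = φ.hom ≫ (Over.pullback (fm k K)).map i := by
  let e' : σ' ≅ Red.DS (Spec (CommRingCat.of K)) M := (Grp.forget _).mapIso e
  have : IsMonHom e'.inv := e.inv.hom.isMonHom_hom
  obtain ⟨P, hP, hfn⟩ := exists_grading_hom (k := k) (e'.inv ≫ i')
  obtain ⟨d, f, f', hff', hf'f, hd⟩ := hP.exists_diagonal
  obtain ⟨i, hi, hdi⟩ := exists_diagHom (k := k) d
  obtain ⟨χ, hχ⟩ := exists_bcDS (k := k) (K := K) (M := M)
  obtain ⟨g, hg⟩ := exists_ratPt_bc (k := k) f (Matrix.isUnit_det_of_right_inverse hff')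
  have key : AGF.conjBy g i' = (e' ≪≫ χ).hom ≫ (Over.pullback (fm k K)).map i := by
    rw [← cancel_epi e'.inv, Iso.trans_hom, Category.assoc, Iso.inv_hom_id_assoc]
    apply toBase_injective
    apply glFn_injective
    rw [glFn_toBase_conjBy g f f' hg hff' i' e'.inv, ← Category.id_comp (e'.inv ≫ i'), hfn, id_eq,
      ← gradMat_conj, show (fun a => f * P a * f') = dP d from funext hd, gradMat_dP, toBase_comp_map, hdi]
    congr 1
    funext l
    rw [← (hχ _).1 (𝟙 _) (d l), Category.id_comp]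
  refine ⟨i, hi, ?_, g, e' ≪≫ χ, key⟩
  have hci : IsClosedImmersion ((Over.pullback (fm k K)).map i).left := by
    have e1 : (Over.pullback (fm k K)).map i = (e' ≪≫ χ).inv ≫ AGF.conjBy g i' := by
      rw [key, Iso.inv_hom_id_assoc]
    have h1 : AGF.conjBy g i' = i' ≫ AGF.conjBy g (𝟙 _) := by
      simp [MonObj.comp_mul, GrpObj.comp_inv, ← Category.assoc, toUnit_unique (i' ≫ toUnit _) (toUnit σ')]
    have : IsIso (AGF.conjBy g (𝟙 (Red.bc (fm k K) (sp k (GLn m k))))) := by
      have hc : ∀ x y : 𝟙_ (Over (Spec (CommRingCat.of K))) ⟶ Red.bc (fm k K) (sp k (GLn m k)),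
          AGF.conjBy x (𝟙 _) ≫ AGF.conjBy y (𝟙 _) = AGF.conjBy (y * x) (𝟙 _) := fun x y => by
        simp only [AGF.conjBy, MonObj.comp_mul, GrpObj.comp_inv, Category.comp_id, ← Category.assoc, mul_inv_rev,
          toUnit_unique (((toUnit _ ≫ x) * 𝟙 _ * (toUnit _ ≫ x)⁻¹) ≫ toUnit _) (toUnit (Red.bc (fm k K) (sp k (GLn m k))))]
        group
      have h1' : AGF.conjBy (1 : 𝟙_ (Over (Spec (CommRingCat.of K))) ⟶ Red.bc (fm k K) (sp k (GLn m k))) (𝟙 _) = 𝟙 _ := by
        simp only [AGF.conjBy, MonObj.comp_one]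
        group
      refine ⟨AGF.conjBy g⁻¹ (𝟙 _), ?_, ?_⟩ <;> rw [hc]
      · rw [inv_mul_cancel, h1']
      · rw [mul_inv_cancel, h1']
    rw [e1, h1, Over.comp_left, Over.comp_left]
    have hz : IsIso (e' ≪≫ χ).inv.left := ((Over.forget _).mapIso (e' ≪≫ χ)).isIso_inv
    have hz' : IsIso (AGF.conjBy g (𝟙 (Red.bc (fm k K) (sp k (GLn m k))))).left :=
      (Over.forget (Spec (CommRingCat.of K))).map_isIso (AGF.conjBy g (𝟙 (Red.bc (fm k K) (sp k (GLn m k)))))
    infer_instance
  have hflat : Flat (fm k K) := by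
    rw [HasRingHomProperty.Spec_iff (P := @Flat)]
    exact RingHom.flat_algebraMap_iff.2 (inferInstance : Module.Flat k K)
  have hqc : QuasiCompact (fm k K) := inferInstance
  have hs : Surjective (fm k K) := ⟨fun _ => ⟨IsLocalRing.closedPoint K, Subsingleton.elim (α := PrimeSpectrum k) _ _⟩⟩
  haveI := Unr55.isClosedImmersion.{u}
  refine MorphismProperty.of_isPullback_of_descendsAlong (P := @IsClosedImmersion) (Q := Unr55.fpqc)
    (map_left_isPullback (fm k K) i).flip ⟨⟨?_, ?_⟩, ?_⟩ hci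
  · exact MorphismProperty.pullback_fst (P := @Surjective) _ _ hs
  · exact MorphismProperty.pullback_fst (P := @Flat) _ _ hflat
  · exact MorphismProperty.pullback_fst (P := @QuasiCompact) _ _ hqc

lemma dP_mul (d : Fin m → M) {F : Type u} [Field F] (a : M) :
    (dP d a : Matrix (Fin m) (Fin m) F).rank = Fintype.card {i // d i = a} := by
  classical
  rw [Matrix.rank_diagonal]
  exact Fintype.card_congr (Equiv.subtypeEquivRight fun i => by simp)

end Groth.Agent.AlgGrp79.GLnDiag
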