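import Groth.Agent.AlgGrp79.GLnDiag
import Groth.Agent.RedPts82.Points
import Mathlib.AlgebraicGeometry.Morphisms.Flat
import Mathlib.LinearAlgebra.TensorProduct.Basis

/-!
Global functions on a product over a field: `Γ(G × T) = Γ(G) ⊗ Γ(T)`.
-/

set_option autoImplicit false
set_option backward.isDefEq.respectTransparency.types false
universe u

open CategoryTheory CategoryTheory.Limits MonoidalCategory CartesianMonoidalCategory MonObj AlgebraicGeometry
open scoped TensorProduct

noncomputable section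

namespace Groth.Agent.AlgGrp79.ProdSections

open GLnDiag

attribute [local instance] GLnDiag.gAlg

variable {k : Type u} [Field k]

/-- pullback of global functions -/
def pb {A P : Over (Spec (CommRingCat.of k))} (f : P ⟶ A) : Γ(A.left, ⊤) →ₐ[k] Γ(P.left, ⊤) :=
  { f.left.appTop.hom with commutes' := fun r => comp_cst f r }

lemma pb_apply {A P : Over (Spec (CommRingCat.of k))} (f : P ⟶ A) (a : Γ(A.left, ⊤)) : pb f a = f.left.appTop a := rfl

lemma pb_id (A : Over (Spec (CommRingCat.of k))) : pb (𝟙 A) = AlgHom.id k _ :=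
  AlgHom.ext fun a => by simp [pb_apply]

lemma pb_comp {A B P : Over (Spec (CommRingCat.of k))} (g : P ⟶ B) (f : B ⟶ A) : pb (g ≫ f) = (pb g).comp (pb f) :=
  AlgHom.ext fun a => by simp [pb_apply, Scheme.Hom.comp_appTop]

lemma pb_comp_apply {A B P : Over (Spec (CommRingCat.of k))} (g : P ⟶ B) (f : B ⟶ A) (a : Γ(A.left, ⊤)) :
    pb (g ≫ f) a = pb g (pb f a) := by rw [pb_comp]; rfl

/-- evaluation at a pair of points -/
def ev {G X P : Over (Spec (CommRingCat.of k))} (g : P ⟶ G) (x : P ⟶ X) :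
    Γ(G.left, ⊤) ⊗[k] Γ(X.left, ⊤) →ₐ[k] Γ(P.left, ⊤) :=
  Algebra.TensorProduct.lift (pb g) (pb x) fun _ _ => Commute.all _ _

lemma ev_tmul {G X P : Over (Spec (CommRingCat.of k))} (g : P ⟶ G) (x : P ⟶ X) (a : Γ(G.left, ⊤)) (b : Γ(X.left, ⊤)) :
    ev g x (a ⊗ₜ b) = pb g a * pb x b := Algebra.TensorProduct.lift_tmul _ _ _ a b

lemma pb_ev {G X P Q : Over (Spec (CommRingCat.of k))} (s : Q ⟶ P) (g : P ⟶ G) (x : P ⟶ X) :
    (pb s).comp (ev g x) = ev (s ≫ g) (s ≫ x) := by
  refine Algebra.TensorProduct.ext' fun a b => ?_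
  simp [ev_tmul, pb_comp_apply]

lemma pb_ev_apply {G X P Q : Over (Spec (CommRingCat.of k))} (s : Q ⟶ P) (g : P ⟶ G) (x : P ⟶ X)
    (z : Γ(G.left, ⊤) ⊗[k] Γ(X.left, ⊤)) : pb s (ev g x z) = ev (s ≫ g) (s ≫ x) z :=
  congr($(pb_ev s g x) z)

lemma ev_map {G X P A B : Over (Spec (CommRingCat.of k))} (g : P ⟶ G) (x : P ⟶ X) (φ : G ⟶ A) (ψ : X ⟶ B) :
    (ev g x).comp (Algebra.TensorProduct.map (pb φ) (pb ψ)) = ev (g ≫ φ) (x ≫ ψ) := by
  refine Algebra.TensorProduct.ext' fun a b => ?_
  simp [ev_tmul, pb_comp_apply]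

lemma ev_bijective_of_isAffine (G T : Over (Spec (CommRingCat.of k))) [QuasiCompact G.hom] [QuasiSeparated G.hom]
    [IsAffine T.left] : Function.Bijective (ev (fst G T) (snd G T)) := by
  have : CompactSpace G.left := QuasiCompact.compactSpace_of_compactSpace G.hom
  have : QuasiSeparatedSpace G.left := quasiSeparatedSpace_of_quasiSeparated G.hom
  have : Flat T.hom := by
    rw [HasRingHomProperty.iff_of_isAffine (P := @Flat)]
    show (T.hom.appTop).hom.Flat
    have : IsIso (Scheme.ΓSpecIso (CommRingCat.of k)).hom := inferInstance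
    algebraize [T.hom.appTop.hom]
    have e := (Scheme.ΓSpecIso (CommRingCat.of k)).commRingCatIsoToRingEquiv
    letI : Field Γ(Spec (CommRingCat.of k), ⊤) := (e.toMulEquiv.isField (Field.toIsField k)).toField
    exact Module.Flat.of_free
  have hiso := isIso_pushoutSection_of_isQuasiSeparated_of_flat_right (IsPullback.of_hasPullback G.hom T.hom)
    (US := ⊤) (UT := ⊤) (UX := ⊤) (UY := ⊤) le_top le_top (by simp) (isAffineOpen_top _) (isAffineOpen_top _)
    isCompact_univ (IsQuasiSeparated.of_quasiSeparatedSpace _)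
  have hpo := (isIso_pushoutSection_iff (IsPullback.of_hasPullback G.hom T.hom) (US := ⊤) (UT := ⊤) (UX := ⊤)
    (UY := ⊤) le_top le_top (by simp)).1 hiso
  have h1 : IsPushout (CommRingCat.ofHom (algebraMap k Γ(G.left, ⊤))) (CommRingCat.ofHom (algebraMap k Γ(T.left, ⊤)))
      (fst G T).left.appTop (snd G T).left.appTop := by
    refine IsPushout.of_iso hpo (Scheme.ΓSpecIso (CommRingCat.of k)) (Iso.refl _) (Iso.refl _) (Iso.refl _) ?_ ?_ ?_ ?_
    · simp only [Iso.refl_hom, Category.comp_id]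
      show _ = (Scheme.ΓSpecIso (CommRingCat.of k)).hom ≫ (Scheme.ΓSpecIso (CommRingCat.of k)).inv ≫ G.hom.appTop
      rw [Iso.hom_inv_id_assoc]
      exact (Scheme.Hom.app_eq_appLE _).symm
    · simp only [Iso.refl_hom, Category.comp_id]
      show _ = (Scheme.ΓSpecIso (CommRingCat.of k)).hom ≫ (Scheme.ΓSpecIso (CommRingCat.of k)).inv ≫ T.hom.appTop
      rw [Iso.hom_inv_id_assoc]
      exact (Scheme.Hom.app_eq_appLE _).symm
    · simp only [Iso.refl_hom, Category.comp_id, Category.id_comp]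
      exact (Scheme.Hom.app_eq_appLE _).symm
    · simp only [Iso.refl_hom, Category.comp_id, Category.id_comp]
      exact (Scheme.Hom.app_eq_appLE _).symm
  let Φ := (CommRingCat.isPushout_tensorProduct k Γ(G.left, ⊤) Γ(T.left, ⊤)).isoIsPushout _ _ h1
  have hl := (CommRingCat.isPushout_tensorProduct k Γ(G.left, ⊤) Γ(T.left, ⊤)).inl_isoIsPushout_hom _ _ h1
  have hr := (CommRingCat.isPushout_tensorProduct k Γ(G.left, ⊤) Γ(T.left, ⊤)).inr_isoIsPushout_hom _ _ h1
  have he : ∀ z : Γ(G.left, ⊤) ⊗[k] Γ(T.left, ⊤), Φ.hom z = ev (fst G T) (snd G T) z := fun z => by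
    induction z with
    | zero => rw [map_zero, map_zero]
    | tmul a b =>
      rw [ev_tmul, ← _root_.mul_one a, ← _root_.one_mul b, ← Algebra.TensorProduct.tmul_mul_tmul]
      erw [map_mul]
      rw [_root_.mul_one, _root_.one_mul]
      exact congrArg₂ (· * ·) (congr($hl a)) (congr($hr b))
    | add x y hx hy => rw [map_add, map_add]; exact congrArg₂ (· + ·) hx hy
  rw [show ⇑(ev (fst G T) (snd G T)) = ⇑Φ.hom from funext fun z => (he z).symm]
  exact ConcreteCategory.bijective_of_isIso Φ.hom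

section Glue

variable {G T : Over (Spec (CommRingCat.of k))} {I : Type u} (c : Module.Basis I k Γ(G.left, ⊤))

/-- coordinates -/
def coords {W : Over (Spec (CommRingCat.of k))} (z : Γ(G.left, ⊤) ⊗[k] Γ(W.left, ⊤)) : I →₀ Γ(W.left, ⊤) :=
  letI := Classical.decEq I
  TensorProduct.equivFinsuppOfBasisLeft c z

lemma coords_map {W W' : Over (Spec (CommRingCat.of k))} (s : W' ⟶ W) (z : Γ(G.left, ⊤) ⊗[k] Γ(W.left, ⊤)) (l : I) :
    coords c (Algebra.TensorProduct.map (AlgHom.id k _) (pb s) z) l = pb s (coords c z l) := by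
  induction z with
  | zero => simp [coords]
  | tmul a b =>
    simp [coords, TensorProduct.equivFinsuppOfBasisLeft_apply_tmul_apply]
  | add x y hx hy => simp only [coords, map_add, Finsupp.add_apply] at hx hy ⊢; rw [hx, hy]

lemma ev_whisker {W W' : Over (Spec (CommRingCat.of k))} (s : W' ⟶ W) (z : Γ(G.left, ⊤) ⊗[k] Γ(W.left, ⊤)) :
    pb (G ◁ s) (ev (fst G W) (snd G W) z) =
      ev (fst G W') (snd G W') (Algebra.TensorProduct.map (AlgHom.id k _) (pb s) z) := by
  rw [pb_ev_apply, whiskerLeft_fst, whiskerLeft_snd, ← pb_id, ← AlgHom.comp_apply, ev_map, Category.comp_id]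

end Glue

/-- the affine cover of an object -/
abbrev Uov {T : Over (Spec (CommRingCat.of k))} (U : T.left.Opens) : Over (Spec (CommRingCat.of k)) := Over.mk (U.ι ≫ T.hom)

/-- the inclusion -/
abbrev Uin {T : Over (Spec (CommRingCat.of k))} (U : T.left.Opens) : Uov U ⟶ T := Over.homMk U.ι rfl

lemma ev_injective (G T : Over (Spec (CommRingCat.of k))) [QuasiCompact G.hom] [QuasiSeparated G.hom] :
    Function.Injective (ev (fst G T) (snd G T)) := by
  refine (injective_iff_map_eq_zero _).2 fun z hz => ?_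
  let c := Module.Free.chooseBasis k Γ(G.left, ⊤)
  refine (TensorProduct.equivFinsuppOfBasisLeft c).injective ?_
  rw [map_zero]
  refine Finsupp.ext fun l => ?_
  show coords c z l = 0
  obtain ⟨y, hy⟩ := RedPts82.gaFn_surjective (S := Spec (CommRingCat.of k)) (X := T) (coords c z l)
  rw [← hy, ← RedPts82.gaFn_one]
  congr 1
  ext : 1
  refine (Scheme.openCoverOfIsOpenCover _ (fun V : T.left.affineOpens => V.1) (iSup_affineOpens_eq_top T.left)).hom_ext
    _ _ fun V => ?_
  have : IsAffine (Uov V.1).left := V.2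
  have h1 : Uin V.1 ≫ y = Uin V.1 ≫ (1 : T ⟶ Red.Ga (Spec (CommRingCat.of k))) := by
    apply RedPts82.gaFn_injective
    rw [MonObj.comp_one, RedPts82.gaFn_one, RedPts82.gaFn_comp, hy, ← pb_apply, ← coords_map]
    have : Algebra.TensorProduct.map (AlgHom.id k Γ(G.left, ⊤)) (pb (Uin V.1)) z = 0 :=
      (ev_bijective_of_isAffine G (Uov V.1)).1 (by rw [← ev_whisker, hz, map_zero, map_zero])
    rw [this]
    simp [coords]
  exact congr(($h1).left)

theorem ev_bijective (G T : Over (Spec (CommRingCat.of k))) [QuasiCompact G.hom] [QuasiSeparated G.hom]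
    [QuasiCompact T.hom] : Function.Bijective (ev (fst G T) (snd G T)) := by
  refine ⟨ev_injective G T, fun u => ?_⟩
  classical
  have : CompactSpace T.left := QuasiCompact.compactSpace_of_compactSpace T.hom
  let 𝒰 := T.left.affineCover.finiteSubcover
  have : ∀ m, IsAffine (𝒰.X m) := fun m => inferInstanceAs (IsAffine (T.left.affineCover.X _))
  let c := Module.Free.chooseBasis k Γ(G.left, ⊤)
  let Um : 𝒰.I₀ → Over (Spec (CommRingCat.of k)) := fun m => Over.mk (𝒰.f m ≫ T.hom)
  let im : ∀ m, Um m ⟶ T := fun m => Over.homMk (𝒰.f m) rfl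
  have : ∀ m, IsAffine (Um m).left := fun m => inferInstanceAs (IsAffine (𝒰.X m))
  choose w hw using fun m => (ev_bijective_of_isAffine G (Um m)).2 (pb (G ◁ im m) u)
  have hag : ∀ (m m' : 𝒰.I₀) (W : Over (Spec (CommRingCat.of k))) (p : W ⟶ Um m) (q : W ⟶ Um m'), p ≫ im m = q ≫ im m' →
      ∀ l, pb p (coords c (w m) l) = pb q (coords c (w m') l) := fun m m' W p q hpq l => by
    rw [← coords_map, ← coords_map]
    congr 2
    apply ev_injective G W
    rw [← ev_whisker, ← ev_whisker, hw, hw, ← pb_comp_apply, ← pb_comp_apply, ← whiskerLeft_comp, ← whiskerLeft_comp, hpq]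
  choose y hy using fun m l => RedPts82.gaFn_surjective (S := Spec (CommRingCat.of k)) (X := Um m) (coords c (w m) l)
  have hcompat : ∀ l m m', pullback.fst (𝒰.f m) (𝒰.f m') ≫ (y m l).left = pullback.snd _ _ ≫ (y m' l).left := by
    intro l m m'
    let W : Over (Spec (CommRingCat.of k)) := Over.mk (pullback.fst (𝒰.f m) (𝒰.f m') ≫ 𝒰.f m ≫ T.hom)
    let p : W ⟶ Um m := Over.homMk (pullback.fst (𝒰.f m) (𝒰.f m')) rfl
    let q : W ⟶ Um m' := Over.homMk (pullback.snd (𝒰.f m) (𝒰.f m')) (by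
      show pullback.snd _ _ ≫ 𝒰.f m' ≫ T.hom = pullback.fst _ _ ≫ 𝒰.f m ≫ T.hom
      rw [pullback.condition_assoc])
    have h1 : p ≫ y m l = q ≫ y m' l := by
      apply RedPts82.gaFn_injective
      rw [RedPts82.gaFn_comp, RedPts82.gaFn_comp, hy, hy]
      exact hag m m' W p q (by ext : 1; exact pullback.condition) l
    exact congr(($h1).left)
  let Y : (Module.Free.ChooseBasisIndex k Γ(G.left, ⊤)) → (T ⟶ Red.Ga (Spec (CommRingCat.of k))) := fun l =>
    Over.homMk (𝒰.glueMorphisms (fun m => (y m l).left) (hcompat l)) (by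
      refine 𝒰.hom_ext _ _ fun m => ?_
      rw [Scheme.Cover.ι_glueMorphisms_assoc]
      exact Over.w (y m l))
  have hd : ∀ m l, pb (im m) (Red.gaFn (Y l)) = coords c (w m) l := fun m l => by
    rw [pb_apply, ← RedPts82.gaFn_comp, ← hy]
    refine congrArg Red.gaFn (Over.OverMorphism.ext ?_)
    show 𝒰.f m ≫ (Y l).left = (y m l).left
    exact Scheme.Cover.ι_glueMorphisms 𝒰 (fun m => (y m l).left) (hcompat l) m
  have : Fintype 𝒰.I₀ := Fintype.ofFinite _
  let S : Finset (Module.Free.ChooseBasisIndex k Γ(G.left, ⊤)) := Finset.univ.biUnion fun m => (coords c (w m)).support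
  refine ⟨∑ l ∈ S, c l ⊗ₜ Red.gaFn (Y l), ?_⟩
  have hfin : ∀ m, Algebra.TensorProduct.map (AlgHom.id k Γ(G.left, ⊤)) (pb (im m)) (∑ l ∈ S, c l ⊗ₜ Red.gaFn (Y l)) = w m := by
    intro m
    apply (TensorProduct.equivFinsuppOfBasisLeft c).injective
    refine Finsupp.ext fun l => ?_
    show coords c _ l = coords c (w m) l
    rw [coords_map]
    simp only [coords, map_sum, Finsupp.finset_sum_apply, TensorProduct.equivFinsuppOfBasisLeft_apply_tmul_apply,
      Module.Basis.repr_self, Finsupp.single_apply, ite_smul, _root_.one_smul, zero_smul]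
    simp only [apply_ite (pb (im m)), map_zero]
    rw [Finset.sum_ite_eq']
    split_ifs with hl
    · exact hd m l
    · by_contra hne
      exact hl (Finset.mem_biUnion.2 ⟨m, Finset.mem_univ _, Finsupp.mem_support_iff.2 fun h => hne h.symm⟩)
  obtain ⟨a, ha⟩ := RedPts82.gaFn_surjective (S := Spec (CommRingCat.of k)) (X := G ⊗ T)
    (ev (fst G T) (snd G T) (∑ l ∈ S, c l ⊗ₜ Red.gaFn (Y l)))
  obtain ⟨b, hb⟩ := RedPts82.gaFn_surjective (S := Spec (CommRingCat.of k)) (X := G ⊗ T) u
  rw [← ha, ← hb]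
  congr 1
  ext : 1
  refine (Scheme.Pullback.openCoverOfRight 𝒰 G.hom T.hom).hom_ext _ _ fun m => ?_
  have h1 : (G ◁ im m) ≫ a = (G ◁ im m) ≫ b := by
    apply RedPts82.gaFn_injective
    rw [RedPts82.gaFn_comp, RedPts82.gaFn_comp, ha, hb, ← pb_apply, ← pb_apply, ev_whisker, hfin, hw]
  have h2 := congr(($h1).left)
  exact h2

end Groth.Agent.AlgGrp79.ProdSections
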