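import Groth.Prelude.Def_VecGrp
import Groth.Agent.AlgGrp79.GLnDiag
import Groth.Agent.AlgGrp79.ProdSections

/-!
From module structures on points to representations.
-/

set_option autoImplicit false
set_option backward.isDefEq.respectTransparency.types false
universe u

open CategoryTheory CategoryTheory.Limits MonoidalCategory CartesianMonoidalCategory MonObj AlgebraicGeometry
open Groth.Agent.RedPts82 CoordGrp CoactBr
open scoped TensorProduct

noncomputable section

namespace Groth.Agent.AlgGrp79.GModRep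

open GLnDiag ProdSections

attribute [local instance] GLnDiag.gAlg

variable {k : Type u} [Field k]

/-- Two morphisms agreeing on all affine test schemes are equal. -/
lemma hom_ext_affine {G X : Over (Spec (CommRingCat.of k))} {f g : G ⟶ X}
    (h : ∀ (T : Over (Spec (CommRingCat.of k))) [IsAffine T.left] (t : T ⟶ G), t ≫ f = t ≫ g) : f = g := by
  ext : 1
  refine Scheme.Cover.hom_ext G.left.affineCover _ _ fun x => ?_
  haveI : IsAffine (Over.mk (G.left.affineCover.f x ≫ G.hom)).left :=
    inferInstanceAs (IsAffine (Spec _))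
  exact congrArg CommaMorphism.left
    (h (Over.mk (G.left.affineCover.f x ≫ G.hom)) (Over.homMk (G.left.affineCover.f x) rfl))

/-- Gluing a natural family of maps on affine test schemes. -/
lemma exists_hom_of_natural {G X : Over (Spec (CommRingCat.of k))} [IsSeparated G.hom]
    (F : ∀ (T : Over (Spec (CommRingCat.of k))) [IsAffine T.left], (T ⟶ G) → (T ⟶ X))
    (hF : ∀ (T T' : Over (Spec (CommRingCat.of k))) [IsAffine T.left] [IsAffine T'.left] (s : T' ⟶ T) (t : T ⟶ G),
      F T' (s ≫ t) = s ≫ F T t) :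
    ∃ r : G ⟶ X, ∀ (T : Over (Spec (CommRingCat.of k))) [IsAffine T.left] (t : T ⟶ G), t ≫ r = F T t := by
  have : G.left.IsSeparated := ⟨by
    rw [Subsingleton.elim (terminal.from G.left) (G.hom ≫ terminal.from _)]; infer_instance⟩
  obtain ⟨𝒰, h𝒰⟩ : ∃ 𝒰 : G.left.OpenCover, ∀ x, IsAffine (𝒰.X x) :=
    ⟨G.left.affineCover, fun x => inferInstanceAs (IsAffine (Spec _))⟩
  let U : 𝒰.I₀ → Over (Spec (CommRingCat.of k)) := fun x => Over.mk (𝒰.f x ≫ G.hom)
  let f : ∀ x, U x ⟶ G := fun x => Over.homMk (𝒰.f x) rfl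
  haveI : ∀ x, IsAffine (U x).left := fun x => inferInstanceAs (IsAffine (𝒰.X x))
  haveI : ∀ x, IsAffineHom (𝒰.f x) := fun x =>
    MorphismProperty.of_postcomp (W := @IsAffineHom) (W' := @IsSeparated) _ (terminal.from _) inferInstance inferInstance
  have hglue : ∀ x y, pullback.fst (𝒰.f x) (𝒰.f y) ≫ (F (U x) (f x)).left =
      pullback.snd (𝒰.f x) (𝒰.f y) ≫ (F (U y) (f y)).left := fun x y => by
    let P : Over (Spec (CommRingCat.of k)) := Over.mk (pullback.fst (𝒰.f x) (𝒰.f y) ≫ 𝒰.f x ≫ G.hom)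
    haveI : IsAffine P.left := @isAffine_of_isAffineHom _ _ (pullback.fst (𝒰.f x) (𝒰.f y))
      (MorphismProperty.pullback_fst (P := @IsAffineHom) _ _ inferInstance) inferInstance
    let a : P ⟶ U x := Over.homMk (pullback.fst (𝒰.f x) (𝒰.f y)) rfl
    let b : P ⟶ U y := Over.homMk (pullback.snd (𝒰.f x) (𝒰.f y)) (pullback.condition_assoc _).symm
    have e : a ≫ f x = b ≫ f y := by ext : 1; exact pullback.condition
    have h2 : a ≫ F (U x) (f x) = b ≫ F (U y) (f y) := by rw [← hF, ← hF, e]
    exact congrArg CommaMorphism.left h2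
  let r : G ⟶ X := Over.homMk (𝒰.glueMorphisms (fun x => (F (U x) (f x)).left) hglue) (by
    refine Scheme.Cover.hom_ext 𝒰 _ _ fun x => ?_
    rw [Scheme.Cover.ι_glueMorphisms_assoc]
    exact Over.w (F (U x) (f x)))
  have hr : ∀ x, f x ≫ r = F (U x) (f x) := fun x => by
    ext : 1
    show 𝒰.f x ≫ 𝒰.glueMorphisms (fun x => (F (U x) (f x)).left) hglue = _
    exact 𝒰.ι_glueMorphisms (fun x => (F (U x) (f x)).left) hglue x
  refine ⟨r, fun T _ t => ?_⟩
  ext : 1
  refine Scheme.Cover.hom_ext (𝒰.pullback₁ t.left) _ _ fun x => ?_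
  let P : Over (Spec (CommRingCat.of k)) := Over.mk (pullback.fst t.left (𝒰.f x) ≫ T.hom)
  haveI : IsAffine P.left := @isAffine_of_isAffineHom _ _ (pullback.fst t.left (𝒰.f x))
    (MorphismProperty.pullback_fst (P := @IsAffineHom) _ _ inferInstance) inferInstance
  let a : P ⟶ T := Over.homMk (pullback.fst t.left (𝒰.f x)) rfl
  let b : P ⟶ U x := Over.homMk (pullback.snd t.left (𝒰.f x)) (by
    show pullback.snd _ _ ≫ 𝒰.f x ≫ G.hom = pullback.fst _ _ ≫ T.hom
    rw [← pullback.condition_assoc, Over.w])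
  have e : a ≫ t = b ≫ f x := by ext : 1; exact pullback.condition
  have h2 : a ≫ t ≫ r = a ≫ F T t := by
    rw [← hF, e, hF, ← hr, ← Category.assoc, e, Category.assoc]
  show pullback.fst t.left (𝒰.f x) ≫ (t ≫ r).left = pullback.fst t.left (𝒰.f x) ≫ (F T t).left
  exact congrArg CommaMorphism.left h2

/-- the affinization map, with target a test scheme -/
def affP (T : Over (Spec (CommRingCat.of k))) : T ⟶ VecGrp.pt k Γ(T.left, ⊤) :=
  Over.homMk T.left.toSpecΓ (Over.w (affPt T))

/-- the inverse of the affinization map -/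
def affInv (T : Over (Spec (CommRingCat.of k))) [IsAffine T.left] : VecGrp.pt k Γ(T.left, ⊤) ⟶ T :=
  Over.homMk (inv T.left.toSpecΓ) (by
    rw [IsIso.inv_comp_eq]
    exact (Over.w (affP T)).symm)

lemma affP_affInv (T : Over (Spec (CommRingCat.of k))) [IsAffine T.left] : affP T ≫ affInv T = 𝟙 T := by
  ext : 1; simp [affP, affInv]

lemma affInv_affP (T : Over (Spec (CommRingCat.of k))) [IsAffine T.left] : affInv T ≫ affP T = 𝟙 _ := by
  ext : 1; simp [affP, affInv]

lemma affInv_natural {T T' : Over (Spec (CommRingCat.of k))} [IsAffine T.left] [IsAffine T'.left] (s : T' ⟶ T) :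
    VecGrp.ptMap (pb s) ≫ affInv T = affInv T' ≫ s := by
  have h : affP T' ≫ VecGrp.ptMap (pb s) = s ≫ affP T := by
    ext : 1
    exact (Scheme.toSpecΓ_naturality s.left).symm
  calc VecGrp.ptMap (pb s) ≫ affInv T = (affInv T' ≫ affP T') ≫ VecGrp.ptMap (pb s) ≫ affInv T := by
        rw [affInv_affP, Category.id_comp]
    _ = affInv T' ≫ (affP T' ≫ VecGrp.ptMap (pb s)) ≫ affInv T := by simp only [Category.assoc]
    _ = affInv T' ≫ s := by rw [h, Category.assoc, affP_affInv, Category.comp_id]

/-- global functions of an affine test scheme -/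
def ΓptHom (B : Type u) [CommRing B] [Algebra k B] : Γ((VecGrp.pt k B).left, ⊤) →ₐ[k] B :=
  { (Scheme.ΓSpecIso (CommRingCat.of B)).hom.hom with
    commutes' := fun r => by
      show (Scheme.ΓSpecIso (CommRingCat.of B)).hom ((Spec.map (CommRingCat.ofHom (algebraMap k B))).appTop
        ((Scheme.ΓSpecIso (CommRingCat.of k)).inv r)) = algebraMap k B r
      have h := congr($(Scheme.ΓSpecIso_naturality (CommRingCat.ofHom (algebraMap k B))) ((Scheme.ΓSpecIso (CommRingCat.of k)).inv r))
      refine h.trans ?_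
      show algebraMap k B ((Scheme.ΓSpecIso (CommRingCat.of k)).hom ((Scheme.ΓSpecIso (CommRingCat.of k)).inv r)) = _
      rw [Iso.inv_hom_id_apply] }

lemma ΓptHom_injective (B : Type u) [CommRing B] [Algebra k B] : Function.Injective (ΓptHom (k := k) B) :=
  (ConcreteCategory.bijective_of_isIso (Scheme.ΓSpecIso (CommRingCat.of B)).hom).1

lemma ptMap_ΓptHom (B : Type u) [CommRing B] [Algebra k B] :
    VecGrp.ptMap (ΓptHom (k := k) B) ≫ affInv (VecGrp.pt k B) = 𝟙 _ := by
  have h : affP (VecGrp.pt k B) = VecGrp.ptMap (ΓptHom (k := k) B) := by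
    ext : 1
    exact (SpecMap_ΓSpecIso_hom (CommRingCat.of B)).symm
  rw [← h, affP_affInv]

variable {M : Type u} [AddCommGroup M] [Module k M]

/-- a coordinate on `B ⊗ M` -/
def coord (B : Type u) [CommRing B] [Algebra k B] (φ : M →ₗ[k] k) : B ⊗[k] M →ₗ[B] B :=
  (TensorProduct.AlgebraTensorModule.rid k B B).toLinearMap ∘ₗ φ.baseChange B

lemma coord_tmul {B : Type u} [CommRing B] [Algebra k B] (φ : M →ₗ[k] k) (b : B) (m : M) :
    coord B φ (b ⊗ₜ m) = φ m • b := by simp [coord]

lemma coord_natural {B B' : Type u} [CommRing B] [Algebra k B] [CommRing B'] [Algebra k B'] (f : B →ₐ[k] B')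
    (φ : M →ₗ[k] k) (x : B ⊗[k] M) : f (coord B φ x) = coord B' φ (VecGrp.Wmap f x) := by
  induction x using TensorProduct.induction_on with
  | zero => simp
  | tmul b m => simp [coord_tmul]
  | add x y hx hy => simp [hx, hy]

lemma eq_sum_coord {B : Type u} [CommRing B] [Algebra k B] {N : Submodule k M} {n : ℕ} (b : Module.Basis (Fin n) k N)
    (φ : Fin n → M →ₗ[k] k) (hφ : ∀ i j, φ i (b j : M) = if i = j then 1 else 0) (x : B ⊗[k] M)
    (hx : x ∈ N.baseChange B) : x = ∑ i, coord B (φ i) x • ((1 : B) ⊗ₜ[k] (b i : M)) := by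
  obtain ⟨y, rfl⟩ := hx
  induction y using TensorProduct.induction_on with
  | zero => simp
  | tmul c m =>
    have hm : ∀ i, φ i (m : M) = b.repr m i := fun i => by
      conv_lhs => rw [← b.sum_repr m, AddSubmonoidClass.coe_finsetSum, map_sum]
      simp [hφ]
    simp only [LinearMap.baseChange_tmul, Submodule.subtype_apply, coord_tmul, TensorProduct.smul_tmul', smul_eq_mul,
      _root_.mul_one, hm]
    conv_lhs => rw [← b.sum_repr m, AddSubmonoidClass.coe_finsetSum, TensorProduct.tmul_sum]
    exact Finset.sum_congr rfl fun i _ => by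
      rw [Submodule.coe_smul, TensorProduct.tmul_smul, TensorProduct.smul_tmul']
  | add y z hy hz =>
    simp only [map_add, add_smul, Finset.sum_add_distrib]
    rw [← hy, ← hz]

/-- A finite stable subspace gives a representation with kernel the pointwise stabiliser. -/
theorem exists_rep_stable {G : Over (Spec (CommRingCat.of k))} [GrpObj G] [IsSeparated G.hom] (m : VecGrp.GMod G M)
    (N : Submodule k M) [Module.Finite k N]
    (hN : ∀ (B : Type u) [CommRing B] [Algebra k B] (g : VecGrp.pt k B ⟶ G) (x : VecGrp.W k M B),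
      x ∈ N.baseChange B → m.ρ B g x ∈ N.baseChange B) :
    ∃ (n : ℕ) (r : G ⟶ sp k (GLn n k)), IsMonHom r ∧
      ∀ (B : Type u) [CommRing B] [Algebra k B] (g : VecGrp.pt k B ⟶ G),
        g ≫ r = 1 ↔ ∀ v ∈ N, m.ρ B g ((1 : B) ⊗ₜ[k] v) = (1 : B) ⊗ₜ[k] v := by
  classical
  obtain ⟨n, b⟩ : Σ' n, Module.Basis (Fin n) k N := ⟨_, Module.finBasis k N⟩
  have hext : ∀ i, ∃ φ : M →ₗ[k] k, φ.comp N.subtype = b.coord i := fun i => LinearMap.exists_extend _
  choose φ hφ' using hext
  have hφ : ∀ i j, φ i (b j : M) = if i = j then 1 else 0 := fun i j => by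
    have := congr($(hφ' i) (b j))
    simpa [Finsupp.single_apply, eq_comm] using this
  have hb : ∀ (B : Type u) [CommRing B] [Algebra k B] (j : Fin n), (1 : B) ⊗ₜ[k] (b j : M) ∈ N.baseChange B :=
    fun B _ _ j => Submodule.tmul_mem_baseChange_of_mem 1 (b j).2
  let F : ∀ (B : Type u) [CommRing B] [Algebra k B], (VecGrp.pt k B ⟶ G) → Matrix (Fin n) (Fin n) B :=
    fun B _ _ g i j => coord B (φ i) (m.ρ B g ((1 : B) ⊗ₜ[k] (b j : M)))
  have hone : ∀ (B : Type u) [CommRing B] [Algebra k B], F B 1 = 1 := fun B _ _ => by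
    ext i j
    simp [F, coord_tmul, hφ, Matrix.one_apply]
  have hmul : ∀ (B : Type u) [CommRing B] [Algebra k B] (g h : VecGrp.pt k B ⟶ G), F B (g * h) = F B g * F B h :=
    fun B _ _ g h => by
    ext i j
    simp only [F, Matrix.mul_apply, map_mul]
    rw [LinearEquiv.mul_apply]
    conv_lhs => rw [eq_sum_coord b φ hφ _ (hN B h _ (hb B j))]
    simp only [map_sum, map_smul, smul_eq_mul]
    exact Finset.sum_congr rfl fun l _ => _root_.mul_comm _ _
  have hnat : ∀ (B B' : Type u) [CommRing B] [Algebra k B] [CommRing B'] [Algebra k B'] (f : B →ₐ[k] B')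
      (g : VecGrp.pt k B ⟶ G), (F B g).map f = F B' (VecGrp.ptMap f ≫ g) := fun B B' _ _ _ _ f g => by
    ext i j
    simp only [F, Matrix.map_apply, coord_natural]
    rw [m.naturality]
    simp
  have hdet : ∀ (B : Type u) [CommRing B] [Algebra k B] (g : VecGrp.pt k B ⟶ G), IsUnit (F B g).det :=
    fun B _ _ g => by
    refine IsUnit.of_mul_eq_one (F B g⁻¹).det ?_
    rw [← Matrix.det_mul, ← hmul, mul_inv_cancel, hone, Matrix.det_one]
  choose R hR using fun (T : Over (Spec (CommRingCat.of k))) (_ : IsAffine T.left) (t : T ⟶ G) =>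
    glFn_surjective (k := k) (m := n) (X := T) (F Γ(T.left, ⊤) (affInv T ≫ t)) (hdet _ _)
  obtain ⟨r, hr⟩ := exists_hom_of_natural (fun T hT t => R T hT t) fun T T' hT hT' s t => glFn_injective (by
    rw [glFn_comp, hR, hR, ← Category.assoc, ← affInv_natural, Category.assoc, ← hnat]
    rfl)
  have hval : ∀ (T : Over (Spec (CommRingCat.of k))) [IsAffine T.left] (t : T ⟶ G),
      glFn (t ≫ r) = F Γ(T.left, ⊤) (affInv T ≫ t) := fun T hT t => by rw [hr, hR]
  refine ⟨n, r, isMonHom_of_points r fun T u v => hom_ext_affine fun T' _ t => glFn_injective ?_, fun B _ _ g => ?_⟩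
  · rw [MonObj.comp_mul, ← Category.assoc, ← Category.assoc, ← Category.assoc, MonObj.comp_mul, glFn_mul, hval, hval,
      hval, MonObj.comp_mul, hmul]
  · haveI : IsAffine (VecGrp.pt k B).left := inferInstanceAs (IsAffine (Spec (CommRingCat.of B)))
    have key : F B g = (glFn (g ≫ r)).map (ΓptHom (k := k) B) := by
      rw [hval, hnat, ← Category.assoc, ptMap_ΓptHom, Category.id_comp]
    have h1 : g ≫ r = 1 ↔ F B g = 1 := by
      constructor
      · intro h
        rw [key, h, glFn_one, Matrix.map_one _ (map_zero _) (map_one _)]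
      · intro h
        refine glFn_injective (Matrix.map_injective (ΓptHom_injective (k := k) B) ?_)
        beta_reduce
        rw [glFn_one, ← key, h, Matrix.map_one _ (map_zero _) (map_one _)]
    rw [h1]
    constructor
    · intro h v hv
      have hbj : ∀ j, m.ρ B g ((1 : B) ⊗ₜ[k] (b j : M)) = (1 : B) ⊗ₜ[k] (b j : M) := fun j => by
        rw [eq_sum_coord b φ hφ _ (hN B g _ (hb B j))]
        have hc : ∀ i, coord B (φ i) (m.ρ B g ((1 : B) ⊗ₜ[k] (b j : M))) = if i = j then 1 else 0 := fun i => by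
          have := congrFun (congrFun h i) j
          simpa [F, Matrix.one_apply] using this
        simp [hc]
      have : v = ∑ i, b.repr ⟨v, hv⟩ i • (b i : M) := by
        have e := congrArg (N.subtype) (b.sum_repr ⟨v, hv⟩)
        simp only [map_sum, map_smul, Submodule.subtype_apply] at e
        exact e.symm
      rw [this]
      simp only [TensorProduct.tmul_sum, map_sum, TensorProduct.tmul_smul]
      exact Finset.sum_congr rfl fun i _ => by rw [← algebraMap_smul B, map_smul, hbj]
    · intro h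
      ext i j
      simp only [F]
      rw [h _ (b j).2]
      simp [coord_tmul, hφ, Matrix.one_apply]

end Groth.Agent.AlgGrp79.GModRep
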