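import Groth.Agent.AlgGrp79.HopfKerBasic
import Groth.Agent.AlgGrp79.GModRep
import Groth.Agent.GMod80.Dict
import Groth.Agent.GMod80.GLHom
import Groth.Agent.Comod33.HopfFlat
import Groth.Agent.SGA3a.NormalHopf
import Groth.Agent.S7969
import Groth.Agent.RedPts82.ClosedBorel
import Mathlib.RingTheory.RingHom.FaithfullyFlat

/-!
Affine quotients of affine algebraic groups by normal subgroups.
-/

set_option autoImplicit false
set_option linter.unusedSectionVars false
set_option backward.isDefEq.respectTransparency.types false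
universe u

open CategoryTheory CategoryTheory.Limits MonoidalCategory CartesianMonoidalCategory MonObj GrpObj AlgebraicGeometry
open scoped TensorProduct
open WithConv

noncomputable section

namespace Groth.Agent.AlgGrp79.AffineQuot

open GMod80

variable {k : Type u} [Field k] {A : Type u} [CommRing A] [HopfAlgebra k A]

/-- a normal Hopf ideal is cut out by a map from the coordinates of `GL_n` -/
theorem exists_rep_hopf [Algebra.FiniteType k A] (I : Ideal A) [I.IsHopfIdeal k]
    (hI : SGA3.IsNormalHopfIdeal k A I) :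
    ∃ (n : ℕ) (φ : CoordGrp.GLn n k →ₐc[k] A), ∀ (R : Type u) [CommRing R] [Algebra k R] (f : A →ₐ[k] R),
      (∀ a ∈ I, f a = 0) ↔ f.comp (φ : CoordGrp.GLn n k →ₐ[k] A) =
        (1 : WithConv (CoordGrp.GLn n k →ₐ[k] R)).ofConv := by
  classical
  obtain ⟨V, _, _, _, hfin, hJ⟩ := Groth.Agent.S7969.result k A I hI
  obtain ⟨n, b⟩ : Σ' n, Module.Basis (Fin n) k V := ⟨_, Module.finBasis k V⟩
  have hc := Comod33.Mat.isRep_mc (A := A) b
  refine ⟨n, repBialg hc, fun R _ _ f => ?_⟩
  let q : A →ₗ[k] A ⧸ RingHom.ker f := (Ideal.Quotient.mkₐ k (RingHom.ker f)).toLinearMap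
  have hcoord : ∀ j, LinearMap.lTensor V q (HopfRep.Comod.coact (k := k) (A := A) (b j)) = b j ⊗ₜ[k] (1 : A ⧸ RingHom.ker f) ↔
      ∀ i, f (Comod33.Mat.mc (A := A) b i j) = if i = j then 1 else 0 := fun j => by
    rw [Comod33.Mat.coact_basis b j, map_sum]
    have hr : b j ⊗ₜ[k] (1 : A ⧸ RingHom.ker f) = ∑ i, b i ⊗ₜ[k] (if i = j then (1 : A ⧸ RingHom.ker f) else 0) := by
      rw [Finset.sum_eq_single j (fun i _ h => by rw [if_neg h, TensorProduct.tmul_zero]) (by simp), if_pos rfl]
    rw [hr]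
    simp only [LinearMap.lTensor_tmul]
    constructor
    · intro h i
      have h2 := congrArg (fun z => TensorProduct.equivFinsuppOfBasisLeft b z i) h
      simp only [map_sum, Finsupp.finsetSum_apply, TensorProduct.equivFinsuppOfBasisLeft_apply_tmul,
        Finsupp.mapRange_apply, Module.Basis.repr_self, Finsupp.single_apply, ite_smul, one_smul, zero_smul,
        Finset.sum_ite_eq', Finset.mem_univ, if_true] at h2
      have h3 : f (Comod33.Mat.mc (A := A) b i j - if i = j then 1 else 0) = 0 := by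
        refine RingHom.mem_ker.1 (Ideal.Quotient.eq.1 ?_)
        refine h2.trans ?_
        split <;> simp
      rw [map_sub, sub_eq_zero] at h3
      rw [h3]
      split <;> simp
    · intro h
      refine Finset.sum_congr rfl fun i _ => ?_
      congr 1
      show Ideal.Quotient.mk _ _ = _
      have h3 : Comod33.Mat.mc (A := A) b i j - (if i = j then 1 else 0) ∈ RingHom.ker f := by
        rw [RingHom.mem_ker, map_sub, h i, sub_eq_zero]
        split <;> simp
      rw [Ideal.Quotient.eq.2 h3]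
      split <;> simp
  have h1 : (∀ a ∈ I, f a = 0) ↔ ∀ i j, f (Comod33.Mat.mc (A := A) b i j) = if i = j then 1 else 0 := by
    refine Iff.trans (Iff.trans Iff.rfl (hJ (RingHom.ker f))) ⟨fun h i j => (hcoord j).1 (h (b j)) i, fun h v => ?_⟩
    have : (LinearMap.lTensor V q ∘ₗ HopfRep.Comod.coact (k := k) (A := A) : V →ₗ[k] _) =
        (TensorProduct.mk k V (A ⧸ RingHom.ker f)).flip 1 :=
      b.ext fun j => by
        simpa using (hcoord j).2 fun i => h i j
    exact congr($this v)
  rw [h1]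
  constructor
  · intro h
    refine gl_ext fun i j => ?_
    rw [AlgHom.comp_apply, BialgHom.coe_toAlgHom, repBialg_X, h i j]
    simp [AlgHom.convOne_def, CoordGrp.GLn.counit_X]
  · intro h i j
    have h2 := congr($h (CoordGrp.GLn.X i j))
    rw [AlgHom.comp_apply, BialgHom.coe_toAlgHom, repBialg_X] at h2
    rw [h2]
    simp [AlgHom.convOne_def, CoordGrp.GLn.counit_X]

/-- an affine group modulo a normal subgroup is affine -/
theorem exists_quotient {G N : Over (Spec (CommRingCat.of k))} [GrpObj G] [GrpObj N] [IsAffine G.left]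
    [LocallyOfFiniteType G.hom] (i : N ⟶ G) [IsMonHom i] [IsClosedImmersion i.left]
    (hN : AlgGrp.IsNormalHom i) :
    ∃ (Q : Over (Spec (CommRingCat.of k))) (_ : GrpObj Q) (q : G ⟶ Q), IsMonHom q ∧ IsAffine Q.left ∧
      LocallyOfFiniteType Q.hom ∧ Flat q.left ∧ Surjective q.left ∧ AlgGrp.IsKernel i q := by
  classical
  obtain ⟨A, _, _, ψ, hψ⟩ := exists_coord G
  haveI : IsAffine N.left := isAffine_of_isAffineHom i.left
  obtain ⟨A', _, _, ψ', hψ'⟩ := exists_coord N
  let π := pullBialg ψ ψ' i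
  have hπ : Function.Surjective π := pull_surjective ψ ψ' i
  let I : Ideal A := RingHom.ker (π : A →ₐ[k] A')
  haveI : I.IsHopfIdeal k := isHopfIdeal_ker π
  haveI : Algebra.FiniteType k A := GMod80.finiteType ψ
  -- points of `N`
  have hlift : ∀ (R : Type u) [CommRing R] [Algebra k R] (f : A →ₐ[k] R), (∀ a ∈ I, f a = 0) ↔
      ∃ f' : A' →ₐ[k] R, f'.comp (π : A →ₐ[k] A') = f := fun R _ _ f => by
    refine ⟨fun h => ⟨AlgHom.liftOfSurjective (π : A →ₐ[k] A') hπ f h, AlgHom.ext fun a => ?_⟩, ?_⟩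
    · exact AlgHom.liftOfSurjective_apply (π : A →ₐ[k] A') hπ f h a
    · rintro ⟨f', rfl⟩ a ha
      rw [AlgHom.comp_apply, RingHom.mem_ker.1 ha, map_zero]
  have hI : SGA3.IsNormalHopfIdeal k A I := by
    intro R _ _ g h hh
    obtain ⟨h', rfl⟩ := (hlift R h).1 hh
    obtain ⟨n', hn'⟩ := hN (VecGrp.pt k R) (e ψ R (toConv g)) (e ψ' R (toConv h'))
    obtain ⟨f', rfl⟩ := (e ψ' R).surjective n'
    rw [e_comp ψ, e_comp ψ, ← map_inv (e ψ R), ← map_mul, ← map_mul] at hn'
    have h2 := congrArg WithConv.ofConv ((e ψ R).injective hn')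
    refine (hlift R _).2 ⟨f'.ofConv, ?_⟩
    rw [← WithConv.ofConv_toConv (Dyn.conv3 k A _ _ _), SGA3a.NormalHopf.toConv_conv3,
      ← SGA3a.NormalHopf.inv_ofConv]
    exact h2.symm
  obtain ⟨n, φ, hφ⟩ := exists_rep_hopf I hI
  let B : Subalgebra k A := (φ : CoordGrp.GLn n k →ₐ[k] A).range
  have hB : Comod33.SubHopf.IsSubHopf B := Comod33.HopfFlat.isSubHopf_range φ
  letI := Comod33.SubHopf.hopfAlgebra hB
  let j := Comod33.SubHopf.incl hB
  haveI : Algebra.FiniteType k B :=
    Algebra.FiniteType.of_surjective (φ : CoordGrp.GLn n k →ₐ[k] A).rangeRestrict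
      (AlgHom.rangeRestrict_surjective _)
  have hff : (j : B →+* A).FaithfullyFlat :=
    Comod33.HopfFlat.faithfullyFlat_of_injective j Subtype.val_injective
  haveI : IsMonHom ψ.inv := inferInstance
  let q : G ⟶ sp k B := ψ.inv ≫ spHom j
  have hq : ∀ (T : Type u) [CommRing T] [Algebra k T] (f : WithConv (A →ₐ[k] T)),
      e ψ T f ≫ q = Spec.mapMulEquiv (toConv (f.ofConv.comp (j : B →ₐ[k] A))) := fun T _ _ f => by
    show (Spec.mapMulEquiv f ≫ ψ.hom) ≫ ψ.inv ≫ spHom j = _
    rw [Category.assoc, Iso.hom_inv_id_assoc, comp_spHom]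
  have hker : ∀ (T : Type u) [CommRing T] [Algebra k T] (f : WithConv (A →ₐ[k] T)),
      e ψ T f ≫ q = 1 ↔ ∀ a ∈ I, f.ofConv a = 0 := fun T _ _ f => by
    rw [hφ, hq]
    refine Iff.trans (MulEquiv.map_eq_one_iff _) ?_
    constructor
    · intro h
      refine AlgHom.ext fun x => ?_
      have h2 := congr(($h).ofConv ⟨φ x, x, rfl⟩)
      refine h2.trans ?_
      rw [AlgHom.convOne_def, AlgHom.convOne_def]
      show algebraMap k T _ = algebraMap k T _
      exact congrArg _ (CoalgHomClass.counit_comp_apply φ x)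
    · intro h
      refine WithConv.ofConv_injective (AlgHom.ext ?_)
      rintro ⟨_, x, rfl⟩
      refine (congr($h x) : _).trans ?_
      rw [AlgHom.convOne_def, AlgHom.convOne_def]
      show algebraMap k T _ = algebraMap k T _
      exact congrArg _ (CoalgHomClass.counit_comp_apply φ x).symm
  have hkerT : ∀ (T : Over (Spec (CommRingCat.of k))) [IsAffine T.left] (g : T ⟶ G),
      g ≫ q = 1 ↔ ∃ l : T ⟶ N, l ≫ i = g := fun T hT g => by
    letI := GLnDiag.gAlg T
    obtain ⟨f, hf⟩ := (e ψ Γ(T.left, ⊤)).surjective (GModRep.affInv T ≫ g)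
    have hg : g = GModRep.affP T ≫ e ψ Γ(T.left, ⊤) f := by
      rw [hf, ← Category.assoc, GModRep.affP_affInv, Category.id_comp]
    constructor
    · intro h
      have h1 : e ψ Γ(T.left, ⊤) f ≫ q = 1 := by
        rw [hf, Category.assoc, h, MonObj.comp_one]
      obtain ⟨f', hf'⟩ := (hlift _ _).1 ((hker _ f).1 h1)
      refine ⟨GModRep.affP T ≫ e ψ' Γ(T.left, ⊤) (toConv f'), ?_⟩
      rw [Category.assoc, e_comp ψ, hg]
      congr 2
      exact WithConv.ofConv_injective hf'
    · rintro ⟨l, rfl⟩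
      obtain ⟨f', hf'⟩ := (e ψ' Γ(T.left, ⊤)).surjective (GModRep.affInv T ≫ l)
      have h1 : e ψ Γ(T.left, ⊤) (toConv (f'.ofConv.comp (π : A →ₐ[k] A'))) ≫ q = 1 :=
        (hker _ _).2 ((hlift _ _).2 ⟨f'.ofConv, rfl⟩)
      have hl : l = GModRep.affP T ≫ e ψ' Γ(T.left, ⊤) f' := by
        rw [hf', ← Category.assoc, GModRep.affP_affInv, Category.id_comp]
      rw [hl, Category.assoc, Category.assoc, ← Category.assoc (e ψ' _ f') i q, e_comp ψ]
      exact (congrArg (GModRep.affP T ≫ ·) h1).trans (MonObj.comp_one _)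
  have hqm : IsMonHom q := inferInstance
  haveI : IsAffine (sp k B).left := inferInstanceAs (IsAffine (Spec (CommRingCat.of B)))
  have hlft : LocallyOfFiniteType (sp k B).hom := by
    show LocallyOfFiniteType (Spec.map (CommRingCat.ofHom (algebraMap k B)))
    rw [HasRingHomProperty.Spec_iff (P := @LocallyOfFiniteType)]
    exact RingHom.finiteType_algebraMap.2 inferInstance
  have hql : q.left = (sch ψ).inv ≫ Spec.map (CommRingCat.ofHom (j : B →ₐ[k] A).toRingHom) := rfl
  haveI : Flat (Spec.map (CommRingCat.ofHom (j : B →ₐ[k] A).toRingHom)) := by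
    rw [HasRingHomProperty.Spec_iff (P := @Flat)]
    exact hff.flat
  haveI : Surjective (Spec.map (CommRingCat.ofHom (j : B →ₐ[k] A).toRingHom)) :=
    ⟨(RingHom.FaithfullyFlat.iff_flat_and_comap_surjective.1 hff).2⟩
  refine ⟨sp k B, inferInstance, q, hqm, inferInstance, hlft, hql ▸ MorphismProperty.comp_mem @Flat _ _ inferInstance ‹_›,
    hql ▸ MorphismProperty.comp_mem @Surjective _ _ inferInstance ‹_›, ?_⟩
  have h1 : i ≫ q = 1 := GModRep.hom_ext_affine fun T _ t => by
    rw [← Category.assoc, MonObj.comp_one]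
    exact (hkerT T (t ≫ i)).2 ⟨t, rfl⟩
  let P := pullback q η[sp k B]
  haveI : IsAffine P.left := by
    haveI : IsClosedImmersion (η[sp k B]).left :=
      Groth.Agent.RedPts82.isClosedImmersion_section _ (toUnit _) (toUnit_unique _ _)
    haveI : IsClosedImmersion (pullback.fst q η[sp k B]).left :=
      MorphismProperty.of_isPullback (isPullback_left (IsPullback.of_hasPullback q η)).flip inferInstance
    exact isAffine_of_isAffineHom (pullback.fst q η[sp k B]).left
  obtain ⟨l, hl⟩ := (hkerT P (pullback.fst q η[sp k B])).1 (by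
    rw [pullback.condition, one_def', toUnit_unique (pullback.snd q η[sp k B]) (toUnit P)])
  haveI : Mono i := (Over.forget _).mono_of_mono_map (inferInstanceAs (Mono i.left))
  have hw : i ≫ q = toUnit N ≫ η[sp k B] := by rw [h1, one_def']
  let u : N ≅ P :=
    { hom := pullback.lift i (toUnit N) hw
      inv := l
      hom_inv_id := by rw [← cancel_mono i, Category.assoc, hl, pullback.lift_fst, Category.id_comp]
      inv_hom_id := by
        refine pullback.hom_ext ?_ (toUnit_unique _ _)
        rw [Category.assoc, pullback.lift_fst, hl, Category.id_comp] }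
  exact (IsPullback.of_hasPullback q η[sp k B]).of_iso u.symm (Iso.refl _) (Iso.refl _) (Iso.refl _)
    (by simp [u, hl]) (toUnit_unique _ _) (by simp) (by simp)

end Groth.Agent.AlgGrp79.AffineQuot
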