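import Groth.Agent.AlgGrp79.Act
import Groth.Agent.AlgGrp79.Image
import Groth.Agent.Var76.ActTrans
import Groth.Prelude.Def_ActBC
import Mathlib.Topology.LocallyClosed
import Mathlib.Topology.NoetherianSpace
import Groth.Agent.Curves2.SmoothNormal
import Groth.Agent.SchBasics.Local
import Groth.Agent.SchBasics.TopNoeth

set_option autoImplicit false
universe u v w

open CategoryTheory MonoidalCategory CartesianMonoidalCategory MonObj AlgebraicGeometry CategoryTheory.Limits
open scoped commutatorElement

namespace Groth.Agent.AlgGrp79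

section Orbit
open Var76.ActTrans

lemma orbitMap_equivariant {S : Scheme.{u}} {G X : Over S} [GrpObj G] (a : AlgGrp.Action G X)
    (x : 𝟙_ (Over S) ⟶ X) : (G ◁ a.orbitMap x) ≫ a.act = μ[G] ≫ a.orbitMap x := by
  have hμ : (μ[G] : G ⊗ G ⟶ G) = fst G G * snd G G := by
    rw [Hom.mul_def, lift_fst_snd, Category.id_comp]
  rw [hμ, comp_orbit, mul_act']
  have h : (G ◁ a.orbitMap x) = lift (fst G G) (snd G G ≫ a.orbitMap x) := by
    ext <;> simp
  rw [h, comp_orbit]

/-- Equivariant maps from the group commute with translations. -/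
lemma lTrans_comp_equivariant {S : Scheme.{u}} {G X : Over S} [GrpObj G] (a : AlgGrp.Action G X)
    (φ : G ⟶ X) (hφ : (G ◁ φ) ≫ a.act = μ[G] ≫ φ) (σ : 𝟙_ (Over S) ⟶ G) :
    (lTrans σ).hom ≫ φ = φ ≫ (xTrans a σ).hom := by
  rw [comp_xTrans]
  have h := congr(lift (toUnit G ≫ σ) (𝟙 G) ≫ $hφ)
  rw [lift_whiskerLeft_assoc, Category.id_comp, ← Category.assoc, ← Hom.mul_def] at h
  rw [h]
  rfl

/-- The image of an equivariant map from an algebraic group is locally closed (algebraically closed field). -/
theorem isLocallyClosed_range_equivariant {k : Type u} [Field k] [IsAlgClosed k]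
    {G X : Over (Spec (CommRingCat.of k))} [GrpObj G] [LocallyOfFiniteType G.hom] [QuasiCompact G.hom]
    [LocallyOfFiniteType X.hom] (a : AlgGrp.Action G X)
    (φ : G ⟶ X) (hφ : (G ◁ φ) ≫ a.act = μ[G] ≫ φ) :
    IsLocallyClosed (Set.range φ.left) := by
  have : IsLocallyNoetherian X.left := LocallyOfFiniteType.isLocallyNoetherian X.hom
  have : QuasiSeparated X.hom := (HasAffineProperty.iff_of_isAffine (P := @QuasiSeparated)).2 inferInstance
  have hw : φ.left ≫ X.hom = G.hom := Over.w φ
  have : LocallyOfFiniteType φ.left := by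
    have : LocallyOfFiniteType (φ.left ≫ X.hom) := by rw [hw]; infer_instance
    exact locallyOfFiniteType_of_comp φ.left X.hom
  have : QuasiCompact φ.left := by
    have : QuasiCompact (φ.left ≫ X.hom) := by rw [hw]; infer_instance
    exact .of_comp φ.left X.hom
  have : JacobsonSpace G.left := LocallyOfFiniteType.jacobsonSpace G.hom
  set f := φ.left with hf
  have : IsLocallyNoetherian f.image := LocallyOfFiniteType.isLocallyNoetherian f.imageι
  have : LocallyOfFiniteType f.toImage := by
    have : LocallyOfFiniteType (f.toImage ≫ f.imageι) := by rw [f.toImage_imageι]; infer_instance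
    exact locallyOfFiniteType_of_comp f.toImage f.imageι
  have : LocallyOfFinitePresentation f.toImage := by
    refine HasRingHomProperty.iff_appLE.2 fun U V e => ?_
    have : IsNoetherianRing Γ(f.image, U.1) := IsLocallyNoetherian.component_noetherian U
    exact RingHom.FinitePresentation.of_finiteType.1
      (HasRingHomProperty.appLE (P := @LocallyOfFiniteType) f.toImage inferInstance U V e)
  have : QuasiCompact f.toImage := by
    have : QuasiCompact (f.toImage ≫ f.imageι) := by rw [f.toImage_imageι]; infer_instance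
    exact .of_comp f.toImage f.imageι
  have hE : Topology.IsLocallyConstructible (Set.range f.toImage) := by
    rw [← Set.image_univ]
    exact f.toImage.isLocallyConstructible_image Topology.IsConstructible.univ.isLocallyConstructible
  have := schDominant_toImage f
  have hd : Dense (Set.range f.toImage) := f.toImage.denseRange
  have hint := dense_interior_of_constructible hE hd
  -- the unit point
  have hG : Nonempty G.left := ⟨(η[G]).left (IsLocalRing.closedPoint k)⟩
  obtain ⟨z, -, hz⟩ := hint.inter_open_nonempty _ isOpen_univ ⟨f.toImage hG.some, trivial⟩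
  obtain ⟨V, hV, hVE⟩ := f.imageι.isClosedEmbedding.isInducing.isOpen_iff.1 (isOpen_interior (s := Set.range f.toImage))
  have hC : closure (Set.range f) = Set.range f.imageι := by
    have : Set.range f = f.imageι '' Set.range f.toImage := by
      rw [← Set.range_comp]
      conv_lhs => rw [← f.toImage_imageι]
      rfl
    rw [this, f.imageι.isClosedEmbedding.closure_image_eq, hd.closure_eq, Set.image_univ]
  have hVC : V ∩ Set.range f.imageι ⊆ Set.range f := by
    rintro _ ⟨hv, w, rfl⟩
    have : w ∈ interior (Set.range f.toImage) := hVE ▸ hv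
    obtain ⟨g, hg⟩ := interior_subset this
    exact ⟨g, by rw [← hg]; exact congr($(f.toImage_imageι) g).symm⟩
  have hz' : f.imageι z ∈ V := by rw [← hVE] at hz; exact hz
  -- translations preserve the range and its closure
  have htr : ∀ σ : 𝟙_ (Over (Spec (CommRingCat.of k))) ⟶ G, ∀ g,
      (xTrans a σ).hom.left (f g) = f ((lTrans σ).hom.left g) := fun σ g =>
    (congr(($(lTrans_comp_equivariant a φ hφ σ)).left g)).symm
  let H (σ : 𝟙_ (Over (Spec (CommRingCat.of k))) ⟶ G) : X.left ≃ₜ X.left :=
    ((Over.forget _).mapIso (xTrans a σ)).hom.homeomorph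
  have hR : ∀ σ, H σ '' Set.range f = Set.range f := by
    intro σ
    rw [← Set.range_comp]
    have hc : (H σ ∘ f : G.left → X.left) = f ∘ (lTrans σ).hom.left := funext (htr σ)
    rw [hc, Set.range_comp, Function.Surjective.range_eq (f := (lTrans σ).hom.left), Set.image_univ]
    exact ((Over.forget _).mapIso (lTrans σ)).hom.homeomorph.surjective
  let Ω : Set X.left := ⋃ σ, H σ '' V
  have hΩ : IsOpen Ω := isOpen_iUnion fun σ => (H σ).isOpenMap _ hV
  refine ⟨Ω, closure (Set.range f), hΩ, isClosed_closure, subset_antisymm (fun y hy => ⟨?_, subset_closure hy⟩) ?_⟩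
  · rintro y ⟨hy, hyC⟩
    obtain ⟨σ, v, hv, rfl⟩ := Set.mem_iUnion.1 hy
    rw [← hR σ] at hyC ⊢
    rw [← Homeomorph.image_closure] at hyC
    obtain ⟨v', hv', hvv⟩ := hyC
    obtain rfl := (H σ).injective hvv
    exact ⟨_, hVC ⟨hv, hC ▸ hv'⟩, rfl⟩
  · obtain ⟨g, rfl⟩ := hy
    obtain ⟨g', hg', hspec⟩ : ∃ g', g' ∈ closedPoints G.left ∧ g ⤳ g' := by
      obtain ⟨g', h1, h2⟩ := nonempty_inter_closedPoints (Z := closure {g}) ⟨g, subset_closure rfl⟩ isClosed_closure.isLocallyClosed
      exact ⟨g', h2, specializes_iff_mem_closure.2 h1⟩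
    refine (hspec.map f.continuous).mem_open hΩ ?_
    obtain ⟨g0, hg0⟩ := hVC ⟨hz', ⟨z, rfl⟩⟩
    obtain ⟨g1, hg1, hg1c⟩ := nonempty_inter_closedPoints (Z := f ⁻¹' V) ⟨g0, show f g0 ∈ V from hg0 ▸ hz'⟩
      (hV.preimage f.continuous).isLocallyClosed
    obtain ⟨σ, hσ⟩ := exists_lTrans_eq g1 g' hg1c hg'
    exact Set.mem_iUnion.2 ⟨σ, f g1, hg1, (htr σ g1).trans (by rw [hσ])⟩

end Orbit

section OrbitLemmas
open Var76.ActTrans

variable {k : Type u} [Field k] [IsAlgClosed k] {G X : Over (Spec (CommRingCat.of k))}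

lemma rat_isClosed [LocallyOfFiniteType X.hom] (x : 𝟙_ (Over (Spec (CommRingCat.of k))) ⟶ X) :
    IsClosed {x.left (IsLocalRing.closedPoint k)} :=
  (pointEquivClosedPoint X.hom ⟨x.left, Over.w x⟩).2

end OrbitLemmas

end Groth.Agent.AlgGrp79
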