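import Groth.Agent.AlgGrp79.Chart
import Groth.Agent.AlgGrp79.Orbit
import Groth.Agent.AlgGrp79.ProdDense
import Groth.Agent.AlgGrp79.RigidityGlobal
import Groth.Agent.FBase64.Products
import Groth.Agent.S0348

set_option autoImplicit false
universe u v w

open CategoryTheory MonoidalCategory CartesianMonoidalCategory MonObj AlgebraicGeometry CategoryTheory.Limits
open scoped commutatorElement TensorProduct

namespace Groth.Agent.AlgGrp79

section RosUnits
variable {k : Type u} [Field k] [IsAlgClosed k]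

/-- An element lying in every valuation ring containing the algebraically closed ground field is constant. -/
lemma mem_const_of_forall_valuationSubring {L : Type u} [Field L] [Algebra k L] (x : L)
    (h : ∀ V : ValuationSubring L, (∀ c : k, algebraMap k L c ∈ V) → x ∈ V) : ∃ c : k, algebraMap k L c = x := by
  by_contra hx
  have : IsIntegrallyClosedIn (algebraMap k L).range L := by
    rw [Subring.isIntegrallyClosedIn_iff]
    intro y hy
    have hy' : IsIntegral k y := by
      obtain ⟨p, hp, hp0⟩ := hy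
      obtain ⟨q, hq, -, hqm⟩ := Polynomial.lifts_and_degree_eq_and_monic (f := (algebraMap k L).rangeRestrict)
        (p := p) ((Polynomial.lifts_iff_coeff_lifts _).2 (fun n => Set.mem_range.2 ((algebraMap k L).rangeRestrict_surjective _))) hp
      refine ⟨q, hqm, ?_⟩
      rw [← hq, Polynomial.eval₂_map] at hp0
      exact hp0
    exact minpoly.mem_range_of_degree_eq_one k y (IsAlgClosed.degree_eq_one_of_irreducible k (minpoly.irreducible hy'))
  obtain ⟨V, hV, hxV⟩ := Subring.exists_le_valuationSubring_of_isIntegrallyClosedIn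
    (R := (algebraMap k L).range) (x := x) hx
  exact hxV (h V fun c => hV ⟨c, rfl⟩)

variable {A B : Type u} [CommRing A] [Algebra k A] [CommRing B] [Algebra k B]

/-- Evaluation of a tensor at a point of the second factor. -/
noncomputable def evR (ψ : B →ₐ[k] k) : A ⊗[k] B →ₐ[k] A :=
  Algebra.TensorProduct.lift (AlgHom.id k A) ((Algebra.ofId k A).comp ψ) fun _ _ => Commute.all _ _

omit [IsAlgClosed k] in
lemma evR_tmul (ψ : B →ₐ[k] k) (a : A) (b : B) : evR ψ (a ⊗ₜ[k] b) = ψ b • a := by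
  simp [evR, Algebra.smul_def, mul_comm, Algebra.ofId_apply]

omit [IsAlgClosed k] in
/-- Points whose evaluation of `F` lies in a subspace are cut out by elements of `B`. -/
lemma evR_mem_iff (F : A ⊗[k] B) (U : Submodule k A) :
    ∃ T : Set B, ∀ ψ : B →ₐ[k] k, evR ψ F ∈ U ↔ ∀ t ∈ T, ψ t = 0 := by
  let T : Set B := {t | ∃ ℓ : A →ₗ[k] k, (∀ u ∈ U, ℓ u = 0) ∧
    TensorProduct.lift ((LinearMap.lsmul k B).comp ℓ) F = t}
  have key : ∀ (ψ : B →ₐ[k] k) (ℓ : A →ₗ[k] k),
      ψ (TensorProduct.lift ((LinearMap.lsmul k B).comp ℓ) F) = ℓ (evR ψ F) := by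
    intro ψ ℓ
    induction F with
    | zero => simp
    | tmul a b => simp [evR_tmul, mul_comm]
    | add x y hx hy => simp [hx, hy]
  refine ⟨T, fun ψ => ⟨fun h => ?_, fun h => ?_⟩⟩
  · rintro _ ⟨ℓ, hℓ, rfl⟩
    rw [key]; exact hℓ _ h
  · by_contra hn
    obtain ⟨ℓ, hℓ0, hℓU⟩ := Submodule.exists_dual_map_eq_bot_of_notMem hn inferInstance
    refine hℓ0 ?_
    rw [← key ψ ℓ]
    refine h _ ⟨ℓ, fun u hu => ?_, rfl⟩
    have : ℓ u ∈ U.map ℓ := Submodule.mem_map_of_mem hu
    rwa [hℓU] at this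

/-- A unit of a tensor product of domains has proportional evaluations at the points of the second factor. -/
lemma evR_proportional [IsDomain A] [IsDomain B] [Algebra.FiniteType k B] (F : A ⊗[k] B) (hF : IsUnit F)
    (ψ₀ ψ₁ : B →ₐ[k] k) : ∃ c : k, evR ψ₁ F = c • evR ψ₀ F := by
  obtain ⟨F, rfl⟩ := hF
  let L := FractionRing A
  let jL : A →ₐ[k] L := IsScalarTower.toAlgHom k A L
  have hjL : Function.Injective jL := IsFractionRing.injective A L
  have hunit : ∀ ψ : B →ₐ[k] k, jL (evR ψ (F : A ⊗[k] B)) * jL (evR ψ (↑F⁻¹ : A ⊗[k] B)) = 1 := fun ψ => by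
    rw [← map_mul, ← map_mul, Units.mul_inv, map_one, map_one]
  let f0 := jL (evR ψ₀ (F : A ⊗[k] B)); let f1 := jL (evR ψ₁ (F : A ⊗[k] B))
  have hf0 : f0 ≠ 0 := left_ne_zero_of_mul_eq_one (hunit ψ₀)
  obtain ⟨c, hc⟩ := mem_const_of_forall_valuationSubring (k := k) (f1 / f0) (fun V hV => by
    let v := V.valuation
    have hconst : ∀ c : k, v (algebraMap k L c) ≤ 1 := fun c => (V.valuation_le_one_iff _).2 (hV c)
    -- the two subspaces
    let m := v f0
    have hm : m ≠ 0 := (v.ne_zero_iff).2 hf0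
    have hsmul : ∀ (c : k) (a : A), v (jL (c • a)) ≤ v (jL a) := fun c a => by
      rw [map_smul, Algebra.smul_def, map_mul]
      exact mul_le_of_le_one_left' (hconst c)
    let U : Submodule k A :=
      { carrier := {a | v (jL a) ≤ m}
        add_mem' := fun {a b} ha hb => by
          show v (jL (a + b)) ≤ m
          rw [map_add]; exact v.map_add_le ha hb
        zero_mem' := by show v (jL 0) ≤ m; simp
        smul_mem' := fun c a ha => show v (jL (c • a)) ≤ m from le_trans (hsmul c a) ha }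
    let U' : Submodule k A :=
      { carrier := {a | v (jL a) < m⁻¹}
        add_mem' := fun {a b} ha hb => by
          show v (jL (a + b)) < m⁻¹
          rw [map_add]; exact v.map_add_lt ha hb
        zero_mem' := by show v (jL 0) < m⁻¹; simp [zero_lt_iff, hm]
        smul_mem' := fun c a ha => show v (jL (c • a)) < m⁻¹ from lt_of_le_of_lt (hsmul c a) ha }
    obtain ⟨T, hT⟩ := evR_mem_iff (F : A ⊗[k] B) U
    obtain ⟨T', hT'⟩ := evR_mem_iff (↑F⁻¹ : A ⊗[k] B) U'
    have hor : ∀ ψ : B →ₐ[k] k, (∀ t ∈ T, ψ t = 0) ∨ (∀ t ∈ T', ψ t = 0) := by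
      intro ψ
      rw [← hT, ← hT']
      by_cases h : v (jL (evR ψ (F : A ⊗[k] B))) ≤ m
      · exact Or.inl h
      · refine Or.inr ?_
        show v (jL (evR ψ (↑F⁻¹ : A ⊗[k] B))) < m⁻¹
        rw [eq_inv_of_mul_eq_one_right (hunit ψ), map_inv₀]
        exact inv_strictAnti₀ (zero_lt_iff.2 hm) (not_le.1 h)
    have hpts : ∀ b : B, (∀ ψ : B →ₐ[k] k, ψ b = 0) → b = 0 := fun b hb => by
      by_contra hb0
      let Bb := Localization.Away b
      have : Nontrivial Bb :=
        (IsLocalization.injective Bb (powers_le_nonZeroDivisors_of_noZeroDivisors hb0)).nontrivial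
      obtain ⟨M, hM⟩ := Ideal.exists_maximal Bb
      let := Ideal.Quotient.field M
      have : Algebra.FiniteType k Bb := Algebra.FiniteType.trans (S := B) inferInstance inferInstance
      have : Algebra.FiniteType k (Bb ⧸ M) :=
        Algebra.FiniteType.of_surjective (Ideal.Quotient.mkₐ k M) (Ideal.Quotient.mkₐ_surjective k M)
      have : Module.Finite k (Bb ⧸ M) := finite_of_finite_type_of_isJacobsonRing k (Bb ⧸ M)
      let e := (AlgEquiv.ofBijective (Algebra.ofId k (Bb ⧸ M))
        (IsAlgClosed.algebraMap_bijective_of_isIntegral (k := k) (K := Bb ⧸ M))).symm.toAlgHom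
      let φ : B →ₐ[k] k := (e.comp (Ideal.Quotient.mkₐ k M)).comp (IsScalarTower.toAlgHom k B Bb)
      have hu : IsUnit (φ b) := IsUnit.map (e.comp (Ideal.Quotient.mkₐ k M))
        (IsLocalization.Away.algebraMap_isUnit b)
      exact hu.ne_zero (hb φ)
    have hT0 : ∀ t ∈ T, t = 0 := by
      by_contra hne
      push Not at hne
      obtain ⟨t, ht, ht0⟩ := hne
      have hT'0 : ∀ t' ∈ T', t' = 0 := fun t' ht' => by
        have : t * t' = 0 := hpts _ fun ψ => by
          rcases hor ψ with h | h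
          · rw [map_mul, h t ht, zero_mul]
          · rw [map_mul, h t' ht', mul_zero]
        exact (mul_eq_zero.1 this).resolve_left ht0
      have := (hT' ψ₀).2 fun t' ht' => by rw [hT'0 t' ht', map_zero]
      have h2 : v (jL (evR ψ₀ (↑F⁻¹ : A ⊗[k] B))) < m⁻¹ := this
      rw [eq_inv_of_mul_eq_one_right (hunit ψ₀), map_inv₀] at h2
      exact lt_irrefl _ h2
    have h1 : v f1 ≤ m := (hT ψ₁).2 fun t ht => by rw [hT0 t ht, map_zero]
    apply (V.valuation_le_one_iff _).1
    show v (f1 / f0) ≤ 1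
    rw [map_div₀]
    exact div_le_one_of_le₀ h1 zero_le)
  refine ⟨c, hjL ?_⟩
  rw [map_smul, Algebra.smul_def, hc]
  exact (div_mul_cancel₀ f1 hf0).symm

/-- Points with values in the ground field. -/
noncomputable abbrev kPt (k : Type u) [Field k] : Over (Spec (CommRingCat.of k)) := specO k k

/-- The value of a global function at a rational point. -/
noncomputable def gval {X : Over (Spec (CommRingCat.of k))} (x : kPt k ⟶ X) (f : Γ(X.left, ⊤)) : k :=
  (Scheme.ΓSpecIso (CommRingCat.of k)).hom (x.left.appTop f)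

omit [IsAlgClosed k] in
lemma gval_comp {X Y : Over (Spec (CommRingCat.of k))} (x : kPt k ⟶ X) (g : X ⟶ Y) (f : Γ(Y.left, ⊤)) :
    gval (x ≫ g) f = gval x (g.left.appTop f) := by
  simp [gval]

omit [IsAlgClosed k] in
lemma gval_mul {X : Over (Spec (CommRingCat.of k))} (x : kPt k ⟶ X) (f g : Γ(X.left, ⊤)) :
    gval x (f * g) = gval x f * gval x g := by
  simp [gval]

omit [IsAlgClosed k] in
lemma gval_one {X : Over (Spec (CommRingCat.of k))} (x : kPt k ⟶ X) : gval x (1 : Γ(X.left, ⊤)) = 1 := by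
  simp [gval]

omit [IsAlgClosed k] in
lemma gval_ne_zero {X : Over (Spec (CommRingCat.of k))} (x : kPt k ⟶ X) {f : Γ(X.left, ⊤)} (hf : IsUnit f) :
    gval x f ≠ 0 := ((hf.map x.left.appTop.hom).map (Scheme.ΓSpecIso (CommRingCat.of k)).hom.hom).ne_zero

omit [IsAlgClosed k] in
lemma kPt_iso : Nonempty (kPt k ≅ 𝟙_ (Over (Spec (CommRingCat.of k)))) :=
  ⟨Over.isoMk (Iso.refl _) (by
    show 𝟙 _ ≫ 𝟙 _ = Spec.map (CommRingCat.ofHom (algebraMap k k))
    rw [Category.id_comp]; exact (Spec.map_id _).symm)⟩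

lemma exists_kPt {X : Over (Spec (CommRingCat.of k))} [LocallyOfFiniteType X.hom] (x : X.left) (hx : IsClosed {x}) :
    ∃ p : kPt k ⟶ X, p.left (IsLocalRing.closedPoint k) = x := by
  obtain ⟨e⟩ := kPt_iso (k := k)
  refine ⟨e.hom ≫ Var76.ActTrans.sec X x hx, ?_⟩
  rw [Over.comp_left, Scheme.Hom.comp_apply]
  exact Var76.ActTrans.sec_apply X x hx _

/-- Functions on a reduced variety are determined by their values at the rational points. -/
lemma eq_of_gval {X : Over (Spec (CommRingCat.of k))} [LocallyOfFiniteType X.hom] [IsReduced X.left]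
    (f g : Γ(X.left, ⊤)) (h : ∀ x : kPt k ⟶ X, gval x f = gval x g) : f = g := by
  have : JacobsonSpace X.left := LocallyOfFiniteType.jacobsonSpace X.hom
  rw [← sub_eq_zero]
  refine (basicOpen_eq_bot_iff _).1 ?_
  ext1
  rw [TopologicalSpace.Opens.coe_bot]
  by_contra hne
  obtain ⟨x, hx, hxc⟩ := nonempty_inter_closedPoints (Set.nonempty_iff_ne_empty.2 hne)
    (X.left.basicOpen (f - g)).isOpen.isLocallyClosed
  obtain ⟨p, hp⟩ := exists_kPt x hxc
  have h0 : p.left.appTop (f - g) = 0 := by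
    have h' := h p
    simp only [gval] at h'
    rw [map_sub, sub_eq_zero]
    exact (Scheme.ΓSpecIso (CommRingCat.of k)).commRingCatIsoToRingEquiv.injective h'
  have hmem : IsLocalRing.closedPoint k ∈ p.left ⁻¹ᵁ X.left.basicOpen (f - g) := by
    show p.left (IsLocalRing.closedPoint k) ∈ X.left.basicOpen (f - g); rw [hp]; exact hx
  rw [Scheme.preimage_basicOpen] at hmem
  erw [h0, Scheme.basicOpen_zero] at hmem
  exact hmem.elim

omit [IsAlgClosed k] in
lemma gval_spec (φ : A →ₐ[k] k) (a : A) :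
    gval (specPt φ) ((Scheme.ΓSpecIso (CommRingCat.of A)).inv a) = φ a := by
  have := congr($(Scheme.ΓSpecIso_inv_naturality (CommRingCat.ofHom φ.toRingHom)) a)
  simp only [ConcreteCategory.comp_apply] at this
  simp only [gval, specPt_left]
  erw [← this]
  simp

omit [IsAlgClosed k] in
lemma lift_specPt (φ : A →ₐ[k] k) (ψ : B →ₐ[k] k) :
    specPt (φ.comp (evR ψ)) ≫ (tensorIso A B).hom = lift (specPt φ) (specPt ψ) := by
  ext : 1
  · rw [Category.assoc, tensorIso_hom_fst, specPt_comp, lift_fst]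
    congr 1
    ext a
    show φ (evR ψ (a ⊗ₜ[k] (1 : B))) = φ a
    rw [evR_tmul, map_one, one_smul]
  · rw [Category.assoc, tensorIso_hom_snd, specPt_comp, lift_snd]
    congr 1
    ext b
    show φ (evR ψ ((1 : A) ⊗ₜ[k] b)) = ψ b
    rw [evR_tmul, map_smul, map_one, smul_eq_mul, _root_.mul_one]

/-- Rosenlicht: the two point functions of a unit on a product are multiplicatively separated. -/
theorem gval_cross {X Y : Over (Spec (CommRingCat.of k))} [IsIntegral X.left] [LocallyOfFiniteType X.hom]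
    [IsIntegral Y.left] [LocallyOfFiniteType Y.hom] (f : Γ((X ⊗ Y).left, ⊤)) (hf : IsUnit f)
    (x x' : kPt k ⟶ X) (y y' : kPt k ⟶ Y) :
    gval (lift x y) f * gval (lift x' y') f = gval (lift x y') f * gval (lift x' y) f := by
  have hnz : ∀ (p : kPt k ⟶ X) (q : kPt k ⟶ Y), gval (lift p q) f ≠ 0 := fun p q => gval_ne_zero _ hf
  let R (p p' : kPt k ⟶ X) (q q' : kPt k ⟶ Y) : Prop :=
    gval (lift p q) f * gval (lift p' q') f = gval (lift p q') f * gval (lift p' q) f
  -- inside affine charts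
  have hloc : ∀ (W : X.left.Opens) (V : Y.left.Opens), IsAffineOpen W → IsAffineOpen V →
      ∀ (p p' : kPt k ⟶ X) (q q' : kPt k ⟶ Y), p.left (IsLocalRing.closedPoint k) ∈ W → p'.left (IsLocalRing.closedPoint k) ∈ W →
      q.left (IsLocalRing.closedPoint k) ∈ V → q'.left (IsLocalRing.closedPoint k) ∈ V → R p p' q q' := by
    intro W V hW hV p p' q q' hp hp' hq hq'
    have : Nonempty W := ⟨⟨_, hp⟩⟩
    have : Nonempty V := ⟨⟨_, hq⟩⟩
    letI := secAlg X W; letI := secAlg Y V
    have : Algebra.FiniteType k Γ(Y.left, V) := by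
      have h1 : LocallyOfFiniteType (Spec.map (CommRingCat.ofHom (algebraMap k Γ(Y.left, V)))) := by
        have := Over.w (chart Y V hV)
        rw [show Spec.map (CommRingCat.ofHom (algebraMap k Γ(Y.left, V))) = (specO k Γ(Y.left, V)).hom from rfl, ← this, chart_left]
        infer_instance
      rw [HasRingHomProperty.Spec_iff (P := @LocallyOfFiniteType)] at h1
      exact RingHom.finiteType_algebraMap.1 h1
    have hlift : ∀ (Z : Over (Spec (CommRingCat.of k))) (U : Z.left.Opens) (hU : IsAffineOpen U) (r : kPt k ⟶ Z),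
        r.left (IsLocalRing.closedPoint k) ∈ U → letI := secAlg Z U
        ∃ φ : Γ(Z.left, U) →ₐ[k] k, specPt φ ≫ chart Z U hU = r := by
      intro Z U hU r hr
      letI := secAlg Z U
      have hrange : Set.range r.left ⊆ Set.range hU.fromSpec := by
        rintro _ ⟨c, rfl⟩
        rw [hU.range_fromSpec, Subsingleton.elim (α := PrimeSpectrum k) c (IsLocalRing.closedPoint k)]
        exact hr
      let r' : kPt k ⟶ specO k Γ(Z.left, U) := Over.homMk (IsOpenImmersion.lift hU.fromSpec r.left hrange) (by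
        show IsOpenImmersion.lift hU.fromSpec r.left hrange ≫ (specO k Γ(Z.left, U)).hom = _
        rw [← Over.w (chart Z U hU), chart_left, IsOpenImmersion.lift_fac_assoc, Over.w])
      obtain ⟨φ, hφ⟩ := exists_specPt r'
      refine ⟨φ, ?_⟩
      rw [hφ]; ext : 1
      exact IsOpenImmersion.lift_fac _ _ _
    obtain ⟨φ, rfl⟩ := hlift X W hW p hp
    obtain ⟨φ', rfl⟩ := hlift X W hW p' hp'
    obtain ⟨ψ, rfl⟩ := hlift Y V hV q hq
    obtain ⟨ψ', rfl⟩ := hlift Y V hV q' hq'
    let c : specO k (Γ(X.left, W) ⊗[k] Γ(Y.left, V)) ⟶ X ⊗ Y :=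
      (tensorIso _ _).hom ≫ (chart X W hW ⊗ₘ chart Y V hV)
    let F : Γ(X.left, W) ⊗[k] Γ(Y.left, V) := (Scheme.ΓSpecIso _).hom (c.left.appTop f)
    have hFu : IsUnit F := (hf.map c.left.appTop.hom).map (Scheme.ΓSpecIso _).hom.hom
    have hev : ∀ (α : Γ(X.left, W) →ₐ[k] k) (β : Γ(Y.left, V) →ₐ[k] k),
        gval (lift (specPt α ≫ chart X W hW) (specPt β ≫ chart Y V hV)) f = α (evR β F) := by
      intro α β
      have hl : lift (specPt α ≫ chart X W hW) (specPt β ≫ chart Y V hV) = specPt (α.comp (evR β)) ≫ c := by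
        simp only [c, ← Category.assoc, lift_specPt, lift_map]
      rw [hl, gval_comp]
      have : c.left.appTop f = (Scheme.ΓSpecIso _).inv F := by
        show _ = ((Scheme.ΓSpecIso _).hom ≫ (Scheme.ΓSpecIso _).inv) (c.left.appTop f)
        rw [Iso.hom_inv_id]; rfl
      rw [this, gval_spec]; rfl
    obtain ⟨d, hd⟩ := evR_proportional F hFu ψ ψ'
    show gval _ f * gval _ f = gval _ f * gval _ f
    simp only [hev, hd, map_smul, smul_eq_mul]
    ring
  have htransX : ∀ p p' p'' q q', R p p'' q q' → R p'' p' q q' → R p p' q q' := by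
    intro p p' p'' q q' h1 h2
    have := hnz p'' q; have := hnz p'' q'
    simp only [R] at h1 h2 ⊢
    apply mul_right_cancel₀ (mul_ne_zero (hnz p'' q) (hnz p'' q'))
    linear_combination (gval (lift p' q') f * gval (lift p'' q) f) * h1 + (gval (lift p q') f * gval (lift p'' q) f) * h2
  have htransY : ∀ p p' q q' q'', R p p' q q'' → R p p' q'' q' → R p p' q q' := by
    intro p p' q q' q'' h1 h2
    simp only [R] at h1 h2 ⊢
    apply mul_right_cancel₀ (mul_ne_zero (hnz p q'') (hnz p' q''))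
    linear_combination (gval (lift p' q') f * gval (lift p q'') f) * h1 + (gval (lift p' q) f * gval (lift p q'') f) * h2
  have hbridge : ∀ (Z : Over (Spec (CommRingCat.of k))) (_ : IsIntegral Z.left) (_ : LocallyOfFiniteType Z.hom) (r r' : kPt k ⟶ Z),
      ∃ (U U' : Z.left.Opens) (r'' : kPt k ⟶ Z), IsAffineOpen U ∧ IsAffineOpen U' ∧ r.left (IsLocalRing.closedPoint k) ∈ U ∧
        r'.left (IsLocalRing.closedPoint k) ∈ U' ∧ r''.left (IsLocalRing.closedPoint k) ∈ U ∧ r''.left (IsLocalRing.closedPoint k) ∈ U' := by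
    intro Z _ _ r r'
    have : JacobsonSpace Z.left := LocallyOfFiniteType.jacobsonSpace Z.hom
    obtain ⟨U, hU, hrU, -⟩ := exists_isAffineOpen_mem_and_subset (U := (⊤ : Z.left.Opens)) (x := r.left (IsLocalRing.closedPoint k)) trivial
    obtain ⟨U', hU', hrU', -⟩ := exists_isAffineOpen_mem_and_subset (U := (⊤ : Z.left.Opens)) (x := r'.left (IsLocalRing.closedPoint k)) trivial
    obtain ⟨z, hz, hzc⟩ := nonempty_inter_closedPoints (nonempty_preirreducible_inter U.isOpen U'.isOpen ⟨_, hrU⟩ ⟨_, hrU'⟩)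
      (U.isOpen.inter U'.isOpen).isLocallyClosed
    obtain ⟨r'', hr''⟩ := exists_kPt z hzc
    exact ⟨U, U', r'', hU, hU', hrU, hrU', hr'' ▸ hz.1, hr'' ▸ hz.2⟩
  obtain ⟨W, W', x'', hW, hW', hx, hx', hx1, hx2⟩ := hbridge X inferInstance inferInstance x x'
  obtain ⟨V, V', y'', hV, hV', hy, hy', hy1, hy2⟩ := hbridge Y inferInstance inferInstance y y'
  exact htransX x x' x'' y y'
    (htransY _ _ _ _ y'' (hloc W V hW hV _ _ _ _ hx hx1 hy hy1) (hloc W V' hW hV' _ _ _ _ hx hx1 hy2 hy'))
    (htransY _ _ _ _ y'' (hloc W' V hW' hV _ _ _ _ hx2 hx' hy hy1) (hloc W' V' hW' hV' _ _ _ _ hx2 hx' hy2 hy'))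

lemma exists_kPt_of_nonempty (X : Over (Spec (CommRingCat.of k))) [LocallyOfFiniteType X.hom] [Nonempty X.left] :
    Nonempty (kPt k ⟶ X) := by
  have : JacobsonSpace X.left := LocallyOfFiniteType.jacobsonSpace X.hom
  obtain ⟨z, -, hz⟩ := nonempty_inter_closedPoints (Z := (Set.univ : Set X.left)) Set.univ_nonempty isClosed_univ.isLocallyClosed
  obtain ⟨p, -⟩ := exists_kPt z hz
  exact ⟨p⟩

omit [IsAlgClosed k] in
lemma isUnit_appTop {X Y : Over (Spec (CommRingCat.of k))} (g : X ⟶ Y) {f : Γ(Y.left, ⊤)} (hf : IsUnit f) :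
    IsUnit (g.left.appTop f) := hf.map g.left.appTop.hom

/-- The constant function. -/
noncomputable def cst (X : Over (Spec (CommRingCat.of k))) : k →+* Γ(X.left, ⊤) :=
  ((Scheme.ΓSpecIso (CommRingCat.of k)).inv ≫ X.hom.appTop).hom

omit [IsAlgClosed k] in
lemma gval_cst {X : Over (Spec (CommRingCat.of k))} (x : kPt k ⟶ X) (c : k) : gval x (cst X c) = c := by
  have hw : x.left ≫ X.hom = Spec.map (CommRingCat.ofHom (algebraMap k k)) := Over.w x
  have h := congr($(congrArg Scheme.Hom.appTop hw) ((Scheme.ΓSpecIso (CommRingCat.of k)).inv c))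
  rw [Scheme.Hom.comp_appTop, ConcreteCategory.comp_apply] at h
  simp only [gval, cst, CommRingCat.hom_comp, RingHom.comp_apply]
  erw [h, show CommRingCat.ofHom (algebraMap k k) = 𝟙 (CommRingCat.of k) from rfl, Spec.map_id]
  simp

lemma reduced_prod (X Y : Over (Spec (CommRingCat.of k))) [IsReduced X.left] [IsReduced Y.left]
    [LocallyOfFiniteType X.hom] : IsReduced (X ⊗ Y).left := by
  have : IsIso (Spec.map (CommRingCat.ofHom (algebraMap k k))) :=
    inferInstanceAs (IsIso (Spec.map (𝟙 (CommRingCat.of k))))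
  have : IsIso (pullback.fst X.hom (Spec.map (CommRingCat.ofHom (algebraMap k k)))) :=
    MorphismProperty.pullback_fst (P := MorphismProperty.isomorphisms Scheme.{u}) _ _ ‹IsIso (Spec.map (CommRingCat.ofHom (algebraMap k k)))›
  have : IsReduced (FBase.bc X.hom k) :=
    @isReduced_of_isOpenImmersion _ _ (pullback.fst X.hom (Spec.map (CommRingCat.ofHom (algebraMap k k)))) (@IsOpenImmersion.of_isIso _ _ _ this) _
  have : GeometricallyReduced X.hom := FBase64.geometricallyReduced_of_isReduced_perfect X.hom k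
  exact FBase64.isReduced_pullback_of_geometricallyReduced X.hom Y.hom

lemma isIntegral_grp (G : Over (Spec (CommRingCat.of k))) [GrpObj G] [Smooth G.hom] [ConnectedSpace G.left] :
    IsIntegral G.left := by
  have := isReduced_of_smooth G.hom
  have : IrreducibleSpace G.left := Groth.Agent.S0348.result k G
  exact isIntegral_of_irreducibleSpace_of_isReduced _

lemma isCharacter_of_unit {G : Over (Spec (CommRingCat.of k))} [GrpObj G] [Smooth G.hom] [ConnectedSpace G.left]
    (f : Γ(G.left, ⊤)) (hf : IsUnit f) (he : ∀ u : kPt k ⟶ 𝟙_ (Over (Spec (CommRingCat.of k))), gval u (η[G].left.appTop f) = 1) :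
    μ[G].left.appTop f = (fst G G).left.appTop f * (snd G G).left.appTop f := by
  have := isIntegral_grp G
  have := reduced_prod G G
  have : LocallyOfFiniteType (G ⊗ G).hom := inferInstanceAs (LocallyOfFiniteType (pullback.fst G.hom G.hom ≫ G.hom))
  refine eq_of_gval _ _ fun p => ?_
  have h := gval_cross (μ[G].left.appTop f) (isUnit_appTop _ hf) (p ≫ fst G G) 1 (p ≫ snd G G) 1
  have h1 : ∀ (a b : kPt k ⟶ G), gval (lift a b) (μ[G].left.appTop f) = gval (a * b) f := fun a b => by
    rw [← gval_comp, Hom.mul_def]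
  rw [h1, h1, h1, h1, _root_.mul_one, _root_.mul_one, _root_.one_mul] at h
  have hone : gval (1 : kPt k ⟶ G) f = 1 := by rw [one_def', gval_comp]; exact he _
  rw [hone, _root_.mul_one] at h
  rw [gval_mul, ← gval_comp, ← gval_comp, ← gval_comp, ← h]
  congr 1
  rw [Hom.mul_def]
  congr 1
  ext : 1 <;> simp

lemma gval_eta {G : Over (Spec (CommRingCat.of k))} [GrpObj G] (f : Γ(G.left, ⊤))
    (u : kPt k ⟶ 𝟙_ (Over (Spec (CommRingCat.of k)))) : gval u (η[G].left.appTop f) = gval (1 : kPt k ⟶ G) f := by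
  rw [← gval_comp, one_def', toUnit_unique u (toUnit _)]

lemma eta_appTop_eq_one {G : Over (Spec (CommRingCat.of k))} [GrpObj G] (f : Γ(G.left, ⊤))
    (h : gval (1 : kPt k ⟶ G) f = 1) : η[G].left.appTop f = 1 := by
  have : LocallyOfFiniteType (𝟙_ (Over (Spec (CommRingCat.of k)))).hom :=
    inferInstanceAs (LocallyOfFiniteType (𝟙 (Spec (CommRingCat.of k))))
  have : IsReduced (𝟙_ (Over (Spec (CommRingCat.of k)))).left := inferInstanceAs (IsReduced (Spec (CommRingCat.of k)))
  exact eq_of_gval _ _ fun u => by rw [gval_eta, h, gval_one]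

end RosUnits

end Groth.Agent.AlgGrp79
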