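import Mathlib
import Groth.Prelude.Def_AlgGrp
import Groth.Agent.AlgGrp79.Act
import Groth.Agent.AlgGrp79.RigidityGlobal
import Groth.Agent.S14578
import Groth.Agent.S11421

set_option autoImplicit false
universe u v w

open CategoryTheory MonoidalCategory CartesianMonoidalCategory MonObj AlgebraicGeometry CategoryTheory.Limits
open scoped commutatorElement

namespace Groth.Agent.AlgGrp79

section AV
variable {k : Type u} [Field k]

lemma antiAffine_of_integral_proper [IsAlgClosed k] {X : Over (Spec (CommRingCat.of k))} [IsIntegral X.left] [IsProper X.hom] :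
    Function.Bijective ((Scheme.ΓSpecIso (CommRingCat.of k)).inv ≫ X.hom.appTop).hom := by
  have hfin : ((Scheme.ΓSpecIso (CommRingCat.of k)).inv ≫ X.hom.appTop).hom.Finite := by
    rw [CommRingCat.hom_comp]
    exact (finite_appTop_of_universallyClosed k X.hom).comp
      (RingHom.Finite.of_surjective _ (ConcreteCategory.bijective_of_isIso (Scheme.ΓSpecIso (CommRingCat.of k)).inv).2)
  have : Nonempty (⊤ : X.left.Opens) := ⟨⟨Nonempty.some inferInstance, trivial⟩⟩
  let := ((Scheme.ΓSpecIso (CommRingCat.of k)).inv ≫ X.hom.appTop).hom.toAlgebra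
  have : Module.Finite k Γ(X.left, ⊤) := hfin
  exact IsAlgClosed.algebraMap_bijective_of_isIntegral (k := k) (K := Γ(X.left, ⊤))

lemma antiAffine_of_abelian [IsAlgClosed k] (A : Over (Spec (CommRingCat.of k))) [GrpObj A] [IsProper A.hom] [Smooth A.hom]
    [ConnectedSpace A.left] : Function.Bijective ((Scheme.ΓSpecIso (CommRingCat.of k)).inv ≫ A.hom.appTop).hom := by
  have : AlgebraicGeometry.IsReduced A.left := isReduced_of_smooth A.hom
  have hirr : IsIrreducible (Set.univ : Set A.left) := by
    have := (Grp57.connectedComponent_unit A).1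
    rwa [PreconnectedSpace.connectedComponent_eq_univ] at this
  have : IrreducibleSpace A.left := { isPreirreducible_univ := hirr.2, toNonempty := inferInstance }
  have : IsIntegral A.left := isIntegral_of_irreducibleSpace_of_isReduced A.left
  exact antiAffine_of_integral_proper

end AV

end Groth.Agent.AlgGrp79
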