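import Groth.Agent.AlgGrp79.Chart
import Groth.Agent.RedPts82.Points
import Groth.Agent.RedPts82.Bridge
import Groth.Prelude.Def_Red2

set_option autoImplicit false
universe u v w

open CategoryTheory MonoidalCategory CartesianMonoidalCategory MonObj AlgebraicGeometry CategoryTheory.Limits
open scoped commutatorElement TensorProduct nonZeroDivisors

namespace Groth.Agent.AlgGrp79

section LineLaws
open scoped Polynomial

variable {k : Type u} [Field k]

lemma mul_one' {C : Type*} [Category C] [CartesianMonoidalCategory C] {M : C} (h : GrpObj M) {T : C} (x : T ⟶ M) :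
    lift x (toUnit T ≫ h.one) ≫ h.mul = x ∧ lift (toUnit T ≫ h.one) x ≫ h.mul = x := by
  letI := h
  have h1 : toUnit T ≫ h.one = (1 : T ⟶ M) := (Hom.one_def).symm
  rw [h1]
  exact ⟨_root_.mul_one x, _root_.one_mul x⟩

lemma law_assoc {C : Type*} [Category C] [CartesianMonoidalCategory C] {M : C} (h : GrpObj M) {T : C} (x y z : T ⟶ M) :
    lift (lift x y ≫ h.mul) z ≫ h.mul = lift x (lift y z ≫ h.mul) ≫ h.mul := by
  letI := h
  exact _root_.mul_assoc x y z

lemma law_inv {C : Type*} [Category C] [CartesianMonoidalCategory C] {M : C} (h : GrpObj M) {T : C} (x : T ⟶ M) :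
    ∃ y, lift x y ≫ h.mul = toUnit T ≫ h.one := by
  letI := h
  exact ⟨x⁻¹, (mul_inv_cancel x).trans Hom.one_def⟩

/-- A binary operation natural in commutative algebras is a polynomial. -/
lemma exists_poly_law (op : ∀ (A : Type u) [CommRing A] [Algebra k A], A → A → A)
    (hnat : ∀ (A B : Type u) [CommRing A] [Algebra k A] [CommRing B] [Algebra k B] (φ : A →ₐ[k] B) (a b : A),
      φ (op A a b) = op B (φ a) (φ b)) :
    ∃ q : (k[X])[X], ∀ (A : Type u) [CommRing A] [Algebra k A] (a b : A),
      op A a b = Polynomial.eval₂ (Polynomial.aeval b).toRingHom a q := by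
  let R2 := MvPolynomial (Fin 2) k
  let e : R2 →ₐ[k] (k[X])[X] := MvPolynomial.aeval ![Polynomial.X, Polynomial.C Polynomial.X]
  refine ⟨e (op R2 (MvPolynomial.X 0) (MvPolynomial.X 1)), fun A _ _ a b => ?_⟩
  let ψ : (k[X])[X] →ₐ[k] A :=
    { Polynomial.eval₂RingHom (Polynomial.aeval b).toRingHom a with
      commutes' := fun r => by simp [Polynomial.algebraMap_apply] }
  show _ = ψ (e _)
  rw [← AlgHom.comp_apply, hnat]
  have h0 : e (MvPolynomial.X 0) = Polynomial.X := MvPolynomial.aeval_X _ _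
  have h1 : e (MvPolynomial.X 1) = Polynomial.C Polynomial.X := MvPolynomial.aeval_X _ _
  rw [AlgHom.comp_apply, AlgHom.comp_apply, h0, h1]
  simp [ψ]

/-- An associative polynomial operation with a unit is of degree at most one in the first variable. -/
lemma natDegree_le_one_of_assoc (q : (k[X])[X]) (op : ∀ (A : Type u) [CommRing A] [Algebra k A], A → A → A)
    (hq : ∀ (A : Type u) [CommRing A] [Algebra k A] (a b : A), op A a b = Polynomial.eval₂ (Polynomial.aeval b).toRingHom a q)
    (hassoc : ∀ (A : Type u) [CommRing A] [Algebra k A] (a b c : A), op A (op A a b) c = op A a (op A b c)) :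
    q.natDegree ≤ 1 := by
  let R := MvPolynomial (Fin 2) k
  let φ : R → (k[X] →+* R) := fun t => (Polynomial.aeval t).toRingHom
  have hev : ∀ (s : R[X]) (t : R), op R[X] s (Polynomial.C t) = (q.map (φ t)).comp s := by
    intro s t
    have hring : (Polynomial.aeval (R := k) (Polynomial.C t)).toRingHom = Polynomial.C.comp (φ t) := by
      apply Polynomial.ringHom_ext
      · intro c; simp [φ, Polynomial.algebraMap_apply]
      · simp [φ]
    rw [hq, Polynomial.comp, Polynomial.eval₂_map, hring]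
  have hinj : ∀ i : Fin 2, Function.Injective (φ (MvPolynomial.X i)) := by
    intro i
    refine Function.LeftInverse.injective (g := MvPolynomial.aeval (fun _ => (Polynomial.X : k[X]))) fun p => ?_
    show ((MvPolynomial.aeval fun _ => (Polynomial.X : k[X])).comp (Polynomial.aeval (MvPolynomial.X i))) p = AlgHom.id k _ p
    congr 1
    ext; simp
  have h := hassoc R[X] Polynomial.X (Polynomial.C (MvPolynomial.X 0)) (Polynomial.C (MvPolynomial.X 1))
  rw [hev, hev] at h
  have hC : op R[X] (Polynomial.C (MvPolynomial.X 0)) (Polynomial.C (MvPolynomial.X 1)) =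
      Polynomial.C (op R (MvPolynomial.X 0) (MvPolynomial.X 1)) := by
    rw [hev, Polynomial.comp_C, hq, Polynomial.eval_map]
  rw [hC, hev, Polynomial.comp_X, Polynomial.comp_X] at h
  have hd := congrArg Polynomial.natDegree h
  rw [Polynomial.natDegree_comp, Polynomial.natDegree_map_eq_of_injective (hinj 1),
    Polynomial.natDegree_map_eq_of_injective (hinj 0)] at hd
  have := hd.le.trans Polynomial.natDegree_map_le
  by_contra hlt
  push Not at hlt
  nlinarith

/-- The group laws on the affine line. -/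
theorem line_law_eq (op : ∀ (A : Type u) [CommRing A] [Algebra k A], A → A → A)
    (hnat : ∀ (A B : Type u) [CommRing A] [Algebra k A] [CommRing B] [Algebra k B] (φ : A →ₐ[k] B) (a b : A),
      φ (op A a b) = op B (φ a) (φ b))
    (hassoc : ∀ (A : Type u) [CommRing A] [Algebra k A] (a b c : A), op A (op A a b) c = op A a (op A b c))
    (c : k) (hunit : ∀ (A : Type u) [CommRing A] [Algebra k A] (a : A),
      op A a (algebraMap k A c) = a ∧ op A (algebraMap k A c) a = a)
    (hinv : ∀ (A : Type u) [CommRing A] [Algebra k A] (a : A), ∃ b, op A a b = algebraMap k A c)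
    (A : Type u) [CommRing A] [Algebra k A] (a b : A) : op A a b = a + b - algebraMap k A c := by
  -- move the unit to zero
  let F : ∀ (A : Type u) [CommRing A] [Algebra k A], A → A → A := fun A _ _ a b =>
    op A (a + algebraMap k A c) (b + algebraMap k A c) - algebraMap k A c
  let F' : ∀ (A : Type u) [CommRing A] [Algebra k A], A → A → A := fun A _ _ a b => F A b a
  have hFnat : ∀ (A B : Type u) [CommRing A] [Algebra k A] [CommRing B] [Algebra k B] (φ : A →ₐ[k] B) (a b : A),
      φ (F A a b) = F B (φ a) (φ b) := by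
    intro A B _ _ _ _ φ a b; simp [F, hnat]
  have hFassoc : ∀ (A : Type u) [CommRing A] [Algebra k A] (a b d : A), F A (F A a b) d = F A a (F A b d) := by
    intro A _ _ a b d; simp [F, hassoc]
  obtain ⟨q, hq⟩ := exists_poly_law F hFnat
  obtain ⟨q', hq'⟩ := exists_poly_law F' (fun A B _ _ _ _ φ a b => hFnat A B φ b a)
  have hd := natDegree_le_one_of_assoc q F hq hFassoc
  have hd' := natDegree_le_one_of_assoc q' F' hq' (fun A _ _ a b d => (hFassoc A d b a).symm)
  have hu : ∀ (A : Type u) [CommRing A] [Algebra k A] (a : A), F A a 0 = a ∧ F A 0 a = a := by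
    intro A _ _ a; constructor <;> simp [F, hunit]
  obtain ⟨β, α, rfl⟩ := Polynomial.exists_eq_X_add_C_of_natDegree_le_one hd
  obtain ⟨β', α', rfl⟩ := Polynomial.exists_eq_X_add_C_of_natDegree_le_one hd'
  have hα : α = Polynomial.X := by
    have := (hu k[X] Polynomial.X).2
    rw [hq] at this
    simpa using this
  have hα' : α' = Polynomial.X := by
    have := (hu k[X] Polynomial.X).1
    rw [show F k[X] Polynomial.X 0 = F' k[X] 0 Polynomial.X from rfl, hq'] at this
    simpa using this
  have hform : ∀ (A : Type u) [CommRing A] [Algebra k A] (a b : A),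
      F A a b = Polynomial.aeval b β * a + b ∧ F A a b = Polynomial.aeval a β' * b + a := by
    intro A _ _ a b
    constructor
    · rw [hq]; simp [hα]
    · rw [show F A a b = F' A b a from rfl, hq']; simp [hα']
  have hβ : ∀ (A : Type u) [CommRing A] [Algebra k A] (b : A), Polynomial.aeval b β = 1 + algebraMap k A (β'.eval 1 - 1) * b := by
    intro A _ _ b
    have h := (hform A 1 b).1.symm.trans (hform A 1 b).2
    have e : Polynomial.aeval (1 : A) β' = algebraMap k A (β'.eval 1) := by
      rw [← map_one (algebraMap k A), Polynomial.aeval_algebraMap_apply]; simp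
    rw [e] at h
    rw [map_sub, map_one]
    linear_combination h
  set e := β'.eval 1 - 1 with he
  have he0 : e = 0 := by
    by_contra hne
    obtain ⟨b, hb⟩ := hinv k[X] (Polynomial.X + algebraMap k k[X] c)
    have hF : F k[X] Polynomial.X (b - algebraMap k k[X] c) = 0 := by simp only [F, sub_add_cancel]; rw [hb, sub_self]
    rw [(hform _ _ _).1, hβ] at hF
    have h0 := congrArg (Polynomial.eval (-e⁻¹)) hF
    simp [Polynomial.algebraMap_apply] at h0
    have h1 : e⁻¹ ≠ 0 := inv_ne_zero hne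
    apply h1
    linear_combination (-1 : k) * h0 + (-(Polynomial.eval (-e⁻¹) b) + c) * (mul_inv_cancel₀ hne)
  have h := (hform A (a - algebraMap k A c) (b - algebraMap k A c)).1
  rw [hβ, he0] at h
  simp [F] at h
  linear_combination h

/-- The units of a Laurent polynomial ring over a domain are monomials. -/
lemma laurent_isUnit {R : Type u} [CommRing R] [IsDomain R] {f : LaurentPolynomial R} (hf : IsUnit f) :
    ∃ (r : Rˣ) (n : ℤ), f = LaurentPolynomial.C (r : R) * LaurentPolynomial.T n := by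
  obtain ⟨g, hfg⟩ := hf.exists_right_inv
  obtain ⟨n, f', hf'⟩ := LaurentPolynomial.exists_T_pow f
  obtain ⟨m, g', hg'⟩ := LaurentPolynomial.exists_T_pow g
  have hprod : f' * g' = Polynomial.X ^ (n + m) := by
    apply Polynomial.toLaurent_injective
    rw [map_mul, hf', hg', Polynomial.toLaurent_X_pow, Nat.cast_add, LaurentPolynomial.T_add]
    linear_combination (LaurentPolynomial.T (n : ℤ) * LaurentPolynomial.T (m : ℤ) : LaurentPolynomial R) * hfg
  obtain ⟨i, -, hi⟩ := (dvd_prime_pow Polynomial.prime_X (n + m)).1 ⟨g', hprod.symm⟩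
  obtain ⟨u, hu⟩ := hi.symm
  obtain ⟨r, hr, hur⟩ := Polynomial.isUnit_iff.1 u.isUnit
  refine ⟨hr.unit, (i : ℤ) - n, ?_⟩
  have h1 : Polynomial.toLaurent f' = LaurentPolynomial.C r * LaurentPolynomial.T (i : ℤ) := by
    rw [← hu, map_mul, Polynomial.toLaurent_X_pow, ← hur, Polynomial.toLaurent_C, mul_comm]
  rw [hf'] at h1
  rw [IsUnit.unit_spec, sub_eq_add_neg, LaurentPolynomial.T_add, ← _root_.mul_assoc, ← h1, _root_.mul_assoc,
    ← LaurentPolynomial.T_add]
  simp

/-- The group laws on the punctured line. -/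
theorem punctured_law_eq (op : ∀ (A : Type u) [CommRing A] [Algebra k A], Aˣ → Aˣ → Aˣ)
    (hnat : ∀ (A B : Type u) [CommRing A] [Algebra k A] [CommRing B] [Algebra k B] (φ : A →ₐ[k] B) (a b : Aˣ),
      Units.map (φ : A →* B) (op A a b) = op B (Units.map (φ : A →* B) a) (Units.map (φ : A →* B) b))
    (c : kˣ) (hunit : ∀ (A : Type u) [CommRing A] [Algebra k A] (a : Aˣ),
      op A a (Units.map (algebraMap k A : k →* A) c) = a ∧ op A (Units.map (algebraMap k A : k →* A) c) a = a)
    (A : Type u) [CommRing A] [Algebra k A] (a b : Aˣ) :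
    op A a b = a * b * (Units.map (algebraMap k A : k →* A) c)⁻¹ := by
  let L1 := LaurentPolynomial k
  let L2 := LaurentPolynomial L1
  let x : L2ˣ := (LaurentPolynomial.isUnit_T 1).unit
  let y : L2ˣ := Units.map (LaurentPolynomial.C (R := L1) : L1 →* L2) (LaurentPolynomial.isUnit_T (R := k) 1).unit
  obtain ⟨r, i, hr⟩ := laurent_isUnit (op L2 x y).isUnit
  obtain ⟨s, j, hs⟩ := laurent_isUnit r.isUnit
  have key : ∀ (A : Type u) [CommRing A] [Algebra k A] (a b : Aˣ),
      op A a b = Units.map (algebraMap k A : k →* A) s * a ^ i * b ^ j := by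
    intro A _ _ a b
    let φ1 : L1 →ₐ[k] A := AddMonoidAlgebra.lift k A ℤ ((Units.coeHom A).comp (zpowersHom Aˣ b))
    have hφ1T : ∀ n : ℤ, φ1 (LaurentPolynomial.T n) = ((b ^ n : Aˣ) : A) := fun n => by
      show AddMonoidAlgebra.lift k A ℤ ((Units.coeHom A).comp (zpowersHom Aˣ b)) (AddMonoidAlgebra.single n 1) = _
      rw [AddMonoidAlgebra.lift_single, one_smul]; simp
    letI : Algebra L1 A := φ1.toRingHom.toAlgebra
    let φ2 : L2 →+* A := (AddMonoidAlgebra.lift L1 A ℤ ((Units.coeHom A).comp (zpowersHom Aˣ a))).toRingHom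
    have hφ2T : ∀ n : ℤ, φ2 (LaurentPolynomial.T n) = ((a ^ n : Aˣ) : A) := fun n => by
      show AddMonoidAlgebra.lift L1 A ℤ ((Units.coeHom A).comp (zpowersHom Aˣ a)) (AddMonoidAlgebra.single n 1) = _
      rw [AddMonoidAlgebra.lift_single, one_smul]; simp
    have hφ2C : ∀ p : L1, φ2 (LaurentPolynomial.C p) = φ1 p := fun p => by
      show AddMonoidAlgebra.lift L1 A ℤ ((Units.coeHom A).comp (zpowersHom Aˣ a)) (AddMonoidAlgebra.single 0 p) = φ1 p
      rw [AddMonoidAlgebra.lift_single, Algebra.smul_def, RingHom.algebraMap_toAlgebra]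
      simp
    let φ : L2 →ₐ[k] A := { φ2 with
      commutes' := fun z => by
        show φ2 (algebraMap k L2 z) = _
        rw [show algebraMap k L2 z = LaurentPolynomial.C (algebraMap k L1 z) by
          rw [IsScalarTower.algebraMap_apply k L1 L2]; rfl, hφ2C, φ1.commutes] }
    have hx : Units.map (φ : L2 →* A) x = a := Units.ext (by
      show φ2 (LaurentPolynomial.T 1) = _
      rw [hφ2T, zpow_one])
    have hy : Units.map (φ : L2 →* A) y = b := Units.ext (by
      show φ2 (LaurentPolynomial.C (LaurentPolynomial.T 1)) = _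
      rw [hφ2C, hφ1T, zpow_one])
    have h := hnat L2 A φ x y
    rw [hx, hy] at h
    rw [← h]
    ext
    show φ2 (op L2 x y : L2) = _
    rw [hr, map_mul, hφ2C, hφ2T, hs, map_mul, hφ1T]
    simp only [Units.val_mul, Units.coe_map, MonoidHom.coe_coe]
    rw [show LaurentPolynomial.C (s : k) = algebraMap k L1 (s : k) from rfl, φ1.commutes]
    ring
  have htor : ∀ (i' : ℤ) (d : kˣ),
      Units.map (algebraMap k L1 : k →* L1) d * (LaurentPolynomial.isUnit_T (R := k) 1).unit ^ i' = (LaurentPolynomial.isUnit_T (R := k) 1).unit →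
      i' = 1 ∧ d = 1 := by
    intro i' d h
    have hT : ∀ n : ℤ, (((LaurentPolynomial.isUnit_T (R := k) 1).unit ^ n : L1ˣ) : L1) = LaurentPolynomial.T n := by
      intro n
      let φ : Multiplicative ℤ →* L1ˣ := MonoidHom.toHomUnits (AddMonoidAlgebra.of k ℤ)
      have h1 : (LaurentPolynomial.isUnit_T (R := k) 1).unit = φ (Multiplicative.ofAdd 1) := Units.ext rfl
      rw [h1, ← map_zpow, ← ofAdd_zsmul, smul_eq_mul, _root_.mul_one]
      rfl
    have h' := congrArg Units.val h
    rw [Units.val_mul, hT, IsUnit.unit_spec] at h'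
    have h'' : (AddMonoidAlgebra.single i' (d : k) : L1) = AddMonoidAlgebra.single 1 1 :=
      (LaurentPolynomial.single_eq_C_mul_T (d : k) i').trans h'
    rcases AddMonoidAlgebra.single_inj.1 h'' with ⟨h1, h2⟩ | ⟨h1, -⟩
    · exact ⟨h1, Units.ext h2⟩
    · exact absurd h1 d.ne_zero
  let t := (LaurentPolynomial.isUnit_T (R := k) 1).unit
  obtain ⟨hi, hdi⟩ := htor i (s * c ^ j) (by
    rw [map_mul, map_zpow, mul_right_comm, ← key]
    exact (hunit L1 t).1)
  obtain ⟨hj, -⟩ := htor j (s * c ^ i) (by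
    rw [map_mul, map_zpow, ← key]
    exact (hunit L1 t).2)
  have hsc : s = c⁻¹ := eq_inv_of_mul_eq_one_left (by rw [← zpow_one c, ← hj]; exact hdi)
  rw [key, hi, hj, hsc, zpow_one, zpow_one, map_inv]
  rw [mul_comm (Units.map _ c)⁻¹, mul_right_comm]

end LineLaws

section PointsLaws
open Groth.Agent.RedPts82
variable {k : Type u} [Field k]

/-- Coordinates of points of the affine line with values in an algebra. -/
noncomputable def gaC {A : Type u} [CommRing A] [Algebra k A] (x : specO k A ⟶ Red.Ga (Spec (CommRingCat.of k))) : A :=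
  (Scheme.ΓSpecIso (CommRingCat.of A)).hom (Red.gaFn x)

noncomputable def gaP {A : Type u} [CommRing A] [Algebra k A] (a : A) : specO k A ⟶ Red.Ga (Spec (CommRingCat.of k)) :=
  gaPt ((Scheme.ΓSpecIso (CommRingCat.of A)).inv a)

lemma gaC_gaP {A : Type u} [CommRing A] [Algebra k A] (a : A) : gaC (gaP (k := k) a) = a := by
  simp [gaC, gaP, gaFn_gaPt]

lemma gaP_gaC {A : Type u} [CommRing A] [Algebra k A] (x : specO k A ⟶ Red.Ga (Spec (CommRingCat.of k))) : gaP (gaC x) = x := by
  simp [gaC, gaP, gaPt_gaFn]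

lemma gaC_specPt {A B : Type u} [CommRing A] [Algebra k A] [CommRing B] [Algebra k B] (φ : A →ₐ[k] B)
    (x : specO k A ⟶ Red.Ga (Spec (CommRingCat.of k))) : gaC (specPt φ ≫ x) = φ (gaC x) := by
  rw [gaC, gaFn_comp, gaC]
  exact congr($(Scheme.ΓSpecIso_naturality (CommRingCat.ofHom φ.toRingHom)) (Red.gaFn x))

lemma gaP_natural {A B : Type u} [CommRing A] [Algebra k A] [CommRing B] [Algebra k B] (φ : A →ₐ[k] B) (a : A) :
    specPt φ ≫ gaP (k := k) a = gaP (φ a) := by
  conv_rhs => rw [← gaC_gaP (k := k) a, ← gaC_specPt]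
  rw [gaP_gaC]

lemma gaLaw_natural {A B : Type u} [CommRing A] [Algebra k A] [CommRing B] [Algebra k B] (φ : A →ₐ[k] B) (a b : A)
    (m : Red.Ga (Spec (CommRingCat.of k)) ⊗ Red.Ga (Spec (CommRingCat.of k)) ⟶ Red.Ga (Spec (CommRingCat.of k))) :
    φ (gaC (lift (gaP (k := k) a) (gaP b) ≫ m)) = gaC (lift (gaP (k := k) (φ a)) (gaP (φ b)) ≫ m) := by
  rw [← gaC_specPt, ← Category.assoc, comp_lift, gaP_natural, gaP_natural]

lemma gmC_aux {A : Type u} [CommRing A] [Algebra k A] (x : specO k A ⟶ Red.Gm (Spec (CommRingCat.of k))) :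
    IsUnit ((Scheme.ΓSpecIso (CommRingCat.of A)).hom (Red.gmFn x)) :=
  (gmFn_isUnit x).map (Scheme.ΓSpecIso (CommRingCat.of A)).hom.hom

/-- Coordinates of points of the punctured line with values in an algebra. -/
noncomputable def gmC {A : Type u} [CommRing A] [Algebra k A] (x : specO k A ⟶ Red.Gm (Spec (CommRingCat.of k))) : Aˣ :=
  (gmC_aux x).unit

noncomputable def gmP {A : Type u} [CommRing A] [Algebra k A] (a : Aˣ) : specO k A ⟶ Red.Gm (Spec (CommRingCat.of k)) :=
  gmPt (Units.map (Scheme.ΓSpecIso (CommRingCat.of A)).inv.hom.toMonoidHom a)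

lemma gmC_gmP {A : Type u} [CommRing A] [Algebra k A] (a : Aˣ) : gmC (gmP (k := k) a) = a := by
  ext
  simp [gmC, gmP, gmFn_gmPt]

lemma gmP_gmC {A : Type u} [CommRing A] [Algebra k A] (x : specO k A ⟶ Red.Gm (Spec (CommRingCat.of k))) : gmP (gmC x) = x := by
  apply gmFn_injective
  simp [gmP, gmC, gmFn_gmPt]

lemma gmC_specPt {A B : Type u} [CommRing A] [Algebra k A] [CommRing B] [Algebra k B] (φ : A →ₐ[k] B)
    (x : specO k A ⟶ Red.Gm (Spec (CommRingCat.of k))) : gmC (specPt φ ≫ x) = Units.map (φ : A →* B) (gmC x) := by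
  ext
  simp only [gmC, IsUnit.unit_spec, Units.coe_map]
  rw [gmFn_comp]
  exact congr($(Scheme.ΓSpecIso_naturality (CommRingCat.ofHom φ.toRingHom)) (Red.gmFn x))

lemma gmP_natural {A B : Type u} [CommRing A] [Algebra k A] [CommRing B] [Algebra k B] (φ : A →ₐ[k] B) (a : Aˣ) :
    specPt φ ≫ gmP (k := k) a = gmP (Units.map (φ : A →* B) a) := by
  conv_rhs => rw [← gmC_gmP (k := k) a, ← gmC_specPt]
  rw [gmP_gmC]

lemma gmLaw_natural {A B : Type u} [CommRing A] [Algebra k A] [CommRing B] [Algebra k B] (φ : A →ₐ[k] B) (a b : Aˣ)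
    (m : Red.Gm (Spec (CommRingCat.of k)) ⊗ Red.Gm (Spec (CommRingCat.of k)) ⟶ Red.Gm (Spec (CommRingCat.of k))) :
    Units.map (φ : A →* B) (gmC (lift (gmP (k := k) a) (gmP b) ≫ m)) =
      gmC (lift (gmP (k := k) (Units.map (φ : A →* B) a)) (gmP (Units.map (φ : A →* B) b)) ≫ m) := by
  rw [← gmC_specPt, ← Category.assoc, comp_lift, gmP_natural, gmP_natural]

lemma kOne_natural {A : Type u} [CommRing A] [Algebra k A] {M : Over (Spec (CommRingCat.of k))}
    (e : 𝟙_ (Over (Spec (CommRingCat.of k))) ⟶ M) :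
    toUnit (specO k A) ≫ e = specPt (Algebra.ofId k A) ≫ toUnit (specO k k) ≫ e := by
  rw [← Category.assoc]; congr 1; exact toUnit_unique _ _

lemma isAffine_bc_terminal (R : Type u) [CommRing R] (Z : Over (Spec (CommRingCat.of (ULift.{u} ℤ)))) [IsAffine Z.left] :
    IsAffine (Red.bc (Limits.IsTerminal.from specULiftZIsTerminal (Spec (CommRingCat.of R))) Z).left :=
  inferInstanceAs (IsAffine (pullback Z.hom (Limits.IsTerminal.from specULiftZIsTerminal (Spec (CommRingCat.of R)))))

lemma ext_of_affine_pts {X Z : Over (Spec (CommRingCat.of k))} [IsAffine X.left] (f g : X ⟶ Z)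
    (h : ∀ (A : Type u) [CommRing A] [Algebra k A] (x : specO k A ⟶ X), x ≫ f = x ≫ g) : f = g := by
  letI := secAlg X ⊤
  have hc := h Γ(X.left, ⊤) (chart X ⊤ (isAffineOpen_top X.left))
  have : IsIso (chart X ⊤ (isAffineOpen_top X.left)).left := by
    rw [chart_left, IsAffineOpen.fromSpec_top]; infer_instance
  have : IsIso ((Over.forget _).map (chart X ⊤ (isAffineOpen_top X.left))) := this
  have : IsIso (chart X ⊤ (isAffineOpen_top X.left)) := isIso_of_reflects_iso _ (Over.forget _)
  exact (cancel_epi _).1 hc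

end PointsLaws

end Groth.Agent.AlgGrp79
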