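import Groth.Agent.AlgGrp79.Rigidity
import Groth.Agent.AlgGrp79.Cover
import Groth.Agent.AlgGrp79.SepDense

/-!
Anti-affine schemes: products, extensions, extension of the field.
-/

set_option autoImplicit false
universe u

open CategoryTheory CategoryTheory.Limits MonoidalCategory CartesianMonoidalCategory MonObj AlgebraicGeometry
open scoped TensorProduct

namespace Groth.Agent.AlgGrp79

/-- two morphisms inducing the same map on global functions agree into the affinization -/
lemma comp_toSpecΓ_eq_iff {X Y : Scheme.{u}} (f g : X ⟶ Y) :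
    f ≫ Y.toSpecΓ = g ≫ Y.toSpecΓ ↔ f.appTop = g.appTop := by
  constructor
  · intro h
    have := congr($(h).appTop)
    rw [Scheme.Hom.comp_appTop, Scheme.Hom.comp_appTop, Scheme.toSpecΓ_appTop] at this
    exact (cancel_epi _).1 this
  · intro h
    rw [Scheme.toSpecΓ_naturality, Scheme.toSpecΓ_naturality, h]

lemma appTop_injective_of_epi {X Y : Scheme.{u}} (f : X ⟶ Y) [Epi f]
    (a b : Γ(Y, ⊤)) (h : f.appTop a = f.appTop b) : a = b := by
  let P : Γ(Y, ⊤) → (Y ⟶ Spec (CommRingCat.of (ULift.{u} (MvPolynomial Unit ℤ)))) := fun a =>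
    Y.toSpecΓ ≫ Spec.map (CommRingCat.ofHom ((MvPolynomial.eval₂Hom (Int.castRingHom Γ(Y, ⊤)) fun _ => a).comp
      (ULift.ringEquiv (R := MvPolynomial Unit ℤ)).toRingHom))
  have hP : P a = P b := by
    rw [← cancel_epi f]
    simp only [P, Scheme.toSpecΓ_naturality_assoc, ← Spec.map_comp]
    congr 2
    apply CommRingCat.hom_ext
    have key : f.appTop.hom.comp (MvPolynomial.eval₂Hom (Int.castRingHom Γ(Y, ⊤)) fun _ : Unit => a) =
        f.appTop.hom.comp (MvPolynomial.eval₂Hom (Int.castRingHom Γ(Y, ⊤)) fun _ : Unit => b) :=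
      MvPolynomial.ringHom_ext (fun r => by simp) (fun i => by simpa using h)
    simp only [CommRingCat.hom_comp, CommRingCat.hom_ofHom, ← RingHom.comp_assoc, key]
  have := congr($(hP).appTop (((Scheme.ΓSpecIso _).inv) (ULift.up (MvPolynomial.X ())) ))
  simp only [P, Scheme.Hom.comp_appTop, CommRingCat.comp_apply, Scheme.toSpecΓ_appTop] at this
  rw [← CommRingCat.comp_apply, ← CommRingCat.comp_apply, ← CommRingCat.comp_apply, ← CommRingCat.comp_apply,
    ← Scheme.ΓSpecIso_inv_naturality_assoc, ← Scheme.ΓSpecIso_inv_naturality_assoc,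
    Iso.inv_hom_id, Category.comp_id, Category.comp_id] at this
  simpa [ULift.ringEquiv] using this

variable {k : Type u} [Field k]

/-- anti-affine: only constant functions -/
abbrev AntiAff (X : Over (Spec (CommRingCat.of k))) : Prop :=
  Function.Bijective ((Scheme.ΓSpecIso (CommRingCat.of k)).inv ≫ X.hom.appTop).hom

lemma const_comp {X Y : Over (Spec (CommRingCat.of k))} (f : X ⟶ Y) :
    ((Scheme.ΓSpecIso (CommRingCat.of k)).inv ≫ Y.hom.appTop) ≫ f.left.appTop =
      (Scheme.ΓSpecIso (CommRingCat.of k)).inv ≫ X.hom.appTop := by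
  rw [Category.assoc, ← Scheme.Hom.comp_appTop, Over.w]

lemma const_injective {X : Over (Spec (CommRingCat.of k))} (e : 𝟙_ (Over (Spec (CommRingCat.of k))) ⟶ X) :
    Function.Injective ((Scheme.ΓSpecIso (CommRingCat.of k)).inv ≫ X.hom.appTop).hom := by
  have h := const_comp e
  rw [show (𝟙_ (Over (Spec (CommRingCat.of k)))).hom = 𝟙 _ from rfl, Scheme.Hom.id_appTop] at h
  erw [Category.comp_id] at h
  intro a b hab
  apply ((ConcreteCategory.isIso_iff_bijective (Scheme.ΓSpecIso (CommRingCat.of k)).inv).1 inferInstance).1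
  rw [← h]
  exact congr(e.left.appTop $hab)

lemma antiAff_of_surjective_comp {X Y : Over (Spec (CommRingCat.of k))} (f : X ⟶ Y)
    (hX : AntiAff X) (hinj : Function.Injective f.left.appTop) : AntiAff Y := by
  have h := const_comp f
  constructor
  · intro a b hab
    apply hX.1
    rw [← h]
    exact congr(f.left.appTop $hab)
  · intro y
    obtain ⟨a, ha⟩ := hX.2 (f.left.appTop y)
    refine ⟨a, hinj ?_⟩
    rw [← ha, ← h]
    rfl

lemma antiAff_of_surjective {X Y : Over (Spec (CommRingCat.of k))} (f : X ⟶ Y) (hY : AntiAff Y)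
    (hsurj : Function.Surjective f.left.appTop) (hinj : Function.Injective ((Scheme.ΓSpecIso (CommRingCat.of k)).inv ≫ X.hom.appTop).hom) :
    AntiAff X := by
  refine ⟨hinj, ?_⟩
  intro x
  obtain ⟨y, rfl⟩ := hsurj x
  obtain ⟨a, rfl⟩ := hY.2 y
  refine ⟨a, ?_⟩
  rw [← const_comp f]
  rfl

/-- every function on `X × Y`, `X` anti-affine with a rational point, comes from `Y` -/
lemma toSpecΓ_prod {X Y : Over (Spec (CommRingCat.of k))} [QuasiCompact X.hom] [QuasiSeparated X.hom]
    (hX : AntiAff X) (e : 𝟙_ (Over (Spec (CommRingCat.of k))) ⟶ X) :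
    (snd X Y ≫ lift (toUnit Y ≫ e) (𝟙 Y)).left.appTop = 𝟙 Γ((X ⊗ Y).left, ⊤) := by
  rw [← Scheme.Hom.id_appTop, ← comp_toSpecΓ_eq_iff]
  refine (Scheme.openCoverOfIsOpenCover _ (fun V : Y.left.affineOpens => (snd X Y).left ⁻¹ᵁ V.1) ?_).hom_ext _ _ ?_
  · refine TopologicalSpace.IsOpenCover.mk ?_
    rw [← Scheme.Hom.preimage_iSup, iSup_affineOpens_eq_top Y.left, Scheme.Hom.preimage_top]
  intro V
  let Y' : Over (Spec (CommRingCat.of k)) := Over.mk (V.1.ι ≫ Y.hom)
  let ι' : Y' ⟶ Y := Over.homMk V.1.ι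
  have : IsAffine Y'.left := V.2
  have hiso := isIso_snd_appTop (Y := Y') hX
  have h1 : (snd X Y' ≫ lift (toUnit Y' ≫ e) (𝟙 Y')).left.appTop = 𝟙 _ := by
    rw [← cancel_epi (snd X Y').left.appTop, ← Scheme.Hom.comp_appTop, ← Over.comp_left, Category.assoc,
      lift_snd, Category.comp_id, Category.comp_id]
  rw [← Scheme.Hom.id_appTop, ← comp_toSpecΓ_eq_iff] at h1
  have h2 : (X ◁ ι') ≫ snd X Y ≫ lift (toUnit Y ≫ e) (𝟙 Y) =
      (snd X Y' ≫ lift (toUnit Y' ≫ e) (𝟙 Y')) ≫ (X ◁ ι') := by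
    ext : 1 <;> simp [← Category.assoc, toUnit_unique (snd X Y' ≫ ι' ≫ toUnit Y) (snd X Y' ≫ toUnit Y')]
  have h3 : (X ◁ ι').left ≫ (snd X Y ≫ lift (toUnit Y ≫ e) (𝟙 Y)).left ≫ (X ⊗ Y).left.toSpecΓ =
      (X ◁ ι').left ≫ (X ⊗ Y).left.toSpecΓ := by
    rw [← Category.assoc, ← Over.comp_left, h2, Over.comp_left, Category.assoc, Scheme.toSpecΓ_naturality,
      reassoc_of% h1]
  have hP : IsPullback (X ◁ ι').left (snd X Y').left (snd X Y).left V.1.ι :=
    (isPullback_left (whiskerLeft_isPullback X ι'))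
  obtain ⟨w, hw⟩ : ∃ w : ((snd X Y).left ⁻¹ᵁ V.1 : Scheme.{u}) ⟶ (X ⊗ Y').left,
      w ≫ (X ◁ ι').left = ((snd X Y).left ⁻¹ᵁ V.1).ι :=
    ⟨hP.lift _ ((snd X Y).left ∣_ V.1) (morphismRestrict_ι _ _).symm, hP.lift_fst _ _ _⟩
  show ((snd X Y).left ⁻¹ᵁ V.1).ι ≫ _ = ((snd X Y).left ⁻¹ᵁ V.1).ι ≫ _
  rw [← hw, Category.assoc, Category.assoc, h3, Category.id_comp]

lemma snd_appTop_surjective {X Y : Over (Spec (CommRingCat.of k))} [QuasiCompact X.hom] [QuasiSeparated X.hom]
    (hX : AntiAff X) (e : 𝟙_ (Over (Spec (CommRingCat.of k))) ⟶ X) :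
    Function.Surjective (snd X Y).left.appTop := by
  intro a
  refine ⟨(lift (toUnit Y ≫ e) (𝟙 Y)).left.appTop a, ?_⟩
  rw [← CommRingCat.comp_apply, ← Scheme.Hom.comp_appTop, ← Over.comp_left, toSpecΓ_prod hX e]
  rfl

theorem antiAff_prod_iff {X Y : Over (Spec (CommRingCat.of k))} [QuasiCompact X.hom] [QuasiSeparated X.hom]
    (eX : 𝟙_ (Over (Spec (CommRingCat.of k))) ⟶ X) (eY : 𝟙_ (Over (Spec (CommRingCat.of k))) ⟶ Y) :
    AntiAff (X ⊗ Y) ↔ AntiAff X ∧ AntiAff Y := by
  refine ⟨fun h => ⟨?_, ?_⟩, fun h => antiAff_of_surjective (snd X Y) h.2 (snd_appTop_surjective h.1 eX)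
    (const_injective (lift eX eY))⟩
  · refine antiAff_of_surjective_comp (fst X Y) h fun a b hab => ?_
    have := congr((lift (𝟙 X) (toUnit X ≫ eY)).left.appTop $hab)
    rwa [← CommRingCat.comp_apply, ← CommRingCat.comp_apply, ← Scheme.Hom.comp_appTop, ← Over.comp_left,
      lift_fst, Over.id_left, Scheme.Hom.id_appTop] at this
  · refine antiAff_of_surjective_comp (snd X Y) h fun a b hab => ?_
    have := congr((lift (toUnit Y ≫ eX) (𝟙 Y)).left.appTop $hab)
    rwa [← CommRingCat.comp_apply, ← CommRingCat.comp_apply, ← Scheme.Hom.comp_appTop, ← Over.comp_left,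
      lift_snd, Over.id_left, Scheme.Hom.id_appTop] at this

theorem antiAff_of_flat_surjective {X Y : Over (Spec (CommRingCat.of k))} (q : X ⟶ Y) (hq : IsCov q)
    (hX : AntiAff X) : AntiAff Y := by
  obtain ⟨_, _, _⟩ := hq
  exact antiAff_of_surjective_comp q hX (appTop_injective_of_epi q.left)

theorem antiAff_of_extension {N G Q : Over (Spec (CommRingCat.of k))} [GrpObj N] [GrpObj G] [GrpObj Q]
    [QuasiCompact N.hom] [QuasiSeparated N.hom]
    (i : N ⟶ G) (q : G ⟶ Q) [IsMonHom i] [IsMonHom q] (hq : IsCov q) (hex : AlgGrp.IsKernel i q)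
    (hN : AntiAff N) (hQ : AntiAff Q) : AntiAff G := by
  refine antiAff_of_surjective q hQ ?_ (const_injective η[G])
  let W : Over (Spec (CommRingCat.of k)) :=
    Over.mk (Spec.map ((Scheme.ΓSpecIso (CommRingCat.of k)).inv ≫ G.hom.appTop))
  let φ : G ⟶ W := Over.homMk G.left.toSpecΓ (by
    show G.left.toSpecΓ ≫ Spec.map _ = G.hom
    rw [Spec.map_comp, ← Scheme.toSpecΓ_naturality_assoc]
    show G.hom ≫ (Spec (CommRingCat.of k)).toSpecΓ ≫ Spec.map (Scheme.ΓSpecIso (CommRingCat.of k)).inv = G.hom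
    rw [← SpecMap_ΓSpecIso_hom, ← Spec.map_comp, Iso.inv_hom_id, Spec.map_id, Category.comp_id])
  obtain ⟨u, hu⟩ := hq.desc φ fun T a b hab => by
    obtain ⟨n, hn⟩ := exists_ker_of_comp_eq q i hex a b hab
    have hb : b = lift n a ≫ (snd N G * (fst N G ≫ i)) := by
      rw [MonObj.comp_mul, lift_snd, lift_fst_assoc, ← hn, mul_inv_cancel_left]
    have key : (snd N G * (fst N G ≫ i)) ≫ φ = snd N G ≫ φ := by
      apply Over.OverMorphism.ext
      rw [Over.comp_left, Over.comp_left]
      refine (comp_toSpecΓ_eq_iff _ _).2 ?_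
      have hs := toSpecΓ_prod (Y := G) hN η[N]
      conv_lhs => rw [← Category.comp_id (snd N G * (fst N G ≫ i)).left.appTop, ← hs]
      rw [← Scheme.Hom.comp_appTop, ← Over.comp_left]
      congr 1
      rw [Category.assoc, MonObj.comp_mul, lift_snd, lift_fst_assoc, MonObj.comp_mul, Category.comp_id]
      simp [← Hom.one_def, MonObj.one_comp]
    rw [hb, Category.assoc, key, lift_snd_assoc]
  intro a
  have h := congr($(hu).left.appTop)
  rw [Over.comp_left, Scheme.Hom.comp_appTop, show φ.left = G.left.toSpecΓ from rfl, Scheme.toSpecΓ_appTop] at h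
  refine ⟨u.left.appTop ((Scheme.ΓSpecIso Γ(G.left, ⊤)).inv a), ?_⟩
  rw [← CommRingCat.comp_apply, ← CommRingCat.comp_apply, h, Iso.inv_hom_id]
  rfl

theorem antiAff_bc_iff (K : Type u) [Field K] [Algebra k K] (X : Over (Spec (CommRingCat.of k)))
    [QuasiCompact X.hom] [QuasiSeparated X.hom] :
    AntiAff X ↔ AntiAff (Red.bc (Spec.map (CommRingCat.ofHom (algebraMap k K))) X) := by
  let φ : CommRingCat.of k ⟶ CommRingCat.of K := CommRingCat.ofHom (algebraMap k K)
  have : Flat (Spec.map φ) := by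
    rw [HasRingHomProperty.Spec_iff (P := @Flat)]
    exact RingHom.flat_algebraMap_iff.2 (inferInstance : Module.Flat k K)
  have : CompactSpace X.left := QuasiCompact.compactSpace_of_compactSpace X.hom
  have : QuasiSeparatedSpace X.left := quasiSeparatedSpace_of_quasiSeparated X.hom
  have hiso := isIso_pushoutSection_of_isQuasiSeparated_of_flat_right (IsPullback.of_hasPullback X.hom (Spec.map φ))
    (US := ⊤) (UT := ⊤) (UX := ⊤) (UY := ⊤) le_top le_top (by simp) (isAffineOpen_top _) (isAffineOpen_top _)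
    isCompact_univ (IsQuasiSeparated.of_quasiSeparatedSpace _)
  have hpo := (isIso_pushoutSection_iff (IsPullback.of_hasPullback X.hom (Spec.map φ)) (US := ⊤) (UT := ⊤) (UX := ⊤)
    (UY := ⊤) le_top le_top (by simp)).1 hiso
  let c : CommRingCat.of k ⟶ Γ(X.left, ⊤) := (Scheme.ΓSpecIso (CommRingCat.of k)).inv ≫ X.hom.appTop
  let d : CommRingCat.of K ⟶ Γ(pullback X.hom (Spec.map φ), ⊤) :=
    (Scheme.ΓSpecIso (CommRingCat.of K)).inv ≫ (pullback.snd X.hom (Spec.map φ)).appTop
  have h1 : IsPushout c φ (pullback.fst X.hom (Spec.map φ)).appTop d := by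
    refine IsPushout.of_iso hpo (Scheme.ΓSpecIso (CommRingCat.of k)) (Iso.refl _) (Scheme.ΓSpecIso (CommRingCat.of K))
      (Iso.refl _) ?_ ?_ ?_ ?_
    · simp only [c, Iso.refl_hom, Category.comp_id, Iso.hom_inv_id_assoc]
      exact (Scheme.Hom.app_eq_appLE _).symm
    · rw [show (Spec.map φ).appLE ⊤ ⊤ le_top = (Spec.map φ).appTop from (Scheme.Hom.app_eq_appLE _).symm]
      exact (Scheme.ΓSpecIso_naturality φ)
    · simp only [Iso.refl_hom, Category.comp_id, Category.id_comp]
      exact (Scheme.Hom.app_eq_appLE _).symm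
    · simp only [d, Iso.refl_hom, Category.comp_id, Iso.hom_inv_id_assoc]
      exact (Scheme.Hom.app_eq_appLE _).symm
  constructor
  · intro h
    have : IsIso c := (ConcreteCategory.isIso_iff_bijective _).2 h
    have : IsIso d := h1.isIso_inr_of_isIso
    exact (ConcreteCategory.isIso_iff_bijective d).1 this
  · intro h
    algebraize [c.hom]
    let Φ := (h1.flip.isoIsPushout _ _ (CommRingCat.isPushout_tensorProduct k K Γ(X.left, ⊤)))
    have hd : d ≫ Φ.hom = CommRingCat.ofHom Algebra.TensorProduct.includeLeftRingHom :=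
      IsPushout.inl_isoIsPushout_hom _ _ h1.flip (CommRingCat.isPushout_tensorProduct k K Γ(X.left, ⊤))
    have hb : Function.Bijective ((Algebra.TensorProduct.includeLeftRingHom : K →+* K ⊗[k] Γ(X.left, ⊤))) := by
      have : IsIso d := (ConcreteCategory.isIso_iff_bijective d).2 h
      have : IsIso (d ≫ Φ.hom) := inferInstance
      rw [hd] at this
      exact (ConcreteCategory.isIso_iff_bijective _).1 this
    have h2 : Function.Bijective (LinearMap.lTensor K (Algebra.linearMap k Γ(X.left, ⊤))) := by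
      have : ⇑(LinearMap.lTensor K (Algebra.linearMap k Γ(X.left, ⊤))) =
          ⇑(Algebra.TensorProduct.includeLeftRingHom : K →+* K ⊗[k] Γ(X.left, ⊤)) ∘ ⇑(TensorProduct.rid k K) := by
        funext x
        induction x with
        | zero => simp
        | tmul a b =>
          simp [Algebra.linearMap_apply, Algebra.algebraMap_eq_smul_one, TensorProduct.tmul_smul,
            TensorProduct.smul_tmul']
        | add x y hx hy => simp only [Function.comp_apply, map_add] at hx hy ⊢; rw [hx, hy]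
      rw [this]
      exact hb.comp (TensorProduct.rid k K).bijective
    exact (Module.FaithfullyFlat.lTensor_bijective_iff_bijective k K _).1 h2

end Groth.Agent.AlgGrp79

namespace Groth.Agent.AlgGrp79

variable {k : Type u} [Field k]

/-- a morphism from an anti-affine scheme to an affine one is constant -/
lemma eq_const_of_isAffine {X Z : Over (Spec (CommRingCat.of k))} [IsAffine Z.left] (hX : AntiAff X)
    (e : 𝟙_ (Over (Spec (CommRingCat.of k))) ⟶ X) (m : X ⟶ Z) : m = toUnit X ≫ e ≫ m := by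
  have hc : (toUnit X ≫ e).left.appTop = 𝟙 Γ(X.left, ⊤) := by
    apply CommRingCat.hom_ext
    apply RingHom.ext
    intro x
    obtain ⟨a, rfl⟩ := hX.2 x
    exact congr($(const_comp (toUnit X ≫ e)) a)
  rw [← Scheme.Hom.id_appTop, ← comp_toSpecΓ_eq_iff] at hc
  apply Over.OverMorphism.ext
  rw [← cancel_mono Z.left.toSpecΓ, ← Category.assoc (toUnit X) e m, Over.comp_left, Category.assoc,
    Scheme.toSpecΓ_naturality, reassoc_of% hc]

end Groth.Agent.AlgGrp79
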