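import Groth.Agent.AlgGrp79.BorelConj
import Groth.Agent.AlgGrp79.AntiAffine
import Groth.Agent.AbSch7.FieldH0
import Groth.Agent.SGA3a.QuotDiag

/-!
Consequences of conjugacy of Borel subgroups: parabolic subgroups, invariant maps.
-/

set_option autoImplicit false
set_option linter.unusedSectionVars false
set_option backward.isDefEq.respectTransparency.types false

universe u

open CategoryTheory MonoidalCategory CartesianMonoidalCategory MonObj GrpObj AlgebraicGeometry

noncomputable section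

namespace Groth.Agent.AlgGrp79.BorelOps

section General

variable {k : Type u} [Field k] {G H : Over (Spec (CommRingCat.of k))} [GrpObj G] [GrpObj H]

/-- Quotients of affine groups are separated. -/
theorem isSeparated_quotient [IsAffine G.left] [LocallyOfFiniteType G.hom] (i : H ⟶ G) [IsMonHom i]
    [IsClosedImmersion i.left] {X : Over (Spec (CommRingCat.of k))} {a : AlgGrp.Action G X}
    {o : 𝟙_ (Over (Spec (CommRingCat.of k))) ⟶ X} (hX : AGF.IsQuotient i X a o) : IsSeparated X.hom := by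
  obtain ⟨hlft, hflat, hsurj, sq⟩ := hX
  haveI : IsLocallyNoetherian X.left := LocallyOfFiniteType.isLocallyNoetherian X.hom
  haveI : QuasiCompact (a.orbitMap o).left := by
    haveI : QuasiCompact ((a.orbitMap o).left ≫ X.hom) := by rw [Over.w]; infer_instance
    exact QuasiCompact.of_comp (a.orbitMap o).left X.hom
  have hc : SGA3a.QuotCover.IsCov (a.orbitMap o).left := SGA3a.QuotCover.IsCov.mk _
    ⟨_, (a.orbitMap o).left, 𝟙 _, Category.id_comp _, hsurj, hflat, fun V hV =>
      ⟨(a.orbitMap o).left ⁻¹ᵁ V, (a.orbitMap o).left.isCompact_preimage hV.isCompact,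
        Set.image_preimage_eq _ (a.orbitMap o).left.surjective⟩⟩
  refine SGA3a.QuotDiag.isSeparated_of_isClosedImmersion_graph (a.orbitMap o) hc ?_
  let sh : G ⊗ G ≅ G ⊗ G :=
    { hom := lift (fst G G) μ[G]
      inv := lift (fst G G) ((fst G G)⁻¹ * snd G G)
      hom_inv_id := by
        ext : 1 <;> simp [MonObj.comp_mul, GrpObj.comp_inv, mul_eq_mul]
      inv_hom_id := by
        ext : 1 <;> simp [← Hom.mul_def] }
  haveI : IsIso sh.hom.left := ((Over.forget _).mapIso sh).isIso_hom
  haveI : IsClosedImmersion (G ◁ i).left :=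
    MorphismProperty.of_isPullback (isPullback_left (whiskerLeft_isPullback G i)).flip inferInstance
  have e : lift (Limits.pullback.fst (a.orbitMap o) (a.orbitMap o)) (Limits.pullback.snd (a.orbitMap o) (a.orbitMap o)) =
      sq.isoPullback.inv ≫ (G ◁ i) ≫ sh.hom := by
    apply CartesianMonoidalCategory.hom_ext
    · simp [sh, sq.isoPullback_inv_fst]
    · simp [sh, sq.isoPullback_inv_snd]
  rw [e, Over.comp_left, Over.comp_left]
  haveI : IsIso sq.isoPullback.inv.left := ((Over.forget _).mapIso sq.isoPullback).isIso_inv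
  infer_instance

/-- A morphism invariant under right translation by a subgroup with anti-affine quotient, into an affine scheme, is constant
in the group variable. -/
theorem eq_snd_of_invariant [LocallyOfFiniteType G.hom] (i : H ⟶ G)
    {X : Over (Spec (CommRingCat.of k))} {a : AlgGrp.Action G X} {o : 𝟙_ (Over (Spec (CommRingCat.of k))) ⟶ X}
    (hX : AGF.IsQuotient i X a o) [QuasiCompact X.hom] [QuasiSeparated X.hom] (hA : AntiAff X)
    {M Z : Over (Spec (CommRingCat.of k))} [IsAffine Z.left] (F : G ⊗ M ⟶ Z)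
    (hF : ∀ (T : Over (Spec (CommRingCat.of k))) (g : T ⟶ G) (h : T ⟶ H) (m : T ⟶ M),
      lift (g * (h ≫ i)) m ≫ F = lift g m ≫ F) :
    F = snd G M ≫ lift 1 (𝟙 M) ≫ F := by
  have hc := (QuotTrans.isCov_orbit hX).whiskerRight M
  obtain ⟨Φ, hΦ⟩ := hc.desc F fun T s t e => by
    have e1 := e =≫ fst X M
    have e2 := e =≫ snd X M
    simp only [Category.assoc, whiskerRight_fst, whiskerRight_snd] at e1 e2
    rw [← Category.assoc, ← Category.assoc] at e1
    obtain ⟨h, hh⟩ := (QuotTrans.coset_iff hX _ _).1 e1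
    have es : s = lift (s ≫ fst G M) (s ≫ snd G M) := by ext : 1 <;> simp
    have et : t = lift (t ≫ fst G M) (t ≫ snd G M) := by ext : 1 <;> simp
    conv_rhs => rw [et, ← hh, ← e2, hF]
    conv_lhs => rw [es]
  have hconst : Φ = snd X M ≫ lift (toUnit M ≫ o) (𝟙 M) ≫ Φ := by
    haveI : IsIso Z.left.toSpecΓ := inferInstance
    have := toSpecΓ_prod (Y := M) hA o
    rw [← Scheme.Hom.id_appTop, ← comp_toSpecΓ_eq_iff] at this
    apply Over.OverMorphism.ext
    rw [← cancel_mono Z.left.toSpecΓ]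
    rw [← Category.assoc (snd X M), Over.comp_left, Category.assoc, Scheme.toSpecΓ_naturality, ← Category.assoc,
      this, Category.assoc, Category.id_comp]
  have ho : (1 : M ⟶ G) ≫ a.orbitMap o = toUnit M ≫ o := by
    rw [AGF80.Orbit.comp_orbitMap, Hom.one_def,
      show lift (toUnit M ≫ η[G]) (toUnit M ≫ o) = toUnit M ≫ lift η[G] o by simp, Category.assoc]
    congr 1
    rw [show lift η[G] o = lift (𝟙 _) o ≫ (η[G] ▷ X) by simp, Category.assoc, a.one_act]
    ext : 1
    simp
  rw [← hΦ]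
  calc (a.orbitMap o ▷ M) ≫ Φ = (a.orbitMap o ▷ M) ≫ snd X M ≫ lift (toUnit M ≫ o) (𝟙 M) ≫ Φ := by rw [← hconst]
    _ = snd G M ≫ lift (toUnit M ≫ o) (𝟙 M) ≫ Φ := by rw [whiskerRight_snd_assoc]
    _ = snd G M ≫ lift 1 (𝟙 M) ≫ (a.orbitMap o ▷ M) ≫ Φ := by rw [lift_whiskerRight_assoc, ho]

end General

variable {k : Type u} [Field k] [IsAlgClosed k]

/-- The quotient by a Borel subgroup, with its properties. -/
theorem exists_quotient_borel (G : Over (Spec (CommRingCat.of k))) [GrpObj G] [IsAffine G.left] [Smooth G.hom]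
    [ConnectedSpace G.left] {B : Over (Spec (CommRingCat.of k))} [GrpObj B] (iB : B ⟶ G) (hB : Red.IsBorelOver k iB) :
    ∃ (X : Over (Spec (CommRingCat.of k))) (a : AlgGrp.Action G X) (o : 𝟙_ (Over (Spec (CommRingCat.of k))) ⟶ X),
      AGF.IsQuotient iB X a o ∧ IsProper X.hom ∧ AntiAff X := by
  obtain ⟨_, _, _, _, -, -⟩ := id hB
  haveI : Mono iB := Over.mono_of_mono_left iB
  haveI : QuasiCompact B.hom := by rw [← Over.w iB]; infer_instance
  obtain ⟨X, a, o, h1, -, h3, h4, h5⟩ := QuotSub.exists_quotient G B iB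
  have hX : AGF.IsQuotient iB X a o := ⟨h1, h3, h4, h5⟩
  haveI := BorelConj.isProper_quotient_borel G iB hB hX
  haveI : IsReduced G.left := isReduced_of_smooth G.hom
  haveI : Surjective (a.orbitMap o).left := h4
  haveI : ConnectedSpace X.left := (a.orbitMap o).left.surjective.connectedSpace (a.orbitMap o).left.continuous
  haveI : Flat (a.orbitMap o).left := h3
  haveI : QuasiCompact (a.orbitMap o).left := by
    haveI : QuasiCompact ((a.orbitMap o).left ≫ X.hom) := by rw [Over.w]; infer_instance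
    exact QuasiCompact.of_comp (a.orbitMap o).left X.hom
  haveI : IsReduced X.left := SGA3a.QuotCover.IsCov.isReduced (SGA3a.QuotCover.IsCov.mk (a.orbitMap o).left
    ⟨_, (a.orbitMap o).left, 𝟙 _, Category.id_comp _, h4, h3, fun V hV =>
      ⟨(a.orbitMap o).left ⁻¹ᵁ V, (a.orbitMap o).left.isCompact_preimage hV.isCompact,
        Set.image_preimage_eq _ (a.orbitMap o).left.surjective⟩⟩)
  refine ⟨X, a, o, hX, inferInstance, ?_⟩
  haveI : IsIso (Scheme.ΓSpecIso (CommRingCat.of k)).inv := inferInstance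
  exact (AbSch7.appTop_bijective_of_isAlgClosed X.hom).comp
    (ConcreteCategory.bijective_of_isIso (Scheme.ΓSpecIso (CommRingCat.of k)).inv)

/-- Conjugates of Borel subgroups are Borel subgroups. -/
theorem isBorelOver_conjBy {G B : Over (Spec (CommRingCat.of k))} [GrpObj G] [GrpObj B] {iB : B ⟶ G}
    (hB : Red.IsBorelOver k iB) (g : 𝟙_ (Over (Spec (CommRingCat.of k))) ⟶ G) :
    Red.IsBorelOver k (AGF.conjBy g iB) := by
  obtain ⟨_, _, hs, hc, hsolv, hmax⟩ := hB
  refine ⟨BorelConj.isMonHom_conjBy g iB, BorelConj.isClosedImmersion_conjBy g iB, hs, hc, hsolv, ?_⟩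
  intro B' _ i' _ f hci hs' hc' hsolv' hf
  haveI := hci
  haveI := BorelConj.isMonHom_conjBy g⁻¹ i'
  refine hmax B' (AGF.conjBy g⁻¹ i') f (BorelConj.isClosedImmersion_conjBy g⁻¹ i') hs' hc' hsolv' ?_
  rw [BorelConj.comp_conjBy, hf, BorelConj.conjBy_conjBy, inv_mul_cancel, BorelConj.conjBy_one]

/-- Homomorphisms agreeing on a Borel subgroup are equal. -/
theorem hom_eq_of_eq_on_borel (G G' : Over (Spec (CommRingCat.of k))) [GrpObj G] [IsAffine G.left] [Smooth G.hom]
    [ConnectedSpace G.left] [GrpObj G'] [IsAffine G'.left] {B : Over (Spec (CommRingCat.of k))} [GrpObj B]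
    (iB : B ⟶ G) (hB : Red.IsBorelOver k iB) (φ₁ φ₂ : G ⟶ G') [IsMonHom φ₁] [IsMonHom φ₂]
    (h : iB ≫ φ₁ = iB ≫ φ₂) : φ₁ = φ₂ := by
  obtain ⟨X, a, o, hX, _, hA⟩ := exists_quotient_borel G iB hB
  have hF := eq_snd_of_invariant iB hX hA ((fst G (𝟙_ _) ≫ φ₁) * (fst G (𝟙_ _) ≫ φ₂)⁻¹) fun T g x m => by
    simp only [MonObj.comp_mul, GrpObj.comp_inv, lift_fst_assoc, MonObj.mul_comp, Category.assoc, h]
    group
  have hid := lift (𝟙 G) (toUnit G) ≫= hF
  simp only [MonObj.comp_mul, GrpObj.comp_inv, lift_fst_assoc, lift_snd_assoc, Category.id_comp, MonObj.one_comp,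
    MonObj.comp_one, mul_inv_cancel] at hid
  exact mul_inv_eq_one.1 hid

/-- What centralizes a Borel subgroup centralizes the group. -/
theorem comm_all_of_comm_borel (G : Over (Spec (CommRingCat.of k))) [GrpObj G] [IsAffine G.left] [Smooth G.hom]
    [ConnectedSpace G.left] {B : Over (Spec (CommRingCat.of k))} [GrpObj B] (iB : B ⟶ G) (hB : Red.IsBorelOver k iB)
    {T : Over (Spec (CommRingCat.of k))} (g : T ⟶ G)
    (hg : ∀ (T' : Over (Spec (CommRingCat.of k))) (x : T' ⟶ T) (b : T' ⟶ B),
      (x ≫ g) * (b ≫ iB) = (b ≫ iB) * (x ≫ g)) (h : T ⟶ G) : g * h = h * g := by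
  obtain ⟨X, a, o, hX, _, hA⟩ := exists_quotient_borel G iB hB
  have hF := eq_snd_of_invariant iB hX hA (fst G T * (snd G T ≫ g) * (fst G T)⁻¹) fun T' s b m => by
    simp only [MonObj.comp_mul, GrpObj.comp_inv, lift_fst, lift_snd_assoc]
    rw [_root_.mul_assoc s (b ≫ iB), ← hg T' m b]
    group
  have hid := lift h (𝟙 T) ≫= hF
  simp only [MonObj.comp_mul, GrpObj.comp_inv, lift_fst, lift_snd_assoc, Category.id_comp, lift_snd, MonObj.one_comp,
    _root_.one_mul, inv_one, _root_.mul_one] at hid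
  calc g * h = h * g * h⁻¹ * h := by rw [hid]
    _ = h * g := by group

/-- A smooth subgroup with proper quotient is the same as a parabolic subgroup. -/
theorem isProper_iff_isParabolicOver (G : Over (Spec (CommRingCat.of k))) [GrpObj G] [IsAffine G.left] [Smooth G.hom]
    [ConnectedSpace G.left] {P : Over (Spec (CommRingCat.of k))} [GrpObj P] (iP : P ⟶ G) [IsMonHom iP]
    [IsClosedImmersion iP.left] [Smooth P.hom] {X : Over (Spec (CommRingCat.of k))} {a : AlgGrp.Action G X}
    {o : 𝟙_ (Over (Spec (CommRingCat.of k))) ⟶ X} (hX : AGF.IsQuotient iP X a o) :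
    IsProper X.hom ↔ Red.IsParabolicOver k iP := by
  refine ⟨fun _ => ?_, ?_⟩
  · obtain ⟨B, _, iB, _, _, _, _, hsolv, Y, b, y, hY, _⟩ := BorelConj.exists_solvable_proper G
    haveI : IsAffine B.left := isAffine_of_isAffineHom iB.left
    obtain ⟨g, φ, hφ⟩ := BorelConj.exists_conj_into iP hX hsolv iB
    refine ⟨inferInstance, inferInstance, inferInstance, B, inferInstance, φ, ?_⟩
    have := isBorelOver_conjBy (BorelConj.isBorelOver_of_proper iB hsolv hY) g⁻¹
    rwa [← hφ, ← BorelConj.comp_conjBy, BorelConj.conjBy_conjBy, inv_mul_cancel, BorelConj.conjBy_one] at this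
  · rintro ⟨-, -, -, B, _, b, hB⟩
    obtain ⟨Y, c, y, hY, _, -⟩ := exists_quotient_borel G (b ≫ iP) hB
    obtain ⟨π, hπ⟩ := (QuotTrans.isCov_orbit hY).desc (a.orbitMap o) fun T s t e => by
      obtain ⟨d, hd⟩ := (QuotTrans.coset_iff hY s t).1 e
      exact (QuotTrans.coset_iff hX s t).2 ⟨d ≫ b, by rw [Category.assoc]; exact hd⟩
    haveI := isSeparated_quotient iP hX
    haveI := hX.1
    haveI : Surjective π.left := by
      have hs : Surjective ((c.orbitMap y).left ≫ π.left) := by
        rw [← Over.comp_left, hπ]; exact hX.2.2.1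
      exact Surjective.of_comp (c.orbitMap y).left π.left
    haveI : UniversallyClosed (π.left ≫ X.hom) := by rw [Over.w]; infer_instance
    haveI : UniversallyClosed X.hom := UniversallyClosed.of_comp_surjective π.left X.hom
    exact { }

end Groth.Agent.AlgGrp79.BorelOps
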