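import Groth.Agent.AlgGrp79.SolvTori
import Groth.Agent.AlgGrp79.BorelOps
import Groth.Agent.AlgGrp33.IsogSub
import Groth.Agent.GMod80.GLHom
import Groth.Agent.Hopf35.TorusDom
import Groth.Agent.S3266
import Groth.Agent.S7979

/-!
Conjugacy of maximal tori in connected affine groups over an algebraically closed field.
-/

set_option autoImplicit false
set_option linter.unusedSectionVars false
set_option backward.isDefEq.respectTransparency.types false

universe u

open CategoryTheory MonoidalCategory CartesianMonoidalCategory MonObj GrpObj AlgebraicGeometry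
open scoped TensorProduct
open WithConv Groth.Agent.GMod80

noncomputable section

namespace Groth.Agent.AlgGrp79.ToriConj

variable {k : Type u} [Field k] [IsAlgClosed k]

/-- Rational points as coordinate points. -/
def pt0 : 𝟙_ (Over (Spec (CommRingCat.of k))) ⟶ VecGrp.pt k k := Over.homMk (𝟙 _) (by
    show 𝟙 _ ≫ Spec.map (CommRingCat.ofHom (algebraMap k k)) = 𝟙 _
    rw [Category.id_comp, show CommRingCat.ofHom (algebraMap k k) = 𝟙 _ from rfl, Spec.map_id])

variable {A : Type u} [CommRing A] [HopfAlgebra k A] {G : Over (Spec (CommRingCat.of k))} [GrpObj G]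
  (ψ : sp k A ≅ G) [IsMonHom ψ.hom]

/-- The group of rational points in coordinates. -/
def ev : WithConv (A →ₐ[k] k) →* (𝟙_ (Over (Spec (CommRingCat.of k))) ⟶ G) where
  toFun f := pt0 ≫ e ψ k f
  map_one' := by rw [map_one, MonObj.comp_one]
  map_mul' f g := by rw [map_mul, MonObj.comp_mul]

theorem ev_surjective : Function.Surjective (ev ψ) := fun g => by
  obtain ⟨f, hf⟩ := (e ψ k).surjective (toUnit _ ≫ g)
  refine ⟨f, ?_⟩
  show pt0 ≫ e ψ k f = g
  rw [hf, ← Category.assoc, toUnit_unique (pt0 ≫ toUnit _) (𝟙 _), Category.id_comp]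

theorem ev_injective : Function.Injective (ev ψ) := fun f g h => by
  have h' : pt0 ≫ e ψ k f = pt0 ≫ e ψ k g := h
  haveI : IsIso (pt0 (k := k)) := by
    haveI : IsIso (pt0 (k := k)).left := inferInstanceAs (IsIso (𝟙 (Spec (CommRingCat.of k))))
    haveI : IsIso ((Over.forget _).map (pt0 (k := k))) := ‹IsIso (pt0 (k := k)).left›
    exact isIso_of_reflects_iso (pt0 (k := k)) (Over.forget _)
  exact (e ψ k).injective ((cancel_epi _).1 h')

/-- A solvable connected group has a torus containing a conjugate of every torus, and every point is the product of a point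
of this torus and a unipotent point. -/
theorem exists_maxTorus_coord (B : Over (Spec (CommRingCat.of k))) [GrpObj B] [IsAffine B.left] [Smooth B.hom]
    [ConnectedSpace B.left] (hs : Red.IsSolvableGrp B) {A : Type u} [CommRing A] [HopfAlgebra k A] (ψ : sp k A ≅ B)
    [IsMonHom ψ.hom] :
    ∃ (T₀ : Over (Spec (CommRingCat.of k))) (_ : GrpObj T₀) (j : T₀ ⟶ B), IsMonHom j ∧ IsClosedImmersion j.left ∧
      Red.IsTorus T₀ ∧
      (∀ x : Comod33.Conn.Pt k A, ∃ (t : 𝟙_ (Over (Spec (CommRingCat.of k))) ⟶ T₀), ∃ u ∈ Comod33.DimOneClass.unipPts k A,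
        ev ψ x = (t ≫ j) * ev ψ u) ∧
      ∀ (T : Over (Spec (CommRingCat.of k))) [GrpObj T], Red.IsTorus T → ∀ (f : T ⟶ B) [IsMonHom f],
        ∃ (b : 𝟙_ (Over (Spec (CommRingCat.of k))) ⟶ B) (φ : T ⟶ T₀), φ ≫ AGF.conjBy b j = f := by
  haveI : Algebra.FiniteType k A := GMod80.finiteType ψ
  haveI : IsReduced B.left := isReduced_of_smooth B.hom
  haveI : IrreducibleSpace B.left := by
    have hirr := (Grp57.connectedComponent_unit B).1
    rw [PreconnectedSpace.connectedComponent_eq_univ] at hirr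
    exact { isPreirreducible_univ := hirr.2, toNonempty := inferInstance }
  haveI : IsIntegral B.left := isIntegral_of_irreducibleSpace_of_isReduced _
  haveI : IsDomain A := (fn ψ).toMulEquiv.isDomain _
  haveI : Group.IsSolvable (WithConv (A →ₐ[k] k)) := by
    obtain ⟨n, hn⟩ := hs
    haveI : Group.IsSolvable (𝟙_ (Over (Spec (CommRingCat.of k))) ⟶ B) := ⟨⟨n, hn _⟩⟩
    exact solvable_of_solvable_injective (f := ev ψ) (ev_injective ψ)
  have hA : HopfRep.IsTrigonalizable k A := Groth.Agent.S3266.result k A fun x hx => IsIdempotentElem.iff_eq_zero_or_one.1 hx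
  obtain ⟨I, _, hdom, hdiag, hdec, hI⟩ := SolvTori.exists_maxTorus_ideal hA
  let qI : A →ₐc[k] A ⧸ I := Bialgebra.Quotient.mkBialgHom I
  let j : sp k (A ⧸ I) ⟶ B := spHom qI ≫ ψ.hom
  haveI : IsClosedImmersion (spHom qI).left := by
    rw [spHom_left]
    exact IsClosedImmersion.spec_of_surjective _ Ideal.Quotient.mk_surjective
  haveI : IsIso ψ.hom.left := ((Over.forget _).mapIso ψ).isIso_hom
  haveI : IsClosedImmersion j.left := inferInstanceAs (IsClosedImmersion ((spHom qI).left ≫ ψ.hom.left))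
  haveI : IsMonHom j := inferInstanceAs (IsMonHom (spHom qI ≫ ψ.hom))
  have hT₀ : Red.IsTorus (sp k (A ⧸ I)) := by
    haveI : IsMonHom (Iso.refl (sp k (A ⧸ I))).hom := inferInstanceAs (IsMonHom (𝟙 _))
    haveI : IsDomain (AlgebraicClosure k ⊗[k] (A ⧸ I)) := by
      let E : AlgebraicClosure k ≃ₐ[k] k :=
        (AlgEquiv.ofBijective (Algebra.ofId k (AlgebraicClosure k)) IsAlgClosed.algebraMap_bijective_of_isIntegral).symm
      exact ((Algebra.TensorProduct.congr E AlgEquiv.refl).trans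
        (Algebra.TensorProduct.lid k (A ⧸ I))).toMulEquiv.isDomain _
    exact AlgGrp33.isTorus_of_isDiagonalizable (Iso.refl _) ((Groth.Agent.S7979.result k (A ⧸ I)).2
      ⟨Comod33.Diag.isCocomm_of_isDiagonalizable hdiag, fun f hf => Comod33.Diag.no_prim_of_isDiagonalizable hdiag hf⟩)
  refine ⟨sp k (A ⧸ I), inferInstance, j, inferInstance, inferInstance, hT₀, fun x => ?_, ?_⟩
  · obtain ⟨t, htI, htu⟩ := hdec x
    let t' : WithConv (A ⧸ I →ₐ[k] k) := toConv (Ideal.Quotient.liftₐ I t.ofConv fun a ha => htI a ha)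
    refine ⟨pt0 ≫ (Spec.mapMulEquiv t' : VecGrp.pt k k ⟶ sp k (A ⧸ I)), t⁻¹ * x, htu, ?_⟩
    rw [map_mul, map_inv]
    rw [show ev ψ t = (pt0 ≫ (Spec.mapMulEquiv t' : VecGrp.pt k k ⟶ sp k (A ⧸ I))) ≫ j from ?_]
    · rw [mul_inv_cancel_left]
    show pt0 ≫ Spec.mapMulEquiv t ≫ ψ.hom = (pt0 ≫ Spec.mapMulEquiv t') ≫ spHom qI ≫ ψ.hom
    rw [Category.assoc]
    exact (congrArg (fun x => pt0 ≫ x ≫ ψ.hom) (comp_spHom qI t').symm).trans (congrArg (pt0 ≫ ·) (Category.assoc _ _ _))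
  intro T _ hT f _
  obtain ⟨_, _, _, _, _⟩ := AlgGrp33.IsogSub.torus_props hT
  obtain ⟨C, _, _, ψT, _⟩ := exists_coord T
  haveI : Algebra.FiniteType k C := GMod80.finiteType ψT
  haveI : IsDomain C := by
    haveI := Hopf35.TorDom.isDomain_tensor ψT hT k
    exact (Algebra.TensorProduct.lid k C).symm.toMulEquiv.isDomain _
  have hC : HopfRep.IsDiagonalizable k C := by
    obtain ⟨hco, hprim⟩ := (Groth.Agent.S7979.result k C).1 (AlgGrp33.isDiagonalizable_of_isTorus ψT hT)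
    haveI := hco
    exact Comod33.Diag.isDiagonalizable_of_no_prim fun x hx => hprim x hx
  obtain ⟨v, hv⟩ := hI C hC (pullBialg ψ ψT f)
  let b' := ev ψ v
  haveI : IsReduced T.left := isReduced_of_smooth T.hom
  have hpts : ∀ p : 𝟙_ (Over (Spec (CommRingCat.of k))) ⟶ T,
      (p ≫ AGF.conjBy b' f).left (IsLocalRing.closedPoint k) ∈ Set.range j.left := by
    intro p
    obtain ⟨g, hg⟩ := ev_surjective ψT p
    have hpf : p ≫ f = ev ψ (Comod33.HopfFlat.restrPts (pullBialg ψ ψT f) g) := by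
      rw [← hg]
      show (pt0 ≫ e ψT k g) ≫ f = pt0 ≫ e ψ k _
      rw [Category.assoc, e_comp ψ ψT f]
      rfl
    have hconj : p ≫ AGF.conjBy b' f = b' * (p ≫ f) * b'⁻¹ := by
      simp only [AGF.conjBy, MonObj.comp_mul, GrpObj.comp_inv, ← Category.assoc,
        toUnit_unique (p ≫ toUnit T) (𝟙 _), Category.id_comp]
    let w := v * Comod33.HopfFlat.restrPts (pullBialg ψ ψT f) g * v⁻¹
    have hw : p ≫ AGF.conjBy b' f = ev ψ w := by rw [hconj, hpf, map_mul, map_mul, map_inv]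
    let w' : WithConv (A ⧸ I →ₐ[k] k) := toConv (Ideal.Quotient.liftₐ I w.ofConv fun a ha => hv g a ha)
    have : ev ψ w = (pt0 ≫ (Spec.mapMulEquiv w' : VecGrp.pt k k ⟶ sp k (A ⧸ I))) ≫ j := by
      show pt0 ≫ e ψ k w = _
      rw [Category.assoc]
      show pt0 ≫ Spec.mapMulEquiv w ≫ ψ.hom = pt0 ≫ Spec.mapMulEquiv w' ≫ spHom qI ≫ ψ.hom
      have h1 := comp_spHom qI w'
      calc pt0 ≫ Spec.mapMulEquiv w ≫ ψ.hom
          = pt0 ≫ (Spec.mapMulEquiv w' ≫ spHom qI) ≫ ψ.hom := by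
            exact (congrArg (fun x => pt0 ≫ x ≫ ψ.hom) h1.symm :)
        _ = _ := congrArg (pt0 ≫ ·) (Category.assoc _ _ _)
    rw [hw, this, Over.comp_left]
    exact ⟨_, rfl⟩
  obtain ⟨φ, hφ⟩ := exists_lift_of_range_subset j (AGF.conjBy b' f)
    (range_subset_of_pts _ j.left.isClosedEmbedding.isClosed_range hpts)
  exact ⟨b'⁻¹, φ, by rw [BorelConj.comp_conjBy, hφ, BorelConj.conjBy_conjBy, inv_mul_cancel, BorelConj.conjBy_one]⟩

/-- A solvable connected group has a torus containing a conjugate of every torus. -/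
theorem exists_maxTorus (B : Over (Spec (CommRingCat.of k))) [GrpObj B] [IsAffine B.left] [Smooth B.hom]
    [ConnectedSpace B.left] (hs : Red.IsSolvableGrp B) :
    ∃ (T₀ : Over (Spec (CommRingCat.of k))) (_ : GrpObj T₀) (j : T₀ ⟶ B), IsMonHom j ∧ IsClosedImmersion j.left ∧
      Red.IsTorus T₀ ∧ ∀ (T : Over (Spec (CommRingCat.of k))) [GrpObj T], Red.IsTorus T → ∀ (f : T ⟶ B) [IsMonHom f],
        ∃ (b : 𝟙_ (Over (Spec (CommRingCat.of k))) ⟶ B) (φ : T ⟶ T₀), φ ≫ AGF.conjBy b j = f := by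
  obtain ⟨A, _, _, ψ, _⟩ := exists_coord B
  obtain ⟨T₀, i₀, j, h1, h2, h3, -, h5⟩ := exists_maxTorus_coord B hs ψ
  exact ⟨T₀, i₀, j, h1, h2, h3, h5⟩

/-- Maximal tori are conjugate. -/
theorem maxTorus_conj (G : Over (Spec (CommRingCat.of k))) [GrpObj G] [IsAffine G.left] [Smooth G.hom]
    [ConnectedSpace G.left] (T T' : Over (Spec (CommRingCat.of k))) [GrpObj T] [GrpObj T'] (iT : T ⟶ G) (iT' : T' ⟶ G)
    (hT : AGF.IsMaxTorus iT) (hT' : AGF.IsMaxTorus iT') :
    ∃ (g : 𝟙_ (Over (Spec (CommRingCat.of k))) ⟶ G) (f : T ≅ T'), f.hom ≫ iT' = AGF.conjBy g iT := by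
  obtain ⟨B, _, iB, _, _, _, _, hsB, X, a, o, hX, _⟩ := BorelConj.exists_solvable_proper G
  haveI : IsAffine B.left := isAffine_of_isAffineHom iB.left
  haveI : Mono iB := Over.mono_of_mono_left iB
  obtain ⟨T₀, _, j, _, _, hT₀, hconj⟩ := exists_maxTorus B hsB
  have main : ∀ (S : Over (Spec (CommRingCat.of k))) [GrpObj S] (iS : S ⟶ G), AGF.IsMaxTorus iS →
      ∃ (g : 𝟙_ (Over (Spec (CommRingCat.of k))) ⟶ G) (e : S ≅ T₀), e.hom ≫ AGF.conjBy g (j ≫ iB) = iS := by
    intro S _ iS hS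
    obtain ⟨_, _, hSt, hmax⟩ := hS
    obtain ⟨_, _, _, _, hcm⟩ := AlgGrp33.IsogSub.torus_props hSt
    have hsolv : Red.IsSolvableGrp S := ⟨1, fun X => by
      rw [derivedSeries_one, commutator_eq_bot_iff_center_eq_top, eq_top_iff]
      intro x _
      rw [Subgroup.mem_center_iff]
      exact fun y => mul_comm y x⟩
    obtain ⟨g, φ, hφ⟩ := BorelConj.exists_conj_into iB hX hsolv iS
    haveI := BorelConj.isMonHom_conjBy g iB
    haveI := BorelConj.isClosedImmersion_conjBy g iB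
    haveI : Mono (AGF.conjBy g iB) := Over.mono_of_mono_left _
    haveI : IsMonHom φ := AlgGrp79.isMonHom_of_forall _ fun X s t => by
      rw [← cancel_mono (AGF.conjBy g iB), MonObj.mul_comp _ _ (AGF.conjBy g iB), Category.assoc, Category.assoc,
        Category.assoc, hφ, MonObj.mul_comp]
    obtain ⟨b, χ, hχ⟩ := hconj S hSt φ
    let g' := g * (b ≫ iB)
    have hkey : χ ≫ AGF.conjBy g' (j ≫ iB) = iS := by
      rw [← hφ, ← hχ, BorelConj.comp_conjBy, BorelConj.comp_conjBy, BorelConj.comp_conjBy]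
      show _ = AGF.conjBy g (((toUnit S ≫ b) * (χ ≫ j) * (toUnit S ≫ b)⁻¹) ≫ iB)
      rw [MonObj.mul_comp _ _ iB, MonObj.mul_comp _ _ iB, GrpObj.inv_comp, Category.assoc]
      show _ = AGF.conjBy g (AGF.conjBy (b ≫ iB) ((χ ≫ j) ≫ iB))
      rw [BorelConj.conjBy_conjBy, Category.assoc]
    haveI : IsClosedImmersion (j ≫ iB).left := inferInstanceAs (IsClosedImmersion (j.left ≫ iB.left))
    haveI := BorelConj.isMonHom_conjBy g' (j ≫ iB)
    haveI := BorelConj.isClosedImmersion_conjBy g' (j ≫ iB)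
    haveI : Mono (AGF.conjBy g' (j ≫ iB)) := Over.mono_of_mono_left _
    haveI := hmax T₀ (AGF.conjBy g' (j ≫ iB)) χ hT₀ hkey
    exact ⟨g', asIso χ, hkey⟩
  obtain ⟨g, e, he⟩ := main T iT hT
  obtain ⟨g', e', he'⟩ := main T' iT' hT'
  refine ⟨g' * g⁻¹, e ≪≫ e'.symm, ?_⟩
  rw [← he', ← he, Iso.trans_hom, Category.assoc, Iso.symm_hom, Iso.inv_hom_id_assoc, BorelConj.comp_conjBy,
    BorelConj.comp_conjBy, BorelConj.conjBy_conjBy, inv_mul_cancel_right]

end Groth.Agent.AlgGrp79.ToriConj
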