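import Groth.Agent.AlgGrp79.Batch
import Groth.Agent.AlgGrp79.Image
import Groth.Agent.SchBasics.Reduced

set_option autoImplicit false
universe u v w

open CategoryTheory MonoidalCategory CartesianMonoidalCategory MonObj AlgebraicGeometry CategoryTheory.Limits
open scoped commutatorElement TensorProduct

namespace Groth.Agent.AlgGrp79

section RatDense
variable {k : Type u} [Field k]

/-- The point of a rational point. -/
noncomputable abbrev ratPt {X : Over (Spec (CommRingCat.of k))} (s : 𝟙_ (Over (Spec (CommRingCat.of k))) ⟶ X) : X.left :=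
  s.left (IsLocalRing.closedPoint k)

/-- A morphism from a reduced scheme whose image lies in a closed subscheme factors through it. -/
theorem exists_lift_of_range_subset {F G T : Over (Spec (CommRingCat.of k))}
    (j : F ⟶ G) [IsClosedImmersion j.left] [IsReduced T.left] (f : T ⟶ G)
    (h : Set.range f.left ⊆ Set.range j.left) : ∃ g : T ⟶ F, g ≫ j = f := by
  have : Surjective (pullback.snd j.left f.left) := ⟨fun t => by
    obtain ⟨x, hx⟩ := h ⟨t, rfl⟩
    obtain ⟨z, -, hz⟩ := exists_preimage_of_isPullback (IsPullback.of_hasPullback j.left f.left) x t hx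
    exact ⟨z, hz⟩⟩
  have : IsIso (pullback.snd j.left f.left) := isIso_of_isClosedImmersion_of_surjective _
  have h : (inv (pullback.snd j.left f.left) ≫ pullback.fst j.left f.left) ≫ j.left = f.left := by
    rw [Category.assoc, pullback.condition, IsIso.inv_hom_id_assoc]
  refine ⟨Over.homMk (inv (pullback.snd j.left f.left) ≫ pullback.fst j.left f.left) ?_, ?_⟩
  · show (inv (pullback.snd j.left f.left) ≫ pullback.fst j.left f.left) ≫ F.hom = _
    rw [← Over.w j, ← Category.assoc, h, Over.w]
  · ext : 1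
    exact h

/-- A reduced scheme with a dense set of rational points is geometrically reduced. -/
theorem geometricallyReduced_of_dense_rat {X : Over (Spec (CommRingCat.of k))} [IsReduced X.left]
    (S : Set (𝟙_ (Over (Spec (CommRingCat.of k))) ⟶ X)) (hS : Dense (ratPt '' S)) :
    GeometricallyReduced X.hom := by
  refine ⟨geometrically_iff_of_commRing_of_isClosedUnderIsomorphisms.mpr fun K _ _ => ?_⟩
  let g := Spec.map (CommRingCat.ofHom (algebraMap k K))
  have (z : ↥(pullback X.hom g)) : _root_.IsReduced ((pullback X.hom g).presheaf.stalk z) := by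
    obtain ⟨A, _, _, j, _, hx, hj⟩ := FBase64.exists_chart X.hom (pullback.fst X.hom g z)
    have hj' : 𝟙 (Spec (CommRingCat.of K)) ≫ g = Spec.map (CommRingCat.ofHom (algebraMap k K)) := Category.id_comp _
    obtain ⟨P, hP⟩ : z ∈ Set.range (FBase64.prodChart X.hom g j (𝟙 _) hj hj') := by
      rw [FBase64.range_prodChart]; exact ⟨hx, ⟨_, rfl⟩⟩
    have : _root_.IsReduced A := (affine_isReduced_iff _).mp (isReduced_of_isOpenImmersion j)
    have hsep : ∀ a : A, (∀ φ : A →ₐ[k] k, φ a = 0) → a = 0 := by
      intro a ha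
      refine IsNilpotent.eq_zero ((PrimeSpectrum.basicOpen_eq_bot_iff a).1 ?_)
      by_contra hne
      obtain ⟨p, hp⟩ : ((PrimeSpectrum.basicOpen a : TopologicalSpace.Opens (PrimeSpectrum A)) : Set (PrimeSpectrum A)).Nonempty :=
        Set.nonempty_iff_ne_empty.2 fun h => hne (TopologicalSpace.Opens.ext h)
      obtain ⟨_, ⟨q, hq, rfl⟩, s, -, hs⟩ := hS.inter_open_nonempty _
        (j.isOpenEmbedding.isOpenMap _ (PrimeSpectrum.basicOpen a).isOpen) ⟨_, p, hp, rfl⟩
      have hr : Set.range s.left ⊆ Set.range j := by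
        rintro _ ⟨c, rfl⟩
        rw [Subsingleton.elim (α := PrimeSpectrum k) c (IsLocalRing.closedPoint k)]
        exact ⟨q, hs.symm⟩
      obtain ⟨ψ, hψ⟩ := Spec.map_surjective (IsOpenImmersion.lift j s.left hr)
      have hw : CommRingCat.ofHom (algebraMap k A) ≫ ψ = 𝟙 (CommRingCat.of k) := by
        apply Spec.map_injective
        rw [Spec.map_comp, hψ, ← hj, IsOpenImmersion.lift_fac_assoc, Spec.map_id]
        exact Over.w s
      let φ : A →ₐ[k] k := { ψ.hom with commutes' := fun r => RingHom.congr_fun (congrArg CommRingCat.Hom.hom hw) r }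
      have hc : Spec.map ψ (IsLocalRing.closedPoint k) = q := j.isOpenEmbedding.injective (by
        rw [← Scheme.Hom.comp_apply, hψ, IsOpenImmersion.lift_fac]; exact hs)
      rw [← hc] at hq
      have : ψ.hom a ∉ (IsLocalRing.closedPoint k).asIdeal := hq
      exact this (by rw [show ψ.hom a = 0 from ha φ]; exact Ideal.zero_mem _)
    have : _root_.IsReduced (A ⊗[k] K) := by
      let ev : A ⊗[k] K →ₐ[k] ((A →ₐ[k] k) → K) := AlgHom.pi fun φ =>
        Algebra.TensorProduct.lift ((Algebra.ofId k K).comp φ) (AlgHom.id k K) fun _ _ => Commute.all _ _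
      refine isReduced_of_injective ev ((injective_iff_map_eq_zero ev).2 fun r hr => ?_)
      let b := Module.Free.chooseBasis k K
      let e := Algebra.TensorProduct.basis A b
      refine e.repr.map_eq_zero_iff.1 (Finsupp.ext fun i => ?_)
      refine hsep _ fun φ => ?_
      have key : ∀ (t : A ⊗[k] K) (i), φ (e.repr t i) = b.repr (ev t φ) i := by
        intro t i
        induction t with
        | zero => simp
        | tmul x y => simp [e, ev, Algebra.TensorProduct.basis_repr_tmul, ← Algebra.smul_def, Algebra.ofId_apply]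
        | add x y hx hy => simp [hx, hy]
      rw [key, hr]; simp
    obtain ⟨e⟩ := FBase64.nonempty_stalkEquiv (FBase64.prodChart X.hom g j (𝟙 _) hj hj') P
    rw [← hP]
    exact isReduced_of_injective e e.injective
  exact isReduced_of_isReduced_stalk _

/-- Products of dense sets of rational points are dense. -/
theorem dense_rat_prod {X Y : Over (Spec (CommRingCat.of k))}
    (S : Set (𝟙_ (Over (Spec (CommRingCat.of k))) ⟶ X)) (hS : Dense (ratPt '' S))
    (S' : Set (𝟙_ (Over (Spec (CommRingCat.of k))) ⟶ Y)) (hS' : Dense (ratPt '' S')) :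
    Dense (ratPt '' ((fun p : _ × _ => lift p.1 p.2) '' (S ×ˢ S'))) := by
  rw [dense_iff_inter_open]
  intro W hW hne
  obtain ⟨_, ⟨w, hw, rfl⟩, s, hs, hsw⟩ := hS.inter_open_nonempty _
    ((pullback.fst X.hom Y.hom).isOpenMap _ hW) (hne.image _)
  let sl : Y ⟶ X ⊗ Y := lift (toUnit Y ≫ s) (𝟙 Y)
  have hsq : IsPullback sl.left (toUnit Y).left (fst X Y).left s.left := by
    refine isPullback_left ⟨⟨by simp [sl]⟩, ⟨PullbackCone.IsLimit.mk _ (fun c => c.fst ≫ snd X Y) ?_ ?_ ?_⟩⟩
    · intro c
      ext : 1
      · simp only [sl, Category.assoc, lift_fst]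
        rw [c.condition, ← Category.assoc (snd X Y), ← Category.assoc c.fst, toUnit_unique (c.fst ≫ snd X Y ≫ toUnit Y) c.snd]
      · simp [sl]
    · intro c; exact toUnit_unique _ _
    · intro c m h1 _; rw [← h1]; simp [sl]
  obtain ⟨y, hy, -⟩ := exists_preimage_of_isPullback hsq w (IsLocalRing.closedPoint k) hsw.symm
  obtain ⟨_, hyW, s', hs', rfl⟩ := hS'.inter_open_nonempty _ (hW.preimage sl.left.continuous)
    ⟨y, show sl.left y ∈ W by rw [hy]; exact hw⟩
  refine ⟨_, hyW, ⟨lift s s', ⟨(s, s'), ⟨hs, hs'⟩, rfl⟩, ?_⟩⟩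
  show (lift s s').left _ = sl.left (s'.left _)
  rw [← Scheme.Hom.comp_apply, ← Over.comp_left,
    show lift s s' = s' ≫ sl by ext : 1 <;> simp [sl]]

end RatDense

end Groth.Agent.AlgGrp79
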