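import Groth.Agent.AlgGrp79.Batch
import Groth.Agent.AlgGrp79.RatDense
import Groth.Agent.AlgGrp79.SepDense
import Groth.Agent.FBase64.Geometric
import Groth.Agent.FBase64.Products
import Groth.Prelude.Def_AlgGrp

set_option autoImplicit false
universe u v w

open CategoryTheory MonoidalCategory CartesianMonoidalCategory MonObj AlgebraicGeometry CategoryTheory.Limits
open scoped commutatorElement TensorProduct nonZeroDivisors

namespace Groth.Agent.AlgGrp79

lemma geometricallyReduced_of_smooth' {k : Type u} [Field k] {X : Scheme.{u}} (f : X ⟶ Spec (CommRingCat.of k)) [Smooth f] :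
    GeometricallyReduced f := by
  refine ⟨geometrically_iff_of_commRing_of_isClosedUnderIsomorphisms.mpr fun L _ _ => ?_⟩
  have : Smooth (pullback.snd f (Spec.map (CommRingCat.ofHom (algebraMap k L)))) :=
    MorphismProperty.pullback_snd (P := @Smooth) _ _ inferInstance
  exact isReduced_of_smooth (pullback.snd f (Spec.map (CommRingCat.ofHom (algebraMap k L))))

end Groth.Agent.AlgGrp79
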