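import Groth.Agent.AlgGrp79.Homogeneous
import Groth.Agent.Var76.RegSmooth
import Groth.Agent.VarGal.SmoothReg
import Groth.Agent.VarGal.GeomReg
import Groth.Agent.AlgGrp79.RatDense
import Groth.Agent.AlgGrp79.DiscreteAct
import Groth.Agent.Var76.FibreBound
import Groth.Agent.S7984

set_option autoImplicit false
universe u v w

open CategoryTheory MonoidalCategory CartesianMonoidalCategory MonObj AlgebraicGeometry CategoryTheory.Limits
open scoped commutatorElement TensorProduct nonZeroDivisors

namespace Groth.Agent.AlgGrp79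

section SmoothDesc
variable {k : Type u} [Field k]

lemma exists_lift_immersion {F G T : Over (Spec (CommRingCat.of k))}
    (j : F ⟶ G) [IsImmersion j.left] [IsReduced T.left] (f : T ⟶ G)
    (h : Set.range f.left ⊆ Set.range j.left) : ∃ g : T ⟶ F, g ≫ j = f := by
  have : Surjective (pullback.snd j.left f.left) := ⟨fun t => by
    obtain ⟨x, hx⟩ := h ⟨t, rfl⟩
    obtain ⟨z, -, hz⟩ := exists_preimage_of_isPullback (IsPullback.of_hasPullback j.left f.left) x t hx
    exact ⟨z, hz⟩⟩
  have : IsClosedImmersion (pullback.snd j.left f.left) :=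
    .of_isPreimmersion _ (by rw [(pullback.snd j.left f.left).surjective.range_eq]; exact isClosed_univ)
  have : IsIso (pullback.snd j.left f.left) := isIso_of_isClosedImmersion_of_surjective _
  have hfac : (inv (pullback.snd j.left f.left) ≫ pullback.fst j.left f.left) ≫ j.left = f.left := by
    rw [Category.assoc, pullback.condition, IsIso.inv_hom_id_assoc]
  refine ⟨Over.homMk _ (?_ : (inv (pullback.snd j.left f.left) ≫ pullback.fst j.left f.left) ≫ F.hom = T.hom), ?_⟩
  · rw [← Over.w j, ← Category.assoc, hfac, Over.w]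
  · ext : 1; exact hfac

lemma leftUnitor_hom_comp_aux {F G : Over (Spec (CommRingCat.of k))} (j : F ⟶ G) :
    (𝟙_ (Over (Spec (CommRingCat.of k))) ◁ j) ≫ (λ_ G).hom = (λ_ F).hom ≫ j :=
  MonoidalCategory.leftUnitor_naturality j

lemma smooth_of_regular_stalks [IsAlgClosed k] {Y : Scheme.{u}} (g : Y ⟶ Spec (CommRingCat.of k)) [LocallyOfFiniteType g]
    (h : ∀ y : Y, IsRegularLocalRing (Y.presheaf.stalk y)) : Smooth g := by
  refine (IsZariskiLocalAtSource.iff_of_openCover Y.affineOpenCover.openCover).2 fun i => ?_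
  obtain ⟨φ, hφ⟩ := Spec.map_surjective (Y.affineOpenCover.f i ≫ g)
  have hft : LocallyOfFiniteType (Spec.map φ) := by rw [hφ]; infer_instance
  show Smooth (Y.affineOpenCover.f i ≫ g)
  rw [← hφ, HasRingHomProperty.Spec_iff (P := @Smooth)]
  algebraize [φ.hom]
  have : Algebra.FiniteType k (Y.affineOpenCover.X i) := by
    rw [← RingHom.finiteType_algebraMap]
    exact (HasRingHomProperty.Spec_iff (P := @LocallyOfFiniteType)).mp hft
  refine RingHom.smooth_algebraMap.2 (Var76.RegSmooth.smooth_of_regular fun M hM => ?_)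
  let x : ↥(Spec (Y.affineOpenCover.X i)) := ⟨M, inferInstance⟩
  have e1 := (asIso ((Y.affineOpenCover.f i).stalkMap x)).commRingCatIsoToRingEquiv
  have e2 : (Spec (Y.affineOpenCover.X i)).presheaf.stalk x ≃+* Localization.AtPrime M :=
    (StructureSheaf.stalkIso (Y.affineOpenCover.X i) x).toRingEquiv.symm
  have := h (Y.affineOpenCover.f i x)
  exact IsRegularLocalRing.of_ringEquiv (e1.trans e2)

theorem smooth_of_flat_surjective {X Y : Scheme.{u}} (f : X ⟶ Y) [Flat f] [Surjective f]
    (g : Y ⟶ Spec (CommRingCat.of k)) [LocallyOfFiniteType g] [QuasiCompact g] [Smooth (f ≫ g)] : Smooth g := by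
  let t : Spec (CommRingCat.of (AlgebraicClosure k)) ⟶ Spec (CommRingCat.of k) :=
    Spec.map (CommRingCat.ofHom (algebraMap k (AlgebraicClosure k)))
  apply MorphismProperty.of_pullback_snd_of_descendsAlong (Q := @Surjective ⊓ @Flat ⊓ @QuasiCompact) (g := t)
  · exact ⟨⟨inferInstance, inferInstance⟩, inferInstance⟩
  let f' : pullback (f ≫ g) t ⟶ pullback g t := pullback.map _ _ _ _ f (𝟙 _) (𝟙 _) (by simp) (by simp)
  have hsq : IsPullback (pullback.fst (f ≫ g) t) f' f (pullback.fst g t) := by
    refine IsPullback.of_bot (h₃₁ := t) (v₂₁ := pullback.snd g t) (v₂₂ := g) ?_ (pullback.lift_fst _ _ _).symm (IsPullback.of_hasPullback g t)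
    rw [show f' ≫ pullback.snd g t = pullback.snd (f ≫ g) t from (pullback.lift_snd _ _ _).trans (Category.comp_id _)]
    exact IsPullback.of_hasPullback (f ≫ g) t
  have : Flat f' := MorphismProperty.of_isPullback hsq inferInstance
  have : Surjective f' := MorphismProperty.of_isPullback hsq inferInstance
  refine smooth_of_regular_stalks _ fun y => ?_
  obtain ⟨x, rfl⟩ := f'.surjective y
  have : Smooth (pullback.snd (f ≫ g) t) := MorphismProperty.pullback_snd (P := @Smooth) _ _ inferInstance
  have := VarGal.isRegularLocalRing_stalk_of_smooth (pullback.snd (f ≫ g) t) x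
  exact VarGal.isRegularLocalRing_of_flat f' x

end SmoothDesc

end Groth.Agent.AlgGrp79
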