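import Groth.Agent.RedPts82.FinTransporter
import Groth.Agent.AlgGrp79.Act

/-!
Fixed points of an essentially free parameter scheme form a closed subscheme.
-/

set_option autoImplicit false
set_option backward.isDefEq.respectTransparency.types false
universe u

open CategoryTheory CategoryTheory.Limits MonoidalCategory CartesianMonoidalCategory MonObj AlgebraicGeometry

noncomputable section

namespace Groth.Agent.AlgGrp79

variable {S : Scheme.{u}}

/-- an affine morphism with free sections is essentially free -/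
theorem isEssentiallyFree_of_affine_free {X : Scheme.{u}} (f : X ⟶ S) [IsAffineHom f]
    (hfree : ∀ s : S, ∃ U : S.affineOpens, s ∈ (U : S.Opens) ∧
      @Module.Free Γ(S, U) Γ(X, f ⁻¹ᵁ U) _ _ (f.app U).hom.toAlgebra.toModule) :
    SGA3x.IsEssentiallyFree f := by
  intro s
  obtain ⟨⟨U, hU⟩, hsU, hfr⟩ := hfree s
  have : IsAffine U.toScheme := hU
  refine ⟨U, hsU, hU, U.toScheme, inferInstance, 𝟙 _, inferInstance, inferInstance, fun x => ⟨⊤, trivial, ?_, ?_⟩⟩
  · have : IsAffineHom (pullback.snd f (𝟙 U.toScheme ≫ U.ι)) := MorphismProperty.pullback_snd _ _ ‹_›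
    have := isAffine_of_isAffineHom (pullback.snd f (𝟙 U.toScheme ≫ U.ι))
    exact isAffineOpen_top _
  · let P := pullback f (𝟙 U.toScheme ≫ U.ι)
    let i : (⊤ : P.Opens).toScheme ≅ (f ⁻¹ᵁ U).toScheme :=
      P.topIso ≪≫ pullback.congrHom rfl (Category.id_comp _) ≪≫ pullbackRestrictIsoRestrict f U
    have hi : (⊤ : P.Opens).ι ≫ pullback.snd f (𝟙 U.toScheme ≫ U.ι) = i.hom ≫ f ∣_ U := by
      simp [i, P, morphismRestrict, pullback.congrHom_hom, pullback.lift_snd]
    have : IsIso i.hom.appTop := inferInstanceAs (IsIso (i.hom.app ⊤))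
    let τ : Γ(X, f ⁻¹ᵁ U) ≅ Γ((⊤ : P.Opens).toScheme, ⊤) :=
      (f ⁻¹ᵁ U).topIso.symm ≪≫ asIso i.hom.appTop
    have hproj : letI := (f.app U).hom.toAlgebra; Module.Projective Γ(S, U) Γ(X, f ⁻¹ᵁ U) := by
      letI := (f.app U).hom.toAlgebra
      have := hfr
      exact Module.Projective.of_free
    refine SGA3a.projective_of_iso U.topIso.symm τ (α := f.app U) ?_ hproj
    rw [hi, Scheme.Hom.comp_appTop, show τ.hom = (f ⁻¹ᵁ U).topIso.inv ≫ i.hom.appTop from rfl, ← Category.assoc,
      ← Category.assoc]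
    congr 1
    rw [morphismRestrict_appTop, Iso.symm_hom, Scheme.Opens.topIso_inv, Scheme.Opens.topIso_inv]
    simp only [Scheme.Hom.app_eq_appLE]
    erw [Scheme.Hom.appLE_map, Scheme.Hom.appLE_map, Scheme.Hom.map_appLE]
    rfl

/-- the equaliser of two maps -/
def eqSub {A Y : Over S} (P Q : A ⟶ Y) : Over S :=
  Over.mk (pullback.snd (pullback.diagonal Y.hom) (pullback.lift P.left Q.left ((Over.w P).trans (Over.w Q).symm)) ≫ A.hom)

/-- its inclusion -/
def eqι {A Y : Over S} (P Q : A ⟶ Y) : eqSub P Q ⟶ A :=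
  Over.homMk (pullback.snd (pullback.diagonal Y.hom) (pullback.lift P.left Q.left ((Over.w P).trans (Over.w Q).symm))) rfl

lemma factors_eqι_iff {A Y T : Over S} (P Q : A ⟶ Y) (w : T ⟶ A) :
    (∃ z : T ⟶ eqSub P Q, w = z ≫ eqι P Q) ↔ w ≫ P = w ≫ Q := by
  constructor
  · rintro ⟨z, rfl⟩
    have h := pullback.condition (f := pullback.diagonal Y.hom)
      (g := pullback.lift P.left Q.left ((Over.w P).trans (Over.w Q).symm))
    have h1 := congrArg (· ≫ pullback.fst Y.hom Y.hom) h
    have h2 := congrArg (· ≫ pullback.snd Y.hom Y.hom) h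
    simp only [Category.assoc, pullback.diagonal_fst, pullback.diagonal_snd, pullback.lift_fst, pullback.lift_snd] at h1 h2
    ext : 1
    simp only [Over.comp_left, eqι, Over.homMk_left, Category.assoc]
    congr 1
    exact h1.symm.trans h2
  · intro h
    have hc : (w ≫ P).left ≫ pullback.diagonal Y.hom =
        w.left ≫ pullback.lift P.left Q.left ((Over.w P).trans (Over.w Q).symm) := by
      apply pullback.hom_ext
      · simp only [Category.assoc, pullback.diagonal_fst, pullback.lift_fst, Category.comp_id, Over.comp_left]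
      · simp only [Category.assoc, pullback.diagonal_snd, pullback.lift_snd, Category.comp_id]
        exact congr($(h).left)
    refine ⟨Over.homMk (pullback.lift _ _ hc) ?_, ?_⟩
    · show pullback.lift _ _ hc ≫ pullback.snd _ _ ≫ A.hom = T.hom
      rw [pullback.lift_snd_assoc]; exact Over.w w
    · ext : 1; exact (pullback.lift_snd _ _ _).symm

theorem exists_fixed_closed {F X : Over S} (hF : SGA3x.IsEssentiallyFree F.hom) (act : F ⊗ X ⟶ X)
    (hcl : IsClosedImmersion (eqι ((β_ X F).hom ≫ act) (fst X F)).left) :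
    ∃ (Z : Over S) (i : Z ⟶ X), IsClosedImmersion i.left ∧ ∀ (T : Over S) (y : T ⟶ X),
      (∀ (T' : Over S) (t : T' ⟶ T) (g : T' ⟶ F), lift g (t ≫ y) ≫ act = t ≫ y) ↔ ∃ z : T ⟶ Z, z ≫ i = y := by
  obtain ⟨Z, i, hi, hZ⟩ := SGA3a.exists_transporter hF (𝟙 (X ⊗ F)) (eqι ((β_ X F).hom ≫ act) (fst X F))
  refine ⟨Z, i, hi, fun T y => ?_⟩
  rw [hZ T y]
  refine forall_congr' fun T' => forall_congr' fun t => forall_congr' fun g => ?_
  rw [Category.comp_id, factors_eqι_iff, lift_fst, ← Category.assoc, lift_braiding_hom]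

lemma isClosedImmersion_eqι {A Y : Over S} [IsSeparated Y.hom] (P Q : A ⟶ Y) : IsClosedImmersion (eqι P Q).left :=
  MorphismProperty.pullback_snd _ _ inferInstance

lemma isClosedImmersion_eqι_of_surjective {A Y : Over S} (P Q : A ⟶ Y) {B : Over S} (c : B ⟶ A) [Surjective c.left]
    (hc : c ≫ P = c ≫ Q) : IsClosedImmersion (eqι P Q).left := by
  have : IsImmersion (eqι P Q).left := MorphismProperty.pullback_snd _ _ inferInstance
  obtain ⟨z, hz⟩ := (factors_eqι_iff P Q c).2 hc
  refine IsClosedImmersion.of_isPreimmersion _ ?_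
  have : Set.range (eqι P Q).left = Set.univ := by
    rw [Set.eq_univ_iff_forall]
    intro a
    obtain ⟨b, hb⟩ := c.left.surjective a
    exact ⟨z.left b, by rw [← hb, hz]; rfl⟩
  rw [this]; exact isClosed_univ

end Groth.Agent.AlgGrp79
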