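import Groth.Agent.AlgGrp79.LineFixed

set_option autoImplicit false
universe u

open CategoryTheory CategoryTheory.Limits MonoidalCategory CartesianMonoidalCategory MonObj AlgebraicGeometry

noncomputable section

namespace Groth.Agent.AlgGrp79

section Restrict
variable {S : Scheme.{u}} {G H X : Over S} [GrpObj G] [GrpObj H]

/-- restriction of an action along a homomorphism -/
def actRestrict (a : AlgGrp.Action G X) (φ : H ⟶ G) [IsMonHom φ] : AlgGrp.Action H X where
  act := (φ ▷ X) ≫ a.act
  one_act := by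
    rw [← Category.assoc, ← comp_whiskerRight, IsMonHom.one_hom, a.one_act]
  mul_act := by
    rw [← Category.assoc, ← comp_whiskerRight, IsMonHom.mul_hom, comp_whiskerRight, Category.assoc, a.mul_act,
      MonoidalCategory.whiskerLeft_comp, tensorHom_def', comp_whiskerRight, whisker_assoc, Category.assoc]
    simp only [associator_naturality_left_assoc, Category.assoc, Iso.inv_hom_id_assoc]
    rw [whisker_exchange_assoc φ a.act]

lemma actRestrict_isFixedPt_of_iso (a : AlgGrp.Action G X) (e : H ⟶ G) [IsMonHom e] [IsIso e]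
    {x : 𝟙_ (Over S) ⟶ X} (h : (actRestrict a e).IsFixedPt x) : a.IsFixedPt x := by
  intro T g
  have := h T (g ≫ inv e)
  simp only [actRestrict, ← Category.assoc, lift_whiskerRight] at this
  rw [Category.assoc g, IsIso.inv_hom_id, Category.comp_id] at this
  exact this

end Restrict

variable {k : Type u} [Field k]

/-- translation action of a group on itself -/
def mulAct {S : Scheme.{u}} (G : Over S) [GrpObj G] : AlgGrp.Action G G where
  act := μ[G]
  one_act := MonObj.one_mul G
  mul_act := MonObj.mul_assoc G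

lemma eq_one_of_fixedPt {S : Scheme.{u}} {G A : Over S} [GrpObj G] [GrpObj A] (φ : G ⟶ A) [IsMonHom φ]
    {x : 𝟙_ (Over S) ⟶ A} (h : (actRestrict (mulAct A) φ).IsFixedPt x) : φ = 1 := by
  have := h G (𝟙 G)
  simp only [actRestrict, mulAct, ← Category.assoc, lift_whiskerRight, Category.id_comp] at this
  rw [← Hom.mul_def] at this
  exact mul_eq_right.1 this

/-- no multiplicative one-parameter subgroups in proper groups -/
theorem hom_Gm_eq_one {A : Over (Spec (CommRingCat.of k))} [GrpObj A] [IsProper A.hom]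
    (φ : Red.Gm (Spec (CommRingCat.of k)) ⟶ A) [IsMonHom φ] : φ = 1 := by
  obtain ⟨x, hx⟩ := exists_fixedPt_Gm η[A] (actRestrict (mulAct A) φ)
  exact eq_one_of_fixedPt φ hx

/-- no additive one-parameter subgroups in proper groups -/
theorem hom_Ga_eq_one {A : Over (Spec (CommRingCat.of k))} [GrpObj A] [IsProper A.hom]
    (φ : Red.Ga (Spec (CommRingCat.of k)) ⟶ A) [IsMonHom φ] : φ = 1 := by
  obtain ⟨x, hx⟩ := exists_fixedPt_Ga η[A] (actRestrict (mulAct A) φ)
  exact eq_one_of_fixedPt φ hx

theorem exists_fixedPt_of_iso {G X : Over (Spec (CommRingCat.of k))} [GrpObj G]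
    (hG : Nonempty (Grp.mk G ≅ Grp.mk (Red.Ga (Spec (CommRingCat.of k)))) ∨
      Nonempty (Grp.mk G ≅ Grp.mk (Red.Gm (Spec (CommRingCat.of k)))))
    [IsProper X.hom] (x₀ : 𝟙_ (Over (Spec (CommRingCat.of k))) ⟶ X) (a : AlgGrp.Action G X) :
    ∃ x : 𝟙_ (Over (Spec (CommRingCat.of k))) ⟶ X, a.IsFixedPt x := by
  rcases hG with ⟨⟨e⟩⟩ | ⟨⟨e⟩⟩
  · have : IsMonHom e.inv.hom.hom := e.inv.hom.isMonHom_hom
    have : IsIso e.inv.hom.hom := inferInstanceAs (IsIso ((Grp.forget _).map e.inv))
    obtain ⟨x, hx⟩ := exists_fixedPt_Ga x₀ (actRestrict a e.inv.hom.hom)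
    exact ⟨x, actRestrict_isFixedPt_of_iso a e.inv.hom.hom hx⟩
  · have : IsMonHom e.inv.hom.hom := e.inv.hom.isMonHom_hom
    have : IsIso e.inv.hom.hom := inferInstanceAs (IsIso ((Grp.forget _).map e.inv))
    obtain ⟨x, hx⟩ := exists_fixedPt_Gm x₀ (actRestrict a e.inv.hom.hom)
    exact ⟨x, actRestrict_isFixedPt_of_iso a e.inv.hom.hom hx⟩

end Groth.Agent.AlgGrp79
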