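import Mathlib
import Groth.Prelude.Def_AlgGrp
import Groth.Prelude.Def_Red2
import Groth.Prelude.Def_SGA7a
import Groth.Agent.FBase64.TensorField
import Groth.Agent.FlatMor67.GenericFibre
import Groth.Agent.AlgGrp79.Act
import Groth.Agent.AlgGrp79.Pullback
import Groth.Agent.AlgGrp79.Cover
import Groth.Agent.AlgGrp79.SepDense
import Groth.Agent.AlgGrp79.ProdDense

set_option autoImplicit false
universe u v w

open CategoryTheory MonoidalCategory CartesianMonoidalCategory MonObj AlgebraicGeometry CategoryTheory.Limits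
open scoped commutatorElement

namespace Groth.Agent.AlgGrp79

lemma isIso_of_mutual {k : Type u} [Field k] {X Z Z' : Over (Spec (CommRingCat.of k))} (c : Z ⟶ X) (c' : Z' ⟶ X) [Mono c] [Mono c']
    (a : Z ⟶ Z') (b : Z' ⟶ Z) (ha : a ≫ c' = c) (hb : b ≫ c = c') : ∃ e : Z ≅ Z', e.hom ≫ c' = c :=
  ⟨⟨a, b, by rw [← cancel_mono c, Category.assoc, hb, ha, Category.id_comp],
    by rw [← cancel_mono c', Category.assoc, ha, hb, Category.id_comp]⟩, ha⟩

lemma ptsDense_of_isAlgClosed_isReduced {k K : Type u} [Field k] [Field K] [Algebra k K] [IsAlgClosed K]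
    (X : Over (Spec (CommRingCat.of k))) [LocallyOfFiniteType X.hom] [AlgebraicGeometry.IsReduced X.left] : PtsDense k K X := by
  intro Z c _ h
  let σ := Spec.map (CommRingCat.ofHom (algebraMap k K))
  have hft : LocallyOfFiniteType (pullback.snd X.hom σ) := MorphismProperty.pullback_snd _ _ inferInstance
  have hsur : Surjective c.left := by
    refine ⟨fun p => ?_⟩
    by_contra hp
    let q : pullback X.hom σ ⟶ X.left := pullback.fst _ _
    have hq : Surjective q := MorphismProperty.pullback_fst _ _ inferInstance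
    have := LocallyOfFiniteType.jacobsonSpace (pullback.snd X.hom σ)
    obtain ⟨y, hy⟩ := q.surjective p
    have hO : IsOpen (q.base ⁻¹' (Set.range c.left.base)ᶜ) :=
      (c.left.isClosedEmbedding.isClosed_range.isOpen_compl).preimage q.continuous
    obtain ⟨z, hzO, hz⟩ := nonempty_inter_closedPoints ⟨y, show q y ∈ (Set.range c.left.base)ᶜ by rw [hy]; exact hp⟩ hO.isLocallyClosed
    let s := pointOfClosedPoint (pullback.snd X.hom σ) z hz
    have hs : s ≫ pullback.snd X.hom σ = 𝟙 _ := pointOfClosedPoint_comp _ _ _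
    have hw : (s ≫ q) ≫ X.hom = (Pt k K).hom := by
      rw [Category.assoc, show q ≫ X.hom = pullback.snd X.hom σ ≫ σ from pullback.condition, reassoc_of% hs]; rfl
    obtain ⟨w, hwc⟩ := h (Over.homMk (s ≫ q) hw)
    refine hzO ⟨w.left (IsLocalRing.closedPoint K), ?_⟩
    have h1 := congr($(hwc).left (IsLocalRing.closedPoint K))
    simpa [s] using h1
  have : IsIso ((Over.forget _).map c) := isIso_of_isClosedImmersion_of_surjective c.left
  exact isIso_of_reflects_iso c (Over.forget _)

end Groth.Agent.AlgGrp79
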