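import Mathlib
import Groth.Prelude.Def_AlgGrp
import Groth.Prelude.Def_SGA7a
import Groth.Agent.AlgGrp79.Act
import Groth.Agent.AlgGrp79.Pullback
import Groth.Agent.AlgGrp79.Cover
import Groth.Agent.AlgGrp79.KernelPts
import Groth.Agent.AlgGrp79.SepDense
import Groth.Agent.AlgGrp79.ProdDense
import Groth.Agent.AlgGrp79.KernelDescent
import Groth.Agent.AlgGrp79.PtsLemmas
import Groth.Agent.FBase64.Geometric

set_option autoImplicit false
universe u v w

open CategoryTheory MonoidalCategory CartesianMonoidalCategory MonObj AlgebraicGeometry CategoryTheory.Limits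
open scoped commutatorElement

namespace Groth.Agent.AlgGrp79


lemma subsingleton_range_of_proper_to_affine {K : Type u} [Field K] {X Y : Scheme.{u}} (p : X ⟶ Spec (CommRingCat.of K))
    [IsProper p] [PreconnectedSpace X] [IsAffine Y] (f : X ⟶ Y) (q : Y ⟶ Spec (CommRingCat.of K))
    [LocallyOfFiniteType q] (w : f ≫ q = p) : (Set.range f).Subsingleton := by
  have : IsProper (f ≫ q) := by rw [w]; infer_instance
  have : UniversallyClosed f := .of_comp_of_isSeparated f q
  have : QuasiCompact f := QuasiCompact.of_comp f q
  have hs : Surjective f.toImage := by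
    constructor
    intro z
    have hd := f.toImage.denseRange
    have hc : IsClosed (Set.range f.toImage) := by
      have : UniversallyClosed (f.toImage ≫ f.imageι) := by rw [Scheme.Hom.toImage_imageι]; infer_instance
      have : UniversallyClosed f.toImage := .of_comp_of_isSeparated _ f.imageι
      exact f.toImage.isClosedMap.isClosed_range
    have := hc.closure_eq ▸ hd.closure_range
    exact Set.range_eq_univ.1 this z
  have : UniversallyClosed (f.toImage ≫ f.imageι ≫ q) := by rw [Scheme.Hom.toImage_imageι_assoc]; infer_instance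
  have : UniversallyClosed (f.imageι ≫ q) := .of_comp_surjective f.toImage _
  have : IsIntegralHom (f.imageι ≫ q) := IsIntegralHom.iff_universallyClosed_and_isAffineHom.2 ⟨‹_›, inferInstance⟩
  have : IsFinite (f.imageι ≫ q) := (IsFinite.iff_isIntegralHom_and_locallyOfFiniteType _).2 ⟨‹_›, inferInstance⟩
  have hdisc := (f.imageι ≫ q).isDiscrete_preimage_singleton (IsLocalRing.closedPoint K)
  have : DiscreteTopology ↥f.image := by
    rw [← isDiscrete_univ_iff]
    convert hdisc
    ext x
    simp only [Set.mem_univ, Set.mem_preimage, Set.mem_singleton_iff, true_iff]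
    exact Subsingleton.elim (α := PrimeSpectrum K) _ _
  have hsub : (Set.range f.toImage).Subsingleton :=
    (isPreconnected_range f.toImage.continuous).subsingleton
  rintro _ ⟨a, rfl⟩ _ ⟨b, rfl⟩
  rw [← f.toImage_imageι, Scheme.Hom.comp_apply, Scheme.Hom.comp_apply, hsub ⟨a, rfl⟩ ⟨b, rfl⟩]

lemma pts_eq_of_apply_eq {K : Type u} [Field K] [IsAlgClosed K] {Y : Over (Spec (CommRingCat.of K))}
    [LocallyOfFiniteType Y.hom] (a b : 𝟙_ (Over (Spec (CommRingCat.of K))) ⟶ Y)
    (h : a.left (IsLocalRing.closedPoint K) = b.left (IsLocalRing.closedPoint K)) : a = b := by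
  ext : 1
  exact ext_of_apply_closedPoint_eq Y.hom (Over.w a) (Over.w b) h

end Groth.Agent.AlgGrp79
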