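import Groth.Agent.AlgGrp79.GenSubgroup
import Groth.Agent.AlgGrp79.AffineQuot
import Groth.Agent.AlgGrp79.ProperAffine
import Groth.Agent.AlgGrp79.FixedClosed
import Groth.Agent.AlgGrp79.LineFixed2
import Groth.Agent.AGF80.OrbitImm
import Groth.Agent.GrpQ80.FlatStab
import Groth.Agent.SGA3a.SubGrpOfMono
import Groth.Prelude.Def_AGF

/-!
Borel's fixed point theorem.
-/

set_option autoImplicit false
set_option backward.isDefEq.respectTransparency.types false

universe u

open CategoryTheory MonoidalCategory CartesianMonoidalCategory MonObj GrpObj AlgebraicGeometry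
open scoped commutatorElement

noncomputable section

namespace Groth.Agent.AlgGrp79.BorelFixed

variable {k : Type u} [Field k] [IsAlgClosed k]

/-- Maps out of a reduced scheme of finite type into a separated one are determined by rational points. -/
theorem hom_ext_pts {A X : Over (Spec (CommRingCat.of k))} [LocallyOfFiniteType A.hom] [IsReduced A.left]
    [IsSeparated X.hom] (f g : A ⟶ X)
    (h : ∀ p : 𝟙_ (Over (Spec (CommRingCat.of k))) ⟶ A, p ≫ f = p ≫ g) : f = g := by
  haveI := isClosedImmersion_eqι f g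
  obtain ⟨z, hz⟩ := exists_lift_of_range_subset (eqι f g) (𝟙 A)
    (range_subset_of_pts (𝟙 A) (eqι f g).left.isClosedEmbedding.isClosed_range fun p => by
      obtain ⟨w, hw⟩ := (factors_eqι_iff f g p).2 (h p)
      rw [Category.comp_id, hw]
      exact ⟨w.left (IsLocalRing.closedPoint k), rfl⟩)
  have := (factors_eqι_iff f g (𝟙 A)).1 ⟨z, hz.symm⟩
  simpa using this

theorem rat_isClosedImmersion {X : Over (Spec (CommRingCat.of k))} [IsSeparated X.hom]
    (x : 𝟙_ (Over (Spec (CommRingCat.of k))) ⟶ X) : IsClosedImmersion x.left := by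
  have : IsClosedImmersion (x.left ≫ X.hom) := by rw [Over.w]; exact inferInstanceAs (IsClosedImmersion (𝟙 _))
  exact IsClosedImmersion.of_comp x.left X.hom

/-- The isotropy subgroup of a rational point. -/
theorem exists_isotropy {G X : Over (Spec (CommRingCat.of k))} [GrpObj G] [IsSeparated X.hom]
    (a : AlgGrp.Action G X) (x : 𝟙_ (Over (Spec (CommRingCat.of k))) ⟶ X) :
    ∃ (H : Over (Spec (CommRingCat.of k))) (_ : GrpObj H) (i : H ⟶ G), IsMonHom i ∧ IsClosedImmersion i.left ∧
      IsPullback i (toUnit H) (a.orbitMap x) x := by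
  let H := Limits.pullback (a.orbitMap x) x
  let i : H ⟶ G := Limits.pullback.fst _ _
  have sq : IsPullback i (toUnit H) (a.orbitMap x) x := by
    rw [toUnit_unique (toUnit H) (Limits.pullback.snd (a.orbitMap x) x)]; exact IsPullback.of_hasPullback _ _
  haveI : Mono i := AGF80.Orbit.mono_isotropy a x i sq
  have hfac : ∀ {T : Over (Spec (CommRingCat.of k))} (g : T ⟶ G), g ≫ a.orbitMap x = toUnit T ≫ x →
      ∃ z, z ≫ i = g := fun g hg => ⟨sq.lift g (toUnit _) hg, sq.lift_fst _ _ _⟩
  have hi : i ≫ a.orbitMap x = toUnit H ≫ x := sq.w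
  have h1 : ∃ z, z ≫ i = (1 : 𝟙_ _ ⟶ G) := hfac _ (by rw [AGF80.Orbit.comp_orbitMap, AlgGrp79.one_act'])
  have hmul : ∃ z, z ≫ i = (fst H H ≫ i) * (snd H H ≫ i) := hfac _ (by
    rw [AGF80.Orbit.comp_orbitMap_mul, Category.assoc (snd H H) i, hi, ← Category.assoc (snd H H) (toUnit H) x,
      toUnit_unique (snd H H ≫ toUnit H) (toUnit _), ← AGF80.Orbit.comp_orbitMap, Category.assoc, hi, ← Category.assoc,
      toUnit_unique (fst H H ≫ toUnit H) (toUnit _)])
  have hinv : ∃ z, z ≫ i = i⁻¹ := hfac _ (by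
    have e : lift i⁻¹ (i ≫ a.orbitMap x) ≫ a.act = lift i⁻¹ (toUnit H ≫ x) ≫ a.act := by rw [hi]
    rw [AGF80.Orbit.comp_orbitMap, ← e, AGF80.Orbit.comp_orbitMap, AlgGrp79.inv_act_act])
  letI := SGA3a.grpObjOfMono i h1 hmul hinv
  refine ⟨H, inferInstance, i, SGA3a.isMonHom_grpObjOfMono i h1 hmul hinv, ?_, sq⟩
  exact MorphismProperty.of_isPullback (AlgGrp79.isPullback_left sq).flip (rat_isClosedImmersion x)

/-- A closed orbit of a connected affine group with normal isotropy in a proper scheme is a point. -/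
theorem const_orbit_of_normal {G X : Over (Spec (CommRingCat.of k))} [GrpObj G] [IsAffine G.left] [Smooth G.hom]
    [ConnectedSpace G.left] [IsProper X.hom] (a : AlgGrp.Action G X)
    (x : 𝟙_ (Over (Spec (CommRingCat.of k))) ⟶ X) (hcl : IsClosed (Set.range (a.orbitMap x).left))
    (hnorm : ∀ (T : Over (Spec (CommRingCat.of k))) (g h : T ⟶ G), h ≫ a.orbitMap x = toUnit T ≫ x →
      (g * h * g⁻¹) ≫ a.orbitMap x = toUnit T ≫ x) :
    a.orbitMap x = toUnit G ≫ x := by
  haveI : IsReduced G.left := isReduced_of_smooth G.hom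
  haveI : QuasiCompact G.hom := inferInstance
  obtain ⟨H, _, i, _, _, sqH⟩ := exists_isotropy a x
  have hN : AlgGrp.IsNormalHom i := fun T g n => ⟨sqH.lift _ (toUnit T)
    (hnorm T g (n ≫ i) (by rw [Category.assoc, sqH.w, ← Category.assoc, toUnit_unique (n ≫ toUnit H) (toUnit T)])),
    (sqH.lift_fst _ _ _).symm⟩
  obtain ⟨Q, _, q, _, _, _, _, _, hker⟩ := AffineQuot.exists_quotient i hN
  let b : AlgGrp.Action G Q :=
    { act := lift (fst G Q ≫ q) (snd G Q) ≫ μ[Q]
      one_act := by
        rw [← Category.assoc, comp_lift, whiskerRight_fst_assoc, whiskerRight_snd, IsMonHom.one_hom]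
        calc lift (fst (𝟙_ _) Q ≫ η[Q]) (snd (𝟙_ _) Q) ≫ μ[Q] = (1 : _ ⟶ Q) * snd (𝟙_ _) Q := by
              rw [Hom.mul_def, Hom.one_def, toUnit_unique (fst (𝟙_ _) Q) (toUnit _)]
          _ = (λ_ Q).hom := by rw [_root_.one_mul, CartesianMonoidalCategory.leftUnitor_hom]
      mul_act := by
        have hμQ : (μ[G] : G ⊗ G ⟶ G) = fst G G * snd G G := by
          rw [Hom.mul_def, lift_fst_snd, Category.id_comp]
        simp only [← Hom.mul_def, hμQ, MonObj.comp_mul, whiskerRight_fst, whiskerRight_fst_assoc, whiskerRight_snd,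
          whiskerLeft_fst, whiskerLeft_fst_assoc, whiskerLeft_snd, associator_hom_fst, associator_hom_fst_assoc,
          associator_hom_snd_fst, associator_hom_snd_fst_assoc, associator_hom_snd_snd, MonObj.mul_comp,
          Category.assoc, _root_.mul_assoc] }
  have hb : b.orbitMap η[Q] = q := by
    show lift (𝟙 G) (toUnit G ≫ η[Q]) ≫ lift (fst G Q ≫ q) (snd G Q) ≫ μ[Q] = q
    rw [← Hom.mul_def, MonObj.comp_mul, lift_fst_assoc, Category.id_comp, lift_snd, ← Hom.one_def, _root_.mul_one]
  have hY : AGF.IsQuotient i Q b η[Q] :=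
    ⟨inferInstance, by rw [hb]; infer_instance, by rw [hb]; infer_instance,
      by rw [hb]; exact GrpQ80.isPullback_of_kernel q i hker⟩
  haveI : QuasiCompact (a.orbitMap x).left := by
    have : QuasiCompact ((a.orbitMap x).left ≫ X.hom) := by rw [Over.w]; infer_instance
    exact QuasiCompact.of_comp (a.orbitMap x).left X.hom
  let Z : Over (Spec (CommRingCat.of k)) := Over.mk ((a.orbitMap x).left.imageι ≫ X.hom)
  let z : Z ⟶ X := Over.homMk (a.orbitMap x).left.imageι rfl
  haveI : IsClosedImmersion z.left := inferInstanceAs (IsClosedImmersion (a.orbitMap x).left.imageι)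
  haveI := schDominant_toImage (a.orbitMap x).left
  haveI : IsReduced Z.left := IsSchemeTheoreticallyDominant.isReduced (a.orbitMap x).left.toImage
  have hz : Set.range z.left.base = Set.range (a.orbitMap x).left.base := by
    show Set.range ((a.orbitMap x).left.ker.subschemeι) = _
    rw [Scheme.IdealSheafData.range_subschemeι, Scheme.Hom.support_ker]
    exact hcl.closure_eq
  obtain ⟨e, he⟩ := AGF80.OrbitImm.exists_iso_orbit a x i sqH b η[Q] hY z hz
  haveI : IsProper Z.hom := inferInstanceAs (IsProper ((a.orbitMap x).left.imageι ≫ X.hom))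
  haveI : IsIso e.hom.left := ((Over.forget _).mapIso e).isIso_hom
  haveI : IsProper Q.hom := by rw [← Over.w e.hom]; infer_instance
  haveI : PreconnectedSpace Q.left := by
    have : Surjective (b.orbitMap η[Q]).left := by rw [hb]; infer_instance
    refine ⟨?_⟩
    rw [← (b.orbitMap η[Q]).left.surjective.range_eq]
    exact isPreconnected_range (b.orbitMap η[Q]).left.continuous
  have hsub : Subsingleton Q.left := by
    have h := subsingleton_range_of_proper_to_affine Q.hom (𝟙 Q.left) Q.hom (Category.id_comp _)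
    exact ⟨fun p p' => h ⟨p, rfl⟩ ⟨p', rfl⟩⟩
  refine hom_ext_pts _ _ fun g => ?_
  have h1 : (1 : 𝟙_ (Over (Spec (CommRingCat.of k))) ⟶ G) ≫ a.orbitMap x = x := by
    rw [AGF80.Orbit.comp_orbitMap, AlgGrp79.one_act', toUnit_unique (toUnit _) (𝟙 _), Category.id_comp]
  rw [← Category.assoc, toUnit_unique (g ≫ toUnit G) (𝟙 _), Category.id_comp]
  conv_rhs => rw [← h1]
  rw [← he, ← Category.assoc, ← Category.assoc (1 : 𝟙_ _ ⟶ G)]
  exact congrArg (· ≫ e.hom ≫ z) (pt_ext _ _ (Subsingleton.elim _ _))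


/-- A smooth connected subgroup with the commutators as rational points. -/
theorem exists_commutator (G : Over (Spec (CommRingCat.of k))) [GrpObj G] [IsAffine G.left] [Smooth G.hom]
    [ConnectedSpace G.left] :
    ∃ (D : Over (Spec (CommRingCat.of k))) (_ : GrpObj D) (i : D ⟶ G), IsMonHom i ∧ IsClosedImmersion i.left ∧
      Smooth D.hom ∧ ConnectedSpace D.left ∧
      Set.range (fun d : 𝟙_ (Over (Spec (CommRingCat.of k))) ⟶ D => d ≫ i) =
        ((commutator (𝟙_ (Over (Spec (CommRingCat.of k))) ⟶ G) : Subgroup (𝟙_ (Over (Spec (CommRingCat.of k))) ⟶ G)) :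
          Set (𝟙_ (Over (Spec (CommRingCat.of k))) ⟶ G)) := by
  haveI : QuasiCompact G.hom := inferInstance
  have hint := isIntegral_grp G
  have hred : IsReduced G.left := inferInstance
  have hirr : IrreducibleSpace G.left := inferInstance
  let A : Fam G :=
    { X := G ⊗ G
      f := ⁅(fst G G : G ⊗ G ⟶ G), snd G G⁆
      x := lift 1 1
      hx := by simp [commutatorElement_def, MonObj.comp_mul, GrpObj.comp_inv]
      red := reduced_prod G G
      irr := irreducible_prod G G
      lft := lft_prod G G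
      qc := qc_prod G G }
  obtain ⟨D, hD, i, h1, h2, h3, h5, h4⟩ := exists_generated A
  haveI := h5
  refine ⟨D, hD, i, h1, h2, h3, inferInstance, h4.trans ?_⟩
  congr 1
  rw [commutator_eq_closure]
  congr 1
  ext a
  constructor
  · rintro ⟨p, rfl⟩
    exact ⟨p ≫ fst G G, p ≫ snd G G, by simp [A, commutatorElement_def, MonObj.comp_mul, GrpObj.comp_inv]⟩
  · rintro ⟨g, h, rfl⟩
    exact ⟨lift g h, by simp [A, commutatorElement_def, MonObj.comp_mul, GrpObj.comp_inv]⟩

/-- Derived series of a subgroup with commutators as rational points. -/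
theorem derivedSeries_eq_bot {M N : Type*} [Group M] [Group N] (φ : M →* N) (hφ : Function.Injective φ)
    (hr : φ.range ≤ commutator N) {n : ℕ} (hn : derivedSeries N (n + 1) = ⊥) : derivedSeries M n = ⊥ := by
  have key : ∀ m, (derivedSeries M m).map φ ≤ derivedSeries N (m + 1) := by
    intro m
    induction m with
    | zero => rw [derivedSeries_zero, ← MonoidHom.range_eq_map, derivedSeries_one]; exact hr
    | succ m ih => rw [derivedSeries_succ, Subgroup.map_commutator, derivedSeries_succ N (m + 1)]; exact Subgroup.commutator_mono ih ih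
  have := key n
  rw [hn, le_bot_iff, Subgroup.map_eq_bot_iff_of_injective _ hφ] at this
  exact this

/-- A closed set of rational points fixed by translations. -/
theorem pt_fixed_of_mem_closure {G X : Over (Spec (CommRingCat.of k))} [GrpObj G] [LocallyOfFiniteType G.hom]
    [IsProper X.hom] (a : AlgGrp.Action G X) (σ : 𝟙_ (Over (Spec (CommRingCat.of k))) ⟶ G)
    (x : 𝟙_ (Over (Spec (CommRingCat.of k))) ⟶ X)
    (hfix : ∀ g : 𝟙_ (Over (Spec (CommRingCat.of k))) ⟶ G, (σ * g) ≫ a.orbitMap x = g ≫ a.orbitMap x)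
    (y : 𝟙_ (Over (Spec (CommRingCat.of k))) ⟶ X)
    (hy : y.left (IsLocalRing.closedPoint k) ∈ closure (Set.range (a.orbitMap x).left)) :
    σ ≫ a.orbitMap y = y := by
  let τ : X ⟶ X := (Var76.ActTrans.xTrans a σ).hom
  haveI := isClosedImmersion_eqι τ (𝟙 X)
  have htr : ∀ z : 𝟙_ (Over (Spec (CommRingCat.of k))) ⟶ X, z ≫ τ = lift σ z ≫ a.act := fun z => by
    rw [Var76.ActTrans.comp_xTrans, toUnit_unique (toUnit _) (𝟙 _), Category.id_comp]
  have hsub : Set.range (a.orbitMap x).left ⊆ Set.range (eqι τ (𝟙 X)).left :=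
    range_subset_of_pts _ (eqι τ (𝟙 X)).left.isClosedEmbedding.isClosed_range fun g => by
      obtain ⟨w, hw⟩ := (factors_eqι_iff τ (𝟙 X) (g ≫ a.orbitMap x)).2 (by
        rw [Category.comp_id, htr, ← AGF80.Orbit.comp_orbitMap_mul]; exact hfix g)
      rw [hw]
      exact ⟨w.left (IsLocalRing.closedPoint k), rfl⟩
  have hy' := closure_minimal hsub (eqι τ (𝟙 X)).left.isClosedEmbedding.isClosed_range hy
  haveI : IsReduced (𝟙_ (Over (Spec (CommRingCat.of k)))).left := inferInstanceAs (IsReduced (Spec (CommRingCat.of k)))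
  obtain ⟨w, hw⟩ := exists_lift_of_range_subset (eqι τ (𝟙 X)) y (by
    rintro _ ⟨p, rfl⟩
    rw [Subsingleton.elim (α := PrimeSpectrum k) p (IsLocalRing.closedPoint k)]
    exact hy')
  have := (factors_eqι_iff τ (𝟙 X) y).1 ⟨w, hw.symm⟩
  rw [Category.comp_id, htr] at this
  rw [AGF80.Orbit.comp_orbitMap, toUnit_unique (toUnit _) (𝟙 _), Category.id_comp]
  exact this

open Var76.ActTrans in
/-- A set of rational points stable under specialisation of orbits contains a point with closed orbit. -/
theorem exists_closed_orbit_in {G X : Over (Spec (CommRingCat.of k))} [GrpObj G] [Smooth G.hom] [QuasiCompact G.hom]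
    [IsProper X.hom] (a : AlgGrp.Action G X) (P : Set (𝟙_ (Over (Spec (CommRingCat.of k))) ⟶ X)) (hP : P.Nonempty)
    (hstab : ∀ x ∈ P, ∀ y : 𝟙_ (Over (Spec (CommRingCat.of k))) ⟶ X,
      y.left (IsLocalRing.closedPoint k) ∈ closure (Set.range (a.orbitMap x).left) → y ∈ P) :
    ∃ x ∈ P, IsClosed (Set.range (a.orbitMap x).left) := by
  have : IsLocallyNoetherian X.left := LocallyOfFiniteType.isLocallyNoetherian X.hom
  have : CompactSpace X.left := QuasiCompact.compactSpace_of_compactSpace X.hom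
  have : IsNoetherian X.left := { }
  have : TopologicalSpace.NoetherianSpace X.left := inferInstance
  have : JacobsonSpace X.left := LocallyOfFiniteType.jacobsonSpace X.hom
  have : JacobsonSpace G.left := LocallyOfFiniteType.jacobsonSpace G.hom
  let R (x : 𝟙_ (Over (Spec (CommRingCat.of k))) ⟶ X) : Set X.left := Set.range (a.orbitMap x).left
  let c (x : 𝟙_ (Over (Spec (CommRingCat.of k))) ⟶ X) : TopologicalSpace.Closeds X.left := ⟨closure (R x), isClosed_closure⟩
  obtain ⟨C, ⟨x, hxP, rfl⟩, hmin⟩ := WellFounded.has_min (wellFounded_lt (α := TopologicalSpace.Closeds X.left))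
    (c '' P) (hP.image c)
  refine ⟨x, hxP, ?_⟩
  by_contra hne
  have hlc : IsLocallyClosed (R x) := isLocallyClosed_range_equivariant a _ (orbitMap_equivariant a x)
  set D := closure (R x) \ R x with hD
  have hDc : IsClosed D := by
    have h := hlc.isOpen_coborder
    rwa [coborder, isOpen_compl_iff] at h
  have hDne : D.Nonempty := by
    rw [Set.nonempty_iff_ne_empty, hD]
    intro h
    apply hne
    have : closure (R x) = R x := (Set.sdiff_eq_empty.1 h).antisymm subset_closure
    show IsClosed (R x)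
    rw [← this]; exact isClosed_closure
  obtain ⟨y, hyD, hy⟩ := nonempty_inter_closedPoints hDne hDc.isLocallyClosed
  have hsub : R (sec X y hy) ⊆ D := by
    rintro _ ⟨g, rfl⟩
    by_contra hg
    obtain ⟨g', hg', hg'c⟩ := nonempty_inter_closedPoints (Z := (a.orbitMap (sec X y hy)).left ⁻¹' Dᶜ) ⟨g, hg⟩
      (hDc.isOpen_compl.preimage (a.orbitMap (sec X y hy)).left.continuous).isLocallyClosed
    apply hg'
    let σ := sec G g' hg'c
    have hfg : (xTrans a σ).hom.left y = (a.orbitMap (sec X y hy)).left g' := by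
      have h : sec X y hy ≫ (xTrans a σ).hom = σ ≫ a.orbitMap (sec X y hy) := by
        rw [comp_xTrans, comp_orbit, toUnit_unique (toUnit _) (𝟙 _), Category.id_comp, Category.id_comp]
      have := congr(($h).left (IsLocalRing.closedPoint k))
      rwa [Over.comp_left, Over.comp_left, Scheme.Hom.comp_apply, Scheme.Hom.comp_apply, sec_apply, sec_apply] at this
    rw [← hfg]
    let H : X.left ≃ₜ X.left := ((Over.forget _).mapIso (xTrans a σ)).hom.homeomorph
    let L : G.left ≃ₜ G.left := ((Over.forget _).mapIso (lTrans σ)).hom.homeomorph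
    have hR : H '' R x = R x := by
      have hc : (H ∘ (a.orbitMap x).left : G.left → X.left) = (a.orbitMap x).left ∘ L :=
        funext fun g => (congr(($(lTrans_comp_equivariant a _ (orbitMap_equivariant a x) σ)).left g)).symm
      show H '' Set.range (a.orbitMap x).left = _
      rw [← Set.range_comp, hc, Set.range_comp, L.surjective.range_eq, Set.image_univ]
    have : H y ∈ H '' D := Set.mem_image_of_mem H hyD
    rwa [hD, Set.image_sdiff H.injective, H.image_closure, hR] at this
  apply hmin _ ⟨sec X y hy, hstab x hxP _ (by rw [sec_apply]; exact hyD.1), rfl⟩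
  refine lt_of_le_not_ge (closure_minimal (hsub.trans Set.sdiff_subset) isClosed_closure) fun h => ?_
  obtain ⟨z, hz⟩ : (R x).Nonempty := ⟨_, Set.mem_range_self ((η[G]).left (IsLocalRing.closedPoint k))⟩
  exact ((closure_minimal hsub hDc) (h (subset_closure hz))).2 hz

theorem exists_fixed_aux (n : ℕ) : ∀ (G X : Over (Spec (CommRingCat.of k))) [GrpObj G] [IsAffine G.left] [Smooth G.hom]
    [ConnectedSpace G.left] [IsProper X.hom] [Nonempty X.left] (a : AlgGrp.Action G X),
    derivedSeries (𝟙_ (Over (Spec (CommRingCat.of k))) ⟶ G) n = ⊥ →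
    ∃ x : 𝟙_ (Over (Spec (CommRingCat.of k))) ⟶ X, a.orbitMap x = toUnit G ≫ x := by
  induction n with
  | zero =>
    intro G X _ _ _ _ _ _ a hn
    haveI : IsReduced G.left := isReduced_of_smooth G.hom
    haveI : JacobsonSpace X.left := LocallyOfFiniteType.jacobsonSpace X.hom
    obtain ⟨y0, -, hy0⟩ := nonempty_inter_closedPoints (Z := (Set.univ : Set X.left)) Set.univ_nonempty isClosed_univ.isLocallyClosed
    obtain ⟨x, -⟩ := ptVal_eq y0 hy0
    refine ⟨x, hom_ext_pts _ _ fun g => ?_⟩
    rw [derivedSeries_zero] at hn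
    have hg : g = 1 := Subgroup.mem_bot.1 (hn ▸ Subgroup.mem_top g)
    rw [AGF80.Orbit.comp_orbitMap, hg, AlgGrp79.one_act', ← Category.assoc,
      toUnit_unique ((1 : 𝟙_ _ ⟶ G) ≫ toUnit G) (toUnit _)]
  | succ n ih =>
    intro G X _ _ _ _ _ _ a hn
    haveI : IsReduced G.left := isReduced_of_smooth G.hom
    haveI : QuasiCompact G.hom := inferInstance
    obtain ⟨D, _, i, _, _, _, _, hD⟩ := exists_commutator G
    haveI : IsAffine D.left := isAffine_of_isAffineHom i.left
    haveI : Mono i := Over.mono_of_mono_left i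
    haveI : IsReduced D.left := isReduced_of_smooth D.hom
    have hDn : derivedSeries (𝟙_ (Over (Spec (CommRingCat.of k))) ⟶ D) n = ⊥ :=
      derivedSeries_eq_bot (IsMonHom.monoidHom i _) (fun p q h => (cancel_mono i).1 h)
        (by rintro _ ⟨d, rfl⟩; exact hD.le ⟨d, rfl⟩) hn
    have hrest : ∀ x, (actRestrict a i).orbitMap x = i ≫ a.orbitMap x := fun x => by
      rw [AGF80.Orbit.comp_orbitMap]
      show lift (𝟙 D) (toUnit D ≫ x) ≫ (i ▷ X) ≫ a.act = _
      rw [lift_whiskerRight_assoc, Category.id_comp]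
    obtain ⟨x0, hx0⟩ := ih D X (actRestrict a i) hDn
    rw [hrest] at hx0
    let P : Set (𝟙_ (Over (Spec (CommRingCat.of k))) ⟶ X) :=
      {x | ∀ d : 𝟙_ (Over (Spec (CommRingCat.of k))) ⟶ D, (d ≫ i) ≫ a.orbitMap x = x}
    have hx0P : x0 ∈ P := fun d => by
      rw [Category.assoc, hx0, ← Category.assoc, toUnit_unique (d ≫ toUnit D) (𝟙 _), Category.id_comp]
    have hstab : ∀ x ∈ P, ∀ y : 𝟙_ (Over (Spec (CommRingCat.of k))) ⟶ X,
        y.left (IsLocalRing.closedPoint k) ∈ closure (Set.range (a.orbitMap x).left) → y ∈ P := by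
      intro x hx y hy d
      refine pt_fixed_of_mem_closure a _ x (fun g => ?_) y hy
      have hmem : (d ≫ i) ∈ commutator (𝟙_ (Over (Spec (CommRingCat.of k))) ⟶ G) := hD.le ⟨d, rfl⟩
      obtain ⟨d', hd'⟩ := hD.ge ((inferInstance : (commutator (𝟙_ (Over (Spec (CommRingCat.of k))) ⟶ G)).Normal).conj_mem _ hmem g⁻¹)
      have e : (d ≫ i) * g = g * (d' ≫ i) := by
        rw [show d' ≫ i = g⁻¹ * (d ≫ i) * g⁻¹⁻¹ from hd']
        group
      rw [e, AGF80.Orbit.comp_orbitMap_mul, hx d', AGF80.Orbit.comp_orbitMap, toUnit_unique (toUnit _) (𝟙 _),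
        Category.id_comp]
    obtain ⟨x, hxP, hxcl⟩ := exists_closed_orbit_in a P ⟨x0, hx0P⟩ hstab
    have hxD : i ≫ a.orbitMap x = toUnit D ≫ x := hom_ext_pts _ _ fun d => by
      rw [← Category.assoc, hxP d, ← Category.assoc, toUnit_unique (d ≫ toUnit D) (𝟙 _), Category.id_comp]
    haveI := reduced_prod G G
    haveI := lft_prod G G
    obtain ⟨c, hc⟩ := exists_lift_of_range_subset i (⁅(fst G G : G ⊗ G ⟶ G), snd G G⁆)
      (range_subset_of_pts _ i.left.isClosedEmbedding.isClosed_range fun p => by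
        have hm : p ≫ ⁅(fst G G : G ⊗ G ⟶ G), snd G G⁆ ∈ commutator (𝟙_ (Over (Spec (CommRingCat.of k))) ⟶ G) := by
          rw [commutatorElement_def, MonObj.comp_mul, MonObj.comp_mul, MonObj.comp_mul, GrpObj.comp_inv, GrpObj.comp_inv,
            ← commutatorElement_def]
          exact Subgroup.commutator_mem_commutator (Subgroup.mem_top _) (Subgroup.mem_top _)
        obtain ⟨d, hd⟩ := hD.ge hm
        rw [← hd]
        exact ⟨d.left (IsLocalRing.closedPoint k), rfl⟩)
    refine ⟨x, const_orbit_of_normal a x hxcl fun T g h hh => ?_⟩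
    have e : g * h * g⁻¹ = ((lift g h ≫ c) ≫ i) * h := by
      rw [Category.assoc, hc, commutatorElement_def, MonObj.comp_mul, MonObj.comp_mul, MonObj.comp_mul,
        GrpObj.comp_inv, GrpObj.comp_inv, lift_fst, lift_snd, inv_mul_cancel_right]
    rw [e, AGF80.Orbit.comp_orbitMap_mul, hh, ← AGF80.Orbit.comp_orbitMap, Category.assoc, hxD, ← Category.assoc,
      toUnit_unique ((lift g h ≫ c) ≫ toUnit D) (toUnit T)]

theorem exists_fixedPt (G X : Over (Spec (CommRingCat.of k))) [GrpObj G] [IsAffine G.left] [Smooth G.hom]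
    [ConnectedSpace G.left] [Group.IsSolvable (𝟙_ (Over (Spec (CommRingCat.of k))) ⟶ G)]
    [IsProper X.hom] [Nonempty X.left] (a : AlgGrp.Action G X) :
    ∃ x : 𝟙_ (Over (Spec (CommRingCat.of k))) ⟶ X, a.IsFixedPt x := by
  obtain ⟨n, hn⟩ := Group.IsSolvable.solvable (G := 𝟙_ (Over (Spec (CommRingCat.of k))) ⟶ G)
  obtain ⟨x, hx⟩ := exists_fixed_aux n G X a hn
  refine ⟨x, fun T g => ?_⟩
  rw [← AGF80.Orbit.comp_orbitMap, hx, ← Category.assoc, toUnit_unique (g ≫ toUnit G) (toUnit T)]

end Groth.Agent.AlgGrp79.BorelFixed
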