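import Groth.Agent.AlgGrp79.ToriConj
import Groth.Agent.AlgGrp79.BorelFixed
import Groth.Agent.S3268
import Groth.Agent.Comod33.Simple

/-!
A connected group with a central maximal torus is solvable.
-/

set_option autoImplicit false
set_option linter.unusedSectionVars false
set_option backward.isDefEq.respectTransparency.types false

universe u

open CategoryTheory MonoidalCategory CartesianMonoidalCategory MonObj GrpObj AlgebraicGeometry
open scoped TensorProduct
open WithConv Groth.Agent.GMod80

noncomputable section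

namespace Groth.Agent.AlgGrp79.CentralTorus

open Comod33 Comod33.DimOneClass

variable {k : Type u} [Field k] [IsAlgClosed k]

section Const

variable {A : Type u} [CommRing A] [HopfAlgebra k A] {C : Over (Spec (CommRingCat.of k))} [GrpObj C]
  (ψ : sp k A ≅ C) [IsMonHom ψ.hom]

/-- A function as a morphism to the line. -/
def funMap (f : A) : C ⟶ VecGrp.pt k (Polynomial k) :=
  ψ.inv ≫ (VecGrp.ptMap (Polynomial.aeval f) : VecGrp.pt k A ⟶ VecGrp.pt k (Polynomial k))

theorem funMap_left (f : A) : (funMap ψ f).left =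
    (sch ψ).inv ≫ Spec.map (CommRingCat.ofHom (Polynomial.aeval (R := k) f).toRingHom) := rfl

theorem ev_funMap (f : A) (a : Conn.Pt k A) :
    ToriConj.ev ψ a ≫ funMap ψ f =
      ToriConj.pt0 ≫ VecGrp.ptMap (Polynomial.aeval (R := k) (a.ofConv f)) := by
  have h : (a.ofConv.toRingHom).comp (Polynomial.aeval (R := k) f).toRingHom =
      (Polynomial.aeval (R := k) (a.ofConv f)).toRingHom := Polynomial.ringHom_ext (fun r => by simp) (by simp)
  have h1 : ToriConj.ev ψ a = ToriConj.pt0 ≫ e ψ k a := rfl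
  rw [h1, Category.assoc]
  congr 1
  apply Over.OverMorphism.ext
  rw [Over.comp_left, e_left, funMap_left, Category.assoc, Iso.hom_inv_id_assoc, ← Spec.map_comp, ← CommRingCat.ofHom_comp, h]
  rfl

theorem eq_of_ev_funMap {f : A} {a b : Conn.Pt k A}
    (h : ToriConj.ev ψ a ≫ funMap ψ f = ToriConj.ev ψ b ≫ funMap ψ f) : a.ofConv f = b.ofConv f := by
  rw [ev_funMap, ev_funMap] at h
  have h1 : Spec.map (CommRingCat.ofHom (Polynomial.aeval (R := k) (a.ofConv f)).toRingHom) =
      Spec.map (CommRingCat.ofHom (Polynomial.aeval (R := k) (b.ofConv f)).toRingHom) := by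
    have h2 := congrArg CommaMorphism.left h
    simp only [Over.comp_left] at h2
    haveI : IsIso (ToriConj.pt0 (k := k)).left := inferInstanceAs (IsIso (𝟙 (Spec (CommRingCat.of k))))
    exact (cancel_epi _).1 h2
  simpa using RingHom.congr_fun (congrArg CommRingCat.Hom.hom (Spec.map_injective h1)) Polynomial.X

/-- Functions invariant under a Borel subgroup are constant. -/
theorem pts_const [IsAffine C.left] [Smooth C.hom] [ConnectedSpace C.left]
    {B : Over (Spec (CommRingCat.of k))} [GrpObj B] {iB : B ⟶ C} (hB : Red.IsBorelOver k iB) [IsMonHom iB]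
    {A' : Type u} [CommRing A'] [HopfAlgebra k A'] (ψB : sp k A' ≅ B) [IsMonHom ψB.hom] (f : A)
    (h : ∀ (g : Conn.Pt k A) (x : Conn.Pt k A'),
      (g * HopfFlat.restrPts (pullBialg ψ ψB iB) x).ofConv f = g.ofConv f) (g : Conn.Pt k A) :
    g.ofConv f = (1 : Conn.Pt k A).ofConv f := by
  obtain ⟨X, a, o, hX, _, hA⟩ := BorelOps.exists_quotient_borel C iB hB
  obtain ⟨_, _, _, _, -, -⟩ := id hB
  haveI : IsAffine (VecGrp.pt k (Polynomial k)).left := inferInstanceAs (IsAffine (Spec (CommRingCat.of (Polynomial k))))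
  haveI : Smooth (C ⊗ B).hom := inferInstanceAs (Smooth (Limits.pullback.fst C.hom B.hom ≫ C.hom))
  haveI : IsReduced (C ⊗ B).left := isReduced_of_smooth (C ⊗ B).hom
  haveI : IsSeparated (VecGrp.pt k (Polynomial k)).hom := inferInstance
  have huniv : ((fst C B) * (snd C B ≫ iB)) ≫ funMap ψ f = fst C B ≫ funMap ψ f := by
    refine BorelFixed.hom_ext_pts _ _ fun p => ?_
    obtain ⟨a, ha⟩ := ToriConj.ev_surjective ψ (p ≫ fst C B)
    obtain ⟨x, hx⟩ := ToriConj.ev_surjective ψB (p ≫ snd C B)
    have hev : ToriConj.ev ψB x ≫ iB = ToriConj.ev ψ (HopfFlat.restrPts (pullBialg ψ ψB iB) x) := by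
      show (ToriConj.pt0 ≫ e ψB k x) ≫ iB = ToriConj.pt0 ≫ e ψ k _
      rw [Category.assoc, e_comp ψ ψB iB x]
      rfl
    rw [← Category.assoc, MonObj.comp_mul, ← Category.assoc p, ← ha, ← hx, hev, ← map_mul, ← Category.assoc p, ← ha,
      ev_funMap, ev_funMap, h a x]
  have hF := BorelOps.eq_snd_of_invariant iB hX hA (fst C (𝟙_ _) ≫ funMap ψ f) fun T s b m => by
    rw [lift_fst_assoc, lift_fst_assoc]
    have := lift s b ≫= huniv
    rw [lift_fst_assoc, ← Category.assoc, MonObj.comp_mul, lift_fst, lift_snd_assoc] at this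
    exact this
  refine eq_of_ev_funMap ψ ?_
  have := lift (ToriConj.ev ψ g) (𝟙 _) ≫= hF
  rw [lift_fst_assoc, lift_snd_assoc, Category.id_comp, lift_fst_assoc] at this
  rw [this, map_one]

end Const

/-- The determinant of a translate of the identity by a nilpotent map. -/
theorem det_one_add_nilpotent {V : Type u} [AddCommGroup V] [Module k V] [Module.Finite k V] {N : Module.End k V}
    (hN : IsNilpotent N) : LinearMap.det (1 + N) = 1 := by
  let b := Module.finBasis k V
  rw [← LinearMap.det_toMatrix b, map_add, LinearMap.toMatrix_one]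
  have hM : IsNilpotent (LinearMap.toMatrix b b N) := (hN.map (LinearMap.toMatrixAlgEquiv b))
  have h1 := Matrix.isNilpotent_charpoly_sub_pow_of_isNilpotent hM.neg
  have h2 := isNilpotent_iff_eq_zero.1 (h1.map (Polynomial.evalRingHom (1 : k)))
  rw [map_sub, map_pow, Polynomial.coe_evalRingHom, Polynomial.eval_X, one_pow, Matrix.eval_charpoly, sub_eq_zero] at h2
  rw [← h2]
  congr 1
  rw [sub_neg_eq_add, map_one]

/-- A central element acts by a scalar on a simple representation. -/
theorem act_eq_smul_one {A : Type u} [CommRing A] [HopfAlgebra k A] [Algebra.FiniteType k A] [_root_.IsReduced A]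
    {V : Type u} [AddCommGroup V] [Module k V] [HopfRep.Comod k A V] [Module.Finite k V]
    (hV : HopfRep.IsSimpleComod k A V) {z : Conn.Pt k A} (hz : ∀ g, g * z = z * g) :
    ∃ c : k, actHom k A V z = c • 1 := by
  haveI := hV.1
  obtain ⟨c, hc⟩ := Module.End.exists_eigenvalue (actHom k A V z)
  refine ⟨c, LinearMap.ext fun v => ?_⟩
  have hsub : HopfRep.IsSubcomod (k := k) (A := A) ((actHom k A V z).eigenspace c) :=
    Conn.isSubcomod_of_forall_point _ fun g u hu => by
      rw [Module.End.mem_eigenspace_iff] at hu ⊢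
      rw [← Module.End.mul_apply, ← map_mul, ← hz g, map_mul, Module.End.mul_apply, hu, map_smul]
  rcases hV.2 _ hsub with h | h
  · exact absurd h hc
  · have hv : v ∈ (actHom k A V z).eigenspace c := h ▸ Submodule.mem_top
    rw [Module.End.mem_eigenspace_iff.1 hv]
    rfl

/-- A connected group with a central maximal torus is solvable. -/
theorem isTrigonalizable_of_central (C : Over (Spec (CommRingCat.of k))) [GrpObj C] [IsAffine C.left] [Smooth C.hom]
    [ConnectedSpace C.left] {A : Type u} [CommRing A] [HopfAlgebra k A] (ψ : sp k A ≅ C) [IsMonHom ψ.hom]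
    {T : Over (Spec (CommRingCat.of k))} [GrpObj T] (iT : T ⟶ C) (hT : AGF.IsMaxTorus iT)
    (hcen : ∀ (X : Over (Spec (CommRingCat.of k))) (g : X ⟶ C) (h : X ⟶ T), g * (h ≫ iT) = (h ≫ iT) * g) :
    HopfRep.IsTrigonalizable k A := by
  obtain ⟨B, _, iB, _, _, _, _, hsB, X, a, o, hX, _⟩ := BorelConj.exists_solvable_proper C
  have hB : Red.IsBorelOver k iB := BorelConj.isBorelOver_of_proper iB hsB hX
  haveI : IsAffine B.left := isAffine_of_isAffineHom iB.left
  haveI : Mono iB := Over.mono_of_mono_left iB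
  obtain ⟨A', _, _, ψB, _⟩ := exists_coord B
  obtain ⟨T₀, _, j, _, _, hT₀, hdec, hconj⟩ := ToriConj.exists_maxTorus_coord B hsB ψB
  haveI : Algebra.FiniteType k A := GMod80.finiteType ψ
  haveI : Algebra.FiniteType k A' := GMod80.finiteType ψB
  haveI : IsReduced C.left := isReduced_of_smooth C.hom
  haveI : IsReduced B.left := isReduced_of_smooth B.hom
  haveI : _root_.IsReduced A := isReduced_of_injective (fn ψ).toRingHom (fn ψ).injective
  -- the torus of the Borel subgroup is central
  have hc0 : ∀ (t : 𝟙_ (Over (Spec (CommRingCat.of k))) ⟶ T₀) (g : 𝟙_ (Over (Spec (CommRingCat.of k))) ⟶ C),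
      g * (t ≫ j ≫ iB) = (t ≫ j ≫ iB) * g := by
    obtain ⟨_, _, hTt, hmax⟩ := id hT
    obtain ⟨_, _, _, _, hcm⟩ := AlgGrp33.IsogSub.torus_props hTt
    have hsolv : Red.IsSolvableGrp T := ⟨1, fun X => by
      rw [derivedSeries_one, commutator_eq_bot_iff_center_eq_top, eq_top_iff]
      intro x _
      rw [Subgroup.mem_center_iff]
      exact fun y => mul_comm y x⟩
    haveI : IsAffine T.left := ‹_›
    obtain ⟨g, φ, hφ⟩ := BorelConj.exists_conj_into iB hX hsolv iT
    have hfix : ∀ x : 𝟙_ (Over (Spec (CommRingCat.of k))) ⟶ C, AGF.conjBy x iT = iT := fun x => by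
      show (toUnit T ≫ x) * iT * (toUnit T ≫ x)⁻¹ = iT
      have := hcen T (toUnit T ≫ x) (𝟙 T)
      rw [Category.id_comp] at this
      rw [this, mul_inv_cancel_right]
    have hφ' : φ ≫ iB = iT := by
      rw [← hfix g⁻¹, ← hφ, BorelConj.comp_conjBy, BorelConj.conjBy_conjBy, inv_mul_cancel, BorelConj.conjBy_one]
    haveI : IsMonHom φ := AlgGrp79.isMonHom_of_forall _ fun X s t => by
      rw [← cancel_mono iB, MonObj.mul_comp _ _ iB, Category.assoc, Category.assoc, Category.assoc, hφ', MonObj.mul_comp]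
    obtain ⟨b, χ, hχ⟩ := hconj T hTt φ
    have hkey : χ ≫ j ≫ iB = iT := by
      have e : AGF.conjBy (b ≫ iB) (χ ≫ j ≫ iB) = iT := by
        rw [← hφ', ← hχ, BorelConj.comp_conjBy]
        show _ = ((toUnit T ≫ b) * (χ ≫ j) * (toUnit T ≫ b)⁻¹) ≫ iB
        rw [MonObj.mul_comp _ _ iB, MonObj.mul_comp _ _ iB, GrpObj.inv_comp, Category.assoc, Category.assoc]
      conv_rhs => rw [← hfix (b ≫ iB)⁻¹, ← e, BorelConj.conjBy_conjBy, inv_mul_cancel, BorelConj.conjBy_one]
    haveI : IsClosedImmersion (j ≫ iB).left := inferInstanceAs (IsClosedImmersion (j.left ≫ iB.left))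
    haveI : IsMonHom (j ≫ iB) := inferInstance
    haveI : Mono (j ≫ iB) := Over.mono_of_mono_left _
    haveI := hmax T₀ (j ≫ iB) χ hT₀ hkey
    intro t g
    have := hcen _ g (t ≫ inv χ)
    rw [Category.assoc, ← hkey, IsIso.inv_hom_id_assoc] at this
    exact this
  let φ := pullBialg ψ ψB iB
  have hev : ∀ x, ToriConj.ev ψB x ≫ iB = ToriConj.ev ψ (HopfFlat.restrPts φ x) := fun x => by
    show (ToriConj.pt0 ≫ e ψB k x) ≫ iB = ToriConj.pt0 ≫ e ψ k _
    rw [Category.assoc, e_comp ψ ψB iB x]
    rfl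
  have hdec' : ∀ x : Conn.Pt k A', ∃ (z : Conn.Pt k A) (u : Conn.Pt k A), (∀ g, g * z = z * g) ∧ u ∈ unipPts k A ∧
      HopfFlat.restrPts φ x = z * u := fun x => by
    obtain ⟨t, u, hu, hxe⟩ := hdec x
    obtain ⟨z, hz⟩ := ToriConj.ev_surjective ψ (t ≫ j ≫ iB)
    refine ⟨z, HopfFlat.restrPts φ u, fun g => ToriConj.ev_injective ψ ?_, ?_, ToriConj.ev_injective ψ ?_⟩
    · rw [map_mul, map_mul, hz, hc0]
    · intro V _ _ cV _
      have h := @hu V _ _ (push φ.toCoalgHom cV) ‹_›
      refine (congrArg (fun T : Module.End k V => IsNilpotent (T - 1)) ?_).mp h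
      exact LinearMap.ext fun v => dact_push φ.toCoalgHom cV u.ofConv.toLinearMap v
    · rw [← hev, hxe, map_mul, hz, ← hev, MonObj.mul_comp _ _ iB, Category.assoc]
  haveI : Group.IsSolvable (Conn.Pt k A') := by
    obtain ⟨m, hm⟩ := hsB
    haveI : Group.IsSolvable (𝟙_ (Over (Spec (CommRingCat.of k))) ⟶ B) := ⟨⟨m, hm _⟩⟩
    exact solvable_of_solvable_injective (f := ToriConj.ev ψB) (ToriConj.ev_injective ψB)
  have hA' : HopfRep.IsTrigonalizable k A' := by
    haveI : IrreducibleSpace B.left := by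
      have hirr := (Grp57.connectedComponent_unit B).1
      rw [PreconnectedSpace.connectedComponent_eq_univ] at hirr
      exact { isPreirreducible_univ := hirr.2, toNonempty := inferInstance }
    haveI : IsIntegral B.left := isIntegral_of_irreducibleSpace_of_isReduced _
    haveI : IsDomain A' := (fn ψB).toMulEquiv.isDomain _
    exact Groth.Agent.S3266.result k A' fun x hx => IsIdempotentElem.iff_eq_zero_or_one.1 hx
  intro V _ _ cV _ hV
  haveI := hV.1
  letI cV' : HopfRep.Comod k A' V := push φ.toCoalgHom cV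
  have hact : ∀ x : Conn.Pt k A', actHom k A' V x = actHom k A V (HopfFlat.restrPts φ x) := fun x =>
    LinearMap.ext fun v => dact_push φ.toCoalgHom cV x.ofConv.toLinearMap v
  have hn : 0 < Module.finrank k V := Module.finrank_pos
  obtain ⟨F, -, hFsub, hFdim⟩ := @Groth.Agent.S3268.result k _ A' _ _ hA' V _ _ cV' _
  obtain ⟨v, hv0, hspan⟩ := finrank_eq_one_iff'.1 (hFdim 1 hn)
  have hv0' : (v : V) ≠ 0 := fun h => hv0 (Subtype.ext h)
  have hstab : ∀ x : Conn.Pt k A', ∃ c : k, actHom k A V (HopfFlat.restrPts φ x) v.1 = c • v.1 ∧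
      LinearMap.det (actHom k A V (HopfFlat.restrPts φ x)) = c ^ Module.finrank k V := by
    intro x
    obtain ⟨z, u, hz, hu, hx⟩ := hdec' x
    obtain ⟨c, hc⟩ := act_eq_smul_one hV hz
    have hmem : actHom k A' V x v.1 ∈ F 1 := by
      rw [actHom_apply, act_eq_dact]
      exact (isSubcomod_iff _).1 (hFsub 1) _ _ v.2
    obtain ⟨d, hd⟩ := hspan ⟨_, hmem⟩
    have hd' : d • v.1 = c • actHom k A V u v.1 := by
      rw [show d • v.1 = actHom k A' V x v.1 from congrArg Subtype.val hd, hact, hx, map_mul, Module.End.mul_apply, hc]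
      rfl
    have hN : IsNilpotent (actHom k A V u - 1) := hu V inferInstance
    have hdet : LinearMap.det (actHom k A V (HopfFlat.restrPts φ x)) = c ^ Module.finrank k V := by
      rw [hx, map_mul, hc, smul_mul_assoc, _root_.one_mul, LinearMap.det_smul,
        show actHom k A V u = 1 + (actHom k A V u - 1) by abel, det_one_add_nilpotent hN, _root_.mul_one]
    have hdc : d = c := by
      obtain ⟨m, hm⟩ := hN
      have hcu : (c • (actHom k A V u - 1)) v.1 = (d - c) • v.1 := by
        rw [LinearMap.smul_apply, LinearMap.sub_apply, Module.End.one_apply, smul_sub, ← hd', sub_smul]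
      have hp : ∀ i : ℕ, ((c • (actHom k A V u - 1)) ^ i) v.1 = (d - c) ^ i • v.1 := fun i => by
        induction i with
        | zero => simp
        | succ i ih => rw [pow_succ', Module.End.mul_apply, ih, map_smul, hcu, smul_smul, ← pow_succ]
      have h0 := hp m
      rw [smul_pow, hm, smul_zero, LinearMap.zero_apply] at h0
      exact sub_eq_zero.1 (pow_eq_zero_iff'.1 ((smul_eq_zero.1 h0.symm).resolve_right hv0')).1
    refine ⟨c, ?_, hdet⟩
    rw [← hact, ← hdc]
    exact (congrArg Subtype.val hd).symm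
  let b := Module.finBasis k V
  let mcb := Mat.mc (A := A) b
  have hu := GMod80.isUnit_det (Mat.isRep_mc (k := k) (A := A) b)
  have hdetev : ∀ g : Conn.Pt k A,
      g.ofConv (Matrix.det (Mat.ev (AlgHom.id k A) mcb)) = LinearMap.det (actHom k A V g) := fun g => by
    rw [AlgHom.map_det, ← LinearMap.det_toMatrix b]
    congr 1
    ext i j
    rw [AlgHom.mapMatrix_apply, Matrix.map_apply, Mat.ev_apply, LinearMap.toMatrix_apply]
    exact Conn.apply_cf _ _ _
  have hsub : HopfRep.IsSubcomod (k := k) (A := A) (Submodule.span k {v.1}) := by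
    refine Conn.isSubcomod_of_forall_point _ fun g w hw => ?_
    obtain ⟨r, rfl⟩ := Submodule.mem_span_singleton.1 hw
    rw [map_smul]
    refine Submodule.smul_mem _ r ?_
    by_contra hne
    obtain ⟨l, hl, hle⟩ := Submodule.exists_le_ker_of_notMem hne
    have hlv : l v.1 = 0 := hle (Submodule.mem_span_singleton_self v.1)
    let f : A := cf (A := A) l v.1 ^ Module.finrank k V * ↑hu.unit⁻¹
    have hf : ∀ g : Conn.Pt k A,
        g.ofConv f * LinearMap.det (actHom k A V g) = l (actHom k A V g v.1) ^ Module.finrank k V := fun g => by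
      rw [← hdetev, ← map_mul, _root_.mul_assoc, IsUnit.val_inv_mul, _root_.mul_one, map_pow, Conn.apply_cf]
    have hdet0 : ∀ g : Conn.Pt k A, LinearMap.det (actHom k A V g) ≠ 0 := fun g h => by
      have := (hu.map g.ofConv)
      rw [hdetev, h] at this
      exact not_isUnit_zero this
    have hinv : ∀ (g : Conn.Pt k A) (x : Conn.Pt k A'),
        (g * HopfFlat.restrPts φ x).ofConv f = g.ofConv f := by
      intro g x
      obtain ⟨c, hc1, hc2⟩ := hstab x
      refine mul_right_cancel₀ (hdet0 (g * HopfFlat.restrPts φ x)) ?_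
      rw [hf, map_mul, Module.End.mul_apply, hc1, map_smul, map_smul, smul_eq_mul, mul_pow, ← hc2, ← hf g, map_mul LinearMap.det]
      ring
    have h1 := hf g
    rw [pts_const ψ hB ψB f hinv g] at h1
    have h2 := hf 1
    rw [map_one, map_one, _root_.mul_one, Module.End.one_apply, hlv, zero_pow hn.ne'] at h2
    rw [h2, zero_mul] at h1
    exact hl (pow_eq_zero_iff'.1 h1.symm).1
  rcases hV.2 _ hsub with h | h
  · exact absurd (Submodule.span_singleton_eq_bot.1 h) hv0'
  · rw [← finrank_top k V, ← h, finrank_span_singleton hv0']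

end Groth.Agent.AlgGrp79.CentralTorus
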