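import Mathlib.RingTheory.HopfAlgebra.Quotient
import Mathlib.RingTheory.HopfAlgebra.Convolution
import Mathlib.LinearAlgebra.TensorProduct.Basic
import Mathlib.RingTheory.Flat.Basic
import Mathlib.LinearAlgebra.Basis.VectorSpace

/-!
Kernels of bialgebra maps are Hopf ideals.
-/

set_option autoImplicit false
universe u

open scoped TensorProduct
open WithConv

noncomputable section

namespace Groth.Agent.AlgGrp79

variable {k : Type u} [Field k] {A A' : Type u} [CommRing A] [HopfAlgebra k A] [CommRing A'] [HopfAlgebra k A']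

lemma map_antipode_apply (π : A →ₐc[k] A') (a : A) :
    π (HopfAlgebraStruct.antipode (R := k) a) = HopfAlgebraStruct.antipode (R := k) (π a) := by
  have h1 : toConv ((π : A →ₐ[k] A').comp (HopfAlgebra.antipodeAlgHom k A)) * toConv (π : A →ₐ[k] A') = 1 := by
    apply WithConv.ofConv_injective
    have := AlgHom.comp_convMul_distrib (π : A →ₐ[k] A')
      (toConv (HopfAlgebra.antipodeAlgHom k A)) (toConv (AlgHom.id k A))
    rw [show toConv (HopfAlgebra.antipodeAlgHom k A) * toConv (AlgHom.id k A) = 1 from
      AlgHom.antipode_id_cancel] at this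
    refine this.symm.trans (AlgHom.ext fun x => ?_)
    simp only [AlgHom.convOne_def, AlgHom.comp_apply]
    exact (π : A →ₐ[k] A').commutes _
  have h2 : toConv (π : A →ₐ[k] A') * toConv ((HopfAlgebra.antipodeAlgHom k A').comp (π : A →ₐ[k] A')) = 1 := by
    apply WithConv.ofConv_injective
    have := AlgHom.convMul_comp_bialgHom_distrib (toConv (AlgHom.id k A')) (toConv (HopfAlgebra.antipodeAlgHom k A')) π
    rw [show toConv (AlgHom.id k A') * toConv (HopfAlgebra.antipodeAlgHom k A') = 1 from
      mul_eq_one_comm.1 AlgHom.antipode_id_cancel] at this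
    refine this.symm.trans (AlgHom.ext fun x => ?_)
    simp [AlgHom.convOne_def]
  exact DFunLike.congr_fun (congrArg WithConv.ofConv (left_inv_eq_right_inv h1 h2)) a

lemma isHopfIdeal_ker (π : A →ₐc[k] A') : (RingHom.ker (π : A →ₐ[k] A')).IsHopfIdeal k := by
  let I := RingHom.ker (π : A →ₐ[k] A')
  let ι : (A ⧸ I.restrictScalars k) →ₗ[k] A' := (I.restrictScalars k).liftQ π.toLinearMap fun x hx => by
    rw [LinearMap.mem_ker]; exact hx
  have hι : Function.Injective ι := by
    rw [← LinearMap.ker_eq_bot]
    refine Submodule.ker_liftQ_eq_bot _ _ _ fun x hx => ?_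
    exact RingHom.mem_ker.2 (LinearMap.mem_ker.1 hx)
  have hc : (I.restrictScalars k).IsCoideal := by
    refine ⟨fun x hx => ?_, fun x hx => ?_⟩
    · rw [← CoalgHomClass.counit_comp_apply π x]
      rw [show π x = 0 from RingHom.mem_ker.1 hx, map_zero]
    · apply TensorProduct.map_injective_of_flat_flat ι ι hι hι
      rw [← LinearMap.comp_apply, ← TensorProduct.map_comp, Submodule.liftQ_mkQ, map_zero]
      have := CoalgHomClass.map_comp_comul_apply π x
      refine this.trans ?_
      rw [show π x = 0 from RingHom.mem_ker.1 hx, map_zero]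
  refine { toIsCoideal := hc, antipode_mem := fun x hx => RingHom.mem_ker.2 ?_ }
  show π _ = 0
  rw [map_antipode_apply, show π x = 0 from RingHom.mem_ker.1 hx, map_zero]

end Groth.Agent.AlgGrp79
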