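import Groth.Agent.AlgGrp79.LineMap
import Groth.Agent.AlgGrp79.HopfKerBasic
import Groth.Agent.AlgGrp79.GModRep
import Groth.Agent.AlgGrp79.FiniteKernelHom
import Groth.Agent.AGF80.WeilRep
import Groth.Agent.GMod80.Dict
import Groth.Agent.Comod33.MatrixRep
import Groth.Agent.GrpQ80.FlatStab
import Groth.Agent.SGA3a.NormalHopf
import Groth.Agent.Curves2.ProjLineProper
import Groth.Agent.S3019

/-!
The quotient of an affine algebraic group by an arbitrary closed subgroup.
-/

set_option autoImplicit false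
set_option linter.unusedSectionVars false
set_option backward.isDefEq.respectTransparency.types false

universe u

open CategoryTheory MonoidalCategory CartesianMonoidalCategory MonObj GrpObj AlgebraicGeometry
open scoped TensorProduct
open WithConv

noncomputable section

namespace Groth.Agent.AlgGrp79.QuotSub

open GMod80 Comod33 Comod33.Mat Matrix

variable {k : Type u} [Field k] {A : Type u} [CommRing A] [HopfAlgebra k A]
variable {V : Type u} [AddCommGroup V] [Module k V] [HopfRep.Comod k A V]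
variable {N : ℕ} (b : Module.Basis (Fin (N + 1)) k V)

/-- The coordinates of the translates of the first basis vector. -/
def row (i : Fin (N + 1)) : A := mc (A := A) b i 0

theorem stabilizes_iff {R : Type u} [CommRing R] [Algebra k R] (g : A →ₐ[k] R) :
    SGA3.StabilizesLine k A (b 0) R g ↔ ∀ i, i ≠ 0 → g (row b i) = 0 := by
  have hg : LinearMap.lTensor V g.toLinearMap (HopfRep.Comod.coact (k := k) (A := A) (b 0)) =
      ∑ i, b i ⊗ₜ[k] g (row (A := A) b i) := by
    rw [coact_basis b, map_sum]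
    rfl
  constructor
  · rintro ⟨c, hc⟩ i hi
    rw [hg] at hc
    have := congrArg (fun t => TensorProduct.lid k R ((b.coord i).rTensor R t)) hc
    simpa [Finsupp.single_apply, hi, Ne.symm hi] using this
  · intro h
    refine ⟨g (row b 0), ?_⟩
    rw [hg, Finset.sum_eq_single 0 (fun i _ hi => by rw [h i hi, TensorProduct.tmul_zero]) (by simp)]

theorem span_row : Ideal.span (Set.range (row (A := A) b)) = ⊤ := by
  rw [Ideal.eq_top_iff_one, Ideal.mem_span_range_iff_exists_fun]
  let x : WithConv (A →ₐ[k] A) := toConv (AlgHom.id k A)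
  refine ⟨fun l => x⁻¹.ofConv (mc (A := A) b 0 l), ?_⟩
  have h := ev_mul (isRep_mc (A := A) b) x⁻¹.ofConv x.ofConv
  rw [toConv_ofConv, toConv_ofConv, inv_mul_cancel, ev_one (isRep_mc (A := A) b)] at h
  have h0 := congrFun (congrFun h 0) 0
  rw [Matrix.one_apply_eq, Matrix.mul_apply] at h0
  exact h0.symm

theorem cross_iff {R : Type u} [CommRing R] [Algebra k R] (x y : WithConv (A →ₐ[k] R)) :
    (∀ i l, x.ofConv (row b i) * y.ofConv (row b l) = x.ofConv (row b l) * y.ofConv (row b i)) ↔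
      ∀ i, i ≠ 0 → (x⁻¹ * y).ofConv (row b i) = 0 := by
  have hmul : ∀ (z w : WithConv (A →ₐ[k] R)) i,
      (z * w).ofConv (row b i) = ∑ l, z.ofConv (mc (A := A) b i l) * w.ofConv (row b l) := fun z w i => by
    have h := congrFun (congrFun (ev_mul (isRep_mc (A := A) b) z.ofConv w.ofConv) i) 0
    rw [Matrix.mul_apply] at h
    exact h
  constructor
  · intro h i hi
    obtain ⟨c, -, hc⟩ := LineMap.exists_unit_of_cross (row b) (span_row b) x.ofConv y.ofConv h
    rw [hmul]
    simp only [hc]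
    have h1 := hmul x⁻¹ x i
    rw [inv_mul_cancel] at h1
    have h2 : ((1 : WithConv (A →ₐ[k] R))).ofConv (row b i) = 0 := by
      have := congrFun (congrFun (ev_one (isRep_mc (A := A) b) (R := R)) i) 0
      rw [Matrix.one_apply_ne hi] at this
      exact this
    calc ∑ l, x⁻¹.ofConv (mc (A := A) b i l) * (c * x.ofConv (row b l))
        = c * ∑ l, x⁻¹.ofConv (mc (A := A) b i l) * x.ofConv (row b l) := by
          rw [Finset.mul_sum]; exact Finset.sum_congr rfl fun l _ => by ring
      _ = 0 := by rw [← h1, h2, mul_zero]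
  · intro h i l
    have hy : ∀ j, y.ofConv (row b j) = x.ofConv (mc (A := A) b j 0) * (x⁻¹ * y).ofConv (row b 0) := fun j => by
      conv_lhs => rw [← mul_inv_cancel_left x y]
      rw [hmul, Finset.sum_eq_single 0 (fun l _ hl => by rw [h l hl, mul_zero]) (by simp)]
    rw [hy i, hy l]
    show x.ofConv (mc (A := A) b i 0) * _ = x.ofConv (mc (A := A) b l 0) * _
    ring

section Group

variable {G : Over (Spec (CommRingCat.of k))} [GrpObj G] (ψ : sp k A ≅ G) [IsMonHom ψ.hom]

variable (k N) in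
/-- Projective space over the field. -/
abbrev PN : Over (Spec (CommRingCat.of k)) := Over.mk (CohB1.ProjSpace.toSpec N k)

/-- The line map as a morphism over the field. -/
def lineOver : sp k A ⟶ PN k N :=
  Over.homMk (LineMap.lineMap k (row (A := A) b) (span_row b)) (LineMap.lineMap_toSpec _ _)

/-- The map to projective space given by the translates of the first basis vector. -/
def orb : G ⟶ PN k N := ψ.inv ≫ lineOver b

theorem e_orb_eq_iff {R : Type u} [CommRing R] [Algebra k R] (x y : WithConv (A →ₐ[k] R)) :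
    e ψ R x ≫ orb b ψ = e ψ R y ≫ orb b ψ ↔ SGA3.StabilizesLine k A (b 0) R (x⁻¹ * y).ofConv := by
  rw [stabilizes_iff, ← cross_iff, ← LineMap.lineMap_eq_iff (row (A := A) b) (span_row b)]
  have h : ∀ z : WithConv (A →ₐ[k] R), (e ψ R z ≫ orb b ψ).left =
      Spec.map (CommRingCat.ofHom z.ofConv.toRingHom) ≫ LineMap.lineMap k (row (A := A) b) (span_row b) := fun z => by
    have h0 : e ψ R z ≫ orb b ψ = Spec.mapMulEquiv z ≫ lineOver b := by
      show (Spec.mapMulEquiv z ≫ ψ.hom) ≫ ψ.inv ≫ _ = _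
      rw [Category.assoc, Iso.hom_inv_id_assoc]
    rw [h0]
    rfl
  constructor
  · intro hxy
    rw [← h, ← h, hxy]
  · intro hxy
    ext : 1
    rw [h, h, hxy]

end Group

/-- A homomorphism which is a monomorphism from a group of finite type is a closed immersion. -/
theorem isClosedImmersion_of_mono {G H : Over (Spec (CommRingCat.of k))} [GrpObj G] [GrpObj H]
    [LocallyOfFiniteType G.hom] [LocallyOfFiniteType H.hom] [QuasiCompact H.hom] (i : H ⟶ G) [IsMonHom i] [Mono i] :
    IsClosedImmersion i.left :=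
  isClosedImmersion_hom_of_trivial_kernel i fun T g hg => by
    rw [← cancel_mono i, hg, MonObj.one_comp]

theorem exists_map (G H : Over (Spec (CommRingCat.of k))) [GrpObj G] [GrpObj H] [IsAffine G.left]
    [LocallyOfFiniteType G.hom] (i : H ⟶ G) [IsMonHom i] [IsClosedImmersion i.left] :
    ∃ (Y : Over (Spec (CommRingCat.of k))) (f : G ⟶ Y), LocallyOfFiniteType Y.hom ∧
      ∀ (T : Over (Spec (CommRingCat.of k))) [IsAffine T.left] (g g' : T ⟶ G),
        g ≫ f = g' ≫ f ↔ ∃ h : T ⟶ H, h ≫ i = g⁻¹ * g' := by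
  obtain ⟨A, _, _, ψ, hψ⟩ := exists_coord G
  haveI : IsAffine H.left := isAffine_of_isAffineHom i.left
  obtain ⟨A', _, _, ψ', hψ'⟩ := exists_coord H
  let π := pullBialg ψ ψ' i
  have hπ : Function.Surjective π := pull_surjective ψ ψ' i
  let I : Ideal A := RingHom.ker (π : A →ₐ[k] A')
  haveI : I.IsHopfIdeal k := isHopfIdeal_ker π
  haveI : Algebra.FiniteType k A := GMod80.finiteType ψ
  obtain ⟨V, _, _, _, _, v, hv, hI⟩ := Groth.Agent.S3019.result k A I
  obtain ⟨N, b, rfl⟩ : ∃ (N : ℕ) (b : Module.Basis (Fin (N + 1)) k V), b 0 = v := by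
    classical
    have hli : LinearIndepOn k id ({v} : Set V) := LinearIndepOn.singleton (R := k) hv
    let b₀ := Module.Basis.extend hli
    have hv' : v ∈ hli.extend (Set.subset_univ _) := hli.subset_extend _ rfl
    haveI : Fintype (hli.extend (Set.subset_univ _)) := FiniteDimensional.fintypeBasisIndex b₀
    obtain ⟨N, hN⟩ : ∃ N, Fintype.card (hli.extend (Set.subset_univ _)) = N + 1 :=
      ⟨_, (Nat.succ_pred_eq_of_pos (Fintype.card_pos_iff.2 ⟨⟨v, hv'⟩⟩)).symm⟩
    let e' := Fintype.equivFinOfCardEq hN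
    refine ⟨N, b₀.reindex (e'.trans (Equiv.swap (e' ⟨v, hv'⟩) 0)), ?_⟩
    rw [Module.Basis.reindex_apply, Equiv.symm_trans_apply, Equiv.symm_swap, Equiv.swap_apply_right,
      Equiv.symm_apply_apply]
    exact Module.Basis.extend_apply_self hli _
  have hlift : ∀ (R : Type u) [CommRing R] [Algebra k R] (f : A →ₐ[k] R), (∀ a ∈ I, f a = 0) ↔
      ∃ f' : A' →ₐ[k] R, f'.comp (π : A →ₐ[k] A') = f := fun R _ _ f => by
    refine ⟨fun h => ⟨AlgHom.liftOfSurjective (π : A →ₐ[k] A') hπ f h, AlgHom.ext fun a => ?_⟩, ?_⟩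
    · exact AlgHom.liftOfSurjective_apply (π : A →ₐ[k] A') hπ f h a
    · rintro ⟨f', rfl⟩ a ha
      rw [AlgHom.comp_apply, RingHom.mem_ker.1 ha, map_zero]
  have hpt : ∀ (R : Type u) [CommRing R] [Algebra k R] (x y : WithConv (A →ₐ[k] R)),
      e ψ R x ≫ orb b ψ = e ψ R y ≫ orb b ψ ↔ ∃ h : VecGrp.pt k R ⟶ H, h ≫ i = (e ψ R x)⁻¹ * e ψ R y := by
    intro R _ _ x y
    rw [e_orb_eq_iff, ← map_inv, ← map_mul]
    refine ((hI R (x⁻¹ * y).ofConv).symm.trans (hlift R _)).trans ?_
    constructor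
    · rintro ⟨f', hf'⟩
      refine ⟨e ψ' R (toConv f'), ?_⟩
      rw [e_comp ψ ψ' i]
      congr 1
      exact WithConv.ofConv_injective hf'
    · rintro ⟨h, hh⟩
      obtain ⟨f', rfl⟩ := (e ψ' R).surjective h
      rw [e_comp ψ ψ' i] at hh
      exact ⟨f'.ofConv, congrArg WithConv.ofConv ((e ψ R).injective hh)⟩
  haveI : LocallyOfFiniteType (CohB1.ProjSpace.toSpec N k) := by
    haveI := Curves2.ProjLine.isProper_toSpec k N
    infer_instance
  refine ⟨PN k N, orb b ψ, ‹_›, fun T _ g g' => ?_⟩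
  letI := GLnDiag.gAlg T
  obtain ⟨x, hx⟩ := (e ψ Γ(T.left, ⊤)).surjective (GModRep.affInv T ≫ g)
  obtain ⟨y, hy⟩ := (e ψ Γ(T.left, ⊤)).surjective (GModRep.affInv T ≫ g')
  have key := hpt _ x y
  rw [hx, hy] at key
  constructor
  · intro hgg
    obtain ⟨h, hh⟩ := key.1 (by rw [Category.assoc, Category.assoc, hgg])
    refine ⟨GModRep.affP T ≫ h, ?_⟩
    rw [Category.assoc, hh, MonObj.comp_mul, GrpObj.comp_inv, ← Category.assoc, ← Category.assoc,
      GModRep.affP_affInv, Category.id_comp, Category.id_comp]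
  · rintro ⟨h, hh⟩
    have := key.2 ⟨GModRep.affInv T ≫ h, by rw [Category.assoc, hh, MonObj.comp_mul, GrpObj.comp_inv]⟩
    have := GModRep.affP T ≫= this
    simpa only [← Category.assoc, GModRep.affP_affInv, Category.id_comp] using this

/-- The kernel pair of a map whose fibres are the cosets of a subgroup. -/
theorem isPullback_of_cosets {G H Y : Over (Spec (CommRingCat.of k))} [GrpObj G] [GrpObj H] (i : H ⟶ G)
    [IsMonHom i] [Mono i] (f : G ⟶ Y)
    (hf : ∀ (T : Over (Spec (CommRingCat.of k))) [IsAffine T.left] (g g' : T ⟶ G),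
      g ≫ f = g' ≫ f ↔ ∃ h : T ⟶ H, h ≫ i = g⁻¹ * g') :
    IsPullback (fst G H) ((G ◁ i) ≫ μ[G]) f f := by
  have hm : ∀ (T : Over (Spec (CommRingCat.of k))) (t : T ⟶ G ⊗ H),
      t ≫ (G ◁ i) ≫ μ[G] = (t ≫ fst G H) * ((t ≫ snd G H) ≫ i) := fun T t => by
    rw [AGF80.Orbit.whiskerLeft_comp_mul, MonObj.comp_mul, Category.assoc]
  have hw : fst G H ≫ f = ((G ◁ i) ≫ μ[G]) ≫ f := GModRep.hom_ext_affine fun T _ t => by
    rw [← Category.assoc, ← Category.assoc t]
    exact (hf T _ _).2 ⟨t ≫ snd G H, by rw [hm, inv_mul_cancel_left]⟩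
  let u : G ⊗ H ⟶ Limits.pullback f f := Limits.pullback.lift (fst G H) ((G ◁ i) ≫ μ[G]) hw
  haveI : IsIso u := AGF80.WeilRep.isIso_of_bijective_affine u fun T _ => by
    constructor
    · intro a a' haa
      have h1 := congrArg (· ≫ Limits.pullback.fst f f) haa
      have h2 := congrArg (· ≫ Limits.pullback.snd f f) haa
      simp only [u, Category.assoc, Limits.pullback.lift_fst, Limits.pullback.lift_snd] at h1 h2
      rw [hm, hm, h1] at h2
      exact CartesianMonoidalCategory.hom_ext _ _ h1 ((cancel_mono i).1 (mul_left_cancel h2))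
    · intro a
      obtain ⟨h, hh⟩ := (hf T (a ≫ Limits.pullback.fst f f) (a ≫ Limits.pullback.snd f f)).1
        (by rw [Category.assoc, Category.assoc, Limits.pullback.condition])
      refine ⟨lift (a ≫ Limits.pullback.fst f f) h, Limits.pullback.hom_ext ?_ ?_⟩
      · simp only [u, Category.assoc, Limits.pullback.lift_fst, lift_fst]
      · simp only [u, Category.assoc, Limits.pullback.lift_snd]
        rw [hm, lift_fst, lift_snd, hh, mul_inv_cancel_left]
  exact IsPullback.of_iso_pullback ⟨hw⟩ (asIso u) (Limits.pullback.lift_fst _ _ _) (Limits.pullback.lift_snd _ _ _)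

theorem exists_quotient (G H : Over (Spec (CommRingCat.of k))) [GrpObj G] [GrpObj H] [IsAffine G.left]
    [LocallyOfFiniteType G.hom] [LocallyOfFiniteType H.hom] [QuasiCompact H.hom]
    (i : H ⟶ G) [IsMonHom i] [Mono i] :
    ∃ (X : Over (Spec (CommRingCat.of k))) (a : AlgGrp.Action G X) (o : 𝟙_ (Over (Spec (CommRingCat.of k))) ⟶ X),
      LocallyOfFiniteType X.hom ∧ QuasiCompact X.hom ∧
      Flat (a.orbitMap o).left ∧ Surjective (a.orbitMap o).left ∧
      IsPullback (fst G H) ((G ◁ i) ≫ μ[G]) (a.orbitMap o) (a.orbitMap o) := by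
  haveI := isClosedImmersion_of_mono i
  obtain ⟨Y, f, hY, hf⟩ := exists_map G H i
  have sq := isPullback_of_cosets i f hf
  haveI : Flat (fst G H).left := inferInstanceAs (Flat (Limits.pullback.fst G.hom H.hom))
  haveI := GrpQ80.flat_fst_left sq
  haveI : LocallyOfFinitePresentation G.hom := LocallyOfFinitePresentation.iff_locallyOfFiniteType.2 inferInstance
  obtain ⟨Q, p, j, hpj, h1, h2, h3, h4, h5⟩ := GrpQ80.exists_factor_over f
  have sq' : IsPullback (fst G H) ((G ◁ i) ≫ μ[G]) p p := GrpQ80.isPullback_of_mono (i := j) (by rw [hpj]; exact sq)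
  have hc : IsCov p := ⟨h2, h1, h3⟩
  haveI := hc.epi
  have hcw := hc.whiskerLeft G
  obtain ⟨act, hact⟩ := hcw.desc (μ[G] ≫ p) fun T a b hab => by
    have e1 : a ≫ fst G G = b ≫ fst G G := by simpa using hab =≫ fst G Q
    have e2 : (a ≫ snd G G) ≫ p = (b ≫ snd G G) ≫ p := by simpa using hab =≫ snd G Q
    let l := sq'.lift (a ≫ snd G G) (b ≫ snd G G) e2
    have hl1 : l ≫ fst G H = a ≫ snd G G := sq'.lift_fst _ _ _
    have hl2 : l ≫ (G ◁ i) ≫ μ[G] = b ≫ snd G G := sq'.lift_snd _ _ _
    rw [AGF80.Orbit.whiskerLeft_comp_mul, MonObj.comp_mul, hl1, ← Category.assoc] at hl2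
    have h0 := lift ((a ≫ fst G G) * (a ≫ snd G G)) (l ≫ snd G H) ≫= sq'.w
    rw [← Category.assoc, ← Category.assoc, lift_fst, AGF80.Orbit.lift_whiskerLeft_mul, _root_.mul_assoc,
      hl2, Hom.mul_def, Hom.mul_def, CartesianMonoidalCategory.lift_comp_fst_snd, e1,
      CartesianMonoidalCategory.lift_comp_fst_snd] at h0
    simpa only [Category.assoc] using h0
  haveI : Epi (G ◁ p) := hcw.epi
  let α : AlgGrp.Action G Q :=
    { act := act
      one_act := by
        haveI : Epi (𝟙_ (Over (Spec (CommRingCat.of k))) ◁ p) := (hc.whiskerLeft _).epi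
        rw [← cancel_epi (𝟙_ (Over (Spec (CommRingCat.of k))) ◁ p), whisker_exchange_assoc, hact,
          MonObj.one_mul_assoc, leftUnitor_naturality]
      mul_act := by
        haveI : Epi ((G ⊗ G) ◁ p) := (hc.whiskerLeft _).epi
        rw [← cancel_epi ((G ⊗ G) ◁ p), whisker_exchange_assoc, hact, MonObj.mul_assoc_assoc]
        rw [associator_naturality_right_assoc, ← MonoidalCategory.whiskerLeft_comp_assoc, hact,
          MonoidalCategory.whiskerLeft_comp_assoc, hact] }
  have horb : α.orbitMap (η[G] ≫ p) = p := by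
    show lift (𝟙 G) (toUnit G ≫ η[G] ≫ p) ≫ act = p
    rw [show lift (𝟙 G) (toUnit G ≫ η[G] ≫ p) = lift (𝟙 G) (toUnit G ≫ η[G]) ≫ (G ◁ p) by
      ext <;> simp, Category.assoc, hact, ← Category.assoc, ← Hom.mul_def, ← Hom.one_def, _root_.mul_one,
      Category.id_comp]
  refine ⟨Q, α, η[G] ≫ p, ?_, ?_, ?_, ?_, ?_⟩
  · infer_instance
  · haveI : QuasiCompact (p.left ≫ Q.hom) := by rw [Over.w p]; infer_instance
    refine ⟨fun U hU hU' => ?_⟩
    rw [← Set.image_preimage_eq (Q.hom ⁻¹' U) p.left.surjective]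
    exact (QuasiCompact.isCompact_preimage (f := p.left ≫ Q.hom) U hU hU').image p.left.continuous
  all_goals rw [horb]
  · exact h2
  · exact h1
  · exact sq'

end Groth.Agent.AlgGrp79.QuotSub
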