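import Groth.Agent.AlgGrp79.CentTorusPts
import Groth.Agent.AlgGrp79.CentralTorus
import Groth.Agent.AlgGrp79.QuotSub
import Groth.Agent.S3006
import Groth.Agent.CAlg6.GeomTensor

/-!
The centraliser of a torus in a connected smooth affine group over an algebraically closed field is connected.
-/

set_option autoImplicit false
set_option linter.unusedSectionVars false
set_option backward.isDefEq.respectTransparency.types false

universe u

open CategoryTheory MonoidalCategory CartesianMonoidalCategory MonObj GrpObj AlgebraicGeometry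
open scoped TensorProduct
open WithConv Groth.Agent.GMod80

noncomputable section

namespace Groth.Agent.AlgGrp79.CentTorus

open Comod33

variable {k : Type u} [Field k] [IsAlgClosed k]

theorem ev_comp {A A' : Type u} [CommRing A] [HopfAlgebra k A] [CommRing A'] [HopfAlgebra k A']
    {G G' : Over (Spec (CommRingCat.of k))} [GrpObj G] [GrpObj G'] (ψ : sp k A ≅ G) [IsMonHom ψ.hom]
    (ψ' : sp k A' ≅ G') [IsMonHom ψ'.hom] (i : G' ⟶ G) [IsMonHom i] (x : Conn.Pt k A') :
    ToriConj.ev ψ' x ≫ i = ToriConj.ev ψ (HopfFlat.restrPts (pullBialg ψ ψ' i) x) := by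
  show (ToriConj.pt0 ≫ e ψ' k x) ≫ i = ToriConj.pt0 ≫ e ψ k _
  rw [Category.assoc, e_comp ψ ψ' i x]
  rfl

/-- The centraliser of a subtorus is smooth, closed and connected. -/
theorem centralizer_props (G : Over (Spec (CommRingCat.of k))) [GrpObj G] [IsAffine G.left] [Smooth G.hom]
    [ConnectedSpace G.left] {T : Over (Spec (CommRingCat.of k))} [GrpObj T] (iT : T ⟶ G) [IsMonHom iT] [Mono iT]
    (hT : Red.IsTorus T) {C : Over (Spec (CommRingCat.of k))} [GrpObj C] (c : C ⟶ G) (hc : Red.IsCentralizerOf iT c) :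
    Smooth C.hom ∧ IsClosedImmersion c.left ∧ ConnectedSpace C.left := by
  obtain ⟨hTs, _, _, _, _⟩ := AlgGrp33.IsogSub.torus_props hT
  haveI := hTs
  haveI hTci : IsClosedImmersion iT.left := QuotSub.isClosedImmersion_of_mono iT
  haveI : QuasiCompact G.hom := inferInstance
  haveI : QuasiSeparated G.hom := inferInstance
  obtain ⟨C₁, _, c₁, hc₁, hc₁cl, hc₁sm⟩ := (Groth.Agent.S3006.result _ G T iT hTci hT).1
  obtain ⟨hcm, hcmono, hciff⟩ := id hc
  obtain ⟨hc₁m, hc₁mono, hc₁iff⟩ := id hc₁
  haveI := hcm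
  haveI := hcmono
  haveI := hc₁m
  haveI := hc₁mono
  obtain ⟨f, hf⟩ := (hc₁iff C c).2 ((hciff C c).1 ⟨𝟙 C, Category.id_comp c⟩)
  obtain ⟨g, hg⟩ := (hciff C₁ c₁).2 ((hc₁iff C₁ c₁).1 ⟨𝟙 C₁, Category.id_comp c₁⟩)
  let e : C ≅ C₁ := ⟨f, g, by rw [← cancel_mono c, Category.assoc, hg, hf, Category.id_comp],
    by rw [← cancel_mono c₁, Category.assoc, hf, hg, Category.id_comp]⟩
  haveI : IsIso f.left := ((Over.forget _).mapIso e).isIso_hom
  haveI : Smooth C.hom := by rw [← Over.w f]; infer_instance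
  haveI : IsClosedImmersion c.left := by rw [← hf, Over.comp_left]; infer_instance
  refine ⟨inferInstance, inferInstance, ?_⟩
  obtain ⟨A, _, _, ψ, _⟩ := exists_coord G
  obtain ⟨D, _, _, ψT, _⟩ := exists_coord T
  haveI : Algebra.FiniteType k A := GMod80.finiteType ψ
  haveI : Algebra.FiniteType k D := GMod80.finiteType ψT
  haveI : IsDomain D := by
    haveI := Hopf35.TorDom.isDomain_tensor ψT hT k
    exact (Algebra.TensorProduct.lid k D).symm.toMulEquiv.isDomain _
  have hD : HopfRep.IsDiagonalizable k D := by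
    obtain ⟨hco, hprim⟩ := (Groth.Agent.S7979.result k D).1 (AlgGrp33.isDiagonalizable_of_isTorus ψT hT)
    haveI := hco
    exact Comod33.Diag.isDiagonalizable_of_no_prim fun x hx => hprim x hx
  haveI : IsReduced G.left := isReduced_of_smooth G.hom
  haveI : IrreducibleSpace G.left := by
    have hirr := (Grp57.connectedComponent_unit G).1
    rw [PreconnectedSpace.connectedComponent_eq_univ] at hirr
    exact { isPreirreducible_univ := hirr.2, toNonempty := inferInstance }
  haveI : IsIntegral G.left := isIntegral_of_irreducibleSpace_of_isReduced _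
  haveI : IsDomain A := (fn ψ).toMulEquiv.isDomain _
  haveI : Algebra.Smooth k A := by
    haveI : IsIso ψ.hom.left := ((Over.forget _).mapIso ψ).isIso_hom
    have hs : Smooth (sp k A).hom := by rw [← Over.w ψ.hom]; infer_instance
    change Smooth (Spec.map (CommRingCat.ofHom (algebraMap k A))) at hs
    rw [HasRingHomProperty.Spec_iff (P := @Smooth)] at hs
    exact RingHom.smooth_algebraMap.1 hs
  obtain ⟨B, _, _, π, hπ, _, _, hB, hpts⟩ := CentTorusPts.exists_cent (A := A)
    (fun x hx => IsIdempotentElem.iff_eq_zero_or_one.1 hx) hD (pullBialg ψ ψT iT)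
  let z : sp k B ⟶ G := spHom π ≫ ψ.hom
  haveI : Smooth (sp k B).hom := by
    change Smooth (Spec.map (CommRingCat.ofHom (algebraMap k B)))
    rw [HasRingHomProperty.Spec_iff (P := @Smooth)]
    exact RingHom.smooth_algebraMap.2 inferInstance
  haveI : IsReduced (sp k B).left := isReduced_of_smooth (sp k B).hom
  haveI : IsMonHom (Iso.refl (sp k B)).hom := inferInstanceAs (IsMonHom (𝟙 _))
  have hzev : ∀ h : Conn.Pt k B, ToriConj.ev (Iso.refl (sp k B)) h ≫ z = ToriConj.ev ψ (HopfFlat.restrPts π h) := by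
    intro h
    show (ToriConj.pt0 ≫ Spec.mapMulEquiv h ≫ 𝟙 _) ≫ spHom π ≫ ψ.hom = ToriConj.pt0 ≫ Spec.mapMulEquiv _ ≫ ψ.hom
    rw [Category.comp_id, Category.assoc]
    exact (congrArg (ToriConj.pt0 ≫ ·) (Category.assoc _ _ _).symm).trans
      (congrArg (fun x => ToriConj.pt0 ≫ x ≫ ψ.hom) (comp_spHom π h))
  have hzc : ∀ q : 𝟙_ (Over (Spec (CommRingCat.of k))) ⟶ sp k B, ∃ w, w ≫ c = q ≫ z := by
    intro q
    obtain ⟨h, rfl⟩ := ToriConj.ev_surjective (Iso.refl (sp k B)) q
    rw [hzev]
    refine (hciff _ _).2 fun X' x t => ?_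
    have hcomm : ∀ t₀ : 𝟙_ (Over (Spec (CommRingCat.of k))) ⟶ T,
        ToriConj.ev ψ (HopfFlat.restrPts π h) * (t₀ ≫ iT) = (t₀ ≫ iT) * ToriConj.ev ψ (HopfFlat.restrPts π h) := by
      intro t₀
      obtain ⟨s, rfl⟩ := ToriConj.ev_surjective ψT t₀
      rw [ev_comp ψ ψT iT s, ← map_mul, ← map_mul, (hpts _).1 ⟨h, rfl⟩ s]
    let p := ToriConj.ev ψ (HopfFlat.restrPts π h)
    haveI : IsReduced T.left := isReduced_of_smooth T.hom
    have huniv : (toUnit T ≫ p) * iT = iT * (toUnit T ≫ p) := BorelFixed.hom_ext_pts _ _ fun t₀ => by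
      simp only [MonObj.comp_mul, ← Category.assoc, toUnit_unique (t₀ ≫ toUnit T) (𝟙 _), Category.id_comp]
      exact hcomm t₀
    have := t ≫= huniv
    simp only [MonObj.comp_mul, ← Category.assoc] at this
    rw [toUnit_unique (t ≫ toUnit T) x] at this
    exact this
  have hrange : Set.range z.left ⊆ Set.range c.left :=
    range_subset_of_pts _ c.left.isClosedEmbedding.isClosed_range fun q => by
      obtain ⟨w, hw⟩ := hzc q
      rw [← hw, Over.comp_left]
      exact ⟨_, rfl⟩
  obtain ⟨φ, hφ⟩ := exists_lift_of_range_subset c z hrange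
  haveI : IsClosedImmersion z.left := by
    haveI : IsIso ψ.hom.left := ((Over.forget _).mapIso ψ).isIso_hom
    haveI : IsClosedImmersion (spHom π).left := by rw [spHom_left]; exact IsClosedImmersion.spec_of_surjective _ hπ
    exact inferInstanceAs (IsClosedImmersion ((spHom π).left ≫ ψ.hom.left))
  haveI : IsClosedImmersion φ.left := by
    haveI : IsClosedImmersion (φ.left ≫ c.left) := by rw [← Over.comp_left, hφ]; infer_instance
    exact IsClosedImmersion.of_comp φ.left c.left
  haveI : IsReduced C.left := isReduced_of_smooth C.hom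
  have hsurj : Set.range (𝟙 C : C ⟶ C).left ⊆ Set.range φ.left :=
    range_subset_of_pts _ φ.left.isClosedEmbedding.isClosed_range fun q => by
      obtain ⟨p, hp⟩ := ToriConj.ev_surjective ψ (q ≫ c)
      obtain ⟨h, hh⟩ := (hpts p).2 fun s => ToriConj.ev_injective ψ (by
        rw [map_mul, map_mul, hp, ← ev_comp ψ ψT iT s]
        have := (hciff _ (q ≫ c)).1 ⟨q, rfl⟩ (𝟙_ _) (𝟙 _) (ToriConj.ev ψT s)
        rw [Category.id_comp] at this
        exact this.symm)
      have e : ToriConj.ev (Iso.refl (sp k B)) h ≫ φ = q := by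
        rw [← cancel_mono c, Category.assoc, hφ, hzev, hh, hp]
      rw [Category.comp_id, ← e, Over.comp_left]
      exact ⟨_, rfl⟩
  haveI : ConnectedSpace (sp k B).left := (CAlg6.connectedSpace_iff_idempotent B).2
    ⟨Bialgebra.nontrivial (R := k), hB⟩
  have hs : Function.Surjective φ.left := fun x => hsurj ⟨x, rfl⟩
  exact hs.connectedSpace φ.left.continuous

end Groth.Agent.AlgGrp79.CentTorus
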