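import Groth.Agent.AlgGrp33.TorusBridge
import Groth.Agent.Comod33.DimOne
import Groth.Agent.Hopf35.GrpLikeIndex
import Mathlib.RingTheory.RootsOfUnity.AlgebraicallyClosed

/-!
Rational points of split tori: roots, torsion, density; ideals of subgroups of rational points.
-/

set_option autoImplicit false
set_option linter.unusedSectionVars false

universe u

open TensorProduct WithConv

noncomputable section

namespace Groth.Agent.AlgGrp79.TorusPts

open Comod33

variable {k : Type u} [Field k] {C : Type u} [CommRing C] [HopfAlgebra k C]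

theorem mul_apply_groupLike (g h : Conn.Pt k C) {χ : C} (hχ : IsGroupLikeElem k χ) :
    (g * h).ofConv χ = g.ofConv χ * h.ofConv χ := by
  rw [AlgHom.convMul_apply, hχ.comul_eq_tmul_self]
  simp

theorem one_apply_groupLike {χ : C} (hχ : IsGroupLikeElem k χ) : (1 : Conn.Pt k C).ofConv χ = 1 := by
  rw [show (1 : Conn.Pt k C).ofConv χ = algebraMap k k (CoalgebraStruct.counit (R := k) χ) from rfl, hχ.counit_eq_one,
    map_one]

theorem pow_apply_groupLike (g : Conn.Pt k C) (n : ℕ) {χ : C} (hχ : IsGroupLikeElem k χ) :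
    (g ^ n).ofConv χ = g.ofConv χ ^ n := by
  induction n with
  | zero => simp [one_apply_groupLike hχ]
  | succ n ih => rw [pow_succ, mul_apply_groupLike _ _ hχ, ih, pow_succ]

theorem ext_groupLike (hC : HopfRep.IsDiagonalizable k C) {g h : Conn.Pt k C}
    (e : ∀ χ : C, IsGroupLikeElem k χ → g.ofConv χ = h.ofConv χ) : g = h := by
  apply WithConv.ofConv_injective
  refine AlgHom.ext fun c => ?_
  have hc : c ∈ Submodule.span k {b : C | IsGroupLikeElem k b} := hC ▸ Submodule.mem_top
  induction hc using Submodule.span_induction with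
  | mem χ hχ => exact e χ hχ
  | zero => simp
  | add x y _ _ hx hy => simp only [map_add, hx, hy]
  | smul a x _ hx => simp only [map_smul, hx]

theorem comm_pts (hC : HopfRep.IsDiagonalizable k C) (g h : Conn.Pt k C) : g * h = h * g :=
  ext_groupLike hC fun _ hχ => by rw [mul_apply_groupLike _ _ hχ, mul_apply_groupLike _ _ hχ, _root_.mul_comm]

theorem fg_of_injective {G H : Type*} [CommGroup G] [CommGroup H] [Group.FG H] (f : G →* H)
    (hf : Function.Injective f) : Group.FG G := by
  haveI : Module.Finite ℤ (Additive H) := Module.Finite.iff_addGroup_fg.2 inferInstance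
  haveI : Module.Finite ℤ (Additive G) := Module.Finite.of_injective f.toAdditive.toIntLinearMap hf
  haveI : AddGroup.FG (Additive G) := Module.Finite.iff_addGroup_fg.1 inferInstance
  exact GroupFG.iff_add_fg.2 inferInstance

/-- Finitely many points of given exponent. -/
theorem finite_torsion (hC : HopfRep.IsDiagonalizable k C) [Group.FG (GroupLike k C)] {n : ℕ} (hn : 0 < n) :
    {g : Conn.Pt k C | g ^ n = 1}.Finite := by
  obtain ⟨t, ht, htf⟩ := (Group.fg_iff (G := GroupLike k C)).1 inferInstance
  haveI := htf.to_subtype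
  let R : Set k := {x | x ^ n = 1}
  have hR : R.Finite := by
    refine (Polynomial.finite_setOf_isRoot (p := (Polynomial.X ^ n - Polynomial.C 1 : Polynomial k))
      (Polynomial.X_pow_sub_C_ne_zero hn 1)).subset fun x hx => ?_
    change x ^ n = 1 at hx
    simp [Polynomial.IsRoot, hx]
  refine Set.Finite.of_finite_image (f := fun (g : Conn.Pt k C) (χ : t) => g.ofConv χ.1.val) ?_ ?_
  · refine (Set.Finite.pi fun _ => hR).subset ?_
    rintro _ ⟨g, hg, rfl⟩ χ -
    show g.ofConv χ.1.val ^ n = 1
    rw [← pow_apply_groupLike g n χ.1.2, hg, one_apply_groupLike χ.1.2]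
  · intro g _ h _ e
    refine ext_groupLike hC fun χ hχ => ?_
    let ev : Conn.Pt k C → GroupLike k C →* k := fun g =>
      { toFun := fun x => g.ofConv x.val
        map_one' := by simp
        map_mul' := fun x y => by simp }
    have : ∀ x : GroupLike k C, ev g x = ev h x := by
      intro x
      have hx : x ∈ Subgroup.closure t := ht.symm ▸ Subgroup.mem_top x
      have heq : Set.EqOn (ev g).toHomUnits (ev h).toHomUnits t := fun y hy =>
        Units.ext (congrFun e ⟨y, hy⟩)
      exact congrArg Units.val (MonoidHom.eqOn_closure heq hx)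
    exact this ⟨χ, hχ⟩

section Split

variable [IsAlgClosed k] [Algebra.FiniteType k C] [IsDomain C]

/-- Points of a split torus have roots. -/
theorem exists_root (hC : HopfRep.IsDiagonalizable k C) {n : ℕ} (hn : 0 < n) (q : Conn.Pt k C) :
    ∃ g : Conn.Pt k C, g ^ n = q := by
  classical
  obtain ⟨r, ⟨E⟩⟩ := AlgGrp33.exists_equiv_split hC
  let bas : Fin r → C := fun i => E.symm (MonoidAlgebra.single (Multiplicative.ofAdd (Pi.single i (1 : ℤ))) 1)
  choose z hz using fun i => IsAlgClosed.exists_pow_nat_eq (q.ofConv (bas i)) hn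
  have hgl : ∀ m, IsGroupLikeElem k (E.symm (MonoidAlgebra.single m (1 : k))) := fun m =>
    IsGroupLikeElem.map E.symm (MonoidAlgebra.isGroupLikeElem_single_one m)
  have hzu : ∀ i, z i ≠ 0 := fun i h0 => by
    have := hz i
    rw [h0, zero_pow hn.ne'] at this
    have h1 : IsUnit (bas i) := (hgl _).isUnit
    exact (h1.map q.ofConv).ne_zero this.symm
  let χ : Multiplicative (Fin r → ℤ) →* k :=
    { toFun := fun m => ∏ i, z i ^ (Multiplicative.toAdd m i)
      map_one' := by simp
      map_mul' := fun a b => by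
        simp only [toAdd_mul, Pi.add_apply, zpow_add₀ (hzu _), Finset.prod_mul_distrib] }
  let g : Conn.Pt k C := toConv ((MonoidAlgebra.lift k k _ χ).comp (E : C →ₐ[k] MonoidAlgebra k _))
  let ev : Multiplicative (Fin r → ℤ) →* k :=
    { toFun := fun m => q.ofConv (E.symm (MonoidAlgebra.single m 1))
      map_one' := by rw [← MonoidAlgebra.one_def, map_one, map_one]
      map_mul' := fun a b => by rw [← map_mul, ← map_mul, MonoidAlgebra.single_mul_single, _root_.one_mul] }
  have hev : ∀ m, χ m ^ n = ev m := by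
    intro m
    have h1 : ev.toHomUnits = ((powMonoidHom n).comp χ).toHomUnits := by
      refine MonoidHom.ext fun m => ?_
      obtain ⟨v, rfl⟩ := Multiplicative.ofAdd.surjective m
      rw [show v = ∑ i, v i • Pi.single i (1 : ℤ) from (by ext j; simp [Finset.sum_apply, Pi.single_apply]),
        ofAdd_sum, map_prod, map_prod]
      refine Finset.prod_congr rfl fun i _ => ?_
      rw [ofAdd_zsmul, map_zpow, map_zpow]
      congr 1
      apply Units.ext
      show q.ofConv (bas i) = (∏ j, z j ^ ((Pi.single i 1 : Fin r → ℤ) j)) ^ n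
      rw [Finset.prod_eq_single i (fun j _ hj => by simp [Pi.single_eq_of_ne hj]) (by simp), Pi.single_eq_same,
        zpow_one, hz]
    exact (congrArg Units.val (DFunLike.congr_fun h1 m)).symm
  refine ⟨g, ext_groupLike hC fun c hc => ?_⟩
  rw [pow_apply_groupLike _ _ hc]
  obtain ⟨p, rfl⟩ := E.symm.surjective c
  have hp : IsGroupLikeElem k p := by simpa using hc.map E
  obtain ⟨m, rfl⟩ := MonoidAlgebra.isGroupLikeElem_iff_mem_range_single_one.1 hp
  show ((MonoidAlgebra.lift k k _ χ) (E (E.symm (MonoidAlgebra.single m 1)))) ^ n = _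
  rw [E.apply_symm_apply, MonoidAlgebra.lift_single, one_smul, hev]
  rfl

/-- Torsion points of exponent a power of a prime are dense in a split torus. -/
theorem eq_zero_of_torsion (hC : HopfRep.IsDiagonalizable k C) {ℓ : ℕ} (hℓ : 1 < ℓ) (hℓk : (ℓ : k) ≠ 0) {c : C}
    (hc : ∀ g : Conn.Pt k C, (∃ j, g ^ (ℓ ^ j) = 1) → g.ofConv c = 0) : c = 0 := by
  classical
  obtain ⟨r, ⟨E⟩⟩ := AlgGrp33.exists_equiv_split hC
  let Γ := Multiplicative (Fin r → ℤ)
  let H : Submonoid (Γ →* k) :=
    { carrier := {χ | ∃ j, ∀ m, χ m ^ (ℓ ^ j) = 1}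
      one_mem' := ⟨0, fun m => by simp⟩
      mul_mem' := by
        rintro χ χ' ⟨j, hj⟩ ⟨j', hj'⟩
        refine ⟨j + j', fun m => ?_⟩
        rw [MonoidHom.mul_apply, mul_pow, pow_add ℓ, pow_mul, hj, one_pow, _root_.one_mul,
          _root_.mul_comm (ℓ ^ j), pow_mul, hj', one_pow] }
  let ev : Γ → (H →* k) := fun m => { toFun := fun χ => χ.1 m, map_one' := rfl, map_mul' := fun _ _ => rfl }
  have hinj : Function.Injective ev := by
    intro m m' h
    by_contra hne
    obtain ⟨i, hi⟩ : ∃ i, Multiplicative.toAdd m i ≠ Multiplicative.toAdd m' i := by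
      by_contra hh
      push Not at hh
      exact hne (Multiplicative.toAdd.injective (funext hh))
    set d := (Multiplicative.toAdd m i - Multiplicative.toAdd m' i).natAbs with hd
    obtain ⟨j, hj⟩ : ∃ j, d < ℓ ^ j := ⟨d, Nat.lt_pow_self hℓ⟩
    haveI : NeZero ((ℓ ^ j : ℕ) : k) := ⟨by rw [Nat.cast_pow]; exact pow_ne_zero _ hℓk⟩
    haveI : NeZero (ℓ ^ j) := ⟨pow_ne_zero _ (by omega)⟩
    obtain ⟨ζ, hζ⟩ := HasEnoughRootsOfUnity.exists_primitiveRoot k (ℓ ^ j)
    let χ : Γ →* k :=
      { toFun := fun m => ζ ^ (Multiplicative.toAdd m i)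
        map_one' := by simp
        map_mul' := fun a b => by
          show ζ ^ (Multiplicative.toAdd a i + Multiplicative.toAdd b i) = _
          exact zpow_add₀ (hζ.ne_zero (NeZero.ne _)) _ _ }
    have hχ : χ ∈ H := ⟨j, fun m => by
      show (ζ ^ (Multiplicative.toAdd m i)) ^ (ℓ ^ j) = 1
      rw [← zpow_natCast, ← zpow_mul, _root_.mul_comm, zpow_mul, zpow_natCast, hζ.pow_eq_one, one_zpow]⟩
    have h1 : ζ ^ (Multiplicative.toAdd m i) = ζ ^ (Multiplicative.toAdd m' i) := DFunLike.congr_fun h ⟨χ, hχ⟩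
    have h2 : ζ ^ (Multiplicative.toAdd m i - Multiplicative.toAdd m' i) = 1 := by
      rw [zpow_sub₀ (hζ.ne_zero (NeZero.ne _)), h1, div_self]
      exact zpow_ne_zero _ (hζ.ne_zero (NeZero.ne _))
    rw [hζ.zpow_eq_one_iff_dvd] at h2
    have h3 : ℓ ^ j ∣ d := Int.natCast_dvd.1 h2
    have h4 : 0 < d := Int.natAbs_pos.2 (sub_ne_zero.2 hi)
    exact absurd (Nat.le_of_dvd h4 h3) (by omega)
  have hli := (linearIndependent_monoidHom H k).comp ev hinj
  have hgl : ∀ m, IsGroupLikeElem k (E.symm (MonoidAlgebra.single m (1 : k))) := fun m =>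
    IsGroupLikeElem.map E.symm (MonoidAlgebra.isGroupLikeElem_single_one m)
  have key : ∀ χ ∈ H, (MonoidAlgebra.lift k k Γ χ) (E c) = 0 := by
    rintro χ ⟨j, hj⟩
    refine hc (toConv ((MonoidAlgebra.lift k k Γ χ).comp (E : C →ₐ[k] MonoidAlgebra k Γ))) ⟨j,
      ext_groupLike hC fun x hx => ?_⟩
    rw [pow_apply_groupLike _ _ hx, one_apply_groupLike hx]
    obtain ⟨p, rfl⟩ := E.symm.surjective x
    have hp : IsGroupLikeElem k p := by simpa using hx.map E
    obtain ⟨m, rfl⟩ := MonoidAlgebra.isGroupLikeElem_iff_mem_range_single_one.1 hp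
    show ((MonoidAlgebra.lift k k Γ χ) (E (E.symm (MonoidAlgebra.single m 1)))) ^ _ = _
    rw [E.apply_symm_apply, MonoidAlgebra.lift_single, one_smul, hj]
  have h0 : E c = 0 := by
    apply MonoidAlgebra.coeff_injective
    refine linearIndependent_iff.1 hli _ ?_
    funext χ
    rw [Finsupp.linearCombination_apply, Finsupp.sum, Finset.sum_apply]
    refine Eq.trans ?_ (key χ.1 χ.2)
    rw [MonoidAlgebra.lift_apply, Finsupp.sum]
    exact Finset.sum_congr rfl fun m _ => rfl
  exact E.injective (h0.trans (map_zero E).symm)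

end Split

section Vanishing

variable [IsAlgClosed k]

/-- The functions vanishing on a subgroup of rational points form a Hopf ideal. -/
theorem exists_vanishing (H : Subgroup (Conn.Pt k C)) :
    ∃ (I : Ideal C) (_ : I.IsHopfIdeal k), ∀ a, a ∈ I ↔ ∀ h ∈ H, h.ofConv a = 0 := by
  let I : Ideal C := ⨅ h ∈ H, RingHom.ker (h.ofConv : C →+* k)
  have hI : ∀ a, a ∈ I ↔ ∀ h ∈ H, h.ofConv a = 0 := fun a => by simp [I, RingHom.mem_ker]
  let π : C →ₐ[k] C ⧸ I := Ideal.Quotient.mkₐ k I
  let bar : ∀ h : Conn.Pt k C, h ∈ H → (C ⧸ I →ₐ[k] k) := fun h hh => Ideal.Quotient.liftₐ I h.ofConv fun a ha => (hI a).1 ha h hh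
  have sep : ∀ x : C ⧸ I, (∀ h hh, bar h hh x = 0) → x = 0 := by
    intro x hx
    obtain ⟨a, rfl⟩ := Ideal.Quotient.mk_surjective x
    exact Ideal.Quotient.eq_zero_iff_mem.2 ((hI a).2 fun h hh => hx h hh)
  have hΔ : ∀ a ∈ I, TensorProduct.map π.toLinearMap π.toLinearMap (CoalgebraStruct.comul (R := k) a) = 0 := by
    intro a ha
    refine eq_of_lc fun φ => ?_
    rw [map_zero]
    refine sep _ fun h hh => ?_
    rw [← AlgHom.toLinearMap_apply, apply_lc]
    suffices rc (bar h hh).toLinearMap (TensorProduct.map π.toLinearMap π.toLinearMap (CoalgebraStruct.comul (R := k) a)) = 0 by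
      rw [this, map_zero]
    refine sep _ fun g hg => ?_
    have := (hI a).1 ha (g * h) (H.mul_mem hg hh)
    rw [AlgHom.convMul_apply] at this
    refine Eq.trans ?_ this
    generalize CoalgebraStruct.comul (R := k) a = z
    induction z with
    | zero => simp
    | add p q hp hq => simp only [map_add, hp, hq]
    | tmul p q =>
      simp only [TensorProduct.map_tmul, rc_tmul, map_smul, Algebra.TensorProduct.lift_tmul, smul_eq_mul]
      exact _root_.mul_comm _ _
  haveI : (I.restrictScalars k).IsCoideal := by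
    constructor
    · intro a ha
      exact (hI a).1 ha 1 H.one_mem
    · intro a ha
      let e : (C ⧸ I) →ₗ[k] C ⧸ I.restrictScalars k := (Submodule.Quotient.restrictScalarsEquiv k I).symm.toLinearMap
      refine Eq.trans ?_ ((congrArg (TensorProduct.map e e) (hΔ a ha)).trans (map_zero _))
      generalize Coalgebra.comul (R := k) a = t
      induction t using TensorProduct.induction_on with
      | zero => simp
      | add x y hx hy => simp only [map_add, hx, hy]
      | tmul x y => simp [π, e]; rfl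
  refine ⟨I, { antipode_mem := fun a ha => (hI _).2 fun h hh => ?_ }, hI⟩
  have := (hI a).1 ha h⁻¹ (H.inv_mem hh)
  exact this

end Vanishing

end Groth.Agent.AlgGrp79.TorusPts
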