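import Groth.Agent.AlgGrp79.SolvTori
import Groth.Agent.AlgGrp79.TorusPts

/-!
Rational points of a trigonalizable group: the projection to the diagonalizable quotient.
-/

set_option autoImplicit false
set_option linter.unusedSectionVars false

universe u

open TensorProduct WithConv

noncomputable section

namespace Groth.Agent.AlgGrp79.TrigPts

open Comod33

variable {k A : Type u} [Field k] [IsAlgClosed k] [CommRing A] [HopfAlgebra k A] [Algebra.FiniteType k A]

/-- The diagonalizable quotient: its kernel on points is nilpotent, unipotent, and uniquely divisible. -/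
theorem exists_proj (hA : HopfRep.IsTrigonalizable k A) :
    ∃ (C₀ : Type u) (_ : CommRing C₀) (_ : HopfAlgebra k C₀) (ψ : C₀ →ₐc[k] A), HopfRep.IsDiagonalizable k C₀ ∧
      Group.IsNilpotent (HopfFlat.restrPts ψ).ker ∧
      (∀ u ∈ (HopfFlat.restrPts ψ).ker, u ∈ DimOneClass.unipPts k A) ∧
      ∀ ℓ : ℕ, (ℓ : k) ≠ 0 → ∀ m : ℕ, Function.Bijective fun u : (HopfFlat.restrPts ψ).ker => u ^ (ℓ ^ m) := by
  obtain ⟨C₀, _, _, ψ, J, hJh, hψ, hC₀, hJ, hUJ⟩ := (Groth.Agent.S7967.result k A).1 hA
  let π : Conn.Pt k A →* Conn.Pt k C₀ := HopfFlat.restrPts ψ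
  let r : Conn.Pt k (A ⧸ J) →* Conn.Pt k A := HopfFlat.restrPts (Bialgebra.Quotient.mkBialgHom (R := k) J)
  have hmem : ∀ g, r g ∈ π.ker := fun g => by
    rw [MonoidHom.mem_ker]
    apply WithConv.ofConv_injective
    refine AlgHom.ext fun c => ?_
    show g.ofConv (Ideal.Quotient.mk J (ψ c)) = algebraMap k k (CoalgebraStruct.counit (R := k) c)
    have hc : ψ c - algebraMap k A (CoalgebraStruct.counit (R := k) c) ∈ J := by
      rw [hJ]
      have h0 : c - algebraMap k C₀ (CoalgebraStruct.counit (R := k) c) ∈ RingHom.ker (Bialgebra.counitAlgHom k C₀) := by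
        simp [RingHom.mem_ker]
      have := Ideal.mem_map_of_mem (ψ : C₀ →+* A) h0
      simpa [AlgHomClass.commutes] using this
    rw [Ideal.Quotient.eq.2 hc]
    exact g.ofConv.commutes _
  let eJ : Conn.Pt k (A ⧸ J) →* π.ker := r.codRestrict _ hmem
  have heJ : Function.Bijective eJ := by
    constructor
    · intro g g' e
      apply WithConv.ofConv_injective
      exact Ideal.Quotient.algHom_ext k (WithConv.toConv_injective (congrArg Subtype.val e))
    · rintro ⟨u, hu⟩
      have hk : ∀ a ∈ J, u.ofConv a = 0 := by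
        intro a ha
        rw [hJ] at ha
        refine Submodule.span_induction (fun x hx => ?_) (map_zero _) (fun x y _ _ hx hy => by rw [map_add, hx, hy, add_zero])
          (fun c x _ hx => by rw [smul_eq_mul, map_mul, hx, mul_zero]) ha
        obtain ⟨c, hc, rfl⟩ := hx
        have := DFunLike.congr_fun (congrArg WithConv.ofConv (MonoidHom.mem_ker.1 hu)) c
        exact this.trans ((congrArg (algebraMap k k) (RingHom.mem_ker.1 hc)).trans (map_zero _))
      exact ⟨toConv (Ideal.Quotient.liftₐ J u.ofConv hk), Subtype.ext (WithConv.ofConv_injective (AlgHom.ext fun a => rfl))⟩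
  refine ⟨C₀, inferInstance, inferInstance, ψ, hC₀, ?_, fun u hu => ?_, fun ℓ hℓk m => ?_⟩
  · haveI := Groth.Agent.S7986.result k (A ⧸ J) hUJ
    exact nilpotent_of_surjective eJ heJ.2
  · obtain ⟨g, hg⟩ := heJ.2 ⟨u, hu⟩
    have hg' : r g = u := congrArg Subtype.val hg
    rw [← hg']
    exact SolvTori.restrPts_mem_unipPts _ hUJ g
  · have hb := Groth.Agent.S7957.result k (A ⧸ J) hUJ (ℓ ^ m) fun h => by
      have : ((ℓ ^ m : ℕ) : k) = 0 := (ringChar.spec k _).2 h
      rw [Nat.cast_pow] at this
      exact pow_ne_zero m hℓk this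
    have e : (fun u : π.ker => u ^ (ℓ ^ m)) ∘ eJ = eJ ∘ fun g => g ^ (ℓ ^ m) := funext fun g => (map_pow eJ g _).symm
    refine (Function.Bijective.of_comp_iff _ heJ).1 ?_
    rw [e]
    exact heJ.comp hb

end Groth.Agent.AlgGrp79.TrigPts
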