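import Groth.Agent.AlgGrp79.NormBorel
import Groth.Agent.AlgGrp79.TrigPts

/-!
Maximal tori inside a Borel subgroup, and their centralizing and normalizing points.
-/

set_option autoImplicit false
set_option linter.unusedSectionVars false
set_option backward.isDefEq.respectTransparency.types false

universe u

open CategoryTheory MonoidalCategory CartesianMonoidalCategory MonObj GrpObj AlgebraicGeometry
open scoped TensorProduct
open WithConv Groth.Agent.GMod80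

noncomputable section

namespace Groth.Agent.AlgGrp79.BorelTori

open Comod33

variable {k : Type u} [Field k] [IsAlgClosed k]

local notation "pk" => 𝟙_ (Over (Spec (CommRingCat.of k)))

variable {G : Over (Spec (CommRingCat.of k))} [GrpObj G]

theorem pt_comp_conjBy {H : Over (Spec (CommRingCat.of k))} (g : pk ⟶ G) (i : H ⟶ G) (s : pk ⟶ H) :
    s ≫ AGF.conjBy g i = g * (s ≫ i) * g⁻¹ := by
  simp only [AGF.conjBy, MonObj.comp_mul, GrpObj.comp_inv, ← Category.assoc,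
    toUnit_unique (s ≫ toUnit H) (𝟙 _), Category.id_comp]

theorem conjBy_eq_of_comm [IsSeparated G.hom] {H : Over (Spec (CommRingCat.of k))} [LocallyOfFiniteType H.hom]
    [IsReduced H.left] (g : pk ⟶ G) (i : H ⟶ G) (h : ∀ s : pk ⟶ H, g * (s ≫ i) = (s ≫ i) * g) :
    AGF.conjBy g i = i :=
  BorelFixed.hom_ext_pts _ _ fun s => by rw [pt_comp_conjBy, h s, mul_inv_cancel_right]

theorem isReduced_torus {T : Over (Spec (CommRingCat.of k))} [GrpObj T] (hT : Red.IsTorus T) : IsReduced T.left := by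
  haveI := (AlgGrp33.IsogSub.torus_props hT).1
  exact isReduced_of_smooth T.hom

theorem exists_dim (G : Over (Spec (CommRingCat.of k))) [GrpObj G] [IsAffine G.left] [Smooth G.hom]
    [ConnectedSpace G.left] : ∃ d : ℕ, topologicalKrullDim G.left ≤ (d : ℕ) := by
  haveI : IrreducibleSpace G.left := by
    have hirr := (Grp57.connectedComponent_unit G).1
    rw [PreconnectedSpace.connectedComponent_eq_univ] at hirr
    exact { isPreirreducible_univ := hirr.2, toNonempty := inferInstance }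
  refine ⟨WC97.tdegN G.hom (genericPoint G.left), Var76.FibreBound.dim_le_of_forall_univ G.hom fun x => ?_⟩
  exact_mod_cast Var76.FibreBound.tdegN_le G.hom (genericPoint_specializes x)

theorem isMonHom_lift {T B : Over (Spec (CommRingCat.of k))} [GrpObj T] [GrpObj B] (iT : T ⟶ G) (iB : B ⟶ G)
    [IsMonHom iT] [IsMonHom iB] [Mono iB] (t : T ⟶ B) (ht : t ≫ iB = iT) : IsMonHom t :=
  AlgGrp79.isMonHom_of_forall _ fun X s u => by
    rw [← cancel_mono iB, MonObj.mul_comp _ _ iB, Category.assoc, Category.assoc, Category.assoc, ht, MonObj.mul_comp]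

/-- A maximal torus, conjugated into a subgroup, is maximal there. -/
theorem isMaxTorus_lift {T B : Over (Spec (CommRingCat.of k))} [GrpObj T] [GrpObj B] {iT : T ⟶ G} {iB : B ⟶ G}
    [IsMonHom iB] [Mono iB] (hT : AGF.IsMaxTorus iT) (g : pk ⟶ G) (t : T ⟶ B) (ht : t ≫ iB = AGF.conjBy g iT) :
    AGF.IsMaxTorus t := by
  obtain ⟨_, _, hTt, hmax⟩ := hT
  haveI := BorelConj.isMonHom_conjBy g iT
  haveI := isMonHom_lift (AGF.conjBy g iT) iB t ht
  have hmono : ∀ {X : Over (Spec (CommRingCat.of k))} (f : X ⟶ G) [Mono f] (h : pk ⟶ G), Mono (AGF.conjBy h f) := by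
    intro X f _ h
    refine ⟨fun {Z} u v e => (cancel_mono f).1 ?_⟩
    rw [BorelConj.comp_conjBy, BorelConj.comp_conjBy] at e
    have := congrArg (AGF.conjBy h⁻¹) e
    rwa [BorelConj.conjBy_conjBy, BorelConj.conjBy_conjBy, inv_mul_cancel, BorelConj.conjBy_one,
      BorelConj.conjBy_one] at this
  haveI := hmono iT g
  haveI : Mono t := by
    haveI : Mono (t ≫ iB) := ht ▸ inferInstance
    exact mono_of_mono t iB
  refine ⟨inferInstance, inferInstance, hTt, fun T' _ j _ _ f hT' hf => ?_⟩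
  haveI := BorelConj.isMonHom_conjBy g⁻¹ (j ≫ iB)
  haveI := hmono (j ≫ iB) g⁻¹
  exact hmax T' (AGF.conjBy g⁻¹ (j ≫ iB)) f hT' (by
    rw [BorelConj.comp_conjBy, ← Category.assoc, hf, ht, BorelConj.conjBy_conjBy, inv_mul_cancel, BorelConj.conjBy_one])

theorem isMaxTorus_lift' {T B : Over (Spec (CommRingCat.of k))} [GrpObj T] [GrpObj B] {iT : T ⟶ G} {iB : B ⟶ G}
    [IsMonHom iB] [Mono iB] (hT : AGF.IsMaxTorus iT) (t : T ⟶ B) (ht : t ≫ iB = iT) : AGF.IsMaxTorus t :=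
  isMaxTorus_lift hT 1 t (by rw [ht, BorelConj.conjBy_one])

/-- A point centralising a maximal torus of a Borel subgroup lies in the Borel subgroup. -/
theorem cent_mem [IsAffine G.left] [Smooth G.hom] [ConnectedSpace G.left] {T B : Over (Spec (CommRingCat.of k))}
    [GrpObj T] [GrpObj B] {iT : T ⟶ G} {iB : B ⟶ G} (hB : Red.IsBorelOver k iB) (hT : AGF.IsMaxTorus iT)
    (t : T ⟶ B) (ht : t ≫ iB = iT) (p : pk ⟶ G) (hp : ∀ s : pk ⟶ T, p * (s ≫ iT) = (s ≫ iT) * p) :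
    ∃ b : pk ⟶ B, b ≫ iB = p := by
  obtain ⟨_, _, _, _, -⟩ := id hB
  haveI : IsAffine B.left := isAffine_of_isAffineHom iB.left
  haveI : Mono iB := Over.mono_of_mono_left iB
  obtain ⟨T₀, _, i, j, hji, hmax, -, hcentB, -⟩ := BorelTorus.main G iB hB
  obtain ⟨c, f, hf⟩ := ToriConj.maxTorus_conj B T₀ T j t (isMaxTorus_lift' hmax j hji) (isMaxTorus_lift' hT t ht)
  obtain ⟨b, hb⟩ := hcentB ((c ≫ iB)⁻¹ * p * (c ≫ iB)) fun s => by
    have h1 : (s ≫ f.hom) ≫ iT = (c ≫ iB) * (s ≫ i) * (c ≫ iB)⁻¹ := by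
      rw [← ht, Category.assoc, ← Category.assoc f.hom, hf, ← Category.assoc, pt_comp_conjBy, MonObj.mul_comp _ _ iB,
        MonObj.mul_comp _ _ iB, GrpObj.inv_comp, Category.assoc, hji]
    have h2 := hp (s ≫ f.hom)
    rw [h1] at h2
    calc (c ≫ iB)⁻¹ * p * (c ≫ iB) * (s ≫ i)
        = (c ≫ iB)⁻¹ * (p * ((c ≫ iB) * (s ≫ i) * (c ≫ iB)⁻¹)) * (c ≫ iB) := by group
      _ = (c ≫ iB)⁻¹ * ((c ≫ iB) * (s ≫ i) * (c ≫ iB)⁻¹ * p) * (c ≫ iB) := by rw [h2]
      _ = s ≫ i * ((c ≫ iB)⁻¹ * p * (c ≫ iB)) := by group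
  refine ⟨c * b * c⁻¹, ?_⟩
  rw [MonObj.mul_comp _ _ iB, MonObj.mul_comp _ _ iB, GrpObj.inv_comp, hb]
  group

/-- Finitely many torsion points of a torus detect centralization. -/
theorem exists_detect [IsAffine G.left] [Smooth G.hom] {T : Over (Spec (CommRingCat.of k))} [GrpObj T] (iT : T ⟶ G)
    [IsMonHom iT] (hT : Red.IsTorus T) :
    ∃ ℓ N : ℕ, (ℓ : k) ≠ 0 ∧ {s : pk ⟶ T | s ^ (ℓ ^ N) = 1}.Finite ∧ ∀ p : pk ⟶ G,
      (∀ s : pk ⟶ T, s ^ (ℓ ^ N) = 1 → p * (s ≫ iT) = (s ≫ iT) * p) → ∀ s : pk ⟶ T, p * (s ≫ iT) = (s ≫ iT) * p := by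
  obtain ⟨hTs, _, hTa, _, hTc⟩ := AlgGrp33.IsogSub.torus_props hT
  haveI := hTa
  haveI := hTs
  obtain ⟨A, _, _, ψ, _⟩ := exists_coord G
  obtain ⟨D, _, _, ψT, _⟩ := exists_coord T
  haveI : Algebra.FiniteType k A := GMod80.finiteType ψ
  haveI : Algebra.FiniteType k D := GMod80.finiteType ψT
  haveI : IsDomain D := by
    haveI := Hopf35.TorDom.isDomain_tensor ψT hT k
    exact (Algebra.TensorProduct.lid k D).symm.toMulEquiv.isDomain _
  have hD : HopfRep.IsDiagonalizable k D := by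
    obtain ⟨hco, hprim⟩ := (Groth.Agent.S7979.result k D).1 (AlgGrp33.isDiagonalizable_of_isTorus ψT hT)
    haveI := hco
    exact Comod33.Diag.isDiagonalizable_of_no_prim fun x hx => hprim x hx
  obtain ⟨ℓ, N, -, hℓ, hfin, hdet⟩ := FiniteFixed.exists_finite_detect hD (pullBialg ψ ψT iT)
  have hev := CentTorus.ev_comp ψ ψT iT
  refine ⟨ℓ, N, hℓ, (hfin.image (ToriConj.ev ψT)).subset fun s hs => ?_, fun p hp s => ?_⟩
  · obtain ⟨s', rfl⟩ := ToriConj.ev_surjective ψT s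
    exact ⟨s', ToriConj.ev_injective ψT (show ToriConj.ev ψT (s' ^ (ℓ ^ N)) = ToriConj.ev ψT 1 by
      rw [map_pow, map_one]; exact hs), rfl⟩
  · obtain ⟨g, rfl⟩ := ToriConj.ev_surjective ψ p
    obtain ⟨s, rfl⟩ := ToriConj.ev_surjective ψT s
    have h := hdet g (fun s' hs' => ToriConj.ev_injective ψ (by
      rw [map_mul, map_mul, ← hev]
      exact (hp _ (by rw [← map_pow, hs', map_one])).symm)) s
    rw [hev, ← map_mul, ← map_mul, h]

/-- A point normalising a Borel subgroup and a maximal torus in it centralises the torus. -/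
theorem comm_of_normalizes [IsAffine G.left] [Smooth G.hom] [ConnectedSpace G.left]
    {T B : Over (Spec (CommRingCat.of k))} [GrpObj T] [GrpObj B] {iT : T ⟶ G} {iB : B ⟶ G}
    (hB : Red.IsBorelOver k iB) (hT : AGF.IsMaxTorus iT) (t : T ⟶ B) (ht : t ≫ iB = iT)
    (n : pk ⟶ B) (τ : T ⟶ T) (hτ : τ ≫ iT = AGF.conjBy (n ≫ iB) iT) (s : pk ⟶ T) :
    (n ≫ iB) * (s ≫ iT) = (s ≫ iT) * (n ≫ iB) := by
  classical
  obtain ⟨_, _, _, _, hs, -⟩ := id hB
  obtain ⟨_, _, hTt, -⟩ := hT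
  haveI : IsAffine B.left := isAffine_of_isAffineHom iB.left
  haveI : Mono iB := Over.mono_of_mono_left iB
  haveI := isMonHom_lift iT iB t ht
  obtain ⟨ℓ, N, hℓ, -, hdet⟩ := exists_detect iT hTt
  refine hdet _ (fun s hs' => ?_) s
  obtain ⟨A, _, _, ψ, _⟩ := exists_coord B
  haveI : Algebra.FiniteType k A := GMod80.finiteType ψ
  haveI : IsReduced B.left := isReduced_of_smooth B.hom
  haveI : IrreducibleSpace B.left := by
    have hirr := (Grp57.connectedComponent_unit B).1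
    rw [PreconnectedSpace.connectedComponent_eq_univ] at hirr
    exact { isPreirreducible_univ := hirr.2, toNonempty := inferInstance }
  haveI : IsIntegral B.left := isIntegral_of_irreducibleSpace_of_isReduced _
  haveI : IsDomain A := (fn ψ).toMulEquiv.isDomain _
  haveI : Group.IsSolvable (WithConv (A →ₐ[k] k)) := by
    obtain ⟨m, hm⟩ := hs
    haveI : Group.IsSolvable (pk ⟶ B) := ⟨⟨m, hm _⟩⟩
    exact solvable_of_solvable_injective (f := ToriConj.ev ψ) (ToriConj.ev_injective ψ)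
  have hA : HopfRep.IsTrigonalizable k A := Groth.Agent.S3266.result k A fun x hx => IsIdempotentElem.iff_eq_zero_or_one.1 hx
  obtain ⟨C₀, _, _, π, hC₀, -, -, hdiv⟩ := TrigPts.exists_proj hA
  obtain ⟨a, ha⟩ := ToriConj.ev_surjective ψ n
  obtain ⟨x, hx⟩ := ToriConj.ev_surjective ψ (s ≫ t)
  obtain ⟨x', hx'⟩ := ToriConj.ev_surjective ψ ((s ≫ τ) ≫ t)
  have hrel : a * x * a⁻¹ = x' := ToriConj.ev_injective ψ ((cancel_mono iB).1 (by
    rw [map_mul, map_mul, map_inv, ha, hx, hx', MonObj.mul_comp _ _ iB, MonObj.mul_comp _ _ iB, GrpObj.inv_comp,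
      Category.assoc s t, ht, Category.assoc _ t, ht, Category.assoc, hτ, pt_comp_conjBy]))
  let Φ : (pk ⟶ T) →* (pk ⟶ B) := MonoidHom.mk' (fun u => u ≫ t) fun u v => MonObj.mul_comp u v t
  have hxN : x ^ (ℓ ^ N) = 1 := ToriConj.ev_injective ψ (by
    rw [map_pow, hx, map_one, show s ≫ t = Φ s from rfl, ← map_pow, hs', map_one])
  have hcomm : Commute x' x⁻¹ := (show Commute x' x from ToriConj.ev_injective ψ (by
    rw [map_mul, map_mul, hx, hx', ← MonObj.mul_comp, ← MonObj.mul_comp]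
    haveI := (AlgGrp33.IsogSub.torus_props hTt).2.2.2.2
    rw [mul_comm])).inv_right
  have hu : x' * x⁻¹ ∈ (HopfFlat.restrPts π).ker := by
    rw [MonoidHom.mem_ker, ← hrel, map_mul, map_mul, map_mul, map_inv, map_inv,
      TorusPts.comm_pts hC₀ (HopfFlat.restrPts π a), mul_inv_cancel_right, mul_inv_cancel]
  have hu1 : (⟨x' * x⁻¹, hu⟩ : (HopfFlat.restrPts π).ker) = 1 := (hdiv ℓ hℓ N).1 (by
    refine Subtype.ext ?_
    show (x' * x⁻¹) ^ (ℓ ^ N) = ((1 : (HopfFlat.restrPts π).ker) ^ (ℓ ^ N) : (HopfFlat.restrPts π).ker).1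
    rw [one_pow, hcomm.mul_pow, inv_pow, hxN, ← hrel, conj_pow, hxN]
    simp)
  have hxx : x' = x := mul_inv_eq_one.1 (congrArg Subtype.val hu1)
  rw [hxx] at hrel
  have h3 : n * (s ≫ t) = (s ≫ t) * n := by
    rw [← ha, ← hx, ← map_mul, ← map_mul, mul_inv_eq_iff_eq_mul.1 hrel]
  have h4 := congrArg (· ≫ iB) h3
  simp only [MonObj.mul_comp, Category.assoc, ht] at h4
  exact h4

end Groth.Agent.AlgGrp79.BorelTori

namespace Groth.Agent.AlgGrp79.BorelTori

variable {k : Type u} [Field k] [IsAlgClosed k]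

local notation "pk" => 𝟙_ (Over (Spec (CommRingCat.of k)))

/-- Borel subgroups containing a maximal torus are conjugate by points normalising it. -/
theorem exists_normalizer_pt (G : Over (Spec (CommRingCat.of k))) [GrpObj G] [IsAffine G.left] [Smooth G.hom]
    [ConnectedSpace G.left] {T B B' : Over (Spec (CommRingCat.of k))} [GrpObj T] [GrpObj B] [GrpObj B'] {iT : T ⟶ G}
    {iB : B ⟶ G} {iB' : B' ⟶ G} (hT : AGF.IsMaxTorus iT) (hB : Red.IsBorelOver k iB) (hB' : Red.IsBorelOver k iB')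
    (t : T ⟶ B) (ht : t ≫ iB = iT) (t' : T ⟶ B') (ht' : t' ≫ iB' = iT) :
    ∃ (n : pk ⟶ G) (τ : T ≅ T) (σ : B ≅ B'), τ.hom ≫ iT = AGF.conjBy n iT ∧ σ.hom ≫ iB' = AGF.conjBy n iB := by
  obtain ⟨g, e, he⟩ := BorelConj.borel_conj G B B' iB iB' hB hB'
  obtain ⟨_, _, _, _, -⟩ := id hB'
  haveI : IsAffine B'.left := isAffine_of_isAffineHom iB'.left
  haveI : Mono iB' := Over.mono_of_mono_left iB'
  have ht2 : (t ≫ e.hom) ≫ iB' = AGF.conjBy g iT := by
    rw [Category.assoc, he, BorelConj.comp_conjBy, ht]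
  obtain ⟨b, f, hf⟩ := ToriConj.maxTorus_conj B' T T (t ≫ e.hom) t' (isMaxTorus_lift hT g _ ht2)
    (isMaxTorus_lift' hT t' ht')
  have hc : ∀ {H : Over (Spec (CommRingCat.of k))} (i : H ⟶ B'),
      AGF.conjBy b i ≫ iB' = AGF.conjBy (b ≫ iB') (i ≫ iB') := fun i => by
    simp only [AGF.conjBy, MonObj.mul_comp, GrpObj.inv_comp, Category.assoc]
  let c : B' ≅ B' :=
    { hom := AGF.conjBy b (𝟙 B')
      inv := AGF.conjBy b⁻¹ (𝟙 B')
      hom_inv_id := by rw [BorelConj.comp_conjBy, Category.comp_id, BorelConj.conjBy_conjBy, inv_mul_cancel, BorelConj.conjBy_one]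
      inv_hom_id := by rw [BorelConj.comp_conjBy, Category.comp_id, BorelConj.conjBy_conjBy, mul_inv_cancel, BorelConj.conjBy_one] }
  refine ⟨(b ≫ iB') * g, f, e ≪≫ c, ?_, ?_⟩
  · rw [← ht', ← Category.assoc, hf, hc, ht2, BorelConj.conjBy_conjBy, ht']
  · show (e.hom ≫ AGF.conjBy b (𝟙 B')) ≫ iB' = _
    rw [Category.assoc, hc, Category.id_comp, BorelConj.comp_conjBy, he, BorelConj.conjBy_conjBy]

/-- Finitely many Borel subgroups contain a maximal torus. -/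
theorem finite_borels (G : Over (Spec (CommRingCat.of k))) [GrpObj G] [IsAffine G.left] [Smooth G.hom]
    [ConnectedSpace G.left] {T : Over (Spec (CommRingCat.of k))} [GrpObj T] {iT : T ⟶ G} (hT : AGF.IsMaxTorus iT) :
    Set.Finite {P : Subobject G | ∃ (B : Over (Spec (CommRingCat.of k))) (_ : GrpObj B) (iB : B ⟶ G) (_ : Mono iB),
      Red.IsBorelOver k iB ∧ (∃ t : T ⟶ B, t ≫ iB = iT) ∧ P = Subobject.mk iB} := by
  classical
  rcases Set.eq_empty_or_nonempty {P : Subobject G | ∃ (B : Over (Spec (CommRingCat.of k))) (_ : GrpObj B) (iB : B ⟶ G)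
      (_ : Mono iB), Red.IsBorelOver k iB ∧ (∃ t : T ⟶ B, t ≫ iB = iT) ∧ P = Subobject.mk iB} with h | ⟨P₀, hP₀⟩
  · rw [h]; exact Set.finite_empty
  obtain ⟨B₀, _, i₀, _, hB₀, ⟨t₀, ht₀⟩, -⟩ := hP₀
  obtain ⟨_, _, hTt, -⟩ := id hT
  obtain ⟨_, _, _, _, -⟩ := id hB₀
  obtain ⟨ℓ, N, hℓ, hfin, hdet⟩ := exists_detect iT hTt
  haveI := hfin.to_subtype
  have key : ∀ P : {P : Subobject G | ∃ (B : Over (Spec (CommRingCat.of k))) (_ : GrpObj B) (iB : B ⟶ G) (_ : Mono iB),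
      Red.IsBorelOver k iB ∧ (∃ t : T ⟶ B, t ≫ iB = iT) ∧ P = Subobject.mk iB},
      ∃ (n : pk ⟶ G) (τ : T ≅ T) (B : Over (Spec (CommRingCat.of k))) (iB : B ⟶ G) (_ : Mono iB) (σ : B₀ ≅ B),
        τ.hom ≫ iT = AGF.conjBy n iT ∧ σ.hom ≫ iB = AGF.conjBy n i₀ ∧ P.1 = Subobject.mk iB := by
    rintro ⟨P, B, _, iB, hm, hB, ⟨t, ht⟩, rfl⟩
    obtain ⟨n, τ, σ, h1, h2⟩ := exists_normalizer_pt G hT hB₀ hB t₀ ht₀ t ht
    exact ⟨n, τ, B, iB, hm, σ, h1, h2, rfl⟩
  choose n τ B iB hm σ h1 h2 h3 using key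
  have hτF : ∀ P (s : {s : pk ⟶ T | s ^ (ℓ ^ N) = 1}), (s.1 ≫ (τ P).hom) ^ (ℓ ^ N) = 1 := by
    intro P s
    let Φ : (pk ⟶ T) →* (pk ⟶ G) := MonoidHom.mk' (fun u => u ≫ iT) fun u v => MonObj.mul_comp u v iT
    refine (cancel_mono iT).1 ?_
    show Φ ((s.1 ≫ (τ P).hom) ^ (ℓ ^ N)) = Φ 1
    rw [map_pow, map_one]
    show ((s.1 ≫ (τ P).hom) ≫ iT) ^ (ℓ ^ N) = 1
    rw [Category.assoc, h1, pt_comp_conjBy, conj_pow, show s.1 ≫ iT = Φ s.1 from rfl, ← map_pow,
      show s.1 ^ (ℓ ^ N) = 1 from s.2, map_one, _root_.mul_one, mul_inv_cancel]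
  rw [← Set.finite_coe_iff]
  refine Finite.of_injective (fun P => fun s : {s : pk ⟶ T | s ^ (ℓ ^ N) = 1} =>
    (⟨s.1 ≫ (τ P).hom, hτF P s⟩ : {s : pk ⟶ T | s ^ (ℓ ^ N) = 1})) fun P Q hPQ => ?_
  obtain ⟨b, hb⟩ := cent_mem hB₀ hT t₀ ht₀ ((n Q)⁻¹ * n P) fun s => hdet _ (fun s hs => by
    have h := congrArg (fun u => u ≫ iT) (congrArg Subtype.val (congrFun hPQ ⟨s, hs⟩))
    simp only [Category.assoc, h1, pt_comp_conjBy] at h
    calc (n Q)⁻¹ * n P * (s ≫ iT) = (n Q)⁻¹ * (n P * (s ≫ iT) * (n P)⁻¹) * n P := by group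
      _ = (n Q)⁻¹ * (n Q * (s ≫ iT) * (n Q)⁻¹) * n P := by rw [h]
      _ = (s ≫ iT) * ((n Q)⁻¹ * n P) := by group) s
  haveI := hm P
  haveI := hm Q
  refine Subtype.ext ((h3 P).trans ((Subobject.mk_eq_mk_of_comm _ _ ?_ ?_).trans (h3 Q).symm))
  · exact (σ P).symm ≪≫
      { hom := AGF.conjBy b (𝟙 B₀)
        inv := AGF.conjBy b⁻¹ (𝟙 B₀)
        hom_inv_id := by rw [BorelConj.comp_conjBy, Category.comp_id, BorelConj.conjBy_conjBy, inv_mul_cancel, BorelConj.conjBy_one]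
        inv_hom_id := by rw [BorelConj.comp_conjBy, Category.comp_id, BorelConj.conjBy_conjBy, mul_inv_cancel, BorelConj.conjBy_one] }
      ≪≫ σ Q
  · show ((σ P).inv ≫ AGF.conjBy b (𝟙 B₀) ≫ (σ Q).hom) ≫ iB Q = iB P
    have hc : AGF.conjBy b (𝟙 B₀) ≫ i₀ = AGF.conjBy ((n Q)⁻¹ * n P) i₀ := by
      simp only [AGF.conjBy, MonObj.mul_comp, GrpObj.inv_comp, Category.assoc, Category.id_comp, hb]
    rw [Category.assoc, Category.assoc, h2, BorelConj.comp_conjBy, hc, BorelConj.conjBy_conjBy,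
      mul_inv_cancel_left, ← h2, Iso.inv_hom_id_assoc]

end Groth.Agent.AlgGrp79.BorelTori
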