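import Groth.Agent.AlgGrp79.FiniteFixed

/-!
The maximal torus of a Borel subgroup: its centraliser lies in the Borel subgroup, and it has a point with finitely
many fixed points on the flag variety.
-/

set_option autoImplicit false
set_option linter.unusedSectionVars false
set_option backward.isDefEq.respectTransparency.types false

universe u

open CategoryTheory MonoidalCategory CartesianMonoidalCategory MonObj GrpObj AlgebraicGeometry
open scoped TensorProduct
open WithConv Groth.Agent.GMod80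

noncomputable section

namespace Groth.Agent.AlgGrp79.BorelTorus

open Comod33

variable {k : Type u} [Field k] [IsAlgClosed k]

local notation "pk" => 𝟙_ (Over (Spec (CommRingCat.of k)))

/-- A closed immersion of a torus into itself is an isomorphism. -/
theorem isIso_endo {T : Over (Spec (CommRingCat.of k))} [GrpObj T] (hT : Red.IsTorus T) (e : T ⟶ T)
    [IsClosedImmersion e.left] : IsIso e := by
  obtain ⟨_, _, _, _, _⟩ := AlgGrp33.IsogSub.torus_props hT
  haveI := Var76.FibreBound.noetherianSpace T.hom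
  haveI := BorelConj.surjective_endo e.left
  haveI : IsReduced T.left := isReduced_of_smooth T.hom
  haveI : IsIso e.left := isIso_of_isClosedImmersion_of_surjective e.left
  haveI : IsIso ((Over.forget _).map e) := ‹IsIso e.left›
  exact isIso_of_reflects_iso e (Over.forget _)

/-- A rational point commuting with the rational points of a reduced subgroup commutes with all its points. -/
theorem comm_of_pts {G T : Over (Spec (CommRingCat.of k))} [GrpObj G] [IsSeparated G.hom]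
    [LocallyOfFiniteType T.hom] [IsReduced T.left] (i : T ⟶ G) (p : pk ⟶ G)
    (h : ∀ s : pk ⟶ T, p * (s ≫ i) = (s ≫ i) * p) (X : Over (Spec (CommRingCat.of k))) (t : X ⟶ T) :
    (toUnit X ≫ p) * (t ≫ i) = (t ≫ i) * (toUnit X ≫ p) := by
  have huniv : (toUnit T ≫ p) * i = i * (toUnit T ≫ p) := BorelFixed.hom_ext_pts _ _ fun s => by
    simp only [MonObj.comp_mul, ← Category.assoc, toUnit_unique (s ≫ toUnit T) (𝟙 _), Category.id_comp]
    exact h s
  have := t ≫= huniv
  simp only [MonObj.comp_mul, ← Category.assoc, comp_toUnit] at this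
  exact this

/-- The facts about a Borel subgroup and a maximal torus in it. -/
theorem main (G : Over (Spec (CommRingCat.of k))) [GrpObj G] [IsAffine G.left] [Smooth G.hom] [ConnectedSpace G.left]
    {B : Over (Spec (CommRingCat.of k))} [GrpObj B] (iB : B ⟶ G) (hB : Red.IsBorelOver k iB) :
    ∃ (T₀ : Over (Spec (CommRingCat.of k))) (_ : GrpObj T₀) (i : T₀ ⟶ G) (j : T₀ ⟶ B), j ≫ iB = i ∧
      AGF.IsMaxTorus i ∧
      (∀ g : pk ⟶ G, (∀ s : pk ⟶ T₀, ∃ b : pk ⟶ B, g⁻¹ * (s ≫ i) * g = b ≫ iB) →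
        ∃ b : pk ⟶ B, ∀ s : pk ⟶ T₀, ∃ s' : pk ⟶ T₀, (g * (b ≫ iB)) * (s ≫ i) * (g * (b ≫ iB))⁻¹ = s' ≫ i) ∧
      (∀ p : pk ⟶ G, (∀ s : pk ⟶ T₀, p * (s ≫ i) = (s ≫ i) * p) → ∃ b : pk ⟶ B, b ≫ iB = p) ∧
      (∃ (A' : Type u) (_ : CommRing A') (_ : HopfAlgebra k A') (ψB : sp k A' ≅ B) (_ : IsMonHom ψB.hom),
        ∀ x : Conn.Pt k A', ∃ (s : pk ⟶ T₀), ∃ u ∈ DimOneClass.unipPts k A',
          ToriConj.ev ψB x = (s ≫ j) * ToriConj.ev ψB u) ∧
      ∀ (X : Over (Spec (CommRingCat.of k))) (a : AlgGrp.Action G X) (o : pk ⟶ X), AGF.IsQuotient iB X a o →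
        ∃ h₀ : pk ⟶ B, Set.Finite {x : pk ⟶ X | lift (h₀ ≫ iB) x ≫ a.act = x} := by
  classical
  obtain ⟨_, _, _, _, hsB, -⟩ := id hB
  haveI : IsAffine B.left := isAffine_of_isAffineHom iB.left
  haveI : Mono iB := Over.mono_of_mono_left iB
  haveI : IsReduced G.left := isReduced_of_smooth G.hom
  haveI : IsSeparated G.hom := inferInstance
  obtain ⟨A', _, _, ψB, _⟩ := exists_coord B
  obtain ⟨T₀, _, j, hjm, hjc, hT₀, hdec, hconj⟩ := ToriConj.exists_maxTorus_coord B hsB ψB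
  haveI := hjm
  haveI := hjc
  obtain ⟨hTs, _, hTa, _, hTc⟩ := AlgGrp33.IsogSub.torus_props hT₀
  haveI := hTs
  haveI := hTa
  haveI : IsReduced T₀.left := isReduced_of_smooth T₀.hom
  let i : T₀ ⟶ G := j ≫ iB
  haveI : IsClosedImmersion i.left := inferInstanceAs (IsClosedImmersion (j.left ≫ iB.left))
  haveI : IsMonHom i := inferInstanceAs (IsMonHom (j ≫ iB))
  haveI : Mono i := Over.mono_of_mono_left _
  obtain ⟨X₀, a₀, o₀, hX₀, hXp, -⟩ := BorelOps.exists_quotient_borel G iB hB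
  -- tori of G are conjugate into T₀
  have hinto : ∀ (T : Over (Spec (CommRingCat.of k))) [GrpObj T], Red.IsTorus T → ∀ (f : T ⟶ G) [IsMonHom f],
      ∃ (g : pk ⟶ G) (χ : T ⟶ T₀), χ ≫ AGF.conjBy g i = f := by
    intro T _ hT f _
    obtain ⟨_, _, hTa', _, hcm⟩ := AlgGrp33.IsogSub.torus_props hT
    haveI := hTa'
    have hsolv : Red.IsSolvableGrp T := ⟨1, fun X => by
      rw [derivedSeries_one, commutator_eq_bot_iff_center_eq_top, eq_top_iff]
      intro x _
      rw [Subgroup.mem_center_iff]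
      exact fun y => mul_comm y x⟩
    obtain ⟨g, φ, hφ⟩ := BorelConj.exists_conj_into iB hX₀ hsolv f
    haveI := BorelConj.isMonHom_conjBy g iB
    haveI := BorelConj.isClosedImmersion_conjBy g iB
    haveI : Mono (AGF.conjBy g iB) := Over.mono_of_mono_left _
    haveI : IsMonHom φ := AlgGrp79.isMonHom_of_forall _ fun X s t => by
      rw [← cancel_mono (AGF.conjBy g iB), MonObj.mul_comp _ _ (AGF.conjBy g iB), Category.assoc, Category.assoc,
        Category.assoc, hφ, MonObj.mul_comp]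
    obtain ⟨b, χ, hχ⟩ := hconj T hT φ
    refine ⟨g * (b ≫ iB), χ, ?_⟩
    rw [← hφ, ← hχ, BorelConj.comp_conjBy, BorelConj.comp_conjBy, BorelConj.comp_conjBy]
    show _ = AGF.conjBy g (((toUnit T ≫ b) * (χ ≫ j) * (toUnit T ≫ b)⁻¹) ≫ iB)
    rw [MonObj.mul_comp _ _ iB, MonObj.mul_comp _ _ iB, GrpObj.inv_comp, Category.assoc]
    show _ = AGF.conjBy g (AGF.conjBy (b ≫ iB) ((χ ≫ j) ≫ iB))
    rw [BorelConj.conjBy_conjBy, Category.assoc]
  have hmax : AGF.IsMaxTorus i := by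
    refine ⟨inferInstance, inferInstance, hT₀, fun T' _ j' _ _ f hT' hf => ?_⟩
    obtain ⟨g, χ, hχ⟩ := hinto T' hT' j'
    obtain ⟨_, _, _, _, _⟩ := AlgGrp33.IsogSub.torus_props hT'
    haveI : IsClosedImmersion j'.left := QuotSub.isClosedImmersion_of_mono j'
    haveI : IsClosedImmersion χ.left := by
      haveI := BorelConj.isClosedImmersion_conjBy g i
      haveI : IsClosedImmersion (χ.left ≫ (AGF.conjBy g i).left) := by rw [← Over.comp_left, hχ]; infer_instance
      exact IsClosedImmersion.of_comp χ.left (AGF.conjBy g i).left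
    haveI : IsClosedImmersion f.left := by
      haveI : IsClosedImmersion (f.left ≫ j'.left) := by rw [← Over.comp_left, hf]; infer_instance
      exact IsClosedImmersion.of_comp f.left j'.left
    haveI : IsClosedImmersion (f ≫ χ).left := inferInstanceAs (IsClosedImmersion (f.left ≫ χ.left))
    haveI := isIso_endo hT₀ (f ≫ χ)
    haveI : Mono χ := Over.mono_of_mono_left χ
    haveI : IsIso χ := ⟨inv (f ≫ χ) ≫ f, by rw [← cancel_mono χ]; simp, by simp⟩
    exact IsIso.of_isIso_comp_right f χ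
  -- normalising
  have hnorm : ∀ g : pk ⟶ G, (∀ s : pk ⟶ T₀, ∃ b : pk ⟶ B, g⁻¹ * (s ≫ i) * g = b ≫ iB) →
      ∃ b : pk ⟶ B, ∀ s : pk ⟶ T₀, ∃ s' : pk ⟶ T₀, (g * (b ≫ iB)) * (s ≫ i) * (g * (b ≫ iB))⁻¹ = s' ≫ i := by
    intro g hg
    have hc : ∀ (u : pk ⟶ T₀) (x : pk ⟶ G), u ≫ AGF.conjBy x i = x * (u ≫ i) * x⁻¹ := fun u x => by
      simp only [AGF.conjBy, MonObj.comp_mul, GrpObj.comp_inv, ← Category.assoc,
        toUnit_unique (u ≫ toUnit T₀) (𝟙 _), Category.id_comp]
    obtain ⟨l, hl⟩ := exists_lift_of_range_subset iB (AGF.conjBy g⁻¹ i)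
      (range_subset_of_pts _ iB.left.isClosedEmbedding.isClosed_range fun s => by
        obtain ⟨b, hb⟩ := hg s
        rw [hc, _root_.inv_inv, hb, Over.comp_left]
        exact ⟨_, rfl⟩)
    haveI := BorelConj.isMonHom_conjBy g⁻¹ i
    haveI : IsMonHom l := AlgGrp79.isMonHom_of_forall _ fun X s t => by
      rw [← cancel_mono iB, MonObj.mul_comp _ _ iB, Category.assoc, Category.assoc, Category.assoc, hl, MonObj.mul_comp]
    obtain ⟨b, φ, hφ⟩ := hconj T₀ hT₀ l
    have hkey : φ ≫ AGF.conjBy (g * (b ≫ iB)) i = i := by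
      have e : φ ≫ AGF.conjBy (b ≫ iB) i = AGF.conjBy g⁻¹ i := by
        rw [← hl, ← hφ]
        show φ ≫ ((toUnit T₀ ≫ b ≫ iB) * (j ≫ iB) * (toUnit T₀ ≫ b ≫ iB)⁻¹) =
          (φ ≫ ((toUnit T₀ ≫ b) * j * (toUnit T₀ ≫ b)⁻¹)) ≫ iB
        rw [Category.assoc, MonObj.mul_comp _ _ iB, MonObj.mul_comp _ _ iB, GrpObj.inv_comp, Category.assoc]
      rw [← BorelConj.conjBy_conjBy, BorelConj.comp_conjBy, e, BorelConj.conjBy_conjBy, mul_inv_cancel,
        BorelConj.conjBy_one]
    haveI : IsClosedImmersion φ.left := by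
      haveI := BorelConj.isClosedImmersion_conjBy (g * (b ≫ iB)) i
      haveI : IsClosedImmersion (φ.left ≫ (AGF.conjBy (g * (b ≫ iB)) i).left) := by
        rw [← Over.comp_left, hkey]; infer_instance
      exact IsClosedImmersion.of_comp φ.left (AGF.conjBy (g * (b ≫ iB)) i).left
    haveI := isIso_endo hT₀ φ
    refine ⟨b, fun s => ⟨s ≫ inv φ, ?_⟩⟩
    have h1 := (s ≫ inv φ) ≫= hkey
    rw [Category.assoc, IsIso.inv_hom_id_assoc, hc] at h1
    exact h1
  obtain ⟨A, _, _, ψ, _⟩ := exists_coord G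
  obtain ⟨D, _, _, ψT, _⟩ := exists_coord T₀
  haveI : Algebra.FiniteType k A := GMod80.finiteType ψ
  haveI : Algebra.FiniteType k A' := GMod80.finiteType ψB
  haveI : Algebra.FiniteType k D := GMod80.finiteType ψT
  haveI : IsDomain D := by
    haveI := Hopf35.TorDom.isDomain_tensor ψT hT₀ k
    exact (Algebra.TensorProduct.lid k D).symm.toMulEquiv.isDomain _
  have hD : HopfRep.IsDiagonalizable k D := by
    obtain ⟨hco, hprim⟩ := (Groth.Agent.S7979.result k D).1 (AlgGrp33.isDiagonalizable_of_isTorus ψT hT₀)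
    haveI := hco
    exact Comod33.Diag.isDiagonalizable_of_no_prim fun x hx => hprim x hx
  -- the centraliser
  have hcentB : ∀ p : pk ⟶ G, (∀ s : pk ⟶ T₀, p * (s ≫ i) = (s ≫ i) * p) → ∃ b : pk ⟶ B, b ≫ iB = p := by
    haveI : QuasiCompact G.hom := inferInstance
    haveI : QuasiSeparated G.hom := inferInstance
    obtain ⟨C, _, c, hc, hccl, -⟩ := (Groth.Agent.S3006.result _ G T₀ i inferInstance hT₀).1
    obtain ⟨hCs, _, hCc⟩ := CentTorus.centralizer_props G i hT₀ c hc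
    haveI := hCs
    haveI := hccl
    haveI := hCc
    obtain ⟨_, _, hciff⟩ := id hc
    haveI : IsAffine C.left := isAffine_of_isAffineHom c.left
    obtain ⟨t, ht⟩ := (hciff T₀ i).2 fun X' x h => by
      rw [← MonObj.mul_comp, ← MonObj.mul_comp, mul_comm]
    haveI : IsMonHom t := AlgGrp79.isMonHom_of_forall _ fun X s u => by
      rw [← cancel_mono c, MonObj.mul_comp _ _ c, Category.assoc, Category.assoc, Category.assoc, ht, MonObj.mul_comp]
    haveI : Mono t := mono_of_mono_fac ht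
    have htmax : AGF.IsMaxTorus t := by
      obtain ⟨_, _, _, hm⟩ := hmax
      refine ⟨inferInstance, inferInstance, hT₀, fun T' _ j' _ _ f hT' hf => ?_⟩
      exact hm T' (j' ≫ c) f hT' (by rw [← Category.assoc, hf, ht])
    obtain ⟨-, hCsolv⟩ := CartanNilp.pts_of_central C t htmax fun X g h => by
      rw [← cancel_mono c, MonObj.mul_comp, MonObj.mul_comp, Category.assoc h, ht]
      have := (hciff X (g ≫ c)).1 ⟨g, rfl⟩ X (𝟙 X) h
      rwa [Category.id_comp] at this
    obtain ⟨g, φ, hφ⟩ := BorelConj.exists_conj_into iB hX₀ hCsolv c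
    have hin : ∀ q : pk ⟶ G, (∀ s : pk ⟶ T₀, q * (s ≫ i) = (s ≫ i) * q) →
        ∃ b : pk ⟶ B, g⁻¹ * q * g = b ≫ iB := by
      intro q hq
      obtain ⟨z, hz⟩ := (hciff _ q).2 fun X x u => by
        rw [toUnit_unique x (toUnit X)]
        exact comm_of_pts i q hq X u
      refine ⟨z ≫ φ, ?_⟩
      rw [← hz, ← hφ]
      simp only [AGF.conjBy, MonObj.comp_mul, GrpObj.comp_inv, Category.assoc]
      simp only [← Category.assoc, toUnit_unique ((z ≫ φ) ≫ toUnit B) (𝟙 _), Category.id_comp]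
      group
    obtain ⟨b, hb⟩ := hnorm g fun s => hin _ fun s' => by
      rw [← MonObj.mul_comp, ← MonObj.mul_comp, mul_comm]
    intro p hp
    let n := g * (b ≫ iB)
    obtain ⟨b₁, hb₁⟩ := hin (n * p * n⁻¹) fun s => by
      obtain ⟨s₁, hs₁⟩ : ∃ s₁ : pk ⟶ T₀, n * (s₁ ≫ i) * n⁻¹ = s ≫ i := by
        let q : T₀ ⟶ G := AGF.conjBy n i
        obtain ⟨m, hm⟩ := exists_lift_of_range_subset i q
          (range_subset_of_pts _ i.left.isClosedEmbedding.isClosed_range fun u => by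
            obtain ⟨u', hu'⟩ := hb u
            have : u ≫ q = u' ≫ i := by
              rw [← hu']
              simp only [q, n, AGF.conjBy, MonObj.comp_mul, GrpObj.comp_inv, ← Category.assoc,
                toUnit_unique (u ≫ toUnit T₀) (𝟙 _), Category.id_comp]
            rw [this, Over.comp_left]
            exact ⟨_, rfl⟩)
        haveI : IsClosedImmersion m.left := by
          haveI := BorelConj.isClosedImmersion_conjBy n i
          haveI : IsClosedImmersion (m.left ≫ i.left) := by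
            rw [← Over.comp_left, hm]
            exact ‹IsClosedImmersion (AGF.conjBy n i).left›
          exact IsClosedImmersion.of_comp m.left i.left
        haveI := isIso_endo hT₀ m
        refine ⟨s ≫ inv m, ?_⟩
        have h1 := (s ≫ inv m) ≫= hm
        rw [Category.assoc, IsIso.inv_hom_id_assoc] at h1
        rw [h1]
        simp only [q, AGF.conjBy, MonObj.comp_mul, GrpObj.comp_inv, ← Category.assoc,
          toUnit_unique ((s ≫ inv m) ≫ toUnit T₀) (𝟙 _), Category.id_comp]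
      rw [← hs₁, show n * p * n⁻¹ * (n * (s₁ ≫ i) * n⁻¹) = n * (p * (s₁ ≫ i)) * n⁻¹ by group, hp]
      group
    refine ⟨b⁻¹ * b₁ * b, ?_⟩
    rw [MonObj.mul_comp _ _ iB, MonObj.mul_comp _ _ iB, GrpObj.inv_comp, ← hb₁]
    show (b ≫ iB)⁻¹ * (g⁻¹ * (g * (b ≫ iB) * p * (g * (b ≫ iB))⁻¹) * g) * (b ≫ iB) = p
    group
  refine ⟨T₀, inferInstance, i, j, rfl, hmax, hnorm, hcentB, ⟨A', inferInstance, inferInstance, ψB, inferInstance, hdec⟩,
    fun X a o hX => ?_⟩
  -- the regular point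
  haveI : Surjective (a.orbitMap o).left := hX.2.2.1
  haveI : LocallyOfFiniteType X.hom := hX.1
  let τ := pullBialg ψ ψT i
  have hev : ∀ s, ToriConj.ev ψT s ≫ i = ToriConj.ev ψ (HopfFlat.restrPts τ s) := CentTorus.ev_comp ψ ψT i
  have hevB : ∀ s, ToriConj.ev ψB s ≫ iB = ToriConj.ev ψ (HopfFlat.restrPts (pullBialg ψ ψB iB) s) :=
    CentTorus.ev_comp ψ ψB iB
  obtain ⟨V, _, _, cV, hV, v, hstab⟩ := FiniteFixed.exists_stab (pullBialg ψ ψB iB) (pull_surjective ψ ψB iB)
  letI cV' : HopfRep.Comod k D V := push τ.toCoalgHom cV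
  have hact : ∀ s : Conn.Pt k D, actHom k D V s = actHom k A V (HopfFlat.restrPts τ s) := fun s =>
    LinearMap.ext fun w => dact_push τ.toCoalgHom cV s.ofConv.toLinearMap w
  obtain ⟨t₀, ht₀⟩ := FiniteFixed.exists_regular hD V
  refine ⟨ToriConj.ev ψT t₀ ≫ j, ?_⟩
  obtain ⟨ℓ, N, -, -, hF, hdet⟩ := FiniteFixed.exists_finite_detect hD τ
  let m := ℓ ^ N
  have hreg : ∀ x ∈ {x : pk ⟶ X | lift ((ToriConj.ev ψT t₀ ≫ j) ≫ iB) x ≫ a.act = x},
      ∃ n : pk ⟶ G, n ≫ a.orbitMap o = x ∧ ∀ s : pk ⟶ T₀, ∃ s' : pk ⟶ T₀, n * (s ≫ i) * n⁻¹ = s' ≫ i := by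
    intro x hx
    obtain ⟨g, hg⟩ := BorelImage.exists_pt_lift (a.orbitMap o) x
    obtain ⟨gm, hgm⟩ := ToriConj.ev_surjective ψ g
    have e : g ≫ a.orbitMap o = (((ToriConj.ev ψT t₀ ≫ j) ≫ iB) * g) ≫ a.orbitMap o := by
      rw [AGF80.Orbit.comp_orbitMap_mul, hg]; exact hx.symm
    obtain ⟨h, hh⟩ := (QuotTrans.coset_iff hX _ _).1 e
    obtain ⟨h', hh'⟩ := ToriConj.ev_surjective ψB h
    rw [Category.assoc (ToriConj.ev ψT t₀) j iB, hev, ← hgm, ← hh', hevB, ← map_mul, ← map_mul] at hh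
    have hh2 : gm⁻¹ * HopfFlat.restrPts τ t₀ * gm = HopfFlat.restrPts (pullBialg ψ ψB iB) h' := by
      rw [_root_.mul_assoc, ← ToriConj.ev_injective ψ hh, inv_mul_cancel_left]
    obtain ⟨c, hc⟩ := (hstab _).1 ⟨h', hh2.symm⟩
    have hw : actHom k D V t₀ (actHom k A V gm v) = c • actHom k A V gm v := by
      have h1 := congrArg (actHom k A V gm) hc
      rw [map_smul, ← Module.End.mul_apply, ← map_mul, show gm * (gm⁻¹ * HopfFlat.restrPts τ t₀ * gm) =
        HopfFlat.restrPts τ t₀ * gm by group, map_mul, Module.End.mul_apply] at h1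
      rw [hact]
      exact h1
    obtain ⟨b, hb⟩ := hnorm g fun s => by
      obtain ⟨s', rfl⟩ := ToriConj.ev_surjective ψT s
      obtain ⟨c', hc'⟩ := ht₀ _ ⟨c, hw⟩ s'
      obtain ⟨r, hr⟩ := (hstab (gm⁻¹ * HopfFlat.restrPts τ s' * gm)).2 ⟨c', by
        rw [map_mul, map_mul, Module.End.mul_apply, Module.End.mul_apply, ← hact, hc', map_smul,
          ← Module.End.mul_apply, ← map_mul, inv_mul_cancel, map_one]
        rfl⟩
      refine ⟨ToriConj.ev ψB r, ?_⟩
      rw [hev, hevB, hr, ← hgm, map_mul, map_mul, map_inv]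
    refine ⟨g * (b ≫ iB), ?_, hb⟩
    rw [← hg]
    exact ((QuotTrans.coset_iff hX _ _).2 ⟨b, rfl⟩).symm
  choose! n hn hnN using hreg
  choose! act' hact' using hnN
  let F := {s : Conn.Pt k D | s ^ m = 1}
  haveI : Finite F := hF.to_subtype
  refine (Set.Finite.of_finite_image (f := fun x (s : F) => act' x (ToriConj.ev ψT s.1) ≫ i) ?_ ?_)
  · refine (Set.Finite.pi (t := fun _ : F => (fun s => ToriConj.ev ψT s ≫ i) '' F) fun _ => hF.image _).subset ?_
    rintro _ ⟨x, hx, rfl⟩ s -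
    obtain ⟨r, hr⟩ := ToriConj.ev_surjective ψT (act' x (ToriConj.ev ψT s.1))
    refine ⟨r, ?_, by show ToriConj.ev ψT r ≫ i = _; rw [hr]⟩
    show r ^ m = 1
    refine ToriConj.ev_injective ψT ?_
    have hinj : Function.Injective fun u : pk ⟶ T₀ => u ≫ i := fun u v h => (cancel_mono i).1 h
    refine hinj ?_
    let Φ : (pk ⟶ T₀) →* (pk ⟶ G) := MonoidHom.mk' (fun u => u ≫ i) fun u v => MonObj.mul_comp u v i
    show Φ (ToriConj.ev ψT (r ^ m)) = Φ (ToriConj.ev ψT 1)
    rw [map_pow, map_pow, map_one, map_one, hr]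
    show (act' x (ToriConj.ev ψT s.1) ≫ i) ^ m = 1
    rw [← hact' x hx, conj_pow,
      show (ToriConj.ev ψT s.1 ≫ i) ^ m = Φ (ToriConj.ev ψT s.1) ^ m from rfl, ← map_pow, ← map_pow,
      show s.1 ^ m = 1 from s.2, map_one, map_one, _root_.mul_one, mul_inv_cancel]
  · intro x hx y hy hxy
    obtain ⟨gm, hgm⟩ := ToriConj.ev_surjective ψ ((n y)⁻¹ * n x)
    have hcomm : ∀ s, HopfFlat.restrPts τ s * gm = gm * HopfFlat.restrPts τ s := hdet gm fun s hs => by
      refine ToriConj.ev_injective ψ ?_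
      rw [map_mul, map_mul, hgm, ← hev]
      have h1 := hact' x hx (ToriConj.ev ψT s)
      have h2 := hact' y hy (ToriConj.ev ψT s)
      have h3 : act' x (ToriConj.ev ψT s) ≫ i = act' y (ToriConj.ev ψT s) ≫ i := congrFun hxy ⟨s, hs⟩
      rw [← h1, ← h2] at h3
      calc (ToriConj.ev ψT s ≫ i) * ((n y)⁻¹ * n x)
          = (n y)⁻¹ * (n y * (ToriConj.ev ψT s ≫ i) * (n y)⁻¹) * n x := by group
        _ = (n y)⁻¹ * (n x * (ToriConj.ev ψT s ≫ i) * (n x)⁻¹) * n x := by rw [h3]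
        _ = (n y)⁻¹ * n x * (ToriConj.ev ψT s ≫ i) := by group
    obtain ⟨b, hb⟩ := hcentB ((n y)⁻¹ * n x) fun s => by
      obtain ⟨s', rfl⟩ := ToriConj.ev_surjective ψT s
      rw [hev, ← hgm, ← map_mul, ← map_mul, hcomm]
    rw [← hn x hx, ← hn y hy]
    exact ((QuotTrans.coset_iff hX _ _).2 ⟨b, by rw [hb, mul_inv_cancel_left]⟩).symm

end Groth.Agent.AlgGrp79.BorelTorus
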