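import Groth.Agent.AlgGrp79.Act
import Mathlib.GroupTheory.SemidirectProduct
import Mathlib.CategoryTheory.Monoidal.Cartesian.Grp

/-!
The semidirect product of group schemes attached to an action by automorphisms.
-/

set_option autoImplicit false
universe u

open CategoryTheory CategoryTheory.Limits MonoidalCategory CartesianMonoidalCategory MonObj GrpObj AlgebraicGeometry Opposite

noncomputable section

namespace Groth.Agent.AlgGrp79.SemiProd

variable {S : Scheme.{u}} {N G : Over S} [GrpObj N] [GrpObj G]

/-- an action by group automorphisms -/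
def IsAut (a : AlgGrp.Action G N) : Prop :=
  ∀ (T : Over S) (g : T ⟶ G) (h h' : T ⟶ N),
    lift g (h * h') ≫ a.act = (lift g h ≫ a.act) * (lift g h' ≫ a.act)

variable (a : AlgGrp.Action G N) (ha : IsAut a)

/-- the automorphism of points attached to a point -/
def toAut (T : Over S) : (T ⟶ G) →* MulAut (T ⟶ N) where
  toFun g :=
    { toFun := fun h => lift g h ≫ a.act
      invFun := fun h => lift g⁻¹ h ≫ a.act
      left_inv := fun h => inv_act_act a g h
      right_inv := fun h => act_inv_act a g h
      map_mul' := ha T g }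
  map_one' := MulEquiv.ext fun h => one_act' a h
  map_mul' g g' := MulEquiv.ext fun h => mul_act' a g g' h

/-- the functor of points -/
def ptsFunctor : (Over S)ᵒᵖ ⥤ GrpCat.{u} where
  obj T := GrpCat.of ((T.unop ⟶ N) ⋊[toAut a ha T.unop] (T.unop ⟶ G))
  map f := GrpCat.ofHom (MonoidHom.mk' (fun x => ⟨f.unop ≫ x.left, f.unop ≫ x.right⟩) fun x y => by
    refine SemidirectProduct.ext ?_ (MonObj.comp_mul _ _ _)
    simp only [SemidirectProduct.mul_left]
    rw [MonObj.comp_mul]
    show (f.unop ≫ x.left) * (f.unop ≫ lift x.right y.left ≫ a.act) = _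
    rw [comp_lift_act]
    rfl)
  map_id T := by
    ext x : 2
    refine SemidirectProduct.ext ?_ ?_
    · exact Category.id_comp _
    · exact Category.id_comp _
  map_comp f g := by
    ext x : 2
    refine SemidirectProduct.ext ?_ ?_
    · exact Category.assoc _ _ _
    · exact Category.assoc _ _ _

/-- the underlying scheme of the semidirect product -/
def SD (_a : AlgGrp.Action G N) : Over S := N ⊗ G

/-- the two projections -/
def prN : SD a ⟶ N := fst N G

/-- the projection to the quotient -/
def prG : SD a ⟶ G := snd N G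

/-- a point from two coordinates -/
def mk {T : Over S} (h : T ⟶ N) (g : T ⟶ G) : T ⟶ SD a := lift h g

@[simp] lemma mk_prN {T : Over S} (h : T ⟶ N) (g : T ⟶ G) : mk a h g ≫ prN a = h := lift_fst _ _

@[simp] lemma mk_prG {T : Over S} (h : T ⟶ N) (g : T ⟶ G) : mk a h g ≫ prG a = g := lift_snd _ _

lemma hom_ext' {T : Over S} {x y : T ⟶ SD a} (h1 : x ≫ prN a = y ≫ prN a) (h2 : x ≫ prG a = y ≫ prG a) : x = y :=
  CartesianMonoidalCategory.hom_ext _ _ h1 h2

/-- representability of the functor of points -/
def repBy : (ptsFunctor a ha ⋙ forget GrpCat).RepresentableBy (SD a) where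
  homEquiv {T} :=
    { toFun := fun p => (⟨p ≫ prN a, p ≫ prG a⟩ : (T ⟶ N) ⋊[toAut a ha T] (T ⟶ G))
      invFun := fun x => mk a (x : (T ⟶ N) ⋊[toAut a ha T] (T ⟶ G)).left (x : (T ⟶ N) ⋊[toAut a ha T] (T ⟶ G)).right
      left_inv := fun p => hom_ext' a (mk_prN a _ _) (mk_prG a _ _)
      right_inv := fun x => SemidirectProduct.ext (mk_prN a _ _) (mk_prG a _ _) }
  homEquiv_comp f g := SemidirectProduct.ext (Category.assoc _ _ _) (Category.assoc _ _ _)

/-- the group scheme structure -/
@[reducible] def grpObj : GrpObj (SD a) := GrpObj.ofRepresentableBy _ (ptsFunctor a ha) (repBy a ha)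

lemma mul_pts {T : Over S} (x y : T ⟶ SD a) :
    letI := grpObj a ha
    (x * y) ≫ prN a = (x ≫ prN a) * (lift (x ≫ prG a) (y ≫ prN a) ≫ a.act) ∧
      (x * y) ≫ prG a = (x ≫ prG a) * (y ≫ prG a) := by
  letI := grpObj a ha
  have h := ((yonedaMonObjIsoOfRepresentableBy (SD a) (ptsFunctor a ha ⋙ forget₂ GrpCat MonCat) (repBy a ha)).hom.app
    (op T)).hom.map_mul x y
  exact ⟨congrArg SemidirectProduct.left h, congrArg SemidirectProduct.right h⟩

/-- the kernel inclusion -/
def incl : N ⟶ SD a := mk a (𝟙 N) 1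

theorem facts :
    letI := grpObj a ha
    IsMonHom (prG a) ∧ IsMonHom (incl a) ∧ AlgGrp.IsKernel (incl a) (prG a) := by
  letI := grpObj a ha
  refine ⟨isMonHom_of_forall _ fun T x y => (mul_pts a ha x y).2, isMonHom_of_forall _ fun T x y => ?_, ?_⟩
  · obtain ⟨h1, h2⟩ := mul_pts a ha (x ≫ incl a) (y ≫ incl a)
    refine hom_ext' a ?_ ?_
    · rw [h1]
      simp only [incl, Category.assoc, mk_prN, mk_prG, Category.comp_id, MonObj.comp_one, one_act']
    · rw [h2]
      simp only [incl, Category.assoc, mk_prG, MonObj.comp_one, _root_.mul_one]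
  · have hfst : incl a ≫ prN a = 𝟙 N := mk_prN a _ _
    have hsnd : incl a ≫ prG a = 1 := mk_prG a _ _
    have hw : incl a ≫ prG a = toUnit N ≫ η[G] := hsnd.trans one_def'
    refine IsPullback.of_isLimit (PullbackCone.IsLimit.mk hw (fun s => s.fst ≫ prN a)
      (fun s => ?_) (fun s => toUnit_unique _ _) fun s m hm _ => ?_)
    · refine hom_ext' a ?_ ?_
      · rw [Category.assoc, Category.assoc, hfst, Category.comp_id]
      · rw [Category.assoc, Category.assoc, hsnd, MonObj.comp_one, MonObj.comp_one, s.condition,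
          toUnit_unique s.snd (toUnit _), one_def']
    · rw [← hm, Category.assoc, hfst, Category.comp_id]

lemma commute_iff {T : Over S} (h : T ⟶ N) (g : T ⟶ G)
    (hc : letI := grpObj a ha; (h ≫ incl a) * mk a 1 g = mk a 1 g * (h ≫ incl a)) : lift g h ≫ a.act = h := by
  letI := grpObj a ha
  have := congr($hc ≫ prN a)
  rw [(mul_pts a ha _ _).1, (mul_pts a ha _ _).1] at this
  simp only [incl, Category.assoc, mk_prN, mk_prG, Category.comp_id, MonObj.comp_one, one_act', _root_.mul_one,
    _root_.one_mul] at this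
  exact this.symm

end Groth.Agent.AlgGrp79.SemiProd
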