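import Groth.Agent.AlgGrp79.Orbit
import Groth.Agent.AlgGrp79.Image
import Groth.Agent.AlgGrp79.RosUnits
import Groth.Agent.AlgGrp79.RatDense
import Groth.Agent.AlgGrp79.PtsLemmas
import Groth.Agent.FBase64.Geometric
import Groth.Agent.Var76.FibreBound

set_option autoImplicit false
universe u v w

open CategoryTheory MonoidalCategory CartesianMonoidalCategory MonObj AlgebraicGeometry CategoryTheory.Limits
open scoped commutatorElement TensorProduct nonZeroDivisors

namespace Groth.Agent.AlgGrp79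

section GenSub
variable {k : Type u} [Field k] [IsAlgClosed k]

lemma irreducible_prod (X Y : Over (Spec (CommRingCat.of k))) [IrreducibleSpace X.left] [IrreducibleSpace Y.left] : IrreducibleSpace (X ⊗ Y).left := by
  have hid : IsIso (Spec.map (CommRingCat.ofHom (RingHom.id k))) := inferInstanceAs (IsIso (Spec.map (𝟙 (CommRingCat.of k))))
  have : IsIso (pullback.fst X.hom (Spec.map (CommRingCat.ofHom (RingHom.id k)))) :=
    MorphismProperty.pullback_fst (P := MorphismProperty.isomorphisms Scheme.{u}) _ _ hid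
  let e := (asIso (pullback.fst X.hom (Spec.map (CommRingCat.ofHom (RingHom.id k))))).inv.homeomorph
  have : IrreducibleSpace ↥(pullback X.hom (Spec.map (CommRingCat.ofHom (RingHom.id k)))) := by
    have h3 : IsIrreducible (Set.univ : Set ↥(pullback X.hom (Spec.map (CommRingCat.ofHom (RingHom.id k))))) := by
      rw [← e.surjective.range_eq, ← Set.image_univ]
      exact (IrreducibleSpace.isIrreducible_univ _).image e e.continuous.continuousOn
    exact { isPreirreducible_univ := h3.2, toNonempty := ⟨h3.1.some⟩ }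
  have : GeometricallyIrreducible X.hom := FBase64.geometricallyIrreducible_of_sepClosed X.hom (RingHom.id k)
  exact inferInstanceAs (IrreducibleSpace ↥(pullback X.hom Y.hom))

lemma lft_prod (X Y : Over (Spec (CommRingCat.of k))) [LocallyOfFiniteType X.hom] [LocallyOfFiniteType Y.hom] : LocallyOfFiniteType (X ⊗ Y).hom := by
  have : LocallyOfFiniteType (fst X Y).left := MorphismProperty.pullback_fst (P := @LocallyOfFiniteType) _ _ inferInstance
  rw [← Over.w (fst X Y)]; infer_instance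

lemma qc_prod (X Y : Over (Spec (CommRingCat.of k))) [QuasiCompact X.hom] [QuasiCompact Y.hom] : QuasiCompact (X ⊗ Y).hom := by
  have : QuasiCompact (fst X Y).left := MorphismProperty.pullback_fst (P := @QuasiCompact) _ _ inferInstance
  rw [← Over.w (fst X Y)]; infer_instance

/-- An irreducible reduced variety with a map into a group. -/
structure Fam (G : Over (Spec (CommRingCat.of k))) [GrpObj G] where
  X : Over (Spec (CommRingCat.of k))
  f : X ⟶ G
  x : (𝟙_ (Over (Spec (CommRingCat.of k)))) ⟶ X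
  hx : x ≫ f = 1
  red : IsReduced X.left
  irr : IrreducibleSpace X.left
  lft : LocallyOfFiniteType X.hom
  qc : QuasiCompact X.hom

variable {G : Over (Spec (CommRingCat.of k))} [GrpObj G]

/-- The product of two families. -/
noncomputable def Fam.mul (A B : Fam G) : Fam G where
  X := A.X ⊗ B.X
  f := (fst _ _ ≫ A.f) * (snd _ _ ≫ B.f)
  x := lift A.x B.x
  hx := by rw [MonObj.comp_mul, lift_fst_assoc, lift_snd_assoc, A.hx, B.hx, _root_.one_mul]
  red := by
    have := A.red; have := B.red; have := A.lft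
    exact reduced_prod A.X B.X
  irr := by
    have := A.irr; have := B.irr
    exact irreducible_prod A.X B.X
  lft := by
    have := A.lft; have := B.lft
    exact lft_prod A.X B.X
  qc := by
    have := A.qc; have := B.qc
    exact qc_prod A.X B.X

/-- The inverse of a family. -/
noncomputable def Fam.inv (A : Fam G) : Fam G :=
  { A with f := A.f⁻¹, hx := by rw [GrpObj.comp_inv, A.hx, inv_one] }

/-- The products of `n + 1` differences of a family. -/
noncomputable def Fam.word (A : Fam G) : ℕ → Fam G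
  | 0 => A.mul A.inv
  | n + 1 => (A.word n).mul (A.mul A.inv)

/-- The rational points in the image of a family. -/
def Fam.pts (A : Fam G) : Set ((𝟙_ (Over (Spec (CommRingCat.of k)))) ⟶ G) := Set.range fun p : (𝟙_ (Over (Spec (CommRingCat.of k)))) ⟶ A.X => p ≫ A.f

lemma Fam.mem_mul_pts (A B : Fam G) (a : (𝟙_ (Over (Spec (CommRingCat.of k)))) ⟶ G) : a ∈ (A.mul B).pts ↔ ∃ b ∈ A.pts, ∃ c ∈ B.pts, b * c = a := by
  constructor
  · rintro ⟨p, rfl⟩
    exact ⟨_, ⟨p ≫ fst _ _, rfl⟩, _, ⟨p ≫ snd _ _, rfl⟩, by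
      simp only [Category.assoc]
      exact (MonObj.comp_mul _ _ _).symm⟩
  · rintro ⟨_, ⟨p, rfl⟩, _, ⟨q, rfl⟩, rfl⟩
    refine ⟨lift p q, ?_⟩
    show lift p q ≫ ((fst _ _ ≫ A.f) * (snd _ _ ≫ B.f)) = _
    simp [MonObj.comp_mul]

lemma Fam.one_mem (A : Fam G) : (1 : (𝟙_ (Over (Spec (CommRingCat.of k)))) ⟶ G) ∈ A.pts := ⟨A.x, A.hx⟩

lemma Fam.word_mono (A : Fam G) {n : ℕ} {a : (𝟙_ (Over (Spec (CommRingCat.of k)))) ⟶ G} (h : a ∈ (A.word n).pts) : a ∈ (A.word (n + 1)).pts :=
  (Fam.mem_mul_pts _ _ a).2 ⟨a, h, 1, Fam.one_mem _, _root_.mul_one a⟩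

/-- The union of the rational points of all words. -/
def Fam.subgroup (A : Fam G) : Subgroup ((𝟙_ (Over (Spec (CommRingCat.of k)))) ⟶ G) where
  carrier := {a | ∃ n, a ∈ (A.word n).pts}
  one_mem' := ⟨0, Fam.one_mem _⟩
  mul_mem' := by
    rintro a b ⟨n, ha⟩ ⟨m, hb⟩
    have main : ∀ (m : ℕ) (b : (𝟙_ (Over (Spec (CommRingCat.of k)))) ⟶ G), b ∈ (A.word m).pts → ∃ L, a * b ∈ (A.word L).pts := by
      intro m
      induction m with
      | zero => exact fun b hb => ⟨n + 1, (Fam.mem_mul_pts _ _ _).2 ⟨a, ha, b, hb, rfl⟩⟩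
      | succ m ih =>
        intro b hb
        obtain ⟨b₁, hb₁, b₂, hb₂, rfl⟩ := (Fam.mem_mul_pts _ _ _).1 hb
        obtain ⟨L, hL⟩ := ih b₁ hb₁
        exact ⟨L + 1, (Fam.mem_mul_pts _ _ _).2 ⟨_, hL, b₂, hb₂, _root_.mul_assoc a b₁ b₂⟩⟩
    exact main m b hb
  inv_mem' := by
    rintro a ⟨n, ha⟩
    have h0 : ∀ b ∈ (A.mul A.inv).pts, b⁻¹ ∈ (A.mul A.inv).pts := by
      rintro b hb
      obtain ⟨_, ⟨p, rfl⟩, _, ⟨q, rfl⟩, rfl⟩ := (Fam.mem_mul_pts _ _ _).1 hb
      refine (Fam.mem_mul_pts _ _ _).2 ⟨q ≫ A.f, ⟨q, rfl⟩, p ≫ A.f⁻¹, ⟨p, rfl⟩, ?_⟩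
      show q ≫ A.f * p ≫ A.f⁻¹ = (p ≫ A.f * q ≫ A.f⁻¹)⁻¹
      simp [GrpObj.comp_inv]
    induction n generalizing a with
    | zero => exact ⟨0, h0 a ha⟩
    | succ n ih =>
      obtain ⟨b, hb, c, hc, rfl⟩ := (Fam.mem_mul_pts _ _ _).1 ha
      obtain ⟨L, hL⟩ := ih hb
      have hc' : ∀ (m : ℕ) (z : (𝟙_ (Over (Spec (CommRingCat.of k)))) ⟶ G), z ∈ (A.word m).pts → ∃ L, c⁻¹ * z ∈ (A.word L).pts := by
        intro m
        induction m with
        | zero => exact fun z hz => ⟨1, (Fam.mem_mul_pts _ _ _).2 ⟨_, h0 c hc, z, hz, rfl⟩⟩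
        | succ m ihm =>
          intro z hz
          obtain ⟨z₁, hz₁, z₂, hz₂, rfl⟩ := (Fam.mem_mul_pts _ _ _).1 hz
          obtain ⟨L, hL⟩ := ihm z₁ hz₁
          exact ⟨L + 1, (Fam.mem_mul_pts _ _ _).2 ⟨_, hL, z₂, hz₂, _root_.mul_assoc c⁻¹ z₁ z₂⟩⟩
      rw [mul_inv_rev]
      exact hc' L _ hL

lemma Fam.subgroup_eq_closure (A : Fam G) : A.subgroup = Subgroup.closure A.pts := by
  refine le_antisymm ?_ ((Subgroup.closure_le _).2 ?_)
  · rintro a ⟨n, ha⟩
    have h0 : ∀ b ∈ (A.mul A.inv).pts, b ∈ Subgroup.closure A.pts := by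
      intro b hb
      obtain ⟨_, ⟨p, rfl⟩, _, ⟨q, rfl⟩, rfl⟩ := (Fam.mem_mul_pts _ _ _).1 hb
      refine mul_mem (Subgroup.subset_closure ⟨p, rfl⟩) ?_
      show q ≫ A.f⁻¹ ∈ _
      rw [GrpObj.comp_inv]
      exact inv_mem (Subgroup.subset_closure ⟨q, rfl⟩)
    induction n generalizing a with
    | zero => exact h0 a ha
    | succ n ih =>
      obtain ⟨b, hb, c, hc, rfl⟩ := (Fam.mem_mul_pts _ _ _).1 ha
      exact mul_mem (ih hb) (h0 c hc)
  · rintro _ ⟨p, rfl⟩
    exact ⟨0, (Fam.mem_mul_pts _ _ _).2 ⟨_, ⟨p, rfl⟩, 1, Fam.one_mem _, _root_.mul_one _⟩⟩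

lemma ptVal_eq {X : Over (Spec (CommRingCat.of k))} [LocallyOfFiniteType X.hom] (x : X.left) (hx : IsClosed {x}) :
    ∃ p : (𝟙_ (Over (Spec (CommRingCat.of k)))) ⟶ X, p.left (IsLocalRing.closedPoint k) = x :=
  ⟨Var76.ActTrans.sec X x hx, Var76.ActTrans.sec_apply X x hx _⟩

lemma pt_ext {X : Over (Spec (CommRingCat.of k))} [LocallyOfFiniteType X.hom] (p q : (𝟙_ (Over (Spec (CommRingCat.of k)))) ⟶ X)
    (h : p.left (IsLocalRing.closedPoint k) = q.left (IsLocalRing.closedPoint k)) : p = q := by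
  ext : 1
  exact congrArg Subtype.val ((pointEquivClosedPoint X.hom).injective (a₁ := ⟨p.left, Over.w p⟩) (a₂ := ⟨q.left, Over.w q⟩) (Subtype.ext h))

/-- A map from a variety all of whose rational points go into a closed set goes into it. -/
lemma range_subset_of_pts {X Y : Over (Spec (CommRingCat.of k))} [LocallyOfFiniteType X.hom] (f : X ⟶ Y) {Z : Set Y.left} (hZ : IsClosed Z)
    (h : ∀ p : (𝟙_ (Over (Spec (CommRingCat.of k)))) ⟶ X, (p ≫ f).left (IsLocalRing.closedPoint k) ∈ Z) : Set.range f.left ⊆ Z := by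
  rintro _ ⟨x, rfl⟩
  by_contra hx
  have : JacobsonSpace X.left := LocallyOfFiniteType.jacobsonSpace X.hom
  obtain ⟨z, hz, hzc⟩ := nonempty_inter_closedPoints (Z := f.left ⁻¹' Zᶜ) ⟨x, hx⟩
    (hZ.isOpen_compl.preimage f.left.continuous).isLocallyClosed
  obtain ⟨p, hp⟩ := ptVal_eq z hzc
  exact hz (by rw [← hp, ← Scheme.Hom.comp_apply, ← Over.comp_left]; exact h p)

/-- The subgroup of rational points generated by an irreducible family is closed, connected and smooth. -/
theorem exists_generated [LocallyOfFiniteType G.hom] [QuasiCompact G.hom] (A : Fam G) :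
    ∃ (D : Over (Spec (CommRingCat.of k))) (_ : GrpObj D) (i : D ⟶ G), IsMonHom i ∧ IsClosedImmersion i.left ∧ Smooth D.hom ∧
      IrreducibleSpace D.left ∧ (Set.range fun d : (𝟙_ (Over (Spec (CommRingCat.of k)))) ⟶ D => d ≫ i) = (Subgroup.closure A.pts : Set ((𝟙_ (Over (Spec (CommRingCat.of k)))) ⟶ G)) := by
  classical
  rw [← Fam.subgroup_eq_closure]
  let W := fun n => A.word n
  have := fun n => (W n).lft
  have := fun n => (W n).qc
  have := fun n => (W n).irr
  let gen : ℕ → G.left := fun n => (W n).f.left (genericPoint (W n).X.left)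
  let Z : ℕ → Set G.left := fun n => closure {gen n}
  have hZr : ∀ n, closure (Set.range (W n).f.left) = Z n := fun n => by
    refine le_antisymm (closure_minimal ?_ isClosed_closure) (closure_mono (Set.singleton_subset_iff.2 ⟨_, rfl⟩))
    rintro _ ⟨q, rfl⟩
    exact specializes_iff_mem_closure.1 (((genericPoint_spec (W n).X.left).specializes trivial).map (W n).f.left.continuous)
  have hmono : ∀ n, gen (n + 1) ⤳ gen n := by
    intro n
    rw [specializes_iff_mem_closure, show closure {gen (n + 1)} = Z (n + 1) from rfl, ← hZr]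
    refine subset_closure ?_
    let c : (W n).X ⟶ (W (n + 1)).X := lift (𝟙 _) (toUnit _ ≫ (A.mul A.inv).x)
    have hc : c ≫ (W (n + 1)).f = (W n).f := by
      show lift (𝟙 _) (toUnit _ ≫ (A.mul A.inv).x) ≫ ((fst _ _ ≫ (W n).f) * (snd _ _ ≫ (A.mul A.inv).f)) = _
      rw [MonObj.comp_mul, lift_fst_assoc, lift_snd_assoc, Category.id_comp, Category.assoc, (A.mul A.inv).hx,
        MonObj.comp_one, _root_.mul_one]
    exact ⟨c.left (genericPoint (W n).X.left), by rw [← Scheme.Hom.comp_apply, ← Over.comp_left, hc]⟩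
  have hmono' : ∀ n m, n ≤ m → gen m ⤳ gen n := by
    intro n m h
    induction h with
    | refl => exact specializes_rfl
    | step _ ih => exact (hmono _).trans ih
  have := Var76.FibreBound.noetherianSpace G.hom
  have hb : BddAbove (Set.range fun n => WC97.tdegN G.hom (gen n)) := by
    obtain ⟨z, -, hz⟩ := @Var76.FibreBound.exists_tdegN_eq_dim k _ G.left G.hom _ ⟨gen 0⟩ _
    refine ⟨WC97.tdegN G.hom z, ?_⟩
    rintro _ ⟨n, rfl⟩
    exact_mod_cast (Var76.FibreBound.tdegN_le_dim G.hom (gen n)).trans hz.le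
  obtain ⟨N, hN⟩ := Nat.sSup_mem (Set.range_nonempty _) hb
  simp only at hN
  have hstab : ∀ n, Z n ⊆ Z N := by
    intro n
    have h1 := hmono' N (max N n) (le_max_left _ _)
    have h2 : gen (max N n) = gen N :=
      Var76.FibreBound.eq_of_tdegN_le G.hom h1 (hN ▸ le_csSup hb ⟨_, rfl⟩)
    exact closure_minimal (Set.singleton_subset_iff.2 (specializes_iff_mem_closure.1 (h2 ▸ hmono' n (max N n) (le_max_right _ _)))) isClosed_closure
  have hSZ : ∀ a ∈ A.subgroup, a.left (IsLocalRing.closedPoint k) ∈ Z N := by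
    rintro a ⟨n, p, rfl⟩
    refine hstab n ?_
    rw [← hZr]
    exact subset_closure ⟨p.left (IsLocalRing.closedPoint k), rfl⟩
  have hleft : ∀ a ∈ A.subgroup, ∀ z : (𝟙_ (Over (Spec (CommRingCat.of k)))) ⟶ G, z.left (IsLocalRing.closedPoint k) ∈ Z N →
      (a * z).left (IsLocalRing.closedPoint k) ∈ Z N := by
    intro a ha z hz
    let L : G ⟶ G := (toUnit G ≫ a) * 𝟙 G
    have hL : ∀ y : (𝟙_ (Over (Spec (CommRingCat.of k)))) ⟶ G, y ≫ L = a * y := by
      intro y
      simp [L, MonObj.comp_mul, toUnit_unique (y ≫ toUnit G) (𝟙 _)]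
    have h1 : Set.range ((W N).f ≫ L).left ⊆ Z N := range_subset_of_pts _ isClosed_closure fun p => by
      rw [← Category.assoc, hL]
      exact hSZ _ (mul_mem ha ⟨N, p, rfl⟩)
    have h2 : L.left '' Z N ⊆ Z N := by
      rw [← hZr]
      refine (image_closure_subset_closure_image L.left.continuous).trans (closure_minimal ?_ isClosed_closure)
      rw [← Set.range_comp]
      rintro _ ⟨q, rfl⟩
      rw [hZr]
      exact h1 ⟨q, rfl⟩
    refine h2 ⟨_, hz, ?_⟩
    rw [← Scheme.Hom.comp_apply, ← Over.comp_left, hL]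
  have hZS : ∀ z : (𝟙_ (Over (Spec (CommRingCat.of k)))) ⟶ G, z.left (IsLocalRing.closedPoint k) ∈ Z N → z ∈ A.subgroup := by
    intro z hz
    let R : G ≅ G :=
      { hom := 𝟙 G * (toUnit G ≫ z)
        inv := 𝟙 G * (toUnit G ≫ z)⁻¹
        hom_inv_id := by simp [MonObj.comp_mul, GrpObj.comp_inv, toUnit_unique (_ ≫ toUnit G) (toUnit G)]
        inv_hom_id := by simp [MonObj.comp_mul, GrpObj.comp_inv, toUnit_unique (_ ≫ toUnit G) (toUnit G)] }
    have hR : ∀ y : (𝟙_ (Over (Spec (CommRingCat.of k)))) ⟶ G, y ≫ R.hom = y * z := by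
      intro y
      simp [R, MonObj.comp_mul, toUnit_unique (y ≫ toUnit G) (𝟙 _)]
    have hRi : IsIso R.hom.left := ((Over.forget _).mapIso R).isIso_hom
    have h1 : Set.range ((W N).f ≫ R.hom).left ⊆ Z N := range_subset_of_pts _ isClosed_closure fun p => by
      rw [← Category.assoc, hR]
      exact hleft _ ⟨N, p, rfl⟩ z hz
    have hspec : gen N ⤳ R.hom.left (gen N) := specializes_iff_mem_closure.2 (h1 ⟨genericPoint (W N).X.left, rfl⟩)
    have hgen : R.hom.left (gen N) = gen N := by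
      refine (Var76.FibreBound.eq_of_tdegN_le G.hom hspec (le_of_eq ?_)).symm
      have e1 := WC97.topologicalKrullDim_closure G.hom (gen N)
      have e2 := WC97.topologicalKrullDim_closure G.hom (R.hom.left (gen N))
      rw [← Set.image_singleton, R.hom.left.isClosedEmbedding.closure_image_eq] at e2
      have e3 := IsHomeomorph.topologicalKrullDim_eq _
        (R.hom.left.isClosedEmbedding.isEmbedding.homeomorphImage (closure {gen N})).isHomeomorph
      have e4 := e1.symm.trans (e3.trans e2)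
      exact_mod_cast e4
    have hlfp := lfp_left (W N).f
    have hqc : QuasiCompact (W N).f.left := by
      have := Var76.FibreBound.noetherianSpace (W N).X.hom
      exact ⟨fun V _ _ => TopologicalSpace.NoetherianSpace.isCompact _⟩
    have hconN : Topology.IsConstructible (Set.range (W N).f.left) := by
      have := Var76.FibreBound.noetherianSpace (W N).X.hom
      have : IsLocallyNoetherian G.left := LocallyOfFiniteType.isLocallyNoetherian G.hom
      have : LocallyOfFiniteType (W N).f.left := inferInstance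
      rw [← Set.image_univ]
      exact Var76.FibreBound.isConstructible_image (W N).f.left isOpen_univ
    obtain ⟨O, hO, hgO, hsub⟩ := Var76.FibreBound.exists_nhd_inter_closure (gen N) hconN
    replace hsub : O ∩ Z N ⊆ Set.range (W N).f.left := hsub.resolve_right fun h =>
      h ⟨hgO, subset_closure rfl⟩ ⟨genericPoint (W N).X.left, rfl⟩
    have : JacobsonSpace G.left := LocallyOfFiniteType.jacobsonSpace G.hom
    obtain ⟨w, ⟨⟨hwR, hwO⟩, hwZ⟩, hwc⟩ := nonempty_inter_closedPoints (Z := (R.hom.left ⁻¹' O ∩ O) ∩ Z N)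
      ⟨gen N, ⟨show R.hom.left (gen N) ∈ O from hgen.symm ▸ hgO, hgO⟩, subset_closure rfl⟩
      (((hO.preimage R.hom.left.continuous).inter hO).isLocallyClosed.inter isClosed_closure.isLocallyClosed)
    obtain ⟨p, hp⟩ := ptVal_eq w hwc
    have hmem : ∀ q : (𝟙_ (Over (Spec (CommRingCat.of k)))) ⟶ G, q.left (IsLocalRing.closedPoint k) ∈ O ∩ Z N → q ∈ A.subgroup := by
      intro q hq
      obtain ⟨x, hx⟩ := hsub hq
      have : JacobsonSpace (W N).X.left := LocallyOfFiniteType.jacobsonSpace (W N).X.hom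
      obtain ⟨x', hx', hxc⟩ := nonempty_inter_closedPoints (Z := (W N).f.left ⁻¹' {q.left (IsLocalRing.closedPoint k)})
        ⟨x, hx⟩ ((rat_isClosed q).preimage (W N).f.left.continuous).isLocallyClosed
      obtain ⟨r, hr⟩ := ptVal_eq x' hxc
      refine ⟨N, r, pt_ext _ _ ?_⟩
      rw [Over.comp_left, Scheme.Hom.comp_apply, hr]
      exact hx'
    have hp1 : p ∈ A.subgroup := hmem p ⟨hp ▸ hwO, hp ▸ hwZ⟩
    have hp2 : p * z ∈ A.subgroup := hmem _ ⟨by
      rw [← hR, Over.comp_left, Scheme.Hom.comp_apply, hp]; exact hwR, hleft p hp1 z hz⟩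
    simpa using mul_mem (inv_mem hp1) hp2
  -- the reduced subgroup scheme
  have := (W N).red
  have : QuasiCompact (W N).f.left := by
    have := Var76.FibreBound.noetherianSpace (W N).X.hom
    exact ⟨fun V _ _ => TopologicalSpace.NoetherianSpace.isCompact _⟩
  let D : Over (Spec (CommRingCat.of k)) := Over.mk ((W N).f.left.imageι ≫ G.hom)
  let i : D ⟶ G := Over.homMk (W N).f.left.imageι rfl
  have hci : IsClosedImmersion i.left := inferInstanceAs (IsClosedImmersion (W N).f.left.imageι)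
  have hdom := schDominant_toImage (W N).f.left
  have hDred : IsReduced D.left := IsSchemeTheoreticallyDominant.isReduced (W N).f.left.toImage
  have hrange : Set.range i.left = Z N := by
    rw [← hZr]
    show Set.range ((W N).f.left.ker.subschemeι) = _
    rw [Scheme.IdealSheafData.range_subschemeι, Scheme.Hom.support_ker]
  have : Mono i := Over.mono_of_mono_left i
  have : LocallyOfFiniteType D.hom := inferInstanceAs (LocallyOfFiniteType ((W N).f.left.imageι ≫ G.hom))
  have hirr : IrreducibleSpace D.left := by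
    have := (W N).irr
    have h1 : IsIrreducible (Set.univ : Set D.left) := by
      have h := ((IrreducibleSpace.isIrreducible_univ (W N).X.left).image _ (W N).f.left.toImage.continuous.continuousOn).closure
      rwa [Set.image_univ, (W N).f.left.toImage.denseRange.closure_range] at h
    exact { isPreirreducible_univ := h1.2, toNonempty := ⟨h1.1.some⟩ }
  have hpts : ∀ z : (𝟙_ (Over (Spec (CommRingCat.of k)))) ⟶ G, z ∈ A.subgroup ↔ ∃ d : (𝟙_ (Over (Spec (CommRingCat.of k)))) ⟶ D, d ≫ i = z := by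
    intro z
    constructor
    · intro hz
      have : IsReduced ((𝟙_ (Over (Spec (CommRingCat.of k))))).left := inferInstanceAs (IsReduced (Spec (CommRingCat.of k)))
      refine exists_lift_of_range_subset i z ?_
      rintro _ ⟨q, rfl⟩
      rw [hrange, Subsingleton.elim (α := PrimeSpectrum k) q (IsLocalRing.closedPoint k)]
      exact hSZ z hz
    · rintro ⟨d, rfl⟩
      refine hZS _ ?_
      rw [← hrange]
      exact ⟨_, rfl⟩
  have h1 : ∃ e : (𝟙_ (Over (Spec (CommRingCat.of k)))) ⟶ D, e ≫ i = η[G] := (hpts _).1 (by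
    have h := A.subgroup.one_mem
    rwa [Hom.one_def, toUnit_unique (toUnit (𝟙_ (Over (Spec (CommRingCat.of k))))) (𝟙 _), Category.id_comp] at h)
  have h2 : ∀ (T : Over (Spec (CommRingCat.of k))) (k₁ k₂ : T ⟶ D), ∃ k₃ : T ⟶ D, k₃ ≫ i = (k₁ ≫ i)⁻¹ * (k₂ ≫ i) := by
    have : IsReduced (D ⊗ D).left := reduced_prod D D
    have : LocallyOfFiniteType (D ⊗ D).hom := lft_prod D D
    obtain ⟨μD, hμD⟩ := exists_lift_of_range_subset i ((fst D D ≫ i)⁻¹ * (snd D D ≫ i))
      (range_subset_of_pts _ (i.left.isClosedEmbedding.isClosed_range) fun p => by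
        have hz := mul_mem (inv_mem ((hpts _).2 ⟨p ≫ fst _ _, rfl⟩)) ((hpts _).2 ⟨p ≫ snd _ _, rfl⟩)
        obtain ⟨d, hd⟩ := (hpts _).1 hz
        simp only [Category.assoc] at hd
        rw [MonObj.comp_mul, GrpObj.comp_inv, ← hd]
        exact ⟨_, rfl⟩)
    intro T k₁ k₂
    exact ⟨lift k₁ k₂ ≫ μD, by rw [Category.assoc, hμD, MonObj.comp_mul, GrpObj.comp_inv, lift_fst_assoc, lift_snd_assoc]⟩
  obtain ⟨hgrp, hhom⟩ := exists_grpObj_closed i h1 h2
  let : GrpObj (Over.mk D.hom) := hgrp
  have : GeometricallyReduced D.hom := by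
    have : IsReduced (FBase.bc D.hom (AlgebraicClosure k)) := by
      have hiso : IsIso (Spec.map (CommRingCat.ofHom (algebraMap k (AlgebraicClosure k)))) := by
        rw [isIso_SpecMap_iff]
        exact IsAlgClosed.algebraMap_bijective_of_isIntegral
      have : IsIso (pullback.fst D.hom (Spec.map (CommRingCat.ofHom (algebraMap k (AlgebraicClosure k))))) :=
        MorphismProperty.pullback_fst (P := MorphismProperty.isomorphisms Scheme.{u}) _ _ hiso
      exact @isReduced_of_isOpenImmersion _ _ (pullback.fst D.hom (Spec.map (CommRingCat.ofHom (algebraMap k (AlgebraicClosure k))))) (@IsOpenImmersion.of_isIso _ _ _ this) hDred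
    exact FBase64.geometricallyReduced_of_isReduced_perfect _ (AlgebraicClosure k)
  refine ⟨D, hgrp, i, hhom, hci, smooth_of_grpObj D.hom, hirr, ?_⟩
  ext z
  exact (hpts z).symm

end GenSub

end Groth.Agent.AlgGrp79
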