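import Groth.Agent.AlgGrp79.BorelOps
import Groth.Agent.RedPts82.Coord
import Groth.Agent.AbSch7.Biadd

/-!
Centralizers of Borel subgroups over an arbitrary field, by descent from an algebraic closure.
-/

set_option autoImplicit false
set_option linter.unusedSectionVars false
set_option backward.isDefEq.respectTransparency.types false

universe u

open CategoryTheory MonoidalCategory CartesianMonoidalCategory MonObj GrpObj AlgebraicGeometry

noncomputable section

namespace Groth.Agent.AlgGrp79.BorelDesc

variable {k : Type u} [Field k]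

theorem connectedSpace_bc {G : Over (Spec (CommRingCat.of k))} [GrpObj G] [ConnectedSpace G.left] {L : Type u} [Field L]
    (f : Spec (CommRingCat.of L) ⟶ Spec (CommRingCat.of k)) : ConnectedSpace (Red.bc f G).left := by
  haveI : GeometricallyConnected (η[G].left ≫ G.hom) := by
    rw [Over.w η[G]]
    haveI : IsIso (𝟙_ (Over (Spec (CommRingCat.of k)))).hom := inferInstanceAs (IsIso (𝟙 (Spec (CommRingCat.of k))))
    exact FBase64.geometricallyConnected_of_geometricallyIrreducible _ (h := ⟨fun K _ y Z p q hp => by
      have : IsIso q := hp.isIso_snd_of_isIso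
      exact q.homeomorph.symm.surjective.irreducibleSpace q.homeomorph.symm.continuous⟩)
  haveI : Nonempty (𝟙_ (Over (Spec (CommRingCat.of k)))).left := ⟨IsLocalRing.closedPoint k⟩
  haveI : GeometricallyConnected G.hom :=
    FBase64.geometricallyConnected_of_source (k := k) G.hom η[G].left
  exact pullback_of_geometrically (GeometricallyConnected.geometrically_connectedSpace (f := G.hom)) L f

/-- What centralizes a Borel subgroup centralizes the group. -/
theorem comm_all_of_comm_borel {G B : Over (Spec (CommRingCat.of k))} [GrpObj G] [IsAffine G.left] [Smooth G.hom]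
    [ConnectedSpace G.left] [GrpObj B] (iB : B ⟶ G) (hB : Red.IsBorel iB) {T : Over (Spec (CommRingCat.of k))}
    (g : T ⟶ G)
    (hg : ∀ (T' : Over (Spec (CommRingCat.of k))) (x : T' ⟶ T) (b : T' ⟶ B),
      (x ≫ g) * (b ≫ iB) = (b ≫ iB) * (x ≫ g)) (h : T ⟶ G) : g * h = h * g := by
  obtain ⟨-, -, -, hgeo⟩ := hB
  let s : Spec (CommRingCat.of k) := IsLocalRing.closedPoint k
  let f := Red.geomPt s
  haveI : Surjective f := ⟨fun y => ⟨IsLocalRing.closedPoint _, Subsingleton.elim (α := PrimeSpectrum k) _ _⟩⟩
  haveI : Flat f := by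
    obtain ⟨φ, hφ⟩ := Spec.map_surjective f
    rw [← hφ, HasRingHomProperty.Spec_iff (P := @Flat)]
    letI := φ.hom.toAlgebra
    exact RingHom.flat_algebraMap_iff.2 (inferInstance : Module.Flat k _)
  haveI : IsAffine (Red.bc f G).left := inferInstanceAs (IsAffine (Limits.pullback G.hom f))
  haveI : Smooth (Red.bc f G).hom := inferInstanceAs (Smooth (Limits.pullback.snd G.hom f))
  haveI := connectedSpace_bc (G := G) f
  have key := BorelOps.comm_all_of_comm_borel (Red.bc f G) ((Over.pullback f).map iB) (hgeo s)
    (T := Red.bc f T) ((Over.pullback f).map g) (fun T' x b => RedPts82.toBase_injective f (by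
      simp only [RedPts82.toBase_mul, RedPts82.toBase_comp_map]
      exact hg _ _ _)) ((Over.pullback f).map h)
  have e := congrArg (RedPts82.toBase f) key
  rw [RedPts82.toBase_mul, RedPts82.toBase_mul, ← Category.id_comp ((Over.pullback f).map g),
    ← Category.id_comp ((Over.pullback f).map h), RedPts82.toBase_comp_map, RedPts82.toBase_comp_map,
    ← MonObj.comp_mul, ← MonObj.comp_mul] at e
  haveI : Epi (RedPts82.toBase f (𝟙 (Red.bc f T))) := by
    haveI : Epi ((Over.forget _).map (RedPts82.toBase f (𝟙 (Red.bc f T)))) := by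
      show Epi (RedPts82.toBase f (𝟙 (Red.bc f T))).left
      rw [RedPts82.toBase_left, Over.id_left, Category.id_comp]
      haveI : Flat (Limits.pullback.fst T.hom f) := MorphismProperty.pullback_fst _ _ inferInstance
      haveI : Surjective (Limits.pullback.fst T.hom f) := MorphismProperty.pullback_fst _ _ inferInstance
      exact Flat.epi_of_flat_of_surjective _
    exact (Over.forget _).epi_of_epi_map this
  exact (cancel_epi _).1 e

theorem isCentralizerOf_borel_iff {G B C : Over (Spec (CommRingCat.of k))} [GrpObj G] [IsAffine G.left] [Smooth G.hom]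
    [ConnectedSpace G.left] [GrpObj B] [GrpObj C] (iB : B ⟶ G) (hB : Red.IsBorel iB) (c : C ⟶ G) :
    Red.IsCentralizerOf iB c ↔ Red.IsCentre c := by
  have key : ∀ (X : Over (Spec (CommRingCat.of k))) (g : X ⟶ G),
      (∀ (X' : Over (Spec (CommRingCat.of k))) (x : X' ⟶ X) (h : X' ⟶ B),
        (x ≫ g) * (h ≫ iB) = (h ≫ iB) * (x ≫ g)) ↔
      ∀ (X' : Over (Spec (CommRingCat.of k))) (x : X' ⟶ X) (h : X' ⟶ G),
        (x ≫ g) * (h ≫ 𝟙 G) = (h ≫ 𝟙 G) * (x ≫ g) := by
    refine fun X g => ⟨fun hg X' x h => ?_, fun hg X' x h => ?_⟩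
    · rw [Category.comp_id]
      exact comm_all_of_comm_borel iB hB (x ≫ g) (fun T' y b => by rw [← Category.assoc]; exact hg T' _ b) h
    · simpa using hg X' x (h ≫ iB)
  exact and_congr Iff.rfl (and_congr Iff.rfl (forall₂_congr fun X g => iff_congr Iff.rfl (key X g)))

end Groth.Agent.AlgGrp79.BorelDesc
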