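import Groth.Agent.AlgGrp33.TorusBridge
import Groth.Agent.RedPts82.ImageLoc

/-!
Tori and centralisers under base change to a field.
-/

set_option autoImplicit false
set_option linter.unusedSectionVars false
set_option backward.isDefEq.respectTransparency.types false

universe u

open CategoryTheory MonoidalCategory CartesianMonoidalCategory MonObj GrpObj AlgebraicGeometry

noncomputable section

namespace Groth.Agent.AlgGrp79.TorusBC

variable {k L : Type u} [Field k] [Field L] (g : Spec (CommRingCat.of L) ⟶ Spec (CommRingCat.of k))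

theorem isTorus_bc {T : Over (Spec (CommRingCat.of k))} [GrpObj T] (hT : Red.IsTorus T) :
    Red.IsTorus (Red.bc g T) := by
  obtain ⟨S', f, hf, hs, -, hloc⟩ := hT
  let S'' := Limits.pullback f g
  let f'' : S'' ⟶ Spec (CommRingCat.of L) := Limits.pullback.snd f g
  haveI : Flat f'' := MorphismProperty.pullback_snd _ _ hf
  haveI : Surjective f'' := MorphismProperty.pullback_snd _ _ hs
  refine ⟨S'', f'', inferInstance, inferInstance, fun V hV => ?_, fun x => ?_⟩
  · rcases Set.eq_empty_or_nonempty (V : Set (Spec (CommRingCat.of L))) with h | ⟨y, hy⟩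
    · exact ⟨⊥, by simp, by simp [h]⟩
    · obtain ⟨x, hx⟩ := f''.surjective y
      obtain ⟨W, hW, hxW⟩ : ∃ W : S''.Opens, IsAffineOpen W ∧ x ∈ W := by
        obtain ⟨_, ⟨W, hW, rfl⟩, hxW, -⟩ := S''.isBasis_affineOpens.exists_subset_of_mem_open (Set.mem_univ x) isOpen_univ
        exact ⟨W, hW, hxW⟩
      refine ⟨W, hW.isCompact, Set.Subset.antisymm ?_ ?_⟩
      · rintro z ⟨w, -, rfl⟩
        rw [Subsingleton.elim (α := PrimeSpectrum L) (f''.base w) y]
        exact hy
      · intro z _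
        exact ⟨x, hxW, Subsingleton.elim (α := PrimeSpectrum L) _ _⟩
  · let p : S'' ⟶ S' := Limits.pullback.fst f g
    obtain ⟨U, hxU, r, ⟨e⟩⟩ := hloc (p x)
    refine ⟨p ⁻¹ᵁ U, hxU, r, ?_⟩
    let m : (p ⁻¹ᵁ U : Scheme.{u}) ⟶ U := p ∣_ U
    obtain ⟨i₁⟩ := AlgGrp33.nonempty_bc_comp ((p ⁻¹ᵁ U).ι ≫ f'') g T
    obtain ⟨i₂⟩ := AlgGrp33.nonempty_bc_comp m (U.ι ≫ f) T
    obtain ⟨i₃⟩ := RedPts82.grpIso_bc_DS m (Fin r → ℤ)
    have h : ((p ⁻¹ᵁ U).ι ≫ f'') ≫ g = m ≫ U.ι ≫ f := by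
      show ((p ⁻¹ᵁ U).ι ≫ f'') ≫ g = (p ∣_ U) ≫ U.ι ≫ f
      rw [morphismRestrict_ι_assoc, Category.assoc, Limits.pullback.condition]
    exact ⟨i₁ ≪≫ eqToIso (by rw [h]) ≪≫ i₂.symm ≪≫ (Functor.mapGrp (Over.pullback m)).mapIso e ≪≫ i₃⟩

theorem isCentralizerOf_bc {G T C : Over (Spec (CommRingCat.of k))} [GrpObj G] [GrpObj T] [GrpObj C] (iT : T ⟶ G)
    {c : C ⟶ G} (hc : Red.IsCentralizerOf iT c) :
    Red.IsCentralizerOf ((Over.pullback g).map iT) ((Over.pullback g).map c) := by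
  obtain ⟨_, _, hiff⟩ := hc
  refine ⟨inferInstance, inferInstance, fun X x₀ => ⟨?_, fun h => ?_⟩⟩
  · rintro ⟨z, rfl⟩ X' x h
    refine RedPts82.toBase_injective g ?_
    rw [RedPts82.toBase_mul, RedPts82.toBase_mul, RedPts82.toBase_comp, RedPts82.toBase_comp_map, RedPts82.toBase_comp_map]
    exact (hiff _ _).1 ⟨RedPts82.toBase g z, rfl⟩ _ _ _
  · obtain ⟨z, hz⟩ := (hiff _ (RedPts82.toBase g x₀)).2 fun X'' y hh => by
      let X' : Over (Spec (CommRingCat.of L)) := Over.mk (y.left ≫ X.hom)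
      let x : X' ⟶ X := Over.homMk y.left rfl
      let a : (Over.map g).obj X' ≅ X'' := Over.isoMk (Iso.refl _) (by
        show 𝟙 _ ≫ X''.hom = (y.left ≫ X.hom) ≫ g
        rw [Category.id_comp, Category.assoc]
        exact (Over.w y).symm)
      have ha : (Over.map g).map x = a.hom ≫ y := by
        apply Over.OverMorphism.ext
        show y.left = 𝟙 _ ≫ y.left
        rw [Category.id_comp]
      have := congrArg (RedPts82.toBase g) (h X' x (RedPts82.ofBase g (a.hom ≫ hh)))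
      rw [RedPts82.toBase_mul, RedPts82.toBase_mul, RedPts82.toBase_comp_map, RedPts82.toBase_ofBase,
        RedPts82.toBase_comp g x x₀, ha, Category.assoc, Category.assoc, ← MonObj.comp_mul, ← MonObj.comp_mul] at this
      exact (cancel_epi a.hom).1 this
    refine ⟨RedPts82.ofBase g z, RedPts82.toBase_injective g ?_⟩
    rw [RedPts82.toBase_comp_map, RedPts82.toBase_ofBase, hz]

end Groth.Agent.AlgGrp79.TorusBC
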