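import Groth.Agent.AlgGrp79.BorelDesc
import Groth.Agent.RedPts82.QuotBc
import Mathlib.AlgebraicGeometry.Morphisms.SchemeTheoreticallyDominant

/-!
Images of Borel subgroups under surjective homomorphisms are Borel subgroups.
-/

set_option autoImplicit false
set_option linter.unusedSectionVars false
set_option backward.isDefEq.respectTransparency.types false

universe u

open CategoryTheory MonoidalCategory CartesianMonoidalCategory MonObj GrpObj AlgebraicGeometry

noncomputable section

namespace Groth.Agent.AlgGrp79.BorelImage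

section AlgClosed

variable {k : Type u} [Field k] [IsAlgClosed k]

/-- A surjective morphism of finite type schemes is surjective on rational points. -/
theorem exists_pt_lift {A X : Over (Spec (CommRingCat.of k))} [LocallyOfFiniteType A.hom] (p : A ⟶ X) [Surjective p.left]
    [LocallyOfFiniteType X.hom] (x : 𝟙_ (Over (Spec (CommRingCat.of k))) ⟶ X) :
    ∃ a : 𝟙_ (Over (Spec (CommRingCat.of k))) ⟶ A, a ≫ p = x := by
  haveI : JacobsonSpace A.left := LocallyOfFiniteType.jacobsonSpace A.hom
  obtain ⟨w, hw⟩ := p.left.surjective (x.left (IsLocalRing.closedPoint k))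
  obtain ⟨w', hw', hwc⟩ := nonempty_inter_closedPoints (Z := p.left ⁻¹' {x.left (IsLocalRing.closedPoint k)})
    ⟨w, hw⟩ ((rat_isClosed x).preimage p.left.continuous).isLocallyClosed
  obtain ⟨g, hg⟩ := ptVal_eq w' hwc
  exact ⟨g, pt_ext _ _ (by rw [Over.comp_left, Scheme.Hom.comp_apply, hg]; exact hw')⟩

/-- The reduced image of a Borel subgroup is a Borel subgroup. -/
theorem isBorelOver_image {G Q : Over (Spec (CommRingCat.of k))} [GrpObj G] [IsAffine G.left] [Smooth G.hom]
    [ConnectedSpace G.left] [GrpObj Q] [IsAffine Q.left] [Smooth Q.hom] (q : G ⟶ Q) [IsMonHom q] [Surjective q.left]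
    {B : Over (Spec (CommRingCat.of k))} [GrpObj B] (iB : B ⟶ G) (hB : Red.IsBorelOver k iB)
    {B' : Over (Spec (CommRingCat.of k))} [GrpObj B'] (iB' : B' ⟶ Q) [IsMonHom iB'] [IsClosedImmersion iB'.left]
    [IsReduced B'.left] (p : B ⟶ B') [Surjective p.left] (hp : p ≫ iB' = iB ≫ q) : Red.IsBorelOver k iB' := by
  obtain ⟨_, _, _, _, ⟨n, hn⟩, -⟩ := id hB
  haveI : Mono iB' := Over.mono_of_mono_left iB'
  haveI : IsMonHom p := AlgGrp79.isMonHom_of_forall _ fun T s t => by
    rw [← cancel_mono iB', MonObj.mul_comp _ _ iB', Category.assoc, Category.assoc, Category.assoc, hp,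
      ← Category.assoc, ← Category.assoc, ← Category.assoc, MonObj.mul_comp _ _ iB, MonObj.mul_comp _ _ q]
  haveI : IsAffine B'.left := isAffine_of_isAffineHom iB'.left
  haveI : LocallyOfFiniteType B'.hom := by rw [← Over.w iB']; infer_instance
  haveI : QuasiCompact B'.hom := by rw [← Over.w iB']; infer_instance
  haveI : Smooth B'.hom := Hopf35.Uni.smooth_of_reduced_grp B'
  haveI : ConnectedSpace B'.left := p.left.surjective.connectedSpace p.left.continuous
  haveI : ConnectedSpace Q.left := q.left.surjective.connectedSpace q.left.continuous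
  haveI : Group.IsSolvable (𝟙_ (Over (Spec (CommRingCat.of k))) ⟶ B) := ⟨⟨n, hn _⟩⟩
  haveI : Group.IsSolvable (𝟙_ (Over (Spec (CommRingCat.of k))) ⟶ B') :=
    solvable_of_surjective (f := IsMonHom.monoidHom p _) fun x => exists_pt_lift p x
  have hsolv := BorelConj.isSolvableGrp_of_pts B'
  obtain ⟨X, a, o, hX, _, -⟩ := BorelOps.exists_quotient_borel G iB hB
  obtain ⟨X', a', o', h1, -, h3, h4, h5⟩ := QuotSub.exists_quotient Q B' iB'
  have hX' : AGF.IsQuotient iB' X' a' o' := ⟨h1, h3, h4, h5⟩
  obtain ⟨π, hπ⟩ := (QuotTrans.isCov_orbit hX).desc (q ≫ a'.orbitMap o') fun T s t e => by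
    obtain ⟨d, hd⟩ := (QuotTrans.coset_iff hX s t).1 e
    rw [← Category.assoc, ← Category.assoc]
    exact (QuotTrans.coset_iff hX' (s ≫ q) (t ≫ q)).2
      ⟨d ≫ p, by rw [← hd, MonObj.mul_comp, Category.assoc, hp, Category.assoc]⟩
  haveI := BorelOps.isSeparated_quotient iB' hX'
  haveI := h1
  haveI : Surjective π.left := by
    haveI := h4
    have hs : Surjective ((a.orbitMap o).left ≫ π.left) := by
      rw [← Over.comp_left, hπ]; exact inferInstanceAs (Surjective (q.left ≫ (a'.orbitMap o').left))
    exact Surjective.of_comp (a.orbitMap o).left π.left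
  haveI : UniversallyClosed (π.left ≫ X'.hom) := by rw [Over.w]; infer_instance
  haveI : UniversallyClosed X'.hom := UniversallyClosed.of_comp_surjective π.left X'.hom
  haveI : IsProper X'.hom := { }
  exact BorelConj.isBorelOver_of_proper iB' hsolv hX'

end AlgClosed

variable {k : Type u} [Field k]

/-- The reduced image of a Borel subgroup is a Borel subgroup, over any field. -/
theorem isBorel_image {G Q : Over (Spec (CommRingCat.of k))} [GrpObj G] [IsAffine G.left] [Smooth G.hom]
    [ConnectedSpace G.left] [GrpObj Q] [IsAffine Q.left] [Smooth Q.hom] (q : G ⟶ Q) [IsMonHom q] [Surjective q.left]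
    {B : Over (Spec (CommRingCat.of k))} [GrpObj B] (iB : B ⟶ G) (hB : Red.IsBorel iB)
    {B' : Over (Spec (CommRingCat.of k))} [GrpObj B'] (iB' : B' ⟶ Q) [IsMonHom iB'] [IsClosedImmersion iB'.left]
    [IsReduced B'.left] (p : B ⟶ B') [Surjective p.left] (hp : p ≫ iB' = iB ≫ q) : Red.IsBorel iB' := by
  obtain ⟨_, _, _, hgeo⟩ := hB
  haveI : IsAffine B.left := isAffine_of_isAffineHom iB.left
  haveI : IsAffine B'.left := isAffine_of_isAffineHom iB'.left
  have key : ∀ s : Spec (CommRingCat.of k),
      Smooth (Red.bc (Red.geomPt s) B').hom ∧ Red.IsBorelOver (AlgebraicClosure ((Spec (CommRingCat.of k)).residueField s))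
        ((Over.pullback (Red.geomPt s)).map iB') := by
    intro s
    let f := Red.geomPt s
    haveI : Flat f := by
      obtain ⟨φ, hφ⟩ := Spec.map_surjective f
      rw [← hφ, HasRingHomProperty.Spec_iff (P := @Flat)]
      letI := φ.hom.toAlgebra
      exact RingHom.flat_algebraMap_iff.2 (inferInstance : Module.Flat k _)
    haveI : IsAffine (Red.bc f G).left := inferInstanceAs (IsAffine (Limits.pullback G.hom f))
    haveI : IsAffine (Red.bc f Q).left := inferInstanceAs (IsAffine (Limits.pullback Q.hom f))
    haveI : IsAffine (Red.bc f B').left := inferInstanceAs (IsAffine (Limits.pullback B'.hom f))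
    haveI : Smooth (Red.bc f G).hom := inferInstanceAs (Smooth (Limits.pullback.snd G.hom f))
    haveI : Smooth (Red.bc f Q).hom := inferInstanceAs (Smooth (Limits.pullback.snd Q.hom f))
    haveI := BorelDesc.connectedSpace_bc (G := G) f
    haveI : Smooth (Red.bc f B).hom := inferInstanceAs (Smooth (Limits.pullback.snd B.hom f))
    haveI : IsReduced (Red.bc f B).left := isReduced_of_smooth (Red.bc f B).hom
    haveI : Surjective ((Over.pullback f).map q).left :=
      MorphismProperty.of_isPullback (P := @Surjective) (RedPts82.isPullback_bc_map q f) inferInstance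
    haveI : Surjective ((Over.pullback f).map p).left :=
      MorphismProperty.of_isPullback (P := @Surjective) (RedPts82.isPullback_bc_map p f) inferInstance
    haveI : IsClosedImmersion ((Over.pullback f).map iB').left :=
      MorphismProperty.of_isPullback (P := @IsClosedImmersion) (RedPts82.isPullback_bc_map iB' f) inferInstance
    haveI : Flat (Limits.pullback.fst B'.hom f) := MorphismProperty.pullback_fst _ _ inferInstance
    haveI : IsSchemeTheoreticallyDominant p.left := .of_isDominant p.left
    haveI : IsSchemeTheoreticallyDominant ((Over.pullback f).map p).left :=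
      IsSchemeTheoreticallyDominant.of_isPullback (RedPts82.isPullback_bc_map p f)
    haveI : IsAffine (Red.bc f B).left := inferInstanceAs (IsAffine (Limits.pullback B.hom f))
    haveI : QuasiCompact ((Over.pullback f).map p).left := inferInstance
    haveI : IsReduced (Red.bc f B').left := IsSchemeTheoreticallyDominant.isReduced ((Over.pullback f).map p).left
    haveI : LocallyOfFiniteType B'.hom := by rw [← Over.w iB']; infer_instance
    haveI : LocallyOfFiniteType (Red.bc f B').hom := inferInstanceAs (LocallyOfFiniteType (Limits.pullback.snd B'.hom f))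
    exact ⟨Hopf35.Uni.smooth_of_reduced_grp _, isBorelOver_image ((Over.pullback f).map q) _ (hgeo s)
      ((Over.pullback f).map iB') ((Over.pullback f).map p) (by rw [← Functor.map_comp, hp, Functor.map_comp])⟩
  refine ⟨inferInstance, inferInstance, ?_, fun s => (key s).2⟩
  let s : Spec (CommRingCat.of k) := IsLocalRing.closedPoint k
  let f := Red.geomPt s
  haveI : Surjective f := ⟨fun y => ⟨IsLocalRing.closedPoint _, Subsingleton.elim (α := PrimeSpectrum k) _ _⟩⟩
  haveI : Flat f := by
    obtain ⟨φ, hφ⟩ := Spec.map_surjective f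
    rw [← hφ, HasRingHomProperty.Spec_iff (P := @Flat)]
    letI := φ.hom.toAlgebra
    exact RingHom.flat_algebraMap_iff.2 (inferInstance : Module.Flat k _)
  haveI : MorphismProperty.DescendsAlong (@Smooth : MorphismProperty Scheme.{u}) Unr55.fpqc.{u} := by infer_instance
  exact MorphismProperty.of_isPullback_of_descendsAlong (P := @Smooth) (Q := Unr55.fpqc.{u})
    (IsPullback.of_hasPullback f B'.hom) ⟨⟨inferInstance, inferInstance⟩, inferInstance⟩
    (by rw [← Limits.pullbackSymmetry_hom_comp_snd]; have := (key s).1; exact MorphismProperty.RespectsIso.precomp @Smooth _ _ this)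

end Groth.Agent.AlgGrp79.BorelImage
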