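import Groth.Agent.AlgGrp79.QuotSub
import Groth.Agent.AlgGrp79.GenSubgroup
import Groth.Agent.AlgGrp79.LineFixed2
import Groth.Agent.AGF80.Orbit
import Groth.Agent.Unr55.DescProps
import Groth.Prelude.Def_AGF
import Mathlib.RingTheory.Jacobson.Artinian
import Mathlib.AlgebraicGeometry.Artinian

/-!
Properness of iterated quotients; quotients by open subgroups are finite.
-/

set_option autoImplicit false
set_option linter.unusedSectionVars false
set_option backward.isDefEq.respectTransparency.types false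

universe u

open CategoryTheory MonoidalCategory CartesianMonoidalCategory MonObj GrpObj AlgebraicGeometry

noncomputable section

namespace Groth.Agent.AlgGrp79.QuotTrans

variable {k : Type u} [Field k] {G H K : Over (Spec (CommRingCat.of k))} [GrpObj G] [GrpObj H] [GrpObj K]

theorem whisker_pts (i : H ⟶ G) {T : Over (Spec (CommRingCat.of k))} (t : T ⟶ G ⊗ H) :
    t ≫ (G ◁ i) ≫ μ[G] = (t ≫ fst G H) * ((t ≫ snd G H) ≫ i) := by
  rw [AGF80.Orbit.whiskerLeft_comp_mul, MonObj.comp_mul, Category.assoc]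

/-- The fibres of a quotient map are the cosets. -/
theorem coset_iff {i : H ⟶ G} {X : Over (Spec (CommRingCat.of k))} {a : AlgGrp.Action G X}
    {o : 𝟙_ (Over (Spec (CommRingCat.of k))) ⟶ X} (hX : AGF.IsQuotient i X a o)
    {T : Over (Spec (CommRingCat.of k))} (g g' : T ⟶ G) :
    g ≫ a.orbitMap o = g' ≫ a.orbitMap o ↔ ∃ h : T ⟶ H, g * (h ≫ i) = g' := by
  obtain ⟨-, -, -, sq⟩ := hX
  constructor
  · intro e
    refine ⟨sq.lift g g' e ≫ snd G H, ?_⟩
    have h2 := sq.lift_snd g g' e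
    rwa [whisker_pts, sq.lift_fst] at h2
  · rintro ⟨h, rfl⟩
    have e := lift g h ≫= sq.w
    rwa [← Category.assoc, ← Category.assoc, lift_fst, whisker_pts, lift_fst, lift_snd] at e

theorem isCov_orbit {i : H ⟶ G} {X : Over (Spec (CommRingCat.of k))} {a : AlgGrp.Action G X}
    {o : 𝟙_ (Over (Spec (CommRingCat.of k))) ⟶ X} [LocallyOfFiniteType G.hom] (hX : AGF.IsQuotient i X a o) :
    IsCov (a.orbitMap o) := by
  obtain ⟨_, _, _, -⟩ := hX
  exact isCov_of_flat_surjective _

/-- Properness is transitive along towers of quotients. -/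
theorem isProper_trans [LocallyOfFiniteType G.hom] [QuasiCompact G.hom] [LocallyOfFiniteType H.hom]
    (i : H ⟶ G) [IsMonHom i] [Mono i] (f : K ⟶ H)
    {X : Over (Spec (CommRingCat.of k))} {a : AlgGrp.Action G X} {o : 𝟙_ (Over (Spec (CommRingCat.of k))) ⟶ X}
    (hX : AGF.IsQuotient i X a o)
    {X' : Over (Spec (CommRingCat.of k))} {a' : AlgGrp.Action G X'} {o' : 𝟙_ (Over (Spec (CommRingCat.of k))) ⟶ X'}
    (hX' : AGF.IsQuotient (f ≫ i) X' a' o')
    {Y : Over (Spec (CommRingCat.of k))} {b : AlgGrp.Action H Y} {y : 𝟙_ (Over (Spec (CommRingCat.of k))) ⟶ Y}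
    (hY : AGF.IsQuotient f Y b y) [IsProper X.hom] [IsProper Y.hom] : IsProper X'.hom := by
  have hp := isCov_orbit hX
  have hp' := isCov_orbit hX'
  have hq := isCov_orbit hY
  haveI := hp.epi
  haveI := hp'.epi
  obtain ⟨π, hπ⟩ := hp'.desc (a.orbitMap o) fun T g g' e => by
    obtain ⟨c, hc⟩ := (coset_iff hX' g g').1 e
    exact (coset_iff hX g g').2 ⟨c ≫ f, by rw [Category.assoc]; exact hc⟩
  obtain ⟨j, hj⟩ := hq.desc (i ≫ a'.orbitMap o') fun T h h' e => by
    obtain ⟨c, hc⟩ := (coset_iff hY h h').1 e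
    rw [← Category.assoc, ← Category.assoc]
    exact (coset_iff hX' (h ≫ i) (h' ≫ i)).2 ⟨c, by rw [← hc, MonObj.mul_comp, Category.assoc]⟩
  let p := a.orbitMap o
  let p' := a'.orbitMap o'
  let q := b.orbitMap y
  let P := Limits.pullback p π
  let P1 : P ⟶ G := Limits.pullback.fst p π
  let P2 : P ⟶ X' := Limits.pullback.snd p π
  let u2 : G ⊗ Y ⟶ X' := lift (fst G Y) (snd G Y ≫ j) ≫ a'.act
  have hu2 : (G ◁ q) ≫ u2 = ((G ◁ i) ≫ μ[G]) ≫ p' := by
    have e1 : ((G ◁ i) ≫ μ[G]) ≫ p' = lift (fst G H) (snd G H ≫ i ≫ p') ≫ a'.act := by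
      rw [AGF80.Orbit.whiskerLeft_comp_mul, AGF80.Orbit.comp_orbitMap_mul, Category.assoc]
    rw [e1, ← Category.assoc, comp_lift, whiskerLeft_fst, whiskerLeft_snd_assoc, hj]
  haveI : Epi (G ◁ q) := (hq.whiskerLeft G).epi
  have hw : fst G Y ≫ p = u2 ≫ π := by
    rw [← cancel_epi (G ◁ q), reassoc_of% hu2, hπ, whiskerLeft_fst_assoc]
    exact hX.2.2.2.w.trans (Category.assoc _ _ _)
  let w : G ⊗ Y ⟶ P := Limits.pullback.lift (fst G Y) u2 hw
  have hc1 : ((G ◁ q) ≫ w) ≫ P1 = fst G H := by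
    rw [Category.assoc, Limits.pullback.lift_fst, whiskerLeft_fst]
  have hc2 : ((G ◁ q) ≫ w) ≫ P2 = ((G ◁ i) ≫ μ[G]) ≫ p' := by
    rw [Category.assoc, Limits.pullback.lift_snd, hu2]
  have sqP : IsPullback P2 P1 π p := (IsPullback.of_hasPullback p π).flip
  have hbig : IsPullback ((G ◁ i) ≫ μ[G]) (((G ◁ q) ≫ w) ≫ P1) (p' ≫ π) p := by
    rw [hc1, hπ]; exact hX.2.2.2.flip
  have hc : IsCov ((G ◁ q) ≫ w) := IsCov.of_isPullback (IsPullback.of_bot hbig hc2.symm sqP) hp'
  have hmono : Mono w := ⟨fun {T} s t est => by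
    have e1 : s ≫ fst G Y = t ≫ fst G Y := by
      have := est =≫ P1
      rwa [Category.assoc, Category.assoc, show w ≫ P1 = fst G Y from Limits.pullback.lift_fst _ _ _] at this
    obtain ⟨T₁, c₁, h, hc₁, hh⟩ := hq.exists_lift (s ≫ snd G Y)
    obtain ⟨T₂, c₂, h', hc₂, hh'⟩ := hq.exists_lift (c₁ ≫ t ≫ snd G Y)
    haveI := (hc₂.comp hc₁).epi
    rw [← cancel_epi (c₂ ≫ c₁)]
    let g := (c₂ ≫ c₁) ≫ s ≫ fst G Y
    have es : (c₂ ≫ c₁) ≫ s = lift g (c₂ ≫ h) ≫ (G ◁ q) := by
      rw [lift_whiskerLeft]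
      ext : 1
      · simp [g]
      · rw [lift_snd, Category.assoc, Category.assoc c₂ h, hh, Category.assoc]
    have et : (c₂ ≫ c₁) ≫ t = lift g h' ≫ (G ◁ q) := by
      rw [lift_whiskerLeft]
      ext : 1
      · simp [g, e1]
      · rw [lift_snd, hh', Category.assoc, Category.assoc]
    rw [es, et]
    have e2 := congrArg (((c₂ ≫ c₁) ≫ ·)) est
    simp only [← Category.assoc ((c₂ ≫ c₁)), es, et] at e2
    have e3 := e2 =≫ P2
    simp only [Category.assoc, w, P2, Limits.pullback.lift_snd, hu2] at e3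
    simp only [← Category.assoc] at e3
    rw [Category.assoc (lift g (c₂ ≫ h)), Category.assoc (lift g h'), whisker_pts, whisker_pts] at e3
    simp only [lift_fst, lift_snd] at e3
    obtain ⟨κ, hκ⟩ := (coset_iff hX' _ _).1 e3
    rw [_root_.mul_assoc] at hκ
    have hκ' := mul_left_cancel hκ
    rw [← Category.assoc κ f i, ← MonObj.mul_comp, cancel_mono] at hκ'
    have e4 : (c₂ ≫ h) ≫ q = h' ≫ q := (coset_iff hY _ _).2 ⟨κ, hκ'⟩
    rw [lift_whiskerLeft, lift_whiskerLeft, e4]⟩
  obtain ⟨v, hv⟩ := hc.desc (G ◁ q) fun T s t e => by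
    rw [← Category.assoc, ← Category.assoc, cancel_mono] at e
    exact e
  haveI := hc.epi
  have hvw : v ≫ w = 𝟙 P := by rw [← cancel_epi ((G ◁ q) ≫ w), ← Category.assoc, hv, Category.comp_id]
  let ew : G ⊗ Y ≅ P := ⟨w, v, by rw [← cancel_mono w, Category.assoc, hvw, Category.comp_id, Category.id_comp], hvw⟩
  haveI : IsProper (fst G Y).left := MorphismProperty.pullback_fst (P := @IsProper) G.hom Y.hom inferInstance
  haveI : IsIso ew.inv.left := ((Over.forget _).mapIso ew).symm.isIso_hom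
  have hP1 : IsProper P1.left := by
    have e : P1 = ew.inv ≫ fst G Y := by
      rw [Iso.eq_inv_comp]; exact Limits.pullback.lift_fst _ _ _
    rw [e, Over.comp_left]
    infer_instance
  obtain ⟨hflat, hsurj, -⟩ := hp
  haveI : IsSeparated X.hom := inferInstance
  haveI : QuasiCompact p.left := by
    have : QuasiCompact (p.left ≫ X.hom) := by rw [Over.w]; infer_instance
    exact QuasiCompact.of_comp p.left X.hom
  haveI := Unr55.isProper.{u}
  have hπp : IsProper π.left :=
    MorphismProperty.of_isPullback_of_descendsAlong (P := @IsProper)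
      (Q := @Surjective ⊓ @Flat ⊓ @QuasiCompact) (isPullback_left (IsPullback.of_hasPullback p π))
      ⟨⟨hsurj, hflat⟩, inferInstance⟩ hP1
  rw [← Over.w π]
  infer_instance

/-- A quotient by a subgroup which is open is finite. -/
theorem isProper_of_open [IsAlgClosed k] [LocallyOfFiniteType H.hom] [QuasiCompact H.hom] (f : K ⟶ H)
    (hf : IsOpen (Set.range f.left)) {Y : Over (Spec (CommRingCat.of k))} {b : AlgGrp.Action H Y}
    {y : 𝟙_ (Over (Spec (CommRingCat.of k))) ⟶ Y} (hY : AGF.IsQuotient f Y b y) : IsProper Y.hom := by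
  have hq := isCov_orbit hY
  obtain ⟨hlft, hflat, hsurj, hsq⟩ := hY
  haveI := hq.lfp
  haveI : IsLocallyNoetherian Y.left := LocallyOfFiniteType.isLocallyNoetherian Y.hom
  haveI : JacobsonSpace Y.left := LocallyOfFiniteType.jacobsonSpace Y.hom
  have hcos : ∀ {T : Over (Spec (CommRingCat.of k))} (z : T ⟶ K), (z ≫ f) ≫ b.orbitMap y = toUnit T ≫ y := fun {T} z => by
    have hone : (1 : T ⟶ H) ≫ b.orbitMap y = toUnit T ≫ y := by
      rw [AGF80.Orbit.comp_orbitMap, AlgGrp79.one_act']
    rw [← hone]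
    exact ((coset_iff ⟨hlft, hflat, hsurj, hsq⟩ (1 : T ⟶ H) (z ≫ f)).2 ⟨z, _root_.one_mul _⟩).symm
  have ho : IsOpen ({y.left (IsLocalRing.closedPoint k)} : Set Y.left) := by
    have e : (b.orbitMap y).left '' Set.range f.left = {y.left (IsLocalRing.closedPoint k)} := by
      have h1 : f ≫ b.orbitMap y = toUnit K ≫ y := by simpa using hcos (𝟙 K)
      ext z
      constructor
      · rintro ⟨_, ⟨w, rfl⟩, rfl⟩
        rw [Set.mem_singleton_iff, ← Scheme.Hom.comp_apply, ← Over.comp_left, h1, Over.comp_left, Scheme.Hom.comp_apply]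
        congr 1
        exact Subsingleton.elim (α := PrimeSpectrum k) _ _
      · rintro rfl
        refine ⟨_, ⟨(η[K]).left (IsLocalRing.closedPoint k), rfl⟩, ?_⟩
        rw [← Scheme.Hom.comp_apply, ← Over.comp_left, ← Scheme.Hom.comp_apply, ← Over.comp_left, ← Category.assoc,
          hcos η[K], toUnit_unique (toUnit _) (𝟙 _), Category.id_comp]
    rw [← e]
    exact (b.orbitMap y).left.isOpenMap _ hf
  have hclosed : ∀ z : Y.left, IsClosed {z} → IsOpen ({z} : Set Y.left) := fun z hz => by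
    obtain ⟨s, hs⟩ := ptVal_eq z hz
    obtain ⟨h, hh⟩ : ∃ h : 𝟙_ (Over (Spec (CommRingCat.of k))) ⟶ H, h ≫ b.orbitMap y = s := by
      haveI : JacobsonSpace H.left := LocallyOfFiniteType.jacobsonSpace H.hom
      obtain ⟨w, hw, hwc⟩ := nonempty_inter_closedPoints (Z := (b.orbitMap y).left ⁻¹' {z})
        ⟨((b.orbitMap y).left.surjective z).choose, ((b.orbitMap y).left.surjective z).choose_spec⟩
        (hz.preimage (b.orbitMap y).left.continuous).isLocallyClosed
      obtain ⟨h, hh⟩ := ptVal_eq w hwc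
      exact ⟨h, pt_ext _ _ (by rw [Over.comp_left, Scheme.Hom.comp_apply, hh, hs]; exact hw)⟩
    let H' : Y.left ≃ₜ Y.left := ((Over.forget _).mapIso (Var76.ActTrans.xTrans b h)).hom.homeomorph
    have e : H' (y.left (IsLocalRing.closedPoint k)) = z := by
      have h2 : y ≫ (Var76.ActTrans.xTrans b h).hom = h ≫ b.orbitMap y := by
        rw [Var76.ActTrans.comp_xTrans, AGF80.Orbit.comp_orbitMap, toUnit_unique (toUnit _) (𝟙 _), Category.id_comp,
          Category.id_comp]
      show (Var76.ActTrans.xTrans b h).hom.left (y.left (IsLocalRing.closedPoint k)) = z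
      rw [← Scheme.Hom.comp_apply, ← Over.comp_left, h2, hh, hs]
    rw [← e, ← Set.image_singleton]
    exact H'.isOpenMap _ ho
  haveI : DiscreteTopology Y.left := by
    rw [discreteTopology_iff_isOpen_singleton]
    intro z
    let U : Set Y.left := ⋃ w ∈ closedPoints Y.left, {w}
    have hU : IsOpen U := isOpen_biUnion fun w hw => hclosed w hw
    have hz : z ∈ U := by
      by_contra hz
      obtain ⟨w, hw, hwc⟩ := nonempty_inter_closedPoints ⟨z, hz⟩ hU.isClosed_compl.isLocallyClosed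
      exact hw (Set.mem_biUnion hwc rfl)
    obtain ⟨w, hw, rfl⟩ := Set.mem_iUnion₂.1 hz
    exact hclosed z hw
  haveI : CompactSpace H.left := QuasiCompact.compactSpace_of_compactSpace H.hom
  haveI : CompactSpace Y.left := (b.orbitMap y).left.surjective.compactSpace (b.orbitMap y).left.continuous
  haveI : Finite Y.left := finite_of_compact_of_discrete
  haveI : IsAffine Y.left := inferInstance
  haveI : IsLocallyArtinian Y.left := IsLocallyArtinian.of_isLocallyNoetherian_of_discreteTopology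
  haveI : IsFinite Y.hom := by
    refine (HasAffineProperty.iff_of_isAffine (P := @IsFinite)).2 ⟨inferInstance, ?_⟩
    have hft : Y.hom.appTop.hom.FiniteType := HasRingHomProperty.appTop @LocallyOfFiniteType Y.hom inferInstance
    algebraize [Y.hom.appTop.hom]
    haveI : IsArtinianRing Γ(Spec (CommRingCat.of k), ⊤) :=
      (Scheme.ΓSpecIso (CommRingCat.of k)).commRingCatIsoToRingEquiv.symm.isArtinianRing
    exact RingHom.finite_algebraMap.2 ((Module.finite_iff_isArtinianRing _ _).2 inferInstance)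
  infer_instance

end Groth.Agent.AlgGrp79.QuotTrans
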