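import Groth.Agent.AlgGrp79.OrbitDim
import Groth.Agent.AlgGrp79.BorelImage
import Groth.Agent.AlgGrp79.QuotTrans
import Groth.Agent.FBase64.ProductDim
import Groth.Agent.E4O.FibreComp
import Groth.Agent.AlgGrp79.BorelDesc

/-!
A subgroup with an element having finitely many fixed points on the quotient has dense conjugates.
-/

set_option autoImplicit false
set_option linter.unusedSectionVars false
set_option backward.isDefEq.respectTransparency.types false

universe u

open CategoryTheory MonoidalCategory CartesianMonoidalCategory MonObj GrpObj AlgebraicGeometry TopologicalSpace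
open Groth.Agent.WC97 (tdegN)
open Groth.Agent.E4O (fdeg)
open Groth.Agent.Var76.FibreBound

noncomputable section

namespace Groth.Agent.AlgGrp79.DenseConj

variable {k : Type u} [Field k] [IsAlgClosed k]

/-- A closed set of a scheme of finite type is contained in a closed set containing its rational points. -/
theorem subset_of_pts {Z : Over (Spec (CommRingCat.of k))} [LocallyOfFiniteType Z.hom] {C R : Set Z.left}
    (hC : IsClosed C) (hR : IsClosed R)
    (h : ∀ p : 𝟙_ (Over (Spec (CommRingCat.of k))) ⟶ Z, p.left (IsLocalRing.closedPoint k) ∈ C →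
      p.left (IsLocalRing.closedPoint k) ∈ R) : C ⊆ R := by
  haveI : JacobsonSpace Z.left := LocallyOfFiniteType.jacobsonSpace Z.hom
  intro z hz
  by_contra hzR
  obtain ⟨w, ⟨hwC, hwR⟩, hwc⟩ := nonempty_inter_closedPoints (Z := C ∩ Rᶜ) ⟨z, hz, hzR⟩
    (hC.isLocallyClosed.inter hR.isOpen_compl.isLocallyClosed)
  obtain ⟨p, hp⟩ := ptVal_eq w hwc
  exact hwR (hp ▸ h p (by rw [hp]; exact hwC))

/-- A connected group scheme is geometrically connected. -/
theorem geometricallyConnected_hom (G : Over (Spec (CommRingCat.of k))) [GrpObj G] [ConnectedSpace G.left] :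
    GeometricallyConnected G.hom := by
  haveI : GeometricallyConnected (η[G].left ≫ G.hom) := by
    rw [Over.w η[G]]
    haveI : IsIso (𝟙_ (Over (Spec (CommRingCat.of k)))).hom := inferInstanceAs (IsIso (𝟙 (Spec (CommRingCat.of k))))
    exact FBase64.geometricallyConnected_of_geometricallyIrreducible _ (h := ⟨fun K _ y Z p q hp => by
      have : IsIso q := hp.isIso_snd_of_isIso
      exact q.homeomorph.symm.surjective.irreducibleSpace q.homeomorph.symm.continuous⟩)
  haveI : Nonempty (𝟙_ (Over (Spec (CommRingCat.of k)))).left := ⟨IsLocalRing.closedPoint k⟩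
  exact FBase64.geometricallyConnected_of_source (k := k) G.hom η[G].left

/-- The graph `h ↦ (g h, h⁻¹ c h)` covering a fibre of the conjugation map. -/
def slice {G H : Over (Spec (CommRingCat.of k))} [GrpObj G] [GrpObj H] (iH : H ⟶ G)
    (g : 𝟙_ (Over (Spec (CommRingCat.of k))) ⟶ G) (c : 𝟙_ (Over (Spec (CommRingCat.of k))) ⟶ H) : H ⟶ G ⊗ H :=
  lift ((toUnit H ≫ g) * iH) ((𝟙 H)⁻¹ * (toUnit H ≫ c) * 𝟙 H)

theorem isClosedImmersion_slice {G H : Over (Spec (CommRingCat.of k))} [GrpObj G] [GrpObj H] [IsSeparated G.hom]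
    [IsSeparated H.hom] (iH : H ⟶ G)
    [IsClosedImmersion iH.left] (g : 𝟙_ (Over (Spec (CommRingCat.of k))) ⟶ G)
    (c : 𝟙_ (Over (Spec (CommRingCat.of k))) ⟶ H) : IsClosedImmersion (slice iH g c).left := by
  let l : G ≅ G := ⟨(toUnit G ≫ g) * 𝟙 G, (toUnit G ≫ g⁻¹) * 𝟙 G,
    by rw [MonObj.comp_mul, Category.comp_id, ← Category.assoc, toUnit_unique (((toUnit G ≫ g) * 𝟙 G) ≫ toUnit G) (toUnit G),
      GrpObj.comp_inv, inv_mul_cancel_left],
    by rw [MonObj.comp_mul, Category.comp_id, ← Category.assoc, toUnit_unique (((toUnit G ≫ g⁻¹) * 𝟙 G) ≫ toUnit G) (toUnit G),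
      GrpObj.comp_inv, mul_inv_cancel_left]⟩
  have e : slice iH g c ≫ fst G H = iH ≫ l.hom := by
    rw [slice, lift_fst, MonObj.comp_mul, Category.comp_id, ← Category.assoc, toUnit_unique (iH ≫ toUnit G) (toUnit H)]
  haveI : IsIso l.hom.left := ((Over.forget _).mapIso l).isIso_hom
  haveI : IsClosedImmersion ((slice iH g c).left ≫ (fst G H).left) := by
    rw [← Over.comp_left, e, Over.comp_left]
    infer_instance
  haveI : IsSeparated (fst G H).left := inferInstanceAs (IsSeparated (Limits.pullback.fst G.hom H.hom))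
  exact IsClosedImmersion.of_comp (slice iH g c).left (fst G H).left

/-- Conjugates of a subgroup with an element having finitely many fixed points contain an open set. -/
theorem exists_open (G : Over (Spec (CommRingCat.of k))) [GrpObj G] [IsAffine G.left] [Smooth G.hom]
    [ConnectedSpace G.left]
    (H : Over (Spec (CommRingCat.of k))) [GrpObj H] (iH : H ⟶ G) [IsMonHom iH] [IsClosedImmersion iH.left]
    [Smooth H.hom] [ConnectedSpace H.left]
    (X : Over (Spec (CommRingCat.of k))) (a : AlgGrp.Action G X) (o : 𝟙_ (Over (Spec (CommRingCat.of k))) ⟶ X)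
    (hX : AGF.IsQuotient iH X a o) (h₀ : 𝟙_ (Over (Spec (CommRingCat.of k))) ⟶ H)
    (hfin : Set.Finite {x : 𝟙_ (Over (Spec (CommRingCat.of k))) ⟶ X | lift (h₀ ≫ iH) x ≫ a.act = x}) :
    ∃ U : G.left.Opens, (U : Set ↥G.left).Nonempty ∧
      (U : Set ↥G.left) ⊆ Set.range (fst G H * (snd G H ≫ iH) * (fst G H)⁻¹).left.base := by
  classical
  obtain ⟨hlfX, -, hsurj, -⟩ := id hX
  haveI : Surjective (a.orbitMap o).left := hsurj
  let φ : G ⊗ H ⟶ G := fst G H * (snd G H ≫ iH) * (fst G H)⁻¹
  haveI : IsAffine H.left := isAffine_of_isAffineHom iH.left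
  haveI : IsAffineHom G.hom := inferInstance
  haveI : IsAffineHom H.hom := inferInstance
  haveI : IsSeparated G.hom := inferInstance
  haveI : IsSeparated H.hom := inferInstance
  haveI : Smooth (G ⊗ H).hom := inferInstanceAs (Smooth (Limits.pullback.fst G.hom H.hom ≫ G.hom))
  haveI : QuasiCompact (G ⊗ H).hom := inferInstanceAs (QuasiCompact (Limits.pullback.fst G.hom H.hom ≫ G.hom))
  haveI : LocallyOfFiniteType φ.left := by
    haveI : LocallyOfFiniteType (φ.left ≫ G.hom) := by rw [Over.w]; infer_instance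
    exact locallyOfFiniteType_of_comp φ.left G.hom
  haveI := Var76.FibreBound.noetherianSpace (G ⊗ H).hom
  haveI := Var76.FibreBound.noetherianSpace G.hom
  haveI := Var76.FibreBound.noetherianSpace H.hom
  haveI : IsLocallyNoetherian G.left := LocallyOfFiniteType.isLocallyNoetherian G.hom
  haveI hGi : IrreducibleSpace G.left := by
    have hirr := (Grp57.connectedComponent_unit G).1
    rw [PreconnectedSpace.connectedComponent_eq_univ] at hirr
    exact { isPreirreducible_univ := hirr.2, toNonempty := inferInstance }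
  haveI : Nonempty H.left := ⟨(η[H]).left (IsLocalRing.closedPoint k)⟩
  haveI : Nonempty (G ⊗ H).left := ⟨(lift η[G] η[H]).left (IsLocalRing.closedPoint k)⟩
  let y₀ : G.left := (h₀ ≫ iH).left (IsLocalRing.closedPoint k)
  let q : (G ⊗ H).left := (lift (1 : 𝟙_ _ ⟶ G) h₀).left (IsLocalRing.closedPoint k)
  have hq : φ.left q = y₀ := by
    have e : lift (1 : 𝟙_ (Over (Spec (CommRingCat.of k))) ⟶ G) h₀ ≫ φ = h₀ ≫ iH := by
      simp only [φ, MonObj.comp_mul, GrpObj.comp_inv, lift_fst, lift_snd_assoc, _root_.one_mul, inv_one, _root_.mul_one]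
    show φ.left.base ((lift (1 : 𝟙_ _ ⟶ G) h₀).left (IsLocalRing.closedPoint k)) = _
    rw [← Scheme.Hom.comp_apply, ← Over.comp_left, e]
  obtain ⟨nH, -, hnH⟩ := exists_tdegN_eq_dim H.hom
  -- representatives of the fixed points
  have hrep : ∀ x : {x : 𝟙_ (Over (Spec (CommRingCat.of k))) ⟶ X | lift (h₀ ≫ iH) x ≫ a.act = x},
      ∃ g : 𝟙_ (Over (Spec (CommRingCat.of k))) ⟶ G, ∃ c : 𝟙_ (Over (Spec (CommRingCat.of k))) ⟶ H,
        g ≫ a.orbitMap o = x.1 ∧ c ≫ iH = g⁻¹ * (h₀ ≫ iH) * g := by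
    rintro ⟨x, hx⟩
    obtain ⟨g, hg⟩ := BorelImage.exists_pt_lift (a.orbitMap o) x
    refine ⟨g, ?_⟩
    have e : g ≫ a.orbitMap o = ((h₀ ≫ iH) * g) ≫ a.orbitMap o := by
      rw [AGF80.Orbit.comp_orbitMap_mul, hg]; exact hx.symm
    obtain ⟨c, hc⟩ := (QuotTrans.coset_iff hX _ _).1 e
    exact ⟨c, hg, by rw [_root_.mul_assoc, ← hc, inv_mul_cancel_left]⟩
  choose gs cs hgs hcs using hrep
  haveI := hfin.to_subtype
  let R : Set (G ⊗ H).left := ⋃ x, Set.range (slice iH (gs x) (cs x)).left
  have hRc : IsClosed R := isClosed_iUnion_of_finite fun x =>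
    haveI := isClosedImmersion_slice iH (gs x) (cs x)
    (slice iH (gs x) (cs x)).left.isClosedEmbedding.isClosed_range
  have hy₀c : IsClosed ({y₀} : Set G.left) := rat_isClosed (h₀ ≫ iH)
  have hfib : φ.left ⁻¹' {y₀} ⊆ R := subset_of_pts (hy₀c.preimage φ.left.continuous) hRc fun p hp => by
    let g := p ≫ fst G H
    let h := p ≫ snd G H
    have e : g * (h ≫ iH) * g⁻¹ = h₀ ≫ iH := by
      refine pt_ext _ _ ?_
      have he : p ≫ φ = g * (h ≫ iH) * g⁻¹ := by
        simp only [φ, g, h, MonObj.comp_mul, GrpObj.comp_inv, Category.assoc]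
      rw [← he, Over.comp_left, Scheme.Hom.comp_apply]
      exact hp
    have hfix : g ≫ a.orbitMap o ∈ {x : 𝟙_ (Over (Spec (CommRingCat.of k))) ⟶ X | lift (h₀ ≫ iH) x ≫ a.act = x} := by
      show lift (h₀ ≫ iH) (g ≫ a.orbitMap o) ≫ a.act = g ≫ a.orbitMap o
      rw [← AGF80.Orbit.comp_orbitMap_mul]
      exact ((QuotTrans.coset_iff hX _ _).2 ⟨h, by rw [← e, inv_mul_cancel_right]⟩).symm
    let x : {x : 𝟙_ (Over (Spec (CommRingCat.of k))) ⟶ X | lift (h₀ ≫ iH) x ≫ a.act = x} := ⟨_, hfix⟩
    obtain ⟨b, hb⟩ := (QuotTrans.coset_iff hX (gs x) g).1 (hgs x)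
    haveI : Mono iH := Over.mono_of_mono_left iH
    have hh : h = b⁻¹ * cs x * b := by
      rw [← cancel_mono iH, MonObj.mul_comp, MonObj.mul_comp, GrpObj.inv_comp, hcs,
        show (h ≫ iH : 𝟙_ _ ⟶ G) = g⁻¹ * (h₀ ≫ iH) * g by rw [← e]; group, ← hb]
      group
    refine Set.mem_iUnion.2 ⟨x, b.left (IsLocalRing.closedPoint k), ?_⟩
    have hp' : b ≫ slice iH (gs x) (cs x) = p := by
      apply CartesianMonoidalCategory.hom_ext
      · show _ = g
        simp only [slice, Category.assoc, lift_fst, MonObj.comp_mul, ← Category.assoc b (toUnit H),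
          toUnit_unique (b ≫ toUnit H) (𝟙 _), Category.id_comp, hb]
      · show _ = h
        simp only [slice, Category.assoc, lift_snd, MonObj.comp_mul, GrpObj.comp_inv, Category.comp_id,
          ← Category.assoc b (toUnit H), toUnit_unique (b ≫ toUnit H) (𝟙 _), Category.id_comp, hh]
    rw [← hp', Over.comp_left, Scheme.Hom.comp_apply]
  have hdimfib : topologicalKrullDim ↥(φ.left.fiber y₀) ≤ topologicalKrullDim H.left := by
    rw [IsHomeomorph.topologicalKrullDim_eq _ (φ.left.fiberHomeo y₀).isHomeomorph]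
    refine dim_le_of_forall (G ⊗ H).hom (hy₀c.preimage φ.left.continuous) fun z hz => ?_
    obtain ⟨x, hx⟩ := Set.mem_iUnion.1 (hfib hz)
    haveI := isClosedImmersion_slice iH (gs x) (cs x)
    let s := (slice iH (gs x) (cs x)).left
    refine (tdegN_le_dim_of_closure_subset (G ⊗ H).hom (s := Set.range s)
      (s.isClosedEmbedding.isClosed_range.closure_subset_iff.2 (Set.singleton_subset_iff.2 hx))).trans ?_
    exact le_of_eq (IsHomeomorph.topologicalKrullDim_eq _ s.isClosedEmbedding.isEmbedding.toHomeomorph.isHomeomorph).symm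
  obtain ⟨ep, hmax, hdim⟩ := exists_tdegN_eq_dim (G ⊗ H).hom
  obtain ⟨U', hqU', hU'⟩ := E4O.exists_open_forall_fibreDimAt_le φ.left q
  haveI : IrreducibleSpace (G ⊗ H).left := by
    haveI : GeometricallyConnected H.hom := geometricallyConnected_hom H
    haveI : UniversallyOpen H.hom := inferInstance
    haveI : ConnectedSpace ↥(Limits.pullback G.hom H.hom) := inferInstance
    haveI : ConnectedSpace (G ⊗ H).left := ‹ConnectedSpace ↥(Limits.pullback G.hom H.hom)›
    have hirr := (Grp57.connectedComponent_unit (G ⊗ H)).1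
    rw [PreconnectedSpace.connectedComponent_eq_univ] at hirr
    exact { isPreirreducible_univ := hirr.2, toNonempty := inferInstance }
  have hep : ep = genericPoint (G ⊗ H).left := (hmax _ (genericPoint_specializes ep)).symm
  have hepU : ep ∈ U' := by
    rw [hep]; exact (genericPoint_specializes q).mem_open U'.2 hqU'
  have hE : ((fdeg φ.left ep : ℕ) : WithBot ℕ∞) ≤ (tdegN H.hom nH : ℕ) := by
    obtain ⟨z, -, -, -, hz, hle⟩ := E4O.exists_isFibreMax_specializes φ.left ep
    refine le_trans ?_ (hnH ▸ hdimfib)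
    refine le_trans ?_ ((hU' ep hepU).trans (hq ▸ E4O.fibreDimAt_le_dim_fiber φ.left q))
    rw [hz]
    exact_mod_cast hle
  have hadd := tdegN_eq_add (qX := (G ⊗ H).hom) (qY := G.hom) φ.left (Over.w φ) ep
  obtain ⟨eG, hmaxG, hdimG⟩ := exists_tdegN_eq_dim G.hom
  have hsum : (tdegN (G ⊗ H).hom ep : WithBot ℕ∞) = (tdegN G.hom eG : ℕ) + (tdegN H.hom nH : ℕ) := by
    rw [← hdim, ← hdimG, ← hnH]
    exact FBase64.topologicalKrullDim_pullback G.hom H.hom
  have hsum' : tdegN (G ⊗ H).hom ep = tdegN G.hom eG + tdegN H.hom nH := by exact_mod_cast hsum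
  have hE' : fdeg φ.left ep ≤ tdegN H.hom nH := by exact_mod_cast hE
  have heG : eG = genericPoint G.left := (hmaxG _ (genericPoint_specializes eG)).symm
  have himg : φ.left ep = eG := by
    have hsp : eG ⤳ φ.left ep := heG ▸ genericPoint_specializes _
    exact (eq_of_tdegN_le G.hom hsp (by omega)).symm
  obtain ⟨W, hW, heW, hWs⟩ := exists_nhd_inter_closure eG
    (Set.image_univ (f := φ.left) ▸ isConstructible_image φ.left isOpen_univ)
  have hcl : closure ({eG} : Set G.left) = Set.univ := by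
    rw [heG]; exact genericPoint_spec G.left
  rw [hcl, Set.inter_univ] at hWs
  refine ⟨⟨W, hW⟩, ⟨eG, heW⟩, ?_⟩
  rcases hWs with h | h
  · exact h
  · exact absurd ⟨ep, himg⟩ (h heW)

end Groth.Agent.AlgGrp79.DenseConj
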