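import Groth.Agent.AlgGrp79.BorelTori
import Groth.Agent.AlgGrp79.BorelImage
import Groth.Agent.AlgGrp79.Image

/-!
Images of maximal tori are maximal tori.
-/

set_option autoImplicit false
set_option linter.unusedSectionVars false
set_option backward.isDefEq.respectTransparency.types false

universe u

open CategoryTheory MonoidalCategory CartesianMonoidalCategory MonObj GrpObj AlgebraicGeometry
open scoped TensorProduct
open WithConv Groth.Agent.GMod80

noncomputable section

namespace Groth.Agent.AlgGrp79.TorusImage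

open Comod33

variable {k : Type u} [Field k] [IsAlgClosed k]

local notation "pk" => 𝟙_ (Over (Spec (CommRingCat.of k)))

/-- Homomorphisms carry unipotent points to unipotent points. -/
theorem unipPts_map {A A' : Type u} [CommRing A] [HopfAlgebra k A] [CommRing A'] [HopfAlgebra k A'] (φ : A →ₐc[k] A')
    {u : Conn.Pt k A'} (hu : u ∈ DimOneClass.unipPts k A') : HopfFlat.restrPts φ u ∈ DimOneClass.unipPts k A := by
  intro V _ _ cV hV
  refine (congrArg (fun T : Module.End k V => IsNilpotent (T - 1)) ?_).mp (@hu V _ _ (push φ.toCoalgHom cV) hV)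
  refine LinearMap.ext fun v => ?_
  exact dact_push φ.toCoalgHom cV u.ofConv.toLinearMap v

/-- A point of a diagonalizable subgroup which is unipotent in the group is trivial. -/
theorem eq_one_of_diag_unip {A D : Type u} [CommRing A] [HopfAlgebra k A] [CommRing D] [HopfAlgebra k D]
    (hD : HopfRep.IsDiagonalizable k D) (τ : A →ₐc[k] D) (s : Conn.Pt k D)
    (hu : HopfFlat.restrPts τ s ∈ DimOneClass.unipPts k A) : HopfFlat.restrPts τ s = 1 := by
  have key : ∀ (V : Type u) [AddCommGroup V] [Module k V] [Module.Finite k V] (cV : HopfRep.Comod k A V),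
      @actHom k _ A _ _ V _ _ cV (HopfFlat.restrPts τ s) = 1 := by
    intro V _ _ _ cV
    letI := cV
    have h1 : IsNilpotent (actHom k A V (HopfFlat.restrPts τ s) - 1) := hu V inferInstance
    letI cD : HopfRep.Comod k D V := push τ.toCoalgHom cV
    have hsame : actHom k D V s = actHom k A V (HopfFlat.restrPts τ s) :=
      LinearMap.ext fun v => dact_push τ.toCoalgHom cV s.ofConv.toLinearMap v
    refine LinearMap.ext fun v => ?_
    have hv : v ∈ Submodule.span k {v : V | ∃ a : D, HopfRep.Comod.coact (k := k) (A := D) v = v ⊗ₜ[k] a} :=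
      ((Groth.Agent.S3272.result k D).1 hD V inferInstance).ge Submodule.mem_top
    induction hv using Submodule.span_induction with
    | zero => simp
    | add x y _ _ hx hy => rw [map_add, map_add, hx, hy]
    | smul c x _ hx => rw [map_smul, map_smul, hx]
    | mem x hx =>
      obtain ⟨a, ha⟩ := hx
      have hact : actHom k A V (HopfFlat.restrPts τ s) x = s.ofConv a • x := by
        rw [← hsame, actHom_apply, act_eq_dact, dact_apply, ha, rc_tmul]
        rfl
      rw [hact, Module.End.one_apply]
      by_cases hx0 : x = 0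
      · rw [hx0, smul_zero]
      obtain ⟨p, hp⟩ := h1
      have hpow : ∀ q : ℕ, ((actHom k A V (HopfFlat.restrPts τ s) - 1) ^ q) x = (s.ofConv a - 1) ^ q • x := fun q => by
        induction q with
        | zero => simp
        | succ q ih =>
          rw [pow_succ', Module.End.mul_apply, ih, map_smul, LinearMap.sub_apply, hact, Module.End.one_apply,
            ← one_smul k x, smul_smul, ← sub_smul, smul_smul, pow_succ]
          simp
      have h0 := hpow p
      rw [hp, LinearMap.zero_apply] at h0
      rw [sub_eq_zero.1 (pow_eq_zero_iff'.1 ((smul_eq_zero.1 h0.symm).resolve_right hx0)).1, one_smul]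
  refine WithConv.ofConv_injective (AlgHom.ext fun a => ?_)
  letI := HopfRep.Comod.regular k A
  obtain ⟨W, hW, haW, hWsub⟩ := exists_finite_subcomod_mem (k := k) (A := A) a
  haveI := hW
  letI := ComodSub.Comod.restr (HopfRep.Comod.regular k A) W hWsub
  have h := congrArg Subtype.val (LinearMap.congr_fun (key W (ComodSub.Comod.restr (HopfRep.Comod.regular k A) W hWsub)) ⟨a, haW⟩)
  have h3 := IsComodHom.dact (ComodSub.isComodHom_subtype (HopfRep.Comod.regular k A) W hWsub)
    (HopfFlat.restrPts τ s).ofConv.toLinearMap ⟨a, haW⟩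
  rw [← act_eq_dact, ← act_eq_dact] at h3
  have h4 := congrArg (CoalgebraStruct.counit (R := k)) (h3.symm.trans h)
  have h5 : ∀ z : A ⊗[k] A, CoalgebraStruct.counit (R := k) (rc (HopfFlat.restrPts τ s).ofConv.toLinearMap z) =
      (HopfFlat.restrPts τ s).ofConv (TensorProduct.lid k A (CoalgebraStruct.counit.rTensor A z)) := by
    intro z
    induction z using TensorProduct.induction_on with
    | zero => simp
    | add x y hx hy => simp only [map_add, hx, hy]
    | tmul x y => simp [rc_tmul, mul_comm]
  change CoalgebraStruct.counit (R := k) (rc (HopfFlat.restrPts τ s).ofConv.toLinearMap (CoalgebraStruct.comul (R := k) a)) =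
    CoalgebraStruct.counit (R := k) a at h4
  rw [h5, Coalgebra.rTensor_counit_comul, TensorProduct.lid_tmul, one_smul] at h4
  exact h4

end Groth.Agent.AlgGrp79.TorusImage

namespace Groth.Agent.AlgGrp79.TorusImage

open Comod33

variable {k : Type u} [Field k] [IsAlgClosed k]

local notation "pk" => 𝟙_ (Over (Spec (CommRingCat.of k)))

/-- The reduced image of a smooth connected group. -/
theorem exists_red_image {H G : Over (Spec (CommRingCat.of k))} [GrpObj H] [GrpObj G] [Smooth H.hom] [QuasiCompact H.hom]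
    [LocallyOfFiniteType G.hom] [IsSeparated G.hom] (f : H ⟶ G) [IsMonHom f] :
    ∃ (V : Over (Spec (CommRingCat.of k))) (_ : GrpObj V) (i : V ⟶ G) (p : H ⟶ V), IsMonHom i ∧
      IsClosedImmersion i.left ∧ p ≫ i = f ∧ Surjective p.left ∧ IsReduced V.left := by
  haveI : QuasiCompact f.left := by
    haveI : QuasiCompact (f.left ≫ G.hom) := by rw [Over.w]; infer_instance
    exact QuasiCompact.of_comp f.left G.hom
  let V : Over (Spec (CommRingCat.of k)) := Over.mk (f.left.imageι ≫ G.hom)
  let i : V ⟶ G := Over.homMk f.left.imageι rfl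
  let p : H ⟶ V := Over.homMk f.left.toImage (by
    show f.left.toImage ≫ f.left.imageι ≫ G.hom = H.hom
    rw [Scheme.Hom.toImage_imageι_assoc, Over.w])
  have hpi : p ≫ i = f := Over.OverMorphism.ext f.left.toImage_imageι
  haveI : IsClosedImmersion i.left := inferInstanceAs (IsClosedImmersion f.left.imageι)
  haveI := Over.mono_of_mono_left i
  haveI : IsSchemeTheoreticallyDominant p.left := schDominant_toImage f.left
  haveI : QuasiCompact p.left := by
    haveI : QuasiCompact (p.left ≫ i.left) := by rw [← Over.comp_left, hpi]; infer_instance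
    exact QuasiCompact.of_comp p.left i.left
  haveI : IsDominant p.left := inferInstanceAs (IsDominant f.left.toImage)
  have hV := closed_of_dominant f i p hpi
  obtain ⟨hVg, him⟩ := exists_grpObj_closed i hV.1 hV.2
  haveI : LocallyOfFiniteType V.hom := by rw [← Over.w i]; infer_instance
  haveI : IsMonHom p := AlgGrp79.isMonHom_of_forall _ fun X s t => by
    rw [← cancel_mono i, MonObj.mul_comp _ _ i, Category.assoc, Category.assoc, Category.assoc, hpi, MonObj.mul_comp]
  haveI : IsReduced H.left := isReduced_of_smooth H.hom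
  exact ⟨V, hVg, i, p, him, inferInstance, hpi, surjective_of_dominant_hom p,
    IsSchemeTheoreticallyDominant.isReduced p.left⟩

/-- A reduced image of a torus is a torus. -/
theorem isTorus_image {T T' : Over (Spec (CommRingCat.of k))} [GrpObj T] [GrpObj T'] [IsAffine T'.left]
    [LocallyOfFiniteType T'.hom] [IsReduced T'.left] (hT : Red.IsTorus T) (p : T ⟶ T') [IsMonHom p] [Surjective p.left] :
    Red.IsTorus T' := by
  obtain ⟨_, _, _, _, _⟩ := AlgGrp33.IsogSub.torus_props hT
  obtain ⟨D, _, _, ψT, _⟩ := exists_coord T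
  obtain ⟨C, _, _, ψ, _⟩ := exists_coord T'
  haveI : Algebra.FiniteType k D := GMod80.finiteType ψT
  haveI : Algebra.FiniteType k C := GMod80.finiteType ψ
  haveI : IsDomain D := by
    haveI := Hopf35.TorDom.isDomain_tensor ψT hT k
    exact (Algebra.TensorProduct.lid k D).symm.toMulEquiv.isDomain _
  haveI : _root_.IsReduced C := isReduced_of_injective (fn ψ).toRingHom (fn ψ).injective
  obtain ⟨hco, hprim⟩ := (Groth.Agent.S7979.result k D).1 (AlgGrp33.isDiagonalizable_of_isTorus ψT hT)
  let φ := pullBialg ψ ψT p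
  have hinj : Function.Injective φ := by
    rw [injective_iff_map_eq_zero]
    intro c hc
    refine Conn.eq_zero_of_forall_point (k := k) (A := C) fun x => ?_
    obtain ⟨y, hy⟩ := BorelImage.exists_pt_lift p (ToriConj.ev ψ x)
    obtain ⟨g, rfl⟩ := ToriConj.ev_surjective ψT y
    rw [← ToriConj.ev_injective ψ ((CentTorus.ev_comp ψ ψT p g).symm.trans hy)]
    exact (congrArg g.ofConv hc).trans (map_zero _)
  haveI : IsDomain C := Function.Injective.isDomain (φ : C →+* D) hinj
  haveI : Coalgebra.IsCocomm k C := ⟨LinearMap.ext fun c => by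
    refine (TensorProduct.map_injective_of_flat_flat φ.toCoalgHom.toLinearMap φ.toCoalgHom.toLinearMap hinj hinj) ?_
    have h1 := CoalgHomClass.map_comp_comul_apply φ c
    have h2 : ∀ z : C ⊗[k] C, TensorProduct.map φ.toCoalgHom.toLinearMap φ.toCoalgHom.toLinearMap (TensorProduct.comm k C C z) =
        TensorProduct.comm k D D (TensorProduct.map φ.toCoalgHom.toLinearMap φ.toCoalgHom.toLinearMap z) := fun z => by
      induction z using TensorProduct.induction_on with
      | zero => simp
      | add x y hx hy => simp only [map_add, hx, hy]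
      | tmul x y => simp
    refine (h2 _).trans ?_
    refine (congrArg (TensorProduct.comm k D D) h1).trans ?_
    refine Eq.trans ?_ h1.symm
    exact LinearMap.congr_fun hco.comm_comp_comul (φ c)⟩
  have hdiag : HopfRep.IsDiagonalizable k C := Comod33.Diag.isDiagonalizable_of_no_prim fun f hf => by
    refine hinj ?_
    rw [map_zero]
    refine hprim _ ?_
    rw [← CoalgHomClass.map_comp_comul_apply φ, hf, map_add, TensorProduct.map_tmul, TensorProduct.map_tmul]
    simp
  haveI : IsDomain (AlgebraicClosure k ⊗[k] C) := by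
    let E : AlgebraicClosure k ≃ₐ[k] k :=
      (AlgEquiv.ofBijective (Algebra.ofId k (AlgebraicClosure k)) IsAlgClosed.algebraMap_bijective_of_isIntegral).symm
    exact ((Algebra.TensorProduct.congr E AlgEquiv.refl).trans
      (Algebra.TensorProduct.lid k C)).toMulEquiv.isDomain _
  exact AlgGrp33.isTorus_of_isDiagonalizable ψ ((Groth.Agent.S7979.result k C).2
    ⟨Comod33.Diag.isCocomm_of_isDiagonalizable hdiag, fun f hf => Comod33.Diag.no_prim_of_isDiagonalizable hdiag hf⟩)

/-- The image of a maximal torus under a surjective homomorphism is a maximal torus. -/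
theorem isMaxTorus_image {G Q : Over (Spec (CommRingCat.of k))} [GrpObj G] [IsAffine G.left] [Smooth G.hom]
    [ConnectedSpace G.left] [GrpObj Q] [IsAffine Q.left] [Smooth Q.hom] [ConnectedSpace Q.left]
    (q : G ⟶ Q) [IsMonHom q] [Surjective q.left] {T : Over (Spec (CommRingCat.of k))} [GrpObj T] {iT : T ⟶ G}
    (hT : AGF.IsMaxTorus iT) {T' : Over (Spec (CommRingCat.of k))} [GrpObj T'] (iT' : T' ⟶ Q) [IsMonHom iT']
    [IsClosedImmersion iT'.left] [IsReduced T'.left] (p : T ⟶ T') [Surjective p.left] (hp : p ≫ iT' = iT ≫ q) :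
    AGF.IsMaxTorus iT' := by
  obtain ⟨_, _, hTt, -⟩ := id hT
  obtain ⟨_, _, _, _, hTc⟩ := AlgGrp33.IsogSub.torus_props hTt
  haveI : Mono iT' := Over.mono_of_mono_left iT'
  haveI : IsMonHom p := AlgGrp79.isMonHom_of_forall _ fun X s t => by
    rw [← cancel_mono iT', MonObj.mul_comp _ _ iT', Category.assoc, Category.assoc, Category.assoc, hp,
      MonObj.mul_comp _ _ (iT ≫ q)]
  haveI : IsAffine T'.left := isAffine_of_isAffineHom iT'.left
  haveI : LocallyOfFiniteType T'.hom := by rw [← Over.w iT']; infer_instance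
  have hT' : Red.IsTorus T' := isTorus_image hTt p
  -- a Borel subgroup containing the torus, and its image
  obtain ⟨B₀, _, i₀, _, _, _, _, hs₀, X, a, o, hX, _⟩ := BorelConj.exists_solvable_proper G
  have hB₀ := BorelConj.isBorelOver_of_proper i₀ hs₀ hX
  have hsolvT : Red.IsSolvableGrp T := ⟨1, fun X => by
    rw [derivedSeries_one, commutator_eq_bot_iff_center_eq_top, eq_top_iff]
    intro x _
    rw [Subgroup.mem_center_iff]
    exact fun y => mul_comm y x⟩
  obtain ⟨g, t, ht⟩ := BorelConj.exists_conj_into i₀ hX hsolvT iT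
  have hB := BorelOps.isBorelOver_conjBy hB₀ g
  obtain ⟨_, _, _, _, -⟩ := id hB
  haveI : IsAffine B₀.left := isAffine_of_isAffineHom i₀.left
  haveI : QuasiCompact B₀.hom := inferInstance
  haveI : IsMonHom (AGF.conjBy g i₀ ≫ q) := inferInstance
  obtain ⟨B', _, iB', pB, _, _, hpB, _, _⟩ := exists_red_image (AGF.conjBy g i₀ ≫ q)
  haveI : Mono iB' := Over.mono_of_mono_left iB'
  have hB' : Red.IsBorelOver k iB' := BorelImage.isBorelOver_image q _ hB iB' pB hpB
  obtain ⟨_, _, _, _, hsB', -⟩ := id hB'
  haveI : IsAffine B'.left := isAffine_of_isAffineHom iB'.left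
  haveI : IsMonHom pB := AlgGrp79.isMonHom_of_forall _ fun X s t => by
    rw [← cancel_mono iB', MonObj.mul_comp _ _ iB', Category.assoc, Category.assoc, Category.assoc, hpB,
      MonObj.mul_comp _ _ (AGF.conjBy g i₀ ≫ q)]
  haveI : Mono (AGF.conjBy g i₀) := Over.mono_of_mono_left _
  haveI := BorelTori.isMonHom_lift iT (AGF.conjBy g i₀) t ht
  have htp : (t ≫ pB) ≫ iB' = p ≫ iT' := by rw [Category.assoc, hpB, ← Category.assoc, ht, hp]
  have hrange : Set.range iT'.left ⊆ Set.range iB'.left := by
    rintro _ ⟨w, rfl⟩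
    obtain ⟨w', rfl⟩ := p.left.surjective w
    exact ⟨(t ≫ pB).left w', by rw [← Scheme.Hom.comp_apply, ← Over.comp_left, htp]; rfl⟩
  obtain ⟨t', ht'⟩ := exists_lift_of_range_subset iB' iT' hrange
  haveI := BorelTori.isMonHom_lift iT' iB' t' ht'
  have hpt : t ≫ pB = p ≫ t' := by rw [← cancel_mono iB', htp, Category.assoc, ht']
  -- a maximal torus of the image containing the image of the torus
  obtain ⟨T₀, _, i, j, hji, hmax, -⟩ := BorelTorus.main Q iB' hB'
  obtain ⟨T₁, _, j₁, _, _, hT₁, hconj⟩ := ToriConj.exists_maxTorus B' hsB'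
  haveI := hmax.1
  haveI := BorelTori.isMonHom_lift i iB' j hji
  obtain ⟨b₀, φ₀, hφ₀⟩ := hconj T₀ hmax.2.2.1 j
  obtain ⟨b, φ, hφ⟩ := hconj T' hT' t'
  let j₂ : T₁ ⟶ B' := AGF.conjBy b j₁
  haveI := BorelConj.isMonHom_conjBy b j₁
  haveI := BorelConj.isClosedImmersion_conjBy b j₁
  haveI : Mono j₂ := Over.mono_of_mono_left _
  haveI : Mono (AGF.conjBy b₀ j₁) := by
    haveI := BorelConj.isClosedImmersion_conjBy b₀ j₁
    exact Over.mono_of_mono_left _
  haveI := BorelConj.isMonHom_conjBy b₀ j₁
  have hc : ∀ (c : pk ⟶ B'), AGF.conjBy c j₁ ≫ iB' = AGF.conjBy (c ≫ iB') (j₁ ≫ iB') := fun c => by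
    simp only [AGF.conjBy, MonObj.mul_comp, GrpObj.inv_comp, Category.assoc]
  haveI : Mono (AGF.conjBy b₀ j₁ ≫ iB') := mono_comp _ _
  haveI : IsIso φ₀ := hmax.2.2.2 T₁ (AGF.conjBy b₀ j₁ ≫ iB') φ₀ hT₁ (by rw [← Category.assoc, hφ₀, hji])
  -- the torus containing the image is the image
  obtain ⟨_, _, hTa₁, _, hTc₁⟩ := AlgGrp33.IsogSub.torus_props hT₁
  haveI := BorelTori.isReduced_torus hT₁
  obtain ⟨A, _, _, ψ, _⟩ := exists_coord B₀
  obtain ⟨A', _, _, ψ', _⟩ := exists_coord B'
  obtain ⟨D, _, _, ψD, _⟩ := exists_coord T₁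
  haveI : Algebra.FiniteType k D := GMod80.finiteType ψD
  have hD : HopfRep.IsDiagonalizable k D := by
    obtain ⟨hco, hprim⟩ := (Groth.Agent.S7979.result k D).1 (AlgGrp33.isDiagonalizable_of_isTorus ψD hT₁)
    haveI := hco
    exact Comod33.Diag.isDiagonalizable_of_no_prim fun x hx => hprim x hx
  obtain ⟨T₂, _, k₂, _, _, hT₂, hdec, hconjB⟩ := ToriConj.exists_maxTorus_coord B₀ hs₀ ψ
  obtain ⟨c, χ, hχ⟩ := hconjB T hTt t
  have htmax : AGF.IsMaxTorus t := BorelTori.isMaxTorus_lift' hT t ht
  haveI : IsIso χ := by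
    haveI := BorelConj.isMonHom_conjBy c k₂
    haveI := BorelConj.isClosedImmersion_conjBy c k₂
    haveI : Mono (AGF.conjBy c k₂) := Over.mono_of_mono_left _
    exact htmax.2.2.2 T₂ (AGF.conjBy c k₂) χ hT₂ hχ
  haveI : IsIso φ.left := by
    haveI : IsClosedImmersion φ.left := by
      haveI : IsClosedImmersion (φ.left ≫ j₂.left) := by
        rw [← Over.comp_left, show φ ≫ j₂ = t' from hφ]
        haveI : IsClosedImmersion (t'.left ≫ iB'.left) := by rw [← Over.comp_left, ht']; infer_instance
        exact IsClosedImmersion.of_comp t'.left iB'.left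
      exact IsClosedImmersion.of_comp φ.left j₂.left
    haveI : Surjective φ.left := by
      obtain ⟨l, hl⟩ := exists_lift_of_range_subset φ (𝟙 T₁)
        (range_subset_of_pts _ φ.left.isClosedEmbedding.isClosed_range fun z => by
          obtain ⟨y, hy⟩ := BorelImage.exists_pt_lift pB (z ≫ j₂)
          obtain ⟨x, hx⟩ := ToriConj.ev_surjective ψ (c⁻¹ * y * c)
          obtain ⟨s₂, u, hu, hdx⟩ := hdec x
          let u' : pk ⟶ B₀ := c * ToriConj.ev ψ u * c⁻¹
          let s : pk ⟶ T := s₂ ≫ inv χ
          have hy' : y = (s ≫ t) * u' := by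
            have hst : s ≫ t = c * (s₂ ≫ k₂) * c⁻¹ := by
              rw [← hχ, Category.assoc, IsIso.inv_hom_id_assoc, BorelTori.pt_comp_conjBy]
            rw [hst]
            simp only [u']
            have e : c * (s₂ ≫ k₂) * c⁻¹ * (c * ToriConj.ev ψ u * c⁻¹) = c * ((s₂ ≫ k₂) * ToriConj.ev ψ u) * c⁻¹ := by
              group
            rw [e, ← hdx, hx]
            group
          obtain ⟨u₀, hu₀⟩ := ToriConj.ev_surjective ψ u'
          obtain ⟨cc, hcc⟩ := ToriConj.ev_surjective ψ c
          have hu₀' : u₀ ∈ DimOneClass.unipPts k A := by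
            have e : u₀ = cc * u * cc⁻¹ := ToriConj.ev_injective ψ (by rw [hu₀, map_mul, map_mul, map_inv, hcc])
            rw [e]
            intro V _ _ _ hV
            obtain ⟨m, hm⟩ := hu V hV
            refine ⟨m, ?_⟩
            have hinv : actHom k A V cc⁻¹ * actHom k A V cc = 1 := by rw [← map_mul, inv_mul_cancel, map_one]
            have hinv' : actHom k A V cc * actHom k A V cc⁻¹ = 1 := by rw [← map_mul, mul_inv_cancel, map_one]
            show (actHom k A V (cc * u * cc⁻¹) - 1) ^ m = 0
            have hpow : ∀ q : ℕ, (actHom k A V cc * (actHom k A V u - 1) * actHom k A V cc⁻¹) ^ q =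
                actHom k A V cc * (actHom k A V u - 1) ^ q * actHom k A V cc⁻¹ := fun q => by
              induction q with
              | zero => rw [pow_zero, pow_zero, _root_.mul_one, hinv']
              | succ q ih =>
                rw [pow_succ, ih, pow_succ]
                simp only [_root_.mul_assoc]
                rw [← _root_.mul_assoc (actHom k A V cc⁻¹) (actHom k A V cc), hinv, _root_.one_mul]
            rw [map_mul, map_mul, ← hinv', ← sub_mul,
              show actHom k A V cc * actHom k A V u - actHom k A V cc = actHom k A V cc * (actHom k A V u - 1) by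
                rw [mul_sub, _root_.mul_one], hpow, show (actHom k A V u - 1) ^ m = 0 from hm, mul_zero, zero_mul]
          let v : pk ⟶ T' := s ≫ p
          obtain ⟨w, hw⟩ := ToriConj.ev_surjective ψD ((v ≫ φ)⁻¹ * z)
          have hwu : HopfFlat.restrPts (pullBialg ψ' ψD j₂) w = HopfFlat.restrPts (pullBialg ψ' ψ pB) u₀ :=
            ToriConj.ev_injective ψ' (by
              rw [← CentTorus.ev_comp, ← CentTorus.ev_comp, hw, hu₀, MonObj.mul_comp _ _ j₂, GrpObj.inv_comp, ← hy, hy',
                MonObj.mul_comp _ _ pB, Category.assoc v φ, show φ ≫ j₂ = t' from hφ, Category.assoc s t,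
                hpt, Category.assoc s p, inv_mul_cancel_left])
          have h1 := eq_one_of_diag_unip hD (pullBialg ψ' ψD j₂) w (hwu ▸ unipPts_map _ hu₀')
          have hz : z = v ≫ φ := (cancel_mono j₂).1 (by
            have h2 := congrArg (ToriConj.ev ψ') h1
            rw [← CentTorus.ev_comp, hw, map_one, MonObj.mul_comp _ _ j₂, GrpObj.inv_comp, inv_mul_eq_one] at h2
            exact h2.symm)
          rw [Category.comp_id, hz, Over.comp_left]
          exact ⟨_, rfl⟩)
      exact ⟨fun w => ⟨l.left w, by rw [← Scheme.Hom.comp_apply, ← Over.comp_left, hl]; rfl⟩⟩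
    exact isIso_of_isClosedImmersion_of_surjective _
  haveI : IsIso φ := by
    haveI : IsIso ((Over.forget _).map φ) := ‹IsIso φ.left›
    exact isIso_of_reflects_iso φ (Over.forget _)
  refine ⟨inferInstance, inferInstance, hT', fun T'' _ f _ _ ξ hT'' hξ => ?_⟩
  have hcomb : (inv φ₀ ≫ j) ≫ iB' = AGF.conjBy (b₀ ≫ iB') (j₁ ≫ iB') := by
    rw [← hc, ← hφ₀, IsIso.inv_hom_id_assoc]
  let h := (b ≫ iB') * (b₀ ≫ iB')⁻¹
  have hiT' : iT' = (φ ≫ inv φ₀) ≫ AGF.conjBy h i := by
    rw [Category.assoc, BorelConj.comp_conjBy, ← hji, ← Category.assoc (inv φ₀), hcomb, BorelConj.conjBy_conjBy,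
      inv_mul_cancel_right, ← hc, ← Category.assoc, hφ, ht']
  haveI := BorelConj.isMonHom_conjBy h⁻¹ f
  haveI : Mono (AGF.conjBy h⁻¹ f) := by
    refine ⟨fun {Z} a b e => (cancel_mono f).1 ?_⟩
    rw [BorelConj.comp_conjBy, BorelConj.comp_conjBy] at e
    have := congrArg (AGF.conjBy h) e
    rwa [BorelConj.conjBy_conjBy, BorelConj.conjBy_conjBy, mul_inv_cancel, BorelConj.conjBy_one,
      BorelConj.conjBy_one] at this
  have hfac : (inv (φ ≫ inv φ₀) ≫ ξ) ≫ AGF.conjBy h⁻¹ f = i := by
    rw [BorelConj.comp_conjBy, Category.assoc, hξ, hiT', IsIso.inv_hom_id_assoc, BorelConj.conjBy_conjBy, inv_mul_cancel,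
      BorelConj.conjBy_one]
  haveI : IsIso (inv (φ ≫ inv φ₀) ≫ ξ) := hmax.2.2.2 T'' (AGF.conjBy h⁻¹ f) _ hT'' hfac
  exact IsIso.of_isIso_comp_left (inv (φ ≫ inv φ₀)) ξ

end Groth.Agent.AlgGrp79.TorusImage
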