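import Groth.Agent.AlgGrp79.QuotSub
import Groth.Agent.PnConst7.Point

/-!
The action of an affine group on projective space given by a representation.
-/

set_option autoImplicit false
set_option linter.unusedSectionVars false
set_option backward.isDefEq.respectTransparency.types false

universe u

open CategoryTheory MonoidalCategory CartesianMonoidalCategory MonObj GrpObj AlgebraicGeometry
open WithConv Matrix

noncomputable section

namespace Groth.Agent.AlgGrp79.ProjAct

open GMod80 Comod33 Comod33.Mat Approx60.ProjCharts PnConst7 QuotSub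

variable {k : Type u} [Field k] {N : ℕ}

/-- The point given by coordinates, one of which is a unit. -/
def ptO {R : Type u} [CommRing R] [Algebra k R] (a : Fin (N + 1) → R) (j : Fin (N + 1)) (h : IsUnit (a j)) :
    VecGrp.pt k R ⟶ PN k N :=
  Over.homMk (LineMap.pt k a j h) (LineMap.pt_toSpec a j h)

/-- The point given by a unimodular row. -/
def lineO {R : Type u} [CommRing R] [Algebra k R] (a : Fin (N + 1) → R) (ha : Ideal.span (Set.range a) = ⊤) :
    VecGrp.pt k R ⟶ PN k N :=
  Over.homMk (LineMap.lineMap k a ha) (LineMap.lineMap_toSpec a ha)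

theorem span_map {R R' : Type u} [CommRing R] [Algebra k R] [CommRing R'] [Algebra k R'] (ρ : R →ₐ[k] R')
    {a : Fin (N + 1) → R} (ha : Ideal.span (Set.range a) = ⊤) : Ideal.span (Set.range fun i => ρ (a i)) = ⊤ := by
  obtain ⟨s, hs⟩ := LineMap.exists_comb a ha ρ
  rw [Ideal.eq_top_iff_one, Ideal.mem_span_range_iff_exists_fun]
  exact ⟨s, hs⟩

theorem span_of_isUnit {R : Type u} [CommRing R] {a : Fin (N + 1) → R} {j : Fin (N + 1)} (h : IsUnit (a j)) :
    Ideal.span (Set.range a) = ⊤ := Ideal.eq_top_of_isUnit_mem _ (Ideal.subset_span ⟨j, rfl⟩) h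

theorem lineO_eq_ptO {R : Type u} [CommRing R] [Algebra k R] (a : Fin (N + 1) → R)
    (ha : Ideal.span (Set.range a) = ⊤) (j : Fin (N + 1)) (h : IsUnit (a j)) : lineO (k := k) a ha = ptO a j h := by
  ext : 1
  have := LineMap.lineMap_pt (k := k) a ha (AlgHom.id k R) j h
  rwa [show CommRingCat.ofHom (AlgHom.id k R).toRingHom = 𝟙 _ from rfl, Spec.map_id, Category.id_comp] at this

theorem ptMap_ptO {R R' : Type u} [CommRing R] [Algebra k R] [CommRing R'] [Algebra k R'] (ρ : R →ₐ[k] R')
    (a : Fin (N + 1) → R) (j : Fin (N + 1)) (h : IsUnit (a j)) :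
    VecGrp.ptMap ρ ≫ ptO a j h = ptO (fun i => ρ (a i)) j (h.map ρ) := by
  ext : 1
  exact LineMap.pt_comp ρ a j h

/-- Two morphisms agree if they do on localisations generating the unit ideal. -/
theorem hom_ext_loc {R : Type u} [CommRing R] [Algebra k R] {X : Over (Spec (CommRingCat.of k))}
    {u v : VecGrp.pt k R ⟶ X} {J : Type*} (e : J → R) (he : Ideal.span (Set.range e) = ⊤)
    (h : ∀ p, VecGrp.ptMap (IsScalarTower.toAlgHom k R (Localization.Away (e p))) ≫ u =
      VecGrp.ptMap (IsScalarTower.toAlgHom k R (Localization.Away (e p))) ≫ v) : u = v := by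
  ext : 1
  exact (Scheme.affineOpenCoverOfSpanRangeEqTop (R := CommRingCat.of R) e he).openCover.hom_ext _ _
    fun p => congrArg CommaMorphism.left (h p)

theorem span_mul {R : Type u} [CommRing R] {a b : Fin (N + 1) → R} (ha : Ideal.span (Set.range a) = ⊤)
    (hb : Ideal.span (Set.range b) = ⊤) :
    Ideal.span (Set.range fun p : Fin (N + 1) × Fin (N + 1) => a p.1 * b p.2) = ⊤ := by
  have : Ideal.span (Set.range a) * Ideal.span (Set.range b) ≤
      Ideal.span (Set.range fun p : Fin (N + 1) × Fin (N + 1) => a p.1 * b p.2) := by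
    rw [Ideal.span_mul_span']
    refine Ideal.span_mono ?_
    rintro _ ⟨_, ⟨i, rfl⟩, _, ⟨l, rfl⟩, rfl⟩
    exact ⟨(i, l), rfl⟩
  rw [ha, hb, Ideal.top_mul] at this
  exact top_le_iff.1 this

theorem ptMap_lineO {R R' : Type u} [CommRing R] [Algebra k R] [CommRing R'] [Algebra k R'] (ρ : R →ₐ[k] R')
    (a : Fin (N + 1) → R) (ha : Ideal.span (Set.range a) = ⊤) :
    VecGrp.ptMap ρ ≫ lineO a ha = lineO (fun i => ρ (a i)) (span_map ρ ha) := by
  refine hom_ext_loc (fun j => ρ (a j)) (span_map ρ ha) fun j => ?_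
  let σ := IsScalarTower.toAlgHom k R' (Localization.Away (ρ (a j)))
  ext : 1
  show Spec.map (CommRingCat.ofHom σ.toRingHom) ≫ Spec.map (CommRingCat.ofHom ρ.toRingHom) ≫ LineMap.lineMap k a ha =
    Spec.map (CommRingCat.ofHom σ.toRingHom) ≫ LineMap.lineMap k (fun i => ρ (a i)) (span_map ρ ha)
  have hu : IsUnit (σ (ρ (a j))) := IsLocalization.Away.algebraMap_isUnit (ρ (a j))
  rw [LineMap.lineMap_pt (fun i => ρ (a i)) (span_map ρ ha) σ j hu, ← Spec.map_comp_assoc, ← CommRingCat.ofHom_comp]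
  exact LineMap.lineMap_pt a ha (σ.comp ρ) j hu

/-- Two points agree exactly when their rows are proportional. -/
theorem lineO_eq_iff {R : Type u} [CommRing R] [Algebra k R] (a b : Fin (N + 1) → R)
    (ha : Ideal.span (Set.range a) = ⊤) (hb : Ideal.span (Set.range b) = ⊤) :
    lineO (k := k) a ha = lineO b hb ↔ ∀ i l, a i * b l = a l * b i := by
  let r : Fin (N + 1) → R × R := fun i => (a i, b i)
  have hr : Ideal.span (Set.range r) = ⊤ := by
    rw [Ideal.eq_top_iff_one, Ideal.mem_span_range_iff_exists_fun]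
    obtain ⟨s, hs⟩ := LineMap.exists_comb (k := k) a ha (AlgHom.id k R)
    obtain ⟨t, ht⟩ := LineMap.exists_comb (k := k) b hb (AlgHom.id k R)
    refine ⟨fun i => (s i, t i), Prod.ext ?_ ?_⟩
    · simpa [r, Prod.fst_sum] using hs
    · simpa [r, Prod.snd_sum] using ht
  have h := LineMap.lineMap_eq_iff r hr (AlgHom.fst k R R) (AlgHom.snd k R R)
  have e1 : VecGrp.ptMap (AlgHom.fst k R R) ≫ lineO r hr = lineO a ha := ptMap_lineO _ _ _
  have e2 : VecGrp.ptMap (AlgHom.snd k R R) ≫ lineO r hr = lineO b hb := ptMap_lineO _ _ _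
  refine Iff.trans ⟨fun e => ?_, fun e => ?_⟩ h
  · rw [← e1, ← e2] at e
    exact congrArg CommaMorphism.left e
  · rw [← e1, ← e2]
    ext : 1
    exact e

/-- A point in a standard chart is given by coordinates. -/
theorem exists_ptO {R : Type u} [CommRing R] [Algebra k R] (t : VecGrp.pt k R ⟶ PN k N) (j : Fin (N + 1))
    (ht : ∀ q, t.left q ∈ U k N j) :
    ∃ (a : Fin (N + 1) → R) (h : IsUnit (a j)), t = ptO a j h := by
  obtain ⟨φ, hφ⟩ : ∃ φ : HomogeneousLocalization.Away (CohB1.polyGrading N k) (MvPolynomial.X j) →+* R,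
      Spec.map (CommRingCat.ofHom φ) ≫ Proj.awayι (CohB1.polyGrading N k) (MvPolynomial.X j) (X₁ k N j).2 one_pos =
        t.left := by
    have hr : Set.range t.left ⊆
        Set.range (Proj.awayι (CohB1.polyGrading N k) (MvPolynomial.X j) (X₁ k N j).2 one_pos) := by
      rintro _ ⟨q, rfl⟩
      have hq : t.left q ∈ U k N j := ht q
      have e := Proj.opensRange_awayι (CohB1.polyGrading N k) (MvPolynomial.X j) (X₁ k N j).2 one_pos
      exact ((SetLike.ext_iff.1 e) _).2 hq
    haveI : IsOpenImmersion (Proj.awayι (CohB1.polyGrading N k) (MvPolynomial.X j) (X₁ k N j).2 one_pos) :=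
      inferInstance
    obtain ⟨φ, hφ⟩ := Spec.map_surjective (IsOpenImmersion.lift
      (Proj.awayι (CohB1.polyGrading N k) (MvPolynomial.X j) (X₁ k N j).2 one_pos) t.left hr)
    refine ⟨φ.hom, ?_⟩
    rw [CommRingCat.ofHom_hom, hφ]
    exact @IsOpenImmersion.lift_fac _ _ _ _ _ (by assumption) hr
  let q₀ : MvPolynomial (Fin (N + 1)) k →+* R := φ.comp (MvPolynomial.eval₂Hom
    ((HomogeneousLocalization.fromZeroRingHom (CohB1.polyGrading N k) _).comp (algebraMap k (CohB1.polyGrading N k 0)))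
    (fun i => frac k N j (X₁ k N i)))
  let a : Fin (N + 1) → R := fun i => q₀ (MvPolynomial.X i)
  have hu₀ : IsUnit (MvPolynomial.eval₂Hom
      ((HomogeneousLocalization.fromZeroRingHom (CohB1.polyGrading N k) _).comp (algebraMap k (CohB1.polyGrading N k 0)))
      (fun i => frac k N j (X₁ k N i)) (MvPolynomial.X j)) := by
    rw [MvPolynomial.eval₂Hom_X']
    have h1 : frac k N j (X₁ k N j) = 1 := by
      apply HomogeneousLocalization.val_injective
      show (HomogeneousLocalization.mk _).val = _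
      rw [HomogeneousLocalization.val_mk, HomogeneousLocalization.val_one]
      exact Localization.mk_self (⟨(X₁ k N j).1, 1, pow_one _⟩ : Submonoid.powers _)
    rw [h1]; exact isUnit_one
  have hq : point q₀ (MvPolynomial.X j) (X₁ k N j).2 one_pos (hu₀.map φ) = t.left := by
    rw [← hφ, ← point_taut j hu₀]
    erw [specMap_point]
    rfl
  have hC : q₀.comp MvPolynomial.C = algebraMap k R := by
    have h1 := Over.w (t)
    rw [← hq] at h1
    erw [point_toSpec] at h1
    exact congrArg CommRingCat.Hom.hom (Spec.map_injective h1)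
  have hq₀ : q₀ = LineMap.coord k a := MvPolynomial.ringHom_ext
    (fun r => by rw [MvPolynomial.eval₂Hom_C]; exact RingHom.congr_fun hC r) fun i => (MvPolynomial.eval₂Hom_X' (algebraMap k R) a i).symm
  have hu : IsUnit (a j) := hu₀.map φ
  refine ⟨a, hu, ?_⟩
  ext : 1
  rw [← hq]
  exact point_congr hq₀ _ _ _ _

/-- A point with values in a field is given by coordinates. -/
theorem exists_lineO_field {R : Type u} [Field R] [Algebra k R] (t : VecGrp.pt k R ⟶ PN k N) :
    ∃ (a : Fin (N + 1) → R) (ha : Ideal.span (Set.range a) = ⊤), t = lineO a ha := by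
  obtain ⟨j, hj⟩ := exists_mem_U k N (t.left (IsLocalRing.closedPoint R))
  obtain ⟨a, h, e⟩ := exists_ptO t j fun q => by
    rw [Subsingleton.elim (α := PrimeSpectrum R) q (IsLocalRing.closedPoint R)]; exact hj
  exact ⟨a, span_of_isUnit h, by rw [e, lineO_eq_ptO]⟩

/-- Maps out of a product with projective space are determined on points given by rows. -/
theorem hom_ext_PN {Z X : Over (Spec (CommRingCat.of k))} {u v : Z ⊗ PN k N ⟶ X}
    (h : ∀ (R : Type u) [CommRing R] [Algebra k R] (z : VecGrp.pt k R ⟶ Z) (a : Fin (N + 1) → R)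
      (ha : Ideal.span (Set.range a) = ⊤), lift z (lineO a ha) ≫ u = lift z (lineO a ha) ≫ v) : u = v := by
  refine GModRep.hom_ext_affine fun T _ t => ?_
  letI := GLnDiag.gAlg T
  suffices ∀ (R : Type u) [CommRing R] [Algebra k R] (s : VecGrp.pt k R ⟶ Z ⊗ PN k N), s ≫ u = s ≫ v by
    have h1 := GModRep.affP T ≫= this _ (GModRep.affInv T ≫ t)
    simpa only [← Category.assoc, GModRep.affP_affInv, Category.id_comp] using h1
  intro R _ _ s
  let x := s ≫ snd Z (PN k N)
  let I : Set R := {f | ∃ j, (PrimeSpectrum.basicOpen f : Set (PrimeSpectrum R)) ⊆ x.left ⁻¹' {z | z ∈ U k N j}}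
  have hI : Ideal.span (Set.range (Subtype.val : I → R)) = ⊤ := by
    rw [Subtype.range_coe, ← PrimeSpectrum.zeroLocus_empty_iff_eq_top, PrimeSpectrum.zeroLocus_span,
      Set.eq_empty_iff_forall_notMem]
    intro q hq
    obtain ⟨j, hj⟩ := exists_mem_U k N (x.left q)
    obtain ⟨_, ⟨f, rfl⟩, hqf, hsub⟩ :=
      PrimeSpectrum.isTopologicalBasis_basic_opens.exists_subset_of_mem_open
        (show q ∈ x.left ⁻¹' {z | z ∈ U k N j} from hj) (x.left ⁻¹ᵁ U k N j).2
    exact hqf (hq ⟨j, hsub⟩)
  refine hom_ext_loc _ hI fun ⟨f, j, hf⟩ => ?_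
  let R' := Localization.Away f
  let ρ : R →ₐ[k] R' := IsScalarTower.toAlgHom k R R'
  show VecGrp.ptMap ρ ≫ s ≫ u = VecGrp.ptMap ρ ≫ s ≫ v
  obtain ⟨a, hu, hx⟩ := exists_ptO (VecGrp.ptMap ρ ≫ x) j fun q => hf (by
    show PrimeSpectrum.comap (algebraMap R R') q ∈ PrimeSpectrum.basicOpen f
    exact fun hmem => q.isPrime.ne_top (Ideal.eq_top_of_isUnit_mem _ hmem (IsLocalization.Away.algebraMap_isUnit f)))
  rw [← lineO_eq_ptO a (span_of_isUnit hu) j hu] at hx
  have e : VecGrp.ptMap ρ ≫ s = lift (VecGrp.ptMap ρ ≫ s ≫ fst Z (PN k N)) (lineO a (span_of_isUnit hu)) := by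
    ext : 1
    · rw [lift_fst, Category.assoc]
    · rw [lift_snd, ← hx, Category.assoc]
  rw [← Category.assoc, ← Category.assoc, e]
  exact h R' _ _ _

section Act

variable {A : Type u} [CommRing A] [HopfAlgebra k A] {c : Fin (N + 1) → Fin (N + 1) → A}

theorem isUnit_ev (hc : IsRep (k := k) c) {R : Type u} [CommRing R] [Algebra k R] (f : A →ₐ[k] R) :
    IsUnit (ev f c) := by
  have h1 := ev_mul hc f (toConv f)⁻¹.ofConv
  rw [toConv_ofConv, mul_inv_cancel, ev_one hc] at h1
  exact IsUnit.of_mul_eq_one _ h1.symm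

variable (c) in
/-- The matrix of the generic point. -/
abbrev matT : Matrix (Fin (N + 1)) (Fin (N + 1)) A := (ev (AlgHom.id k A) c)ᵀ

theorem isUnit_matT (hc : IsRep (k := k) c) : IsUnit (matT (k := k) c) :=
  (Matrix.isUnit_transpose _).2 (isUnit_ev hc _)

/-- Projective space over the coordinate ring as a product. -/
def prodIso (k : Type u) [Field k] (N : ℕ) (A : Type u) [CommRing A] [Algebra k A] :
    CohB1.ProjSpace N A ≅ (sp k A ⊗ PN k N).left :=
  (Csa25.isPullback_linMap_one (n := N) (R := k) (R' := A)).flip.isoPullback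

theorem prodIso_fst : (prodIso k N A).hom ≫ (fst (sp k A) (PN k N)).left = CohB1.ProjSpace.toSpec N A :=
  (Csa25.isPullback_linMap_one (n := N) (R := k) (R' := A)).flip.isoPullback_hom_fst

theorem prodIso_snd : (prodIso k N A).hom ≫ (snd (sp k A) (PN k N)).left =
    Csa25.linMap (algebraMap k A) 1 isUnit_one :=
  (Csa25.isPullback_linMap_one (n := N) (R := k) (R' := A)).flip.isoPullback_hom_snd

/-- The action morphism. -/
def actHom (hc : IsRep (k := k) c) : sp k A ⊗ PN k N ⟶ PN k N :=
  Over.homMk ((prodIso k N A).inv ≫ Csa25.linMap (algebraMap k A) (matT (k := k) c) (isUnit_matT hc)) (by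
    show (_ ≫ _) ≫ CohB1.ProjSpace.toSpec N k = _
    rw [Category.assoc, Csa25.linMap_toSpec, ← prodIso_fst (k := k)]
    erw [Category.assoc, Iso.inv_hom_id_assoc]
    exact Over.w (fst (sp k A) (PN k N)))

/-- A point of the group given by an algebra map. -/
abbrev gPt {R : Type u} [CommRing R] [Algebra k R] (f : A →ₐ[k] R) : VecGrp.pt k R ⟶ sp k A :=
  Spec.mapMulEquiv (toConv f)

theorem gPt_left {R : Type u} [CommRing R] [Algebra k R] (f : A →ₐ[k] R) :
    (gPt f).left = Spec.map (CommRingCat.ofHom f.toRingHom) := rfl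

theorem ptMap_gPt {R R' : Type u} [CommRing R] [Algebra k R] [CommRing R'] [Algebra k R'] (ρ : R →ₐ[k] R')
    (f : A →ₐ[k] R) : VecGrp.ptMap ρ ≫ gPt f = gPt (ρ.comp f) := by
  ext : 1
  show Spec.map _ ≫ Spec.map _ = Spec.map _
  rw [← Spec.map_comp]
  rfl

theorem act_chart (hc : IsRep (k := k) c) {R : Type u} [CommRing R] [Algebra k R] (f : A →ₐ[k] R)
    (a : Fin (N + 1) → R) (j : Fin (N + 1)) (h : IsUnit (a j)) (l : Fin (N + 1)) (hl : IsUnit ((ev f c *ᵥ a) l)) :
    lift (gPt f) (ptO a j h) ≫ actHom hc = ptO (ev f c *ᵥ a) l hl := by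
  let φ : MvPolynomial (Fin (N + 1)) A →+* R := MvPolynomial.eval₂Hom f.toRingHom a
  have hφj : IsUnit (φ (MvPolynomial.X j)) := isUnit_eval_X _ a j h
  have hlin : ∀ g : Matrix (Fin (N + 1)) (Fin (N + 1)) A,
      φ.comp (Csa25.linHom (n := N) (algebraMap k A) g : MvPolynomial (Fin (N + 1)) k →+* MvPolynomial (Fin (N + 1)) A) =
        LineMap.coord k (fun l => ∑ i, f (g i l) * a i) := fun g => by
    refine MvPolynomial.ringHom_ext (fun r => ?_) (fun l => ?_)
    · show φ (Csa25.linHom (n := N) (algebraMap k A) g (MvPolynomial.C r)) = _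
      rw [Csa25.linHom_C, MvPolynomial.eval₂Hom_C, MvPolynomial.eval₂Hom_C]
      exact f.commutes r
    · show φ (Csa25.linHom (n := N) (algebraMap k A) g (MvPolynomial.X l)) = _
      rw [Csa25.linHom_X, Csa25.linForm, map_sum, MvPolynomial.eval₂Hom_X']
      simp only [φ, map_mul, MvPolynomial.eval₂Hom_C, MvPolynomial.eval₂Hom_X', AlgHom.toRingHom_eq_coe, RingHom.coe_coe]
  have h1 : (fun l => ∑ i, f ((1 : Matrix (Fin (N + 1)) (Fin (N + 1)) A) i l) * a i) = a := funext fun l => by
    rw [Finset.sum_eq_single l] <;> simp +contextual [Matrix.one_apply]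
  have h2 : (fun l => ∑ i, f (matT (k := k) c i l) * a i) = ev f c *ᵥ a := funext fun l => rfl
  let q := point φ (MvPolynomial.X j) (X₁ A N j).2 one_pos hφj ≫ (prodIso k N A).hom
  have hq : (lift (gPt f) (ptO a j h)).left = q := by
    refine Limits.pullback.hom_ext ?_ ?_
    · refine (congrArg CommaMorphism.left (lift_fst (gPt f) (ptO a j h))).trans ?_
      show _ = q ≫ (fst (sp k A) (PN k N)).left
      rw [Category.assoc, prodIso_fst]
      erw [point_toSpec]
      show Spec.map (CommRingCat.ofHom f.toRingHom) = _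
      congr 2
      exact RingHom.ext fun r => (MvPolynomial.eval₂Hom_C _ _ r).symm
    · refine (congrArg CommaMorphism.left (lift_snd (gPt f) (ptO a j h))).trans ?_
      show _ = q ≫ (snd (sp k A) (PN k N)).left
      have e := (hlin 1).trans (congrArg (LineMap.coord k) h1)
      rw [Category.assoc, prodIso_snd]
      erw [point_linMap (algebraMap k A) 1 isUnit_one φ (MvPolynomial.X j) (X₁ k N j).2
        one_pos _ (X₁ A N j).2 one_pos hφj (by rw [e]; exact isUnit_eval_X _ a j h)]
      exact (point_congr e _ _ _ _).symm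
  ext : 1
  show (lift (gPt f) (ptO a j h)).left ≫ (prodIso k N A).inv ≫ _ = _
  have e := (hlin (matT (k := k) c)).trans (congrArg (LineMap.coord k) h2)
  rw [hq, Category.assoc, Iso.hom_inv_id_assoc]
  erw [point_linMap (algebraMap k A) _ (isUnit_matT hc) φ (MvPolynomial.X l)
    (X₁ k N l).2 one_pos _ (X₁ A N j).2 one_pos hφj (by rw [e]; exact isUnit_eval_X _ _ l hl)]
  exact point_congr e _ _ _ _

theorem span_mulVec {R : Type u} [CommRing R] {M : Matrix (Fin (N + 1)) (Fin (N + 1)) R} (hM : IsUnit M)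
    {a : Fin (N + 1) → R} (ha : Ideal.span (Set.range a) = ⊤) : Ideal.span (Set.range (M *ᵥ a)) = ⊤ := by
  obtain ⟨M', hM'⟩ : ∃ M', M' * M = 1 := hM.exists_left_inv
  let J : Ideal R := Ideal.span (Set.range (M *ᵥ a))
  have key : ∀ i, a i ∈ J := fun i => by
    have e : a i = (M' *ᵥ (M *ᵥ a)) i := by rw [Matrix.mulVec_mulVec, hM', Matrix.one_mulVec]
    rw [e, Matrix.mulVec_eq_sum, Finset.sum_apply]
    refine Ideal.sum_mem J fun l _ => ?_
    rw [Pi.smul_apply]
    have hl : (M *ᵥ a) l ∈ J := Ideal.subset_span (Set.mem_range_self l)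
    exact J.mul_mem_left _ hl
  refine top_le_iff.1 (le_of_eq_of_le ha.symm (Ideal.span_le.2 ?_))
  rintro _ ⟨i, rfl⟩
  exact key i

theorem act_line (hc : IsRep (k := k) c) {R : Type u} [CommRing R] [Algebra k R] (f : A →ₐ[k] R)
    (a : Fin (N + 1) → R) (ha : Ideal.span (Set.range a) = ⊤) :
    lift (gPt f) (lineO a ha) ≫ actHom hc = lineO (ev f c *ᵥ a) (span_mulVec (isUnit_ev hc f) ha) := by
  refine hom_ext_loc _ (span_mul ha (span_mulVec (isUnit_ev hc f) ha)) fun p => ?_
  let ρ := IsScalarTower.toAlgHom k R (Localization.Away (a p.1 * (ev f c *ᵥ a) p.2))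
  have hu : IsUnit (ρ (a p.1 * (ev f c *ᵥ a) p.2)) := IsLocalization.Away.algebraMap_isUnit _
  rw [map_mul] at hu
  have e : (fun i => ρ ((ev f c *ᵥ a) i)) = ev (ρ.comp f) c *ᵥ fun i => ρ (a i) := funext fun i => by
    show ρ (∑ x, f (c i x) * a x) = ∑ x, ρ (f (c i x)) * ρ (a x)
    exact (map_sum ρ _ _).trans (Finset.sum_congr rfl fun x _ => map_mul ρ _ _)
  have hu' : IsUnit ((ev (ρ.comp f) c *ᵥ fun i => ρ (a i)) p.2) :=
    by
    rw [← congrFun e p.2]; exact isUnit_of_mul_isUnit_right hu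
  rw [← Category.assoc, comp_lift, ptMap_gPt, ptMap_lineO, ptMap_lineO,
    lineO_eq_ptO _ _ p.1 (isUnit_of_mul_isUnit_left hu), act_chart hc _ _ _ _ p.2 hu']
  exact ((lineO_eq_ptO _ (span_mulVec (isUnit_ev hc _) (span_map ρ ha)) p.2 hu').symm).trans (by congr 1; exact e.symm)

/-- The action on projective space of a representation. -/
def action (hc : IsRep (k := k) c) : AlgGrp.Action (sp k A) (PN k N) where
  act := actHom hc
  one_act := hom_ext_PN fun R _ _ z a ha => by
    have hz : z ≫ η[sp k A] = gPt ((1 : WithConv (A →ₐ[k] R)).ofConv) := by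
      rw [toUnit_unique z (toUnit _), ← Hom.one_def]
      exact (map_one _).symm
    rw [CartesianMonoidalCategory.leftUnitor_hom, lift_snd, ← Category.assoc, lift_whiskerRight, hz, act_line hc]
    simp only [ev_one hc, Matrix.one_mulVec]
  mul_act := hom_ext_PN fun R _ _ z a ha => by
    obtain ⟨f, hf⟩ := (Spec.mapMulEquiv (R := CommRingCat.of k)).surjective (z ≫ fst _ _)
    obtain ⟨g, hg⟩ := (Spec.mapMulEquiv (R := CommRingCat.of k)).surjective (z ≫ snd _ _)
    have hz : z = lift (gPt f.ofConv) (gPt g.ofConv) := CartesianMonoidalCategory.hom_ext _ _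
      (by rw [lift_fst]; exact hf.symm) (by rw [lift_snd]; exact hg.symm)
    subst hz
    have hm : lift (gPt f.ofConv) (gPt g.ofConv) ≫ μ[sp k A] = gPt (f * g).ofConv := by
      rw [← Hom.mul_def]
      exact (map_mul _ f g).symm
    rw [← Category.assoc, lift_whiskerRight, hm, lift_lift_associator_hom_assoc, lift_whiskerLeft_assoc,
      act_line hc, act_line hc, act_line hc]
    have e := ev_mul hc f.ofConv g.ofConv
    simp only [toConv_ofConv] at e
    simp only [e, Matrix.mulVec_mulVec]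

end Act

end Groth.Agent.AlgGrp79.ProjAct
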