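import Groth.Agent.AlgGrp79.BorelFixed
import Groth.Agent.AlgGrp79.ProjAct
import Groth.Agent.AlgGrp79.QuotTrans
import Groth.Agent.AlgGrp79.FiniteKernelHom
import Groth.Agent.Grp57.IdentityComponent
import Groth.Agent.Hopf35.UniKerSplit
import Groth.Agent.S14586
import Groth.Agent.S3267

/-!
Proper homogeneous spaces and solvable subgroups with proper quotient.
-/

set_option autoImplicit false
set_option linter.unusedSectionVars false
set_option backward.isDefEq.respectTransparency.types false

universe u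

open CategoryTheory MonoidalCategory CartesianMonoidalCategory MonObj GrpObj AlgebraicGeometry
open scoped TensorProduct
open WithConv Matrix

noncomputable section

namespace Groth.Agent.AlgGrp79.BorelQuot

open GMod80 Comod33 Comod33.Mat

variable {k : Type u} [Field k] [IsAlgClosed k]

/-- A group whose algebra is trigonalizable has solvable rational points. -/
theorem isSolvable_of_isTrigonalizable {A : Type u} [CommRing A] [HopfAlgebra k A] [Algebra.FiniteType k A]
    {G : Over (Spec (CommRingCat.of k))} [GrpObj G] (ψ : sp k A ≅ G) [IsMonHom ψ.hom]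
    (h : HopfRep.IsTrigonalizable k A) : Group.IsSolvable (𝟙_ (Over (Spec (CommRingCat.of k))) ⟶ G) := by
  haveI := Groth.Agent.S3267.result k A h
  let u : 𝟙_ (Over (Spec (CommRingCat.of k))) ⟶ VecGrp.pt k k := Over.homMk (𝟙 _) (by
    show 𝟙 _ ≫ Spec.map (CommRingCat.ofHom (algebraMap k k)) = 𝟙 _
    rw [Category.id_comp, show CommRingCat.ofHom (algebraMap k k) = 𝟙 _ from rfl, Spec.map_id])
  let φ : WithConv (A →ₐ[k] k) →* (𝟙_ (Over (Spec (CommRingCat.of k))) ⟶ G) :=
    { toFun := fun f => u ≫ e ψ k f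
      map_one' := by rw [map_one, MonObj.comp_one]
      map_mul' := fun f g => by rw [map_mul, MonObj.comp_mul] }
  refine solvable_of_surjective (f := φ) fun g => ?_
  obtain ⟨f, hf⟩ := (e ψ k).surjective (toUnit _ ≫ g)
  refine ⟨f, ?_⟩
  show u ≫ e ψ k f = g
  rw [hf, ← Category.assoc, toUnit_unique (u ≫ toUnit _) (𝟙 _), Category.id_comp]

/-- The closed orbit of a rational point is the quotient by the isotropy group. -/
theorem exists_proper_quotient_isotropy {G X H : Over (Spec (CommRingCat.of k))} [GrpObj G] [GrpObj H]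
    [IsAffine G.left] [Smooth G.hom] [IsProper X.hom] (a : AlgGrp.Action G X)
    (x : 𝟙_ (Over (Spec (CommRingCat.of k))) ⟶ X) (hcl : IsClosed (Set.range (a.orbitMap x).left))
    (i : H ⟶ G) [IsMonHom i] [IsClosedImmersion i.left] (sqH : IsPullback i (toUnit H) (a.orbitMap x) x) :
    ∃ (Y : Over (Spec (CommRingCat.of k))) (b : AlgGrp.Action G Y) (y : 𝟙_ (Over (Spec (CommRingCat.of k))) ⟶ Y),
      AGF.IsQuotient i Y b y ∧ IsProper Y.hom := by
  haveI : IsReduced G.left := isReduced_of_smooth G.hom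
  haveI : Mono i := Over.mono_of_mono_left i
  haveI : LocallyOfFiniteType H.hom := by rw [← Over.w i]; infer_instance
  haveI : QuasiCompact H.hom := by rw [← Over.w i]; infer_instance
  obtain ⟨Y, b, y, h1, -, h3, h4, h5⟩ := QuotSub.exists_quotient G H i
  refine ⟨Y, b, y, ⟨h1, h3, h4, h5⟩, ?_⟩
  haveI : QuasiCompact (a.orbitMap x).left := by
    have : QuasiCompact ((a.orbitMap x).left ≫ X.hom) := by rw [Over.w]; infer_instance
    exact QuasiCompact.of_comp (a.orbitMap x).left X.hom
  let Z : Over (Spec (CommRingCat.of k)) := Over.mk ((a.orbitMap x).left.imageι ≫ X.hom)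
  let z : Z ⟶ X := Over.homMk (a.orbitMap x).left.imageι rfl
  haveI : IsClosedImmersion z.left := inferInstanceAs (IsClosedImmersion (a.orbitMap x).left.imageι)
  haveI := schDominant_toImage (a.orbitMap x).left
  haveI : IsReduced Z.left := IsSchemeTheoreticallyDominant.isReduced (a.orbitMap x).left.toImage
  have hz : Set.range z.left.base = Set.range (a.orbitMap x).left.base := by
    show Set.range ((a.orbitMap x).left.ker.subschemeι) = _
    rw [Scheme.IdealSheafData.range_subschemeι, Scheme.Hom.support_ker]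
    exact hcl.closure_eq
  obtain ⟨e, -⟩ := AGF80.OrbitImm.exists_iso_orbit a x i sqH b y ⟨h1, h3, h4, h5⟩ z hz
  haveI : IsProper Z.hom := inferInstanceAs (IsProper ((a.orbitMap x).left.imageι ≫ X.hom))
  haveI : IsIso e.hom.left := ((Over.forget _).mapIso e).isIso_hom
  rw [← Over.w e.hom]
  infer_instance

/-- A smooth connected subgroup containing an open subgroup of a given subgroup scheme. -/
theorem exists_reduced_neutral (H : Over (Spec (CommRingCat.of k))) [GrpObj H] [LocallyOfFiniteType H.hom] :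
    ∃ (K : Over (Spec (CommRingCat.of k))) (_ : GrpObj K) (f : K ⟶ H), IsMonHom f ∧ IsClosedImmersion f.left ∧
      Smooth K.hom ∧ ConnectedSpace K.left ∧ IsOpen (Set.range f.left) := by
  obtain ⟨G₀, _, incl, _, _, _, -, hgeo, -⟩ := Grp57.exists_identityComponent H
  haveI : LocallyOfFiniteType G₀.hom := by rw [← Over.w incl]; infer_instance
  haveI : IrreducibleSpace G₀.left := GeometricallyIrreducible.irreducibleSpace_of_subsingleton G₀.hom
  obtain ⟨K, _, r, _, _, _, _⟩ := exists_reduced_subgroup G₀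
  haveI : LocallyOfFiniteType K.hom := by rw [← Over.w r]; infer_instance
  haveI : IsClosedImmersion (r ≫ incl).left := inferInstanceAs (IsClosedImmersion (r.left ≫ incl.left))
  refine ⟨K, inferInstance, r ≫ incl, inferInstance, inferInstance, Hopf35.Uni.smooth_of_reduced_grp K, ?_, ?_⟩
  · have hhomeo : IsIrreducible (Set.univ : Set K.left) := by
      have h1 : IsIrreducible (Set.univ : Set G₀.left) := IrreducibleSpace.isIrreducible_univ _
      let h := r.left.isClosedEmbedding.isEmbedding.toHomeomorphOfSurjective r.left.surjective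
      rw [← h.symm.surjective.range_eq, ← Set.image_univ]
      exact h1.image _ h.symm.continuous.continuousOn
    haveI : IrreducibleSpace K.left := { isPreirreducible_univ := hhomeo.2, toNonempty := ⟨hhomeo.1.some⟩ }
    infer_instance
  · have e : Set.range (r ≫ incl).left = Set.range incl.left := by
      show Set.range (r.left ≫ incl.left) = _
      rw [Scheme.Hom.comp_base, TopCat.coe_comp, Set.range_comp, r.left.surjective.range_eq, Set.image_univ]
    rw [e]
    haveI := lfp_left incl
    exact incl.left.isOpenMap.isOpen_range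

/-- A connected group with non-solvable points has a proper homogeneous space of positive dimension. -/
theorem exists_smaller (H : Over (Spec (CommRingCat.of k))) [GrpObj H] [IsAffine H.left] [Smooth H.hom]
    [ConnectedSpace H.left] (hns : ¬ Group.IsSolvable (𝟙_ (Over (Spec (CommRingCat.of k))) ⟶ H)) :
    ∃ (K : Over (Spec (CommRingCat.of k))) (_ : GrpObj K) (f : K ⟶ H), IsMonHom f ∧ IsClosedImmersion f.left ∧
      Smooth K.hom ∧ ConnectedSpace K.left ∧ Set.range f.left ≠ Set.univ ∧
      ∃ (Y : Over (Spec (CommRingCat.of k))) (b : AlgGrp.Action H Y) (y : 𝟙_ (Over (Spec (CommRingCat.of k))) ⟶ Y),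
        AGF.IsQuotient f Y b y ∧ IsProper Y.hom := by
  haveI : IsReduced H.left := isReduced_of_smooth H.hom
  haveI : QuasiCompact H.hom := inferInstance
  obtain ⟨A, _, _, ψ, hψ⟩ := exists_coord H
  haveI : Algebra.FiniteType k A := GMod80.finiteType ψ
  have hnt : ¬ HopfRep.IsTrigonalizable k A := fun h => hns (isSolvable_of_isTrigonalizable ψ h)
  unfold HopfRep.IsTrigonalizable at hnt
  push Not at hnt
  obtain ⟨V, _, _, _, hfin, ⟨hnon, hsimple⟩, hrank⟩ := hnt
  haveI := hfin
  obtain ⟨N, hN⟩ : ∃ N, Module.finrank k V = N + 1 := ⟨_, (Nat.succ_pred_eq_of_pos Module.finrank_pos).symm⟩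
  let b : Module.Basis (Fin (N + 1)) k V := Module.finBasisOfFinrankEq k V hN
  have hc := isRep_mc (A := A) b
  haveI : IsProper (QuotSub.PN k N).hom := Curves2.ProjLine.isProper_toSpec k N
  let a : AlgGrp.Action H (QuotSub.PN k N) := actRestrict (ProjAct.action hc) ψ.inv
  haveI : Nonempty (QuotSub.PN k N).left :=
    ⟨(ProjAct.lineO (k := k) (fun i => if i = 0 then (1 : k) else 0)
      (ProjAct.span_of_isUnit (j := 0) (by simp))).left (IsLocalRing.closedPoint k)⟩
  obtain ⟨x, hx⟩ := Groth.Agent.S14586.result k H (QuotSub.PN k N) a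
  obtain ⟨Hx, _, i, _, _, sq⟩ := BorelFixed.exists_isotropy a x
  haveI : Mono i := Over.mono_of_mono_left i
  haveI : LocallyOfFiniteType Hx.hom := by rw [← Over.w i]; infer_instance
  haveI : QuasiCompact Hx.hom := by rw [← Over.w i]; infer_instance
  haveI : IsAffine Hx.left := isAffine_of_isAffineHom i.left
  obtain ⟨Y₁, b₁, y₁, hY₁, _⟩ := exists_proper_quotient_isotropy a x hx i sq
  obtain ⟨K, _, f, _, _, _, _, hopen⟩ := exists_reduced_neutral Hx
  haveI : Mono f := Over.mono_of_mono_left f
  haveI : LocallyOfFiniteType K.hom := by rw [← Over.w f]; infer_instance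
  haveI : QuasiCompact K.hom := by rw [← Over.w f]; infer_instance
  haveI : IsClosedImmersion (f ≫ i).left := inferInstanceAs (IsClosedImmersion (f.left ≫ i.left))
  obtain ⟨Y₂, b₂, y₂, p1, -, p3, p4, p5⟩ := QuotSub.exists_quotient Hx K f
  haveI := QuotTrans.isProper_of_open f hopen ⟨p1, p3, p4, p5⟩
  obtain ⟨Y, b', y, q1, -, q3, q4, q5⟩ := QuotSub.exists_quotient H K (f ≫ i)
  have := QuotTrans.isProper_trans i f hY₁ (a' := b') (o' := y) ⟨q1, q3, q4, q5⟩ (b := b₂) (y := y₂) ⟨p1, p3, p4, p5⟩
  refine ⟨K, inferInstance, f ≫ i, inferInstance, inferInstance, inferInstance, inferInstance, fun huniv => ?_,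
    Y, b', y, ⟨q1, q3, q4, q5⟩, this⟩
  haveI : Surjective i.left := ⟨fun z => by
    obtain ⟨w, hw⟩ := (huniv.ge (Set.mem_univ z) : z ∈ Set.range (f ≫ i).left)
    exact ⟨f.left w, hw⟩⟩
  haveI : IsIso i.left := isIso_of_isClosedImmersion_of_surjective _
  haveI : IsIso ((Over.forget _).map i) := ‹IsIso i.left›
  haveI : IsIso i := isIso_of_reflects_iso i (Over.forget _)
  have horb : a.orbitMap x = toUnit H ≫ x := by
    rw [← cancel_epi i, sq.w, ← Category.assoc, toUnit_unique (i ≫ toUnit H) (toUnit Hx)]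
  obtain ⟨v, hv, hxv⟩ := ProjAct.exists_lineO_field (toUnit (VecGrp.pt k k) ≫ x)
  let v' : Fin (N + 1) → A := fun l => algebraMap k A (v l)
  have hv' : Ideal.span (Set.range v') = ⊤ := ProjAct.span_map (Algebra.ofId k A) hv
  have ht : toUnit (VecGrp.pt k A) ≫ x = ProjAct.lineO v' hv' := by
    have := VecGrp.ptMap (Algebra.ofId k A) ≫= hxv
    rw [ProjAct.ptMap_lineO, ← Category.assoc, toUnit_unique (_ ≫ toUnit (VecGrp.pt k k)) (toUnit _)] at this
    exact this
  let g₀ : VecGrp.pt k A ⟶ sp k A := ProjAct.gPt (AlgHom.id k A)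
  have hfix : ProjAct.lineO (k := k) (ev (AlgHom.id k A) (mc (A := A) b) *ᵥ v')
      (ProjAct.span_mulVec (ProjAct.isUnit_ev hc _) hv') = ProjAct.lineO v' hv' := by
    rw [← ProjAct.act_line hc (AlgHom.id k A) v' hv', ← ht]
    have h := (g₀ ≫ ψ.hom) ≫= horb
    rw [← Category.assoc (g₀ ≫ ψ.hom), toUnit_unique ((g₀ ≫ ψ.hom) ≫ toUnit H) (toUnit _), AGF80.Orbit.comp_orbitMap] at h
    have e1 : lift (g₀ ≫ ψ.hom) (toUnit (VecGrp.pt k A) ≫ x) ≫ a.act =
        lift g₀ (toUnit (VecGrp.pt k A) ≫ x) ≫ ProjAct.actHom hc := by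
      show _ ≫ (ψ.inv ▷ _) ≫ ProjAct.actHom hc = _
      rw [lift_whiskerRight_assoc, Category.assoc, Iso.hom_inv_id, Category.comp_id]
    rw [e1] at h
    exact h
  have hcross := (ProjAct.lineO_eq_iff _ _ _ _).1 hfix
  obtain ⟨j, hj⟩ : ∃ j, v j ≠ 0 := by
    by_contra h
    push Not at h
    obtain ⟨s, hs⟩ := Ideal.mem_span_range_iff_exists_fun.1 (hv.ge (Submodule.mem_top : (1 : k) ∈ ⊤))
    simp [h] at hs
  let Mv : Fin (N + 1) → A := ev (AlgHom.id k A) (mc (A := A) b) *ᵥ v'
  let s : A := (v j)⁻¹ • Mv j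
  let w : V := ∑ l, v l • b l
  have hMv : ∀ l, Mv l = v l • s := fun l => by
    have e : Mv l * algebraMap k A (v j) = Mv j * algebraMap k A (v l) := hcross l j
    have e2 : algebraMap k A (v j)⁻¹ * algebraMap k A (v j) = 1 := by
      rw [← map_mul, inv_mul_cancel₀ hj, map_one]
    simp only [s, Algebra.smul_def]
    linear_combination (algebraMap k A (v j)⁻¹) * e - Mv l * e2
  have hcw : HopfRep.Comod.coact (k := k) (A := A) w = w ⊗ₜ[k] s := by
    simp only [w, map_sum, map_smul, coact_basis b, Finset.smul_sum, ← TensorProduct.tmul_smul]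
    rw [Finset.sum_comm, TensorProduct.sum_tmul]
    refine Finset.sum_congr rfl fun l _ => ?_
    rw [← TensorProduct.tmul_sum, TensorProduct.smul_tmul, ← hMv]
    congr 1
    show ∑ m, v m • mc (A := A) b l m = ∑ m, mc (A := A) b l m * v' m
    exact Finset.sum_congr rfl fun m _ => by rw [Algebra.smul_def, mul_comm]
  have hw0 : w ≠ 0 := fun h => hj (by
    have e := congrArg (b.coord j) h
    simpa [w, Finsupp.single_apply] using e)
  rcases hsimple (k ∙ w) (fun z hz => by
    obtain ⟨r, rfl⟩ := Submodule.mem_span_singleton.1 hz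
    refine ⟨(r • (⟨w, Submodule.mem_span_singleton_self w⟩ : k ∙ w)) ⊗ₜ[k] s, ?_⟩
    rw [LinearMap.rTensor_tmul, map_smul, map_smul, hcw, TensorProduct.smul_tmul']
    rfl) with h | h
  · exact hw0 (by simpa using h)
  · exact hrank (by rw [← finrank_top (R := k) (M := V), ← h, finrank_span_singleton hw0])

end Groth.Agent.AlgGrp79.BorelQuot
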