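import Groth.Agent.AlgGrp79.CentLam
import Groth.Agent.AlgGrp79.TorusPts

/-!
The centraliser of a torus in a connected smooth affine group: rational points and connectedness.
-/

set_option autoImplicit false
set_option linter.unusedSectionVars false

universe u

open LaurentPolynomial TensorProduct WithConv

noncomputable section

namespace Groth.Agent.AlgGrp79.CentTorusPts

open Comod33

variable {k : Type u} [Field k]

/-- Factorization of a bialgebra map through a surjective one. -/
theorem exists_factor {A B C : Type u} [CommRing A] [HopfAlgebra k A] [CommRing B] [HopfAlgebra k B] [CommRing C]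
    [HopfAlgebra k C] (π : A →ₐc[k] B) (hπ : Function.Surjective π) (φ : A →ₐc[k] C) (h : ∀ a, π a = 0 → φ a = 0) :
    ∃ ψ : B →ₐc[k] C, ∀ a, ψ (π a) = φ a := by
  let e : (A ⧸ RingHom.ker (π : A →ₐ[k] B)) ≃ₐ[k] B :=
    Ideal.quotientKerAlgEquivOfSurjective (f := (π : A →ₐ[k] B)) hπ
  let L : B →ₐ[k] C := (Ideal.Quotient.liftₐ (RingHom.ker (π : A →ₐ[k] B)) (φ : A →ₐ[k] C)
    fun a ha => h a ha).comp e.symm.toAlgHom
  have hL : ∀ a, L (π a) = φ a := fun a => by
    have he : e.symm (π a) = Ideal.Quotient.mk _ a := by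
      rw [AlgEquiv.symm_apply_eq]
      rfl
    show Ideal.Quotient.liftₐ (RingHom.ker (π : A →ₐ[k] B)) (φ : A →ₐ[k] C) (fun a ha => h a ha) (e.symm (π a)) = _
    rw [he]
    rfl
  have hLc : L.comp (π : A →ₐ[k] B) = (φ : A →ₐ[k] C) := AlgHom.ext hL
  refine ⟨.ofAlgHom L (AlgHom.ext fun b => ?_) (AlgHom.ext fun b => ?_), hL⟩
  · obtain ⟨a, rfl⟩ := hπ b
    simp only [AlgHom.comp_apply, Bialgebra.counitAlgHom_apply, hL, CoalgHomClass.counit_comp_apply]
  · obtain ⟨a, rfl⟩ := hπ b
    simp only [AlgHom.comp_apply, Bialgebra.comulAlgHom_apply, hL]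
    rw [← CoalgHomClass.map_comp_comul_apply φ, ← CoalgHomClass.map_comp_comul_apply π]
    generalize Coalgebra.comul (R := k) a = t
    induction t using TensorProduct.induction_on with
    | zero => simp
    | add x y hx hy => simp only [map_add, hx, hy]
    | tmul x y => simp [hL]

/-- The conditions on a quotient: smooth, connected, with the centraliser as set of points. -/
theorem exists_cent_list [IsAlgClosed k] {A : Type u} [CommRing A] [HopfAlgebra k A] [Algebra.FiniteType k A]
    [Algebra.Smooth k A] (hA : ∀ e : A, IsIdempotentElem e → e = 0 ∨ e = 1) (l : List (A →ₐc[k] k[T;T⁻¹]))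
    (hl : ∀ lam ∈ l, ∀ mu ∈ l, ∀ s s' : Conn.Pt k k[T;T⁻¹],
      HopfFlat.restrPts lam s * HopfFlat.restrPts mu s' = HopfFlat.restrPts mu s' * HopfFlat.restrPts lam s) :
    ∃ (B : Type u) (_ : CommRing B) (_ : HopfAlgebra k B) (π : A →ₐc[k] B), Function.Surjective π ∧
      Algebra.FiniteType k B ∧ Algebra.Smooth k B ∧ (∀ e : B, IsIdempotentElem e → e = 0 ∨ e = 1) ∧
      ∀ g : Conn.Pt k A, (∃ h, HopfFlat.restrPts π h = g) ↔
        ∀ lam ∈ l, ∀ s, HopfFlat.restrPts lam s * g = g * HopfFlat.restrPts lam s := by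
  induction l with
  | nil =>
    exact ⟨A, inferInstance, inferInstance, BialgHom.id k A, Function.surjective_id, inferInstance, inferInstance, hA,
      fun g => ⟨fun _ lam hl => absurd hl List.not_mem_nil, fun _ => ⟨g, rfl⟩⟩⟩
  | cons lam l ih =>
    obtain ⟨B, _, _, π, hπ, hBft, hBsm, hB, hpts⟩ := ih fun x hx y hy => hl x (List.mem_cons_of_mem _ hx) y (List.mem_cons_of_mem _ hy)
    have hker : ∀ a, π a = 0 → lam a = 0 := fun a ha => by
      refine Conn.eq_zero_of_forall_point (k := k) (A := k[T;T⁻¹]) fun s => ?_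
      obtain ⟨h, hh⟩ := (hpts (HopfFlat.restrPts lam s)).2 fun mu hmu s' =>
        hl mu (List.mem_cons_of_mem _ hmu) lam List.mem_cons_self s' s
      have := DFunLike.congr_fun (congrArg WithConv.ofConv hh) a
      exact this.symm.trans ((congrArg h.ofConv ha).trans (map_zero _))
    obtain ⟨lam', hlam'⟩ := exists_factor π hπ lam hker
    haveI := CentLam.isHopfIdeal_Z lam'
    let q : B →ₐc[k] B ⧸ CentLam.Z lam' := Bialgebra.Quotient.mkBialgHom (R := k) _
    haveI : Algebra.FiniteType k (B ⧸ CentLam.Z lam') :=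
      Algebra.FiniteType.of_surjective (Ideal.Quotient.mkₐ k _) Ideal.Quotient.mk_surjective
    refine ⟨B ⧸ CentLam.Z lam', inferInstance, inferInstance, q.comp π, Ideal.Quotient.mk_surjective.comp hπ,
      inferInstance, CentLam.smooth lam', CentLam.noIdem lam' hB, fun g => ?_⟩
    have hr : ∀ s, HopfFlat.restrPts π (HopfFlat.restrPts lam' s) = HopfFlat.restrPts lam s := fun s =>
      WithConv.ofConv_injective (AlgHom.ext fun a => congrArg s.ofConv (hlam' a))
    have hinj : Function.Injective (HopfFlat.restrPts π) := fun x y e => WithConv.ofConv_injective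
      (AlgHom.ext fun b => by obtain ⟨a, rfl⟩ := hπ b; exact DFunLike.congr_fun (congrArg WithConv.ofConv e) a)
    constructor
    · rintro ⟨h, rfl⟩ mu hmu s
      have e : HopfFlat.restrPts (q.comp π) h = HopfFlat.restrPts π (HopfFlat.restrPts q h) := rfl
      rw [e]
      rcases List.mem_cons.1 hmu with rfl | hmu
      · rw [← hr, ← map_mul, ← map_mul, (CentLam.pts_iff lam' (HopfFlat.restrPts q h)).1 (fun b hb => ?_) s]
        show h.ofConv (Ideal.Quotient.mk _ b) = 0
        rw [Ideal.Quotient.eq_zero_iff_mem.2 hb, map_zero]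
      · exact (hpts _).1 ⟨_, rfl⟩ mu hmu s
    · intro hg
      obtain ⟨g', rfl⟩ := (hpts g).2 fun mu hmu => hg mu (List.mem_cons_of_mem _ hmu)
      have hz := (CentLam.pts_iff lam' g').2 fun s => hinj (by
        rw [map_mul, map_mul, hr]; exact hg lam List.mem_cons_self s)
      exact ⟨toConv (Ideal.Quotient.liftₐ _ g'.ofConv hz), rfl⟩

/-- The `i`-th coordinate one-parameter subgroup of a split torus, on algebras. -/
def coord {r : ℕ} (i : Fin r) : MonoidAlgebra k (Multiplicative (Fin r → ℤ)) →ₐ[k] k[T;T⁻¹] :=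
  MonoidAlgebra.lift k k[T;T⁻¹] (Multiplicative (Fin r → ℤ))
    { toFun := fun m => AddMonoidAlgebra.single (Multiplicative.toAdd m i) 1
      map_one' := rfl
      map_mul' := fun a b => by rw [AddMonoidAlgebra.single_mul_single, _root_.one_mul, toAdd_mul, Pi.add_apply] }

theorem coord_single {r : ℕ} (i : Fin r) (m : Multiplicative (Fin r → ℤ)) :
    coord (k := k) i (MonoidAlgebra.single m (1 : k)) = AddMonoidAlgebra.single (Multiplicative.toAdd m i) 1 := by
  rw [coord, MonoidAlgebra.lift_single, one_smul]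
  rfl

/-- The `i`-th coordinate one-parameter subgroup. -/
def coordBialg {r : ℕ} (i : Fin r) : MonoidAlgebra k (Multiplicative (Fin r → ℤ)) →ₐc[k] k[T;T⁻¹] :=
  .ofAlgHom (coord i)
    (MonoidAlgebra.algHom_ext (fun m => by simp [AlgHom.comp_apply, coord_single]) (Subsingleton.elim _ _))
    (MonoidAlgebra.algHom_ext (fun m => by simp [AlgHom.comp_apply, coord_single]) (Subsingleton.elim _ _))

/-- The inclusion of the `i`-th factor, on algebras. -/
def axisMap {r : ℕ} (i : Fin r) : k[T;T⁻¹] →ₐ[k] MonoidAlgebra k (Multiplicative (Fin r → ℤ)) :=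
  AddMonoidAlgebra.lift k (MonoidAlgebra k (Multiplicative (Fin r → ℤ))) ℤ
    ((MonoidAlgebra.of k (Multiplicative (Fin r → ℤ))).comp
      ((smulAddHom ℤ (Fin r → ℤ)).flip (Pi.single i (1 : ℤ))).toMultiplicative)

theorem axisMap_single {r : ℕ} (i : Fin r) (n : ℤ) :
    axisMap (k := k) i (AddMonoidAlgebra.single n 1) =
      MonoidAlgebra.of k _ (Multiplicative.ofAdd (n • Pi.single i (1 : ℤ))) := by
  rw [axisMap, AddMonoidAlgebra.lift_single, one_smul]
  rfl

/-- Every point of a split torus is generated by points of the coordinate subgroups. -/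
theorem mem_of_coord {C : Type u} [CommRing C] [HopfAlgebra k C] (hC : HopfRep.IsDiagonalizable k C) {r : ℕ}
    (E : C ≃ₐc[k] MonoidAlgebra k (Multiplicative (Fin r → ℤ))) (H : Subgroup (Conn.Pt k C))
    (hH : ∀ i s, HopfFlat.restrPts ((coordBialg i).comp E.toBialgHom) s ∈ H) (t : Conn.Pt k C) :
    t ∈ H := by
  classical
  let u : Fin r → H := fun i => ⟨_, hH i (toConv ((t.ofConv.comp (E.symm : _ →ₐ[k] C)).comp (axisMap i)))⟩
  letI : CommGroup H :=
    { (inferInstance : Group H) with mul_comm := fun a b => Subtype.ext (TorusPts.comm_pts hC _ _) }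
  suffices h : ((∏ i, u i : H) : Conn.Pt k C) = t by rw [← h]; exact SetLike.coe_mem _
  refine TorusPts.ext_groupLike hC fun c hc => ?_
  let ev : H →* k :=
    { toFun := fun g => g.1.ofConv c
      map_one' := TorusPts.one_apply_groupLike hc
      map_mul' := fun g h => TorusPts.mul_apply_groupLike g.1 h.1 hc }
  refine (map_prod ev u Finset.univ).trans ?_
  obtain ⟨p, rfl⟩ := E.symm.surjective c
  have hp : IsGroupLikeElem k p := by simpa using hc.map E
  obtain ⟨m, rfl⟩ := MonoidAlgebra.isGroupLikeElem_iff_mem_range_single_one.1 hp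
  obtain ⟨v, rfl⟩ := Multiplicative.ofAdd.surjective m
  have hev : ∀ i, ev (u i) = (t.ofConv.comp (E.symm : MonoidAlgebra k (Multiplicative (Fin r → ℤ)) →ₐ[k] C))
      (MonoidAlgebra.of k (Multiplicative (Fin r → ℤ)) (Multiplicative.ofAdd (v i • (Pi.single i (1 : ℤ) : Fin r → ℤ)))) := fun i => by
    show (t.ofConv.comp (E.symm : _ →ₐ[k] C))
      (axisMap i (coord i (E (E.symm (MonoidAlgebra.single (Multiplicative.ofAdd v) 1))))) = _
    rw [E.apply_symm_apply, coord_single, toAdd_ofAdd, axisMap_single]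
  rw [Finset.prod_congr rfl fun i _ => hev i, ← map_prod, ← map_prod, ← ofAdd_sum]
  rw [show (∑ i, v i • Pi.single i (1 : ℤ)) = v from by ext j; simp [Finset.sum_apply, Pi.single_apply]]
  rfl

/-- The centraliser of a split torus. -/
theorem exists_cent [IsAlgClosed k] {A : Type u} [CommRing A] [HopfAlgebra k A] [Algebra.FiniteType k A]
    [Algebra.Smooth k A] (hA : ∀ e : A, IsIdempotentElem e → e = 0 ∨ e = 1)
    {C : Type u} [CommRing C] [HopfAlgebra k C] [Algebra.FiniteType k C] [IsDomain C]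
    (hC : HopfRep.IsDiagonalizable k C) (τ : A →ₐc[k] C) :
    ∃ (B : Type u) (_ : CommRing B) (_ : HopfAlgebra k B) (π : A →ₐc[k] B), Function.Surjective π ∧
      Algebra.FiniteType k B ∧ Algebra.Smooth k B ∧ (∀ e : B, IsIdempotentElem e → e = 0 ∨ e = 1) ∧
      ∀ g : Conn.Pt k A, (∃ h, HopfFlat.restrPts π h = g) ↔
        ∀ t : Conn.Pt k C, HopfFlat.restrPts τ t * g = g * HopfFlat.restrPts τ t := by
  obtain ⟨r, ⟨E⟩⟩ := AlgGrp33.exists_equiv_split hC
  let rr : Fin r → (C →ₐc[k] k[T;T⁻¹]) := fun i => (coordBialg i).comp E.toBialgHom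
  have hlr : ∀ i s, HopfFlat.restrPts ((rr i).comp τ) s = HopfFlat.restrPts τ (HopfFlat.restrPts (rr i) s) :=
    fun i s => rfl
  obtain ⟨B, _, _, π, h1, h2, h3, h4, h5⟩ := exists_cent_list hA (List.ofFn fun i => (rr i).comp τ)
    (fun lam hlam mu hmu s s' => by
      obtain ⟨i, rfl⟩ := List.mem_ofFn.1 hlam
      obtain ⟨j, rfl⟩ := List.mem_ofFn.1 hmu
      rw [hlr, hlr, ← map_mul, ← map_mul, TorusPts.comm_pts hC])
  refine ⟨B, inferInstance, inferInstance, π, h1, h2, h3, h4, fun g => ?_⟩
  rw [h5 g]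
  constructor
  · intro hg t
    have := mem_of_coord hC E ((Subgroup.centralizer {g}).comap (HopfFlat.restrPts τ))
      (fun i s => Subgroup.mem_centralizer_iff.2 fun x hx => by
        rw [Set.mem_singleton_iff.1 hx]
        exact (hg _ (List.mem_ofFn.2 ⟨i, rfl⟩) s).symm) t
    exact (Subgroup.mem_centralizer_iff.1 this g rfl).symm
  · intro hg lam hlam s
    obtain ⟨i, rfl⟩ := List.mem_ofFn.1 hlam
    rw [hlr]
    exact hg (HopfFlat.restrPts (rr i) s)

end Groth.Agent.AlgGrp79.CentTorusPts
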