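import Groth.Agent.AlgGrp79.CentOrbit
import Groth.Agent.AlgGrp79.BorelTorus
import Groth.Agent.AlgGrp79.CentralTorus
import Groth.Agent.S3910
import Groth.Agent.Comod33.Push

/-!
A Borel subgroup contains every rational point normalising it.
-/

set_option autoImplicit false
set_option linter.unusedSectionVars false
set_option backward.isDefEq.respectTransparency.types false

universe u

open CategoryTheory MonoidalCategory CartesianMonoidalCategory MonObj GrpObj AlgebraicGeometry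
open scoped TensorProduct
open WithConv Groth.Agent.GMod80

noncomputable section

namespace Groth.Agent.AlgGrp79.NormBorel

open Comod33

variable {k : Type u} [Field k] [IsAlgClosed k]

local notation "pk" => 𝟙_ (Over (Spec (CommRingCat.of k)))

/-- A proper closed subgroup of a connected group has smaller dimension. -/
theorem dim_lt {G C : Over (Spec (CommRingCat.of k))} [GrpObj G] [GrpObj C] [Smooth G.hom] [QuasiCompact G.hom]
    [ConnectedSpace G.left] (z : C ⟶ G) [IsClosedImmersion z.left] (hne : Set.range z.left ≠ Set.univ) {d : ℕ}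
    (hd : topologicalKrullDim G.left ≤ (d + 1 : ℕ)) : topologicalKrullDim C.left ≤ (d : ℕ) := by
  haveI : IrreducibleSpace G.left := by
    have hirr := (Grp57.connectedComponent_unit G).1
    rw [PreconnectedSpace.connectedComponent_eq_univ] at hirr
    exact { isPreirreducible_univ := hirr.2, toNonempty := inferInstance }
  rw [IsHomeomorph.topologicalKrullDim_eq _ z.left.isClosedEmbedding.isEmbedding.toHomeomorph.isHomeomorph]
  refine Var76.FibreBound.dim_le_of_forall G.hom z.left.isClosedEmbedding.isClosed_range fun x hx => ?_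
  have hne' : genericPoint G.left ≠ x := fun h => hne <| Set.eq_univ_of_univ_subset <| by
    rw [← genericPoint_spec G.left, z.left.isClosedEmbedding.isClosed_range.closure_subset_iff, Set.singleton_subset_iff, h]
    exact hx
  have h1 := Var76.FibreBound.tdegN_lt G.hom (genericPoint_specializes x) hne'
  have h2 : WC97.tdegN G.hom (genericPoint G.left) ≤ d + 1 := by
    exact_mod_cast (Var76.FibreBound.tdegN_le_dim G.hom _).trans hd
  exact_mod_cast (by omega : WC97.tdegN G.hom x ≤ d)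

/-- The product of `e`-translates of the identity of a commutative group object. -/
def Pn {T : Over (Spec (CommRingCat.of k))} [GrpObj T] (e : T ⟶ T) : ℕ → (T ⟶ T)
  | 0 => 1
  | m + 1 => 𝟙 T * (Pn e m ≫ e)

theorem isMonHom_Pn {T : Over (Spec (CommRingCat.of k))} [GrpObj T] [IsCommMonObj T] (e : T ⟶ T) [IsMonHom e] :
    ∀ m, IsMonHom (Pn e m)
  | 0 => AlgGrp79.isMonHom_of_forall _ fun X s t => by
      show (s * t) ≫ (1 : T ⟶ T) = (s ≫ (1 : T ⟶ T)) * (t ≫ (1 : T ⟶ T))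
      rw [MonObj.comp_one, MonObj.comp_one, MonObj.comp_one, _root_.one_mul]
  | m + 1 => by
    haveI := isMonHom_Pn e m
    refine AlgGrp79.isMonHom_of_forall _ fun X s t => ?_
    show (s * t) ≫ (𝟙 T * (Pn e m ≫ e)) = (s ≫ (𝟙 T * (Pn e m ≫ e))) * (t ≫ (𝟙 T * (Pn e m ≫ e)))
    simp only [MonObj.comp_mul, Category.comp_id, MonObj.mul_comp]
    exact mul_mul_mul_comm _ _ _ _

/-- A point of finite order modulo a subgroup generates with it a subgroup made of finitely many cosets. -/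
theorem exists_cosets {P : Type u} [Group P] (H : Subgroup P) (y : P) (hy : ∀ h ∈ H, y * h * y⁻¹ ∈ H) {m : ℕ}
    (hm : 0 < m) (hym : y ^ m ∈ H) :
    ∃ M : Subgroup P, ∀ g, g ∈ M ↔ ∃ i < m, (y ^ i)⁻¹ * g ∈ H := by
  have hyi : ∀ (i : ℕ) (h : P), h ∈ H → y ^ i * h * (y ^ i)⁻¹ ∈ H := by
    intro i
    induction i with
    | zero => intro h hh; simpa using hh
    | succ i ih =>
      intro h hh
      have := ih _ (hy h hh)
      rwa [pow_succ, show y ^ i * y * h * (y ^ i * y)⁻¹ = y ^ i * (y * h * y⁻¹) * (y ^ i)⁻¹ by group]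
  have hred : ∀ (i : ℕ) (g : P), (y ^ i)⁻¹ * g ∈ H → ∃ i' < m, (y ^ i')⁻¹ * g ∈ H := by
    intro i g hg
    refine ⟨i % m, Nat.mod_lt _ hm, ?_⟩
    have hq : y ^ i = y ^ (i % m) * (y ^ m) ^ (i / m) := by rw [← pow_mul, ← pow_add, Nat.mod_add_div]
    have := mul_mem (pow_mem hym (i / m)) hg
    rwa [hq, _root_.mul_inv_rev, _root_.mul_assoc, mul_inv_cancel_left] at this
  have hminv : ∀ (i : ℕ), i ≤ m → y ^ i * y ^ (m - i) ∈ H := fun i hi => by rwa [← pow_add, Nat.add_sub_cancel' hi]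
  refine ⟨{
    carrier := {g | ∃ i < m, (y ^ i)⁻¹ * g ∈ H}
    one_mem' := ⟨0, hm, by simp [one_mem]⟩
    mul_mem' := ?_
    inv_mem' := ?_ }, fun g => Iff.rfl⟩
  · rintro a b ⟨i, -, ha⟩ ⟨j, -, hb⟩
    refine hred (j + i) _ ?_
    -- (y^(j+i))⁻¹ (a b)
    have hc : (y ^ j)⁻¹ * ((y ^ i)⁻¹ * a) * y ^ j ∈ H := by
      have h1 := hyi (m * j - j) _ ha
      have hj : j ≤ m * j := Nat.le_mul_of_pos_left j hm
      have h2 : y ^ (m * j - j) = (y ^ j)⁻¹ * (y ^ m) ^ j := by
        rw [eq_inv_mul_iff_mul_eq, ← pow_add, Nat.add_sub_cancel' hj, pow_mul]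
      rw [h2] at h1
      have h3 : (y ^ j)⁻¹ * ((y ^ i)⁻¹ * a) * y ^ j =
          (y ^ j)⁻¹ * (y ^ m) ^ j * (((y ^ m) ^ j)⁻¹ * ((y ^ i)⁻¹ * a) * (y ^ m) ^ j) * ((y ^ j)⁻¹ * (y ^ m) ^ j)⁻¹ := by
        group
      rw [h3, ← h2]
      exact hyi _ _ (mul_mem (mul_mem (inv_mem (pow_mem hym j)) ha) (pow_mem hym j))
    have := mul_mem hc hb
    rwa [show (y ^ (j + i))⁻¹ * (a * b) = (y ^ j)⁻¹ * ((y ^ i)⁻¹ * a) * y ^ j * ((y ^ j)⁻¹ * b) by
      rw [add_comm, pow_add, _root_.mul_inv_rev]; group]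
  · rintro a ⟨i, hi, ha⟩
    refine hred (m - i) _ ?_
    have h1 := hyi i _ (inv_mem ha)
    have h2 := mul_mem (inv_mem (hminv i hi.le)) h1
    have hc : y ^ i * y ^ (m - i) = y ^ (m - i) * y ^ i := pow_mul_comm y i (m - i)
    rwa [show (y ^ (m - i))⁻¹ * a⁻¹ = (y ^ i * y ^ (m - i))⁻¹ * (y ^ i * ((y ^ i)⁻¹ * a)⁻¹ * (y ^ i)⁻¹) by
      rw [hc, _root_.mul_inv_rev, _root_.mul_inv_rev, _root_.inv_inv]; group]

theorem act_restr {A V : Type u} [CommRing A] [HopfAlgebra k A] [AddCommGroup V] [Module k V] (c : HopfRep.Comod k A V)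
    (W : Submodule k V) (hW : @HopfRep.IsSubcomod k A _ _ _ _ V _ _ c W) (g : Conn.Pt k A) (w : W) :
    (@actHom k _ A _ _ W _ _ (ComodSub.Comod.restr c W hW) g w : V) = actHom k A V g (w : V) := by
  show W.subtype (rc g.ofConv.toLinearMap ((ComodSub.Comod.restr c W hW).coact w)) = rc g.ofConv.toLinearMap (c.coact w.1)
  rw [← rc_rTensor, ComodSub.restr_coact_coe]

/-- The character trick: if the norm of the torus is central, a normalising point lies in the Borel subgroup. -/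
theorem mem_of_central (G : Over (Spec (CommRingCat.of k))) [GrpObj G] [IsAffine G.left] [Smooth G.hom]
    [ConnectedSpace G.left] {B T : Over (Spec (CommRingCat.of k))} [GrpObj B] [GrpObj T] (iB : B ⟶ G)
    (hB : Red.IsBorelOver k iB) (i : T ⟶ G) (j : T ⟶ B) (hji : j ≫ iB = i)
    {A A' : Type u} [CommRing A] [HopfAlgebra k A] [CommRing A'] [HopfAlgebra k A'] (ψ : sp k A ≅ G) [IsMonHom ψ.hom]
    (ψB : sp k A' ≅ B) [IsMonHom ψB.hom]
    (hdec : ∀ x : Conn.Pt k A', ∃ (s : pk ⟶ T), ∃ u ∈ DimOneClass.unipPts k A', ToriConj.ev ψB x = (s ≫ j) * ToriConj.ev ψB u)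
    (hroot : ∀ (m : ℕ), 0 < m → ∀ t : pk ⟶ T, ∃ r : pk ⟶ T, (r ≫ i) ^ m = t ≫ i)
    (y : pk ⟶ G) (hyB : ∀ b : pk ⟶ B, ∃ b' : pk ⟶ B, y * (b ≫ iB) * y⁻¹ = b' ≫ iB)
    {m : ℕ} (hm : 0 < m) (hym : ∃ b : pk ⟶ B, b ≫ iB = y ^ m)
    (hcen : ∀ (t : pk ⟶ T) (g : pk ⟶ G), (((t ≫ i) * y) ^ m * (y ^ m)⁻¹) * g = g * (((t ≫ i) * y) ^ m * (y ^ m)⁻¹)) :
    ∃ b : pk ⟶ B, b ≫ iB = y := by
  classical
  obtain ⟨_, _, _, _, -, -⟩ := id hB
  haveI : IsAffine B.left := isAffine_of_isAffineHom iB.left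
  haveI : Mono iB := Over.mono_of_mono_left iB
  haveI : Algebra.FiniteType k A := GMod80.finiteType ψ
  haveI : IsReduced G.left := isReduced_of_smooth G.hom
  haveI : _root_.IsReduced A := isReduced_of_injective (fn ψ).toRingHom (fn ψ).injective
  let φ := pullBialg ψ ψB iB
  have hev : ∀ b, ToriConj.ev ψB b ≫ iB = ToriConj.ev ψ (HopfFlat.restrPts φ b) := CentTorus.ev_comp ψ ψB iB
  obtain ⟨gam0, hgam0⟩ := ToriConj.ev_surjective ψ y
  let H : Subgroup (Conn.Pt k A) := (HopfFlat.restrPts φ).range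
  have hH : ∀ g : Conn.Pt k A, g ∈ H ↔ ∃ b : pk ⟶ B, b ≫ iB = ToriConj.ev ψ g := by
    intro g
    constructor
    · rintro ⟨h, rfl⟩
      exact ⟨_, hev h⟩
    · rintro ⟨b, hb⟩
      obtain ⟨h, rfl⟩ := ToriConj.ev_surjective ψB b
      exact ⟨h, ToriConj.ev_injective ψ ((hev h).symm.trans hb)⟩
  have hyH : ∀ h ∈ H, gam0 * h * gam0⁻¹ ∈ H := fun h hh => by
    obtain ⟨b, hb⟩ := (hH h).1 hh
    obtain ⟨b', hb'⟩ := hyB b
    exact (hH _).2 ⟨b', by rw [map_mul, map_mul, map_inv, hgam0, ← hb, hb']⟩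
  have hymH : gam0 ^ m ∈ H := (hH _).2 (by rw [map_pow, hgam0]; exact hym)
  obtain ⟨M, hM⟩ := exists_cosets H gam0 hyH hm hymH
  obtain ⟨I, hIh, hI⟩ := TorusPts.exists_vanishing M
  haveI := hIh
  -- points killing I are in M
  have hker : ∀ g : Conn.Pt k A, (∀ a ∈ I, g.ofConv a = 0) → g ∈ M := by
    intro g hg
    by_contra hgM
    have hex : ∀ i : Fin m, ∃ a : A, φ a = 0 ∧ ((gam0 ^ (i : ℕ))⁻¹ * g).ofConv a ≠ 0 := by
      intro i
      by_contra h
      push Not at h
      refine hgM ((hM g).2 ⟨i, i.2, ?_⟩)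
      choose s hs using pull_surjective ψ ψB iB
      have key : ∀ a b : A, φ a = φ b → ((gam0 ^ (i : ℕ))⁻¹ * g).ofConv a = ((gam0 ^ (i : ℕ))⁻¹ * g).ofConv b :=
        fun a b e => sub_eq_zero.1 (by rw [← map_sub]; exact h _ (by rw [map_sub, e, sub_self]))
      have hs' : ∀ x, φ (s x) = x := hs
      refine ⟨toConv (AlgHom.ofLinearMap
        { toFun := fun x => ((gam0 ^ (i : ℕ))⁻¹ * g).ofConv (s x)
          map_add' := fun x x' => by rw [← map_add]; exact key _ _ (by rw [map_add, hs', hs', hs'])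
          map_smul' := fun r x => by rw [RingHom.id_apply, ← map_smul]; exact key _ _ (by rw [map_smul, hs', hs']) }
        ((key _ _ (by rw [map_one, hs'])).trans (map_one _))
        fun x x' => (key _ _ (by rw [map_mul, hs', hs', hs'])).trans (map_mul _ _ _)),
        WithConv.ofConv_injective (AlgHom.ext fun a => key _ _ (hs' _))⟩
    choose a ha ha' using hex
    let f : A := ∏ i : Fin m, (Conn.const (gam0 ^ (i : ℕ))⁻¹ * Conn.gen k A).ofConv (a i)
    have hf : ∀ x : Conn.Pt k A, x.ofConv f = ∏ i : Fin m, ((gam0 ^ (i : ℕ))⁻¹ * x).ofConv (a i) := fun x => by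
      rw [map_prod]
      exact Finset.prod_congr rfl fun i _ => by rw [← Conn.push_apply, map_mul, Conn.push_const, Conn.push_gen]
    refine Finset.prod_ne_zero_iff.2 (fun i _ => ha' i) ((hf g).symm.trans (hg f ((hI f).2 fun x hx => ?_)))
    obtain ⟨i, hi, h, hh⟩ := (hM x).1 hx
    rw [hf]
    refine Finset.prod_eq_zero (i := ⟨i, hi⟩) (Finset.mem_univ _) ?_
    rw [← hh]
    exact (congrArg h.ofConv (ha ⟨i, hi⟩)).trans (map_zero _)
  obtain ⟨V, _, _, cV, hV, v, hv0, hrep⟩ := Groth.Agent.S3019.result k A I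
  have hact : ∀ g : Conn.Pt k A, actHom k A V g v =
      TensorProduct.rid k V (LinearMap.lTensor V g.ofConv.toLinearMap (HopfRep.Comod.coact (k := k) (A := A) v)) :=
    fun g => rfl
  have hstab : ∀ g : Conn.Pt k A, g ∈ M ↔ ∃ c : k, actHom k A V g v = c • v := by
    intro g
    constructor
    · intro hg
      obtain ⟨c, hc⟩ := (hrep k g.ofConv).1 fun a ha => (hI a).1 ha g hg
      exact ⟨c, by rw [hact, hc, TensorProduct.rid_tmul]⟩
    · rintro ⟨c, hc⟩
      exact hker g ((hrep k g.ofConv).2 ⟨c, (TensorProduct.rid k V).injective (by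
        rw [TensorProduct.rid_tmul, ← hc]; exact (hact g).symm)⟩)
  -- the span of the orbit
  let W : Submodule k V := Submodule.span k (Set.range fun g : Conn.Pt k A => actHom k A V g v)
  have hvW : v ∈ W := Submodule.subset_span ⟨1, by simp⟩
  have hWsub : HopfRep.IsSubcomod (k := k) (A := A) W := Conn.isSubcomod_of_forall_point _ fun g u hu => by
    induction hu using Submodule.span_induction with
    | mem x hx =>
      obtain ⟨g', rfl⟩ := hx
      exact Submodule.subset_span ⟨g * g', by simp [map_mul, Module.End.mul_apply]⟩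
    | zero => simp
    | add x x' _ _ hx hx' => rw [map_add]; exact add_mem hx hx'
    | smul r x _ hx => rw [map_smul]; exact Submodule.smul_mem _ _ hx
  letI cW : HopfRep.Comod k A W := ComodSub.Comod.restr cV W hWsub
  have hrestr : ∀ (g : Conn.Pt k A) (w : W), (actHom k A W g w : V) = actHom k A V g (w : V) :=
    fun g w => act_restr cV W hWsub g w
  haveI : Nontrivial W := ⟨⟨v, hvW⟩, 0, fun h => hv0 (congrArg Subtype.val h)⟩
  let n := Module.finrank k W
  have hn : 0 < n := Module.finrank_pos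
  choose χ hχ using fun g : M => (hstab g.1).1 g.2
  have hχmul : ∀ g g' : M, χ (g * g') = χ g * χ g' := fun g g' => by
    refine smul_left_injective k hv0 ?_
    show χ (g * g') • v = (χ g * χ g') • v
    rw [← hχ, Subgroup.coe_mul, map_mul, Module.End.mul_apply, hχ g', map_smul, hχ g, smul_smul, _root_.mul_comm]
  have hχone : χ 1 = 1 := smul_left_injective k hv0 (by
    show χ 1 • v = (1 : k) • v
    rw [← hχ, Subgroup.coe_one, map_one, one_smul]
    rfl)
  let χh : M →* k := { toFun := χ, map_one' := hχone, map_mul' := hχmul }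
  let δ : Conn.Pt k A →* k := LinearMap.det.comp (actHom k A W)
  have hδ0 : ∀ g, δ g ≠ 0 := fun g h => by
    have := congrArg δ (mul_inv_cancel g)
    rw [map_mul, h, zero_mul, map_one] at this
    exact zero_ne_one this
  let etaH : M →* k :=
    { toFun := fun g => χh g ^ n / δ g.1
      map_one' := by simp
      map_mul' := fun g g' => by rw [map_mul, Subgroup.coe_mul, map_mul, mul_pow, div_mul_div_comm] }
  have hBM : ∀ h ∈ H, h ∈ M := fun h hh => (hM h).2 ⟨0, hm, by simpa using hh⟩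
  have hyM : gam0 ∈ M := by
    rcases Nat.lt_or_ge 1 m with h1 | h1
    · exact (hM _).2 ⟨1, h1, by simp [one_mem]⟩
    · obtain rfl : m = 1 := by omega
      exact hBM _ (by simpa using hymH)
  -- trivial on the torus
  have hTH : ∀ t : pk ⟶ T, ∀ g, ToriConj.ev ψ g = t ≫ i → g ∈ H := fun t g hg =>
    (hH g).2 ⟨t ≫ j, by rw [Category.assoc, hji, hg]⟩
  have hetaT : ∀ (t : pk ⟶ T) (g : Conn.Pt k A) (hg : ToriConj.ev ψ g = t ≫ i), etaH ⟨g, hBM g (hTH t g hg)⟩ = 1 := by
    intro t g hg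
    obtain ⟨r, hr⟩ := hroot m hm t
    obtain ⟨ρ, hρ⟩ := ToriConj.ev_surjective ψ (r ≫ i)
    have hgρ : g = ρ ^ m := ToriConj.ev_injective ψ (by rw [map_pow, hρ, hr, hg])
    let R : M := ⟨ρ, hBM ρ (hTH r ρ hρ)⟩
    let Y : M := ⟨gam0, hyM⟩
    rw [show (⟨g, hBM g (hTH t g hg)⟩ : M) = R ^ m from Subtype.ext hgρ, map_pow]
    let U : M := (R * Y) ^ m * (Y ^ m)⁻¹
    have hU : etaH U = etaH R ^ m := by
      have h1 : etaH U * etaH (Y ^ m) = etaH ((R * Y) ^ m) := by rw [← map_mul, inv_mul_cancel_right]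
      replace h1 : etaH U * etaH Y ^ m = etaH R ^ m * etaH Y ^ m := by
        rw [← mul_pow, ← map_mul, ← map_pow, ← map_pow]; exact h1
      refine mul_right_cancel₀ (pow_ne_zero m fun h0 => ?_) h1
      have := congrArg etaH (mul_inv_cancel Y)
      rw [map_mul, h0, zero_mul, map_one] at this
      exact zero_ne_one this
    rw [← hU]
    have hUc : ∀ x : Conn.Pt k A, (U : Conn.Pt k A) * x = x * U := fun x => ToriConj.ev_injective ψ (by
      rw [map_mul, map_mul]
      have hUe : ToriConj.ev ψ (U : Conn.Pt k A) = ((r ≫ i) * y) ^ m * (y ^ m)⁻¹ := by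
        simp only [U, R, Y, Subgroup.coe_mul, SubmonoidClass.coe_pow, Subgroup.coe_inv, map_mul, map_pow, map_inv, hρ, hgam0]
      rw [hUe]
      exact hcen r _)
    have hscal : actHom k A W (U : Conn.Pt k A) = χ U • 1 := by
      refine LinearMap.ext fun w => Subtype.ext ?_
      rw [hrestr]
      obtain ⟨w, hw⟩ := w
      show actHom k A V (U : Conn.Pt k A) w = χ U • w
      induction hw using Submodule.span_induction with
      | mem x hx =>
        obtain ⟨g', rfl⟩ := hx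
        show actHom k A V (U : Conn.Pt k A) (actHom k A V g' v) = χ U • actHom k A V g' v
        rw [← Module.End.mul_apply, ← map_mul, hUc g', map_mul, Module.End.mul_apply, hχ, map_smul]
      | zero => simp
      | add x x' _ _ hx hx' => simp [hx, hx', smul_add]
      | smul a x _ hx => simp [hx, smul_comm a]
    show χ U ^ n / δ (U : Conn.Pt k A) = 1
    have : δ (U : Conn.Pt k A) = χ U ^ n := by
      show LinearMap.det (actHom k A W (U : Conn.Pt k A)) = _
      rw [hscal, LinearMap.det_smul, map_one, _root_.mul_one]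
    rw [this, div_self (this ▸ hδ0 _)]
  -- trivial on the Borel subgroup
  have hetaB : ∀ (x : Conn.Pt k A'), etaH ⟨HopfFlat.restrPts φ x, hBM _ ⟨x, rfl⟩⟩ = 1 := by
    intro x
    obtain ⟨s, u, hu, hx⟩ := hdec x
    obtain ⟨τs, hτs⟩ := ToriConj.ev_surjective ψ (s ≫ i)
    have hux : HopfFlat.restrPts φ x = τs * HopfFlat.restrPts φ u := ToriConj.ev_injective ψ (by
      rw [map_mul, hτs, ← hev, ← hev, hx, MonObj.mul_comp, Category.assoc, hji])
    have h2 : etaH ⟨HopfFlat.restrPts φ u, hBM _ ⟨u, rfl⟩⟩ = 1 := by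
      have hnV : IsNilpotent (actHom k A V (HopfFlat.restrPts φ u) - 1) := by
        refine (congrArg (fun T : Module.End k V => IsNilpotent (T - 1)) ?_).mp (@hu V _ _ (push φ.toCoalgHom cV) hV)
        exact LinearMap.ext fun w => dact_push φ.toCoalgHom cV u.ofConv.toLinearMap w
      have hnW : IsNilpotent (actHom k A W (HopfFlat.restrPts φ u) - 1) := by
        refine (congrArg (fun T : Module.End k W => IsNilpotent (T - 1)) ?_).mp
          (@hu W _ _ (push φ.toCoalgHom cW) inferInstance)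
        exact LinearMap.ext fun w => dact_push φ.toCoalgHom cW u.ofConv.toLinearMap w
      have hc1 : χ ⟨HopfFlat.restrPts φ u, hBM _ ⟨u, rfl⟩⟩ = 1 := by
        obtain ⟨p, hp⟩ := hnV
        set c := χ ⟨HopfFlat.restrPts φ u, hBM _ ⟨u, rfl⟩⟩
        have hcv : (actHom k A V (HopfFlat.restrPts φ u) - 1) v = (c - 1) • v := by
          rw [LinearMap.sub_apply, Module.End.one_apply, sub_smul, one_smul, hχ ⟨_, hBM _ ⟨u, rfl⟩⟩]
        have hpow : ∀ q : ℕ, ((actHom k A V (HopfFlat.restrPts φ u) - 1) ^ q) v = (c - 1) ^ q • v := fun q => by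
          induction q with
          | zero => simp
          | succ q ih => rw [pow_succ', Module.End.mul_apply, ih, map_smul, hcv, smul_smul, ← pow_succ]
        have h0 := hpow p
        rw [hp, LinearMap.zero_apply] at h0
        exact sub_eq_zero.1 (pow_eq_zero_iff'.1 ((smul_eq_zero.1 h0.symm).resolve_right hv0)).1
      show χ _ ^ n / LinearMap.det (actHom k A W (HopfFlat.restrPts φ u)) = 1
      rw [hc1, one_pow, show actHom k A W (HopfFlat.restrPts φ u) = 1 + (actHom k A W (HopfFlat.restrPts φ u) - 1) by abel,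
        CentralTorus.det_one_add_nilpotent hnW, div_one]
    have h1 := hetaT s τs hτs
    rw [show (⟨HopfFlat.restrPts φ x, hBM _ ⟨x, rfl⟩⟩ : M) =
      ⟨τs, hBM τs (hTH s τs hτs)⟩ * ⟨HopfFlat.restrPts φ u, hBM _ ⟨u, rfl⟩⟩ from Subtype.ext hux, map_mul, h1, h2,
      _root_.one_mul]
  -- every point is in M
  let bW := Module.finBasis k W
  have hu' := GMod80.isUnit_det (Mat.isRep_mc (k := k) (A := A) bW)
  have hdetev : ∀ g : Conn.Pt k A,
      g.ofConv (Matrix.det (Mat.ev (AlgHom.id k A) (Mat.mc (A := A) bW))) = δ g := fun g => by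
    show _ = LinearMap.det (actHom k A W g)
    rw [AlgHom.map_det, ← LinearMap.det_toMatrix bW]
    congr 1
    ext i j
    rw [AlgHom.mapMatrix_apply, Matrix.map_apply, Mat.ev_apply, LinearMap.toMatrix_apply]
    exact Conn.apply_cf _ _ _
  have hall : ∀ g : Conn.Pt k A, g ∈ M := by
    intro g
    rw [hstab]
    by_contra hne
    push Not at hne
    have hnot : actHom k A V g v ∉ Submodule.span k {v} := fun hmem => by
      obtain ⟨c, hc⟩ := Submodule.mem_span_singleton.1 hmem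
      exact hne c hc.symm
    obtain ⟨l, hl, hle⟩ := Submodule.exists_le_ker_of_notMem hnot
    have hlv : l v = 0 := hle (Submodule.mem_span_singleton_self v)
    let f : A := cf (A := A) l v ^ n * ↑hu'.unit⁻¹
    have hf : ∀ x : Conn.Pt k A, x.ofConv f * δ x = l (actHom k A V x v) ^ n := fun x => by
      rw [← hdetev, ← map_mul, _root_.mul_assoc, IsUnit.val_inv_mul, _root_.mul_one, map_pow, Conn.apply_cf]
    have hinv : ∀ (x : Conn.Pt k A) (b : Conn.Pt k A'), (x * HopfFlat.restrPts φ b).ofConv f = x.ofConv f := by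
      intro x b
      refine mul_right_cancel₀ (hδ0 (x * HopfFlat.restrPts φ b)) ?_
      have hb := hetaB b
      have hb' : χ ⟨HopfFlat.restrPts φ b, hBM _ ⟨b, rfl⟩⟩ ^ n / δ (HopfFlat.restrPts φ b) = 1 := hb
      rw [div_eq_one_iff_eq (hδ0 _)] at hb'
      rw [hf, map_mul, Module.End.mul_apply, hχ ⟨HopfFlat.restrPts φ b, hBM _ ⟨b, rfl⟩⟩, map_smul, map_smul, smul_eq_mul,
        mul_pow, hb', ← hf x, map_mul δ]
      ring
    have h1 := hf g
    rw [CentralTorus.pts_const ψ hB ψB f hinv g] at h1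
    have h2 := hf 1
    rw [map_one, map_one, _root_.mul_one, Module.End.one_apply, hlv, zero_pow hn.ne'] at h2
    rw [h2, zero_mul] at h1
    exact hl (pow_eq_zero_iff'.1 h1.symm).1
  -- the Borel subgroup is normal, hence everything
  have hnormal : ∀ (g : Conn.Pt k A), ∀ h ∈ H, g * h * g⁻¹ ∈ H := by
    intro g h hh
    obtain ⟨i, -, hi⟩ := (hM g).1 (hall g)
    have hyi : ∀ (i : ℕ) (h : Conn.Pt k A), h ∈ H → gam0 ^ i * h * (gam0 ^ i)⁻¹ ∈ H := by
      intro i
      induction i with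
      | zero => intro h hh; simpa using hh
      | succ i ih =>
        intro h hh
        have := ih _ (hyH h hh)
        rwa [pow_succ, show gam0 ^ i * gam0 * h * (gam0 ^ i * gam0)⁻¹ = gam0 ^ i * (gam0 * h * gam0⁻¹) * (gam0 ^ i)⁻¹ by group]
    have := hyi i _ (mul_mem (mul_mem hi hh) (inv_mem hi))
    rwa [show gam0 ^ i * ((gam0 ^ i)⁻¹ * g * h * ((gam0 ^ i)⁻¹ * g)⁻¹) * (gam0 ^ i)⁻¹ = g * h * g⁻¹ by group] at this
  obtain ⟨x, b, hxb⟩ := Groth.Agent.S3910.result k G B iB hB y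
  obtain ⟨xg, rfl⟩ := ToriConj.ev_surjective ψ x
  obtain ⟨β, rfl⟩ := ToriConj.ev_surjective ψB b
  obtain ⟨b', hb'⟩ := (hH _).1 (hnormal xg _ ⟨β, rfl⟩)
  exact ⟨b', by rw [hb', map_mul, map_mul, map_inv, ← hev, hxb]⟩

/-- A rational point normalising a Borel subgroup lies in it. -/
theorem mem_of_normalizes : ∀ (d : ℕ) (G : Over (Spec (CommRingCat.of k))) [GrpObj G] [IsAffine G.left] [Smooth G.hom]
    [ConnectedSpace G.left], topologicalKrullDim G.left ≤ (d : ℕ) →
    ∀ {B : Over (Spec (CommRingCat.of k))} [GrpObj B] (iB : B ⟶ G), Red.IsBorelOver k iB →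
    ∀ x : pk ⟶ G, (∀ b : pk ⟶ B, ∃ b' : pk ⟶ B, x * (b ≫ iB) * x⁻¹ = b' ≫ iB) → ∃ b : pk ⟶ B, b ≫ iB = x := by
  intro d
  induction d using Nat.strong_induction_on with
  | _ d IH =>
  intro G _ _ _ _ hd B _ iB hB x hx
  classical
  obtain ⟨hBm, hBcl, hBsm, hBc, hsB, -⟩ := id hB
  haveI := hBm
  haveI := hBcl
  haveI := hBsm
  haveI := hBc
  haveI : IsAffine B.left := isAffine_of_isAffineHom iB.left
  haveI : Mono iB := Over.mono_of_mono_left iB
  haveI : QuasiCompact G.hom := inferInstance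
  obtain ⟨T, _, i, j, hji, hmax, hnorm, hcentB, ⟨A', _, _, ψB, _, hdec⟩, -⟩ := BorelTorus.main G iB hB
  obtain ⟨_, _, hT, -⟩ := hmax
  obtain ⟨hTs, _, hTa, _, hTc⟩ := AlgGrp33.IsogSub.torus_props hT
  haveI := hTs
  haveI := hTa
  haveI := hTc
  haveI : IsReduced T.left := isReduced_of_smooth T.hom
  haveI : IsReduced B.left := isReduced_of_smooth B.hom
  haveI : IsSeparated G.hom := inferInstance
  haveI : IsClosedImmersion i.left := QuotSub.isClosedImmersion_of_mono i
  haveI : IsMonHom j := AlgGrp79.isMonHom_of_forall _ fun X s t => by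
    rw [← cancel_mono iB, MonObj.mul_comp _ _ iB, Category.assoc, Category.assoc, Category.assoc, hji, MonObj.mul_comp]
  -- conjugation by x maps the Borel subgroup onto itself
  have hxinv : ∀ b : pk ⟶ B, ∃ b' : pk ⟶ B, x⁻¹ * (b ≫ iB) * x = b' ≫ iB := by
    obtain ⟨e, he⟩ := exists_lift_of_range_subset iB (AGF.conjBy x iB)
      (range_subset_of_pts _ iB.left.isClosedEmbedding.isClosed_range fun b => by
        obtain ⟨b', hb'⟩ := hx b
        have : b ≫ AGF.conjBy x iB = b' ≫ iB := by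
          rw [← hb']
          simp only [AGF.conjBy, MonObj.comp_mul, GrpObj.comp_inv, ← Category.assoc,
            toUnit_unique (b ≫ toUnit B) (𝟙 _), Category.id_comp]
        rw [this, Over.comp_left]
        exact ⟨_, rfl⟩)
    haveI : IsClosedImmersion e.left := by
      haveI := BorelConj.isClosedImmersion_conjBy x iB
      haveI : IsClosedImmersion (e.left ≫ iB.left) := by rw [← Over.comp_left, he]; infer_instance
      exact IsClosedImmersion.of_comp e.left iB.left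
    haveI := Var76.FibreBound.noetherianSpace B.hom
    haveI := BorelConj.surjective_endo e.left
    intro b
    obtain ⟨b', hb'⟩ := BorelImage.exists_pt_lift e b
    refine ⟨b', ?_⟩
    have h1 : b ≫ iB = x * (b' ≫ iB) * x⁻¹ := by
      rw [← hb', Category.assoc, he]
      simp only [AGF.conjBy, MonObj.comp_mul, GrpObj.comp_inv, ← Category.assoc,
        toUnit_unique (b' ≫ toUnit B) (𝟙 _), Category.id_comp]
    rw [h1]
    group
  obtain ⟨b₀, hb₀⟩ := hnorm x⁻¹ fun s => by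
    obtain ⟨b', hb'⟩ := hx (s ≫ j)
    exact ⟨b', by rw [← hb', _root_.inv_inv, Category.assoc, hji]⟩
  let y : pk ⟶ G := x⁻¹ * (b₀ ≫ iB)
  suffices h : ∃ b : pk ⟶ B, b ≫ iB = y by
    obtain ⟨b, hb⟩ := h
    refine ⟨b₀ * b⁻¹, ?_⟩
    rw [MonObj.mul_comp _ _ iB, GrpObj.inv_comp, hb]
    simp [y]
  have hyB : ∀ b : pk ⟶ B, ∃ b' : pk ⟶ B, y * (b ≫ iB) * y⁻¹ = b' ≫ iB := fun b => by
    obtain ⟨b', hb'⟩ := hxinv (b₀ * b * b₀⁻¹)
    refine ⟨b', ?_⟩
    rw [← hb', MonObj.mul_comp _ _ iB, MonObj.mul_comp _ _ iB, GrpObj.inv_comp]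
    simp only [y]
    group
  -- the automorphism of the torus
  have hcT : ∀ u : pk ⟶ T, u ≫ AGF.conjBy y i = y * (u ≫ i) * y⁻¹ := fun u => by
    simp only [AGF.conjBy, MonObj.comp_mul, GrpObj.comp_inv, ← Category.assoc,
      toUnit_unique (u ≫ toUnit T) (𝟙 _), Category.id_comp]
  obtain ⟨e, he⟩ := exists_lift_of_range_subset i (AGF.conjBy y i)
    (range_subset_of_pts _ i.left.isClosedEmbedding.isClosed_range fun s => by
      obtain ⟨s', hs'⟩ := hb₀ s
      rw [hcT, hs', Over.comp_left]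
      exact ⟨_, rfl⟩)
  haveI : IsMonHom i := inferInstance
  haveI : Mono i := inferInstance
  haveI := BorelConj.isMonHom_conjBy y i
  haveI : IsMonHom e := AlgGrp79.isMonHom_of_forall _ fun X s t => by
    rw [← cancel_mono i, MonObj.mul_comp _ _ i, Category.assoc, Category.assoc, Category.assoc, he, MonObj.mul_comp]
  obtain ⟨A, _, _, ψ, _⟩ := exists_coord G
  obtain ⟨D, _, _, ψT, _⟩ := exists_coord T
  haveI : Algebra.FiniteType k A := GMod80.finiteType ψ
  haveI : Algebra.FiniteType k A' := GMod80.finiteType ψB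
  haveI : Algebra.FiniteType k D := GMod80.finiteType ψT
  haveI : IsDomain D := by
    haveI := Hopf35.TorDom.isDomain_tensor ψT hT k
    exact (Algebra.TensorProduct.lid k D).symm.toMulEquiv.isDomain _
  have hD : HopfRep.IsDiagonalizable k D := by
    obtain ⟨hco, hprim⟩ := (Groth.Agent.S7979.result k D).1 (AlgGrp33.isDiagonalizable_of_isTorus ψT hT)
    haveI := hco
    exact Comod33.Diag.isDiagonalizable_of_no_prim fun x hx => hprim x hx
  let τ := pullBialg ψ ψT i
  have hevT : ∀ s, ToriConj.ev ψT s ≫ i = ToriConj.ev ψ (HopfFlat.restrPts τ s) := CentTorus.ev_comp ψ ψT i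
  -- a power of y centralizes the torus
  obtain ⟨ℓ, N, -, -, hF, hdet⟩ := FiniteFixed.exists_finite_detect hD τ
  let F := {s : Conn.Pt k D | s ^ (ℓ ^ N) = 1}
  haveI : Finite F := hF.to_subtype
  have hpowT : ∀ (a : ℕ) (s : pk ⟶ T), ∃ s' : pk ⟶ T, y ^ a * (s ≫ i) * (y ^ a)⁻¹ = s' ≫ i := by
    intro a
    induction a with
    | zero => intro s; exact ⟨s, by simp⟩
    | succ a ih =>
      intro s
      obtain ⟨s₁, hs₁⟩ := hb₀ s
      obtain ⟨s₂, hs₂⟩ := ih s₁
      refine ⟨s₂, ?_⟩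
      rw [← hs₂, pow_succ, _root_.mul_inv_rev, show (s₁ ≫ i) = y * (s ≫ i) * y⁻¹ from hs₁.symm]
      group
  choose act' hact' using hpowT
  have hfin : ∀ (a : ℕ) (s : F), act' a (ToriConj.ev ψT s.1) ∈ ToriConj.ev ψT '' F := by
    intro a s
    obtain ⟨r, hr⟩ := ToriConj.ev_surjective ψT (act' a (ToriConj.ev ψT s.1))
    refine ⟨r, ?_, hr⟩
    show r ^ (ℓ ^ N) = 1
    refine ToriConj.ev_injective ψT ((cancel_mono i).1 ?_)
    let Φ : (pk ⟶ T) →* (pk ⟶ G) := MonoidHom.mk' (fun u => u ≫ i) fun u v => MonObj.mul_comp u v i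
    show Φ (ToriConj.ev ψT (r ^ (ℓ ^ N))) = Φ (ToriConj.ev ψT 1)
    rw [map_pow, map_pow, map_one, map_one, hr]
    show (act' a (ToriConj.ev ψT s.1) ≫ i) ^ (ℓ ^ N) = 1
    rw [← hact', conj_pow,
      show (ToriConj.ev ψT s.1 ≫ i) ^ (ℓ ^ N) = Φ (ToriConj.ev ψT s.1) ^ (ℓ ^ N) from rfl, ← map_pow, ← map_pow,
      show s.1 ^ (ℓ ^ N) = 1 from s.2, map_one, map_one, _root_.mul_one, mul_inv_cancel]
  haveI : Finite ↥(ToriConj.ev ψT '' F) := (hF.image _).to_subtype
  obtain ⟨a₁, a₂, hne, heq⟩ := Finite.exists_ne_map_eq_of_infinite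
    (fun (a : ℕ) (s : F) => (⟨act' a (ToriConj.ev ψT s.1), hfin a s⟩ : ↥(ToriConj.ev ψT '' F)))
  obtain ⟨m, hm, hmcomm⟩ : ∃ m : ℕ, 0 < m ∧ ∀ s ∈ F, y ^ m * (ToriConj.ev ψT s ≫ i) = (ToriConj.ev ψT s ≫ i) * y ^ m := by
    wlog hlt : a₁ < a₂ generalizing a₁ a₂
    · exact this a₂ a₁ hne.symm heq.symm (by omega)
    refine ⟨a₂ - a₁, by omega, fun s hs => ?_⟩
    have h := congrArg (fun u => u ≫ i) (congrArg Subtype.val (congrFun heq ⟨s, hs⟩))
    simp only at h
    rw [← hact', ← hact', show a₂ = a₁ + (a₂ - a₁) by omega, pow_add] at h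
    calc y ^ (a₂ - a₁) * (ToriConj.ev ψT s ≫ i)
        = (y ^ a₁)⁻¹ * (y ^ a₁ * y ^ (a₂ - a₁) * (ToriConj.ev ψT s ≫ i) * (y ^ a₁ * y ^ (a₂ - a₁))⁻¹) * y ^ a₁ *
            y ^ (a₂ - a₁) := by group
      _ = (y ^ a₁)⁻¹ * (y ^ a₁ * (ToriConj.ev ψT s ≫ i) * (y ^ a₁)⁻¹) * y ^ a₁ * y ^ (a₂ - a₁) := by rw [h]
      _ = (ToriConj.ev ψT s ≫ i) * y ^ (a₂ - a₁) := by group
  have hymall : ∀ s : pk ⟶ T, y ^ m * (s ≫ i) = (s ≫ i) * y ^ m := by
    obtain ⟨gamm, hgamm⟩ := ToriConj.ev_surjective ψ (y ^ m)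
    have h := hdet gamm fun s hs => ToriConj.ev_injective ψ (by
      rw [map_mul, map_mul, hgamm, ← hevT]
      exact (hmcomm s hs).symm)
    intro s
    obtain ⟨s', rfl⟩ := ToriConj.ev_surjective ψT s
    rw [hevT, ← hgamm, ← map_mul, ← map_mul, h]
  obtain ⟨bm, hbm⟩ := hcentB (y ^ m) fun s => hymall s
  -- the norm map
  haveI := isMonHom_Pn e m
  have hcomm : ∀ s t : pk ⟶ T, (s ≫ i) * (t ≫ i) = (t ≫ i) * (s ≫ i) := fun s t => by
    rw [← MonObj.mul_comp, ← MonObj.mul_comp, mul_comm]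
  have hPn : ∀ (a : ℕ) (t : pk ⟶ T), t ≫ Pn e a ≫ i = ((t ≫ i) * y) ^ a * (y ^ a)⁻¹ := by
    intro a
    induction a with
    | zero => intro t; simp [Pn, MonObj.one_comp, MonObj.comp_one]
    | succ a ih =>
      intro t
      show t ≫ (𝟙 T * (Pn e a ≫ e)) ≫ i = _
      rw [MonObj.mul_comp _ _ i, MonObj.comp_mul, Category.id_comp, Category.assoc (Pn e a) e i, he,
        ← Category.assoc t (Pn e a), hcT, Category.assoc t (Pn e a) i, ih, pow_succ' ((t ≫ i) * y), pow_succ' y]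
      group
  let τ' : A' →ₐc[k] D := pullBialg ψB ψT (Pn e m ≫ j)
  have hσ : ∀ s, ToriConj.ev ψB (HopfFlat.restrPts τ' s) ≫ iB =
      ((ToriConj.ev ψT s ≫ i) * y) ^ m * (y ^ m)⁻¹ := fun s => by
    rw [← CentTorus.ev_comp ψB ψT (Pn e m ≫ j) s, Category.assoc, Category.assoc, hji, hPn]
  obtain ⟨C, _, z, _, _, _, _, hC, K, _, k', hK, hKpts⟩ := CentOrbit.exists_cent_borel iB hB ψ ψB hD τ'
  by_cases hfull : Set.range z.left = Set.univ
  · refine mem_of_central G iB hB i j hji ψ ψB hdec (fun a ha t => ?_) y hyB hm ⟨bm, hbm⟩ fun t g => ?_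
    · obtain ⟨t', rfl⟩ := ToriConj.ev_surjective ψT t
      obtain ⟨r, hr⟩ := TorusPts.exists_root hD ha t'
      let Φ : (pk ⟶ T) →* (pk ⟶ G) := MonoidHom.mk' (fun u => u ≫ i) fun u v => MonObj.mul_comp u v i
      refine ⟨ToriConj.ev ψT r, ?_⟩
      show Φ (ToriConj.ev ψT r) ^ a = Φ (ToriConj.ev ψT t')
      rw [← map_pow, ← map_pow, hr]
    · haveI : Surjective z.left := ⟨fun w => hfull.ge (Set.mem_univ w)⟩
      obtain ⟨q, hq⟩ := BorelImage.exists_pt_lift z g
      obtain ⟨t', rfl⟩ := ToriConj.ev_surjective ψT t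
      rw [← hσ]
      exact (hC g).1 ⟨q, hq⟩ t'
  · obtain ⟨q, hq⟩ := (hC y).2 fun s => by
      rw [hσ]
      set t := ToriConj.ev ψT s ≫ i
      have h1 : y * ((t * y) ^ m * (y ^ m)⁻¹) * y⁻¹ = t⁻¹ * ((t * y) ^ (m + 1) * (y ^ (m + 1))⁻¹) := by
        rw [pow_succ' (t * y), pow_succ' y]; simp only [_root_.mul_inv_rev, _root_.mul_assoc, inv_mul_cancel_left]
      have h2 : (t * y) ^ (m + 1) * (y ^ (m + 1))⁻¹ = ((t * y) ^ m * (y ^ m)⁻¹) * (y ^ m * t * (y ^ m)⁻¹) := by
        rw [pow_succ (t * y), pow_succ y]; group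
      rw [hymall, mul_inv_cancel_right] at h2
      have h3 : t⁻¹ * ((t * y) ^ m * (y ^ m)⁻¹) * t = (t * y) ^ m * (y ^ m)⁻¹ := by
        have hc : ((t * y) ^ m * (y ^ m)⁻¹) * t = t * ((t * y) ^ m * (y ^ m)⁻¹) := by
          rw [← hσ, ← CentTorus.ev_comp ψB ψT (Pn e m ≫ j) s, Category.assoc, Category.assoc, hji,
            ← Category.assoc (ToriConj.ev ψT s) (Pn e m) i]
          exact hcomm _ _
        rw [_root_.mul_assoc, hc, inv_mul_cancel_left]
      exact (mul_inv_eq_iff_eq_mul.1 (h1.trans ((congrArg (t⁻¹ * ·) h2).trans ((_root_.mul_assoc _ _ _).symm.trans h3)))).symm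
    haveI : IsAffine C.left := isAffine_of_isAffineHom z.left
    haveI : IsAffine K.left := by obtain ⟨-, hc, -⟩ := hK; haveI := hc; exact isAffine_of_isAffineHom k'.left
    obtain ⟨d', rfl⟩ : ∃ d', d = d' + 1 := by
      refine ⟨d - 1, ?_⟩
      by_contra hd0
      obtain rfl : d = 0 := by omega
      refine hfull (Set.eq_univ_of_forall fun w => ?_)
      haveI : IrreducibleSpace G.left := by
        have hirr := (Grp57.connectedComponent_unit G).1
        rw [PreconnectedSpace.connectedComponent_eq_univ] at hirr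
        exact { isPreirreducible_univ := hirr.2, toNonempty := inferInstance }
      have hpt : ∀ w : G.left, genericPoint G.left = w := fun w => by
        by_contra hne'
        have h1 := Var76.FibreBound.tdegN_lt G.hom (genericPoint_specializes w) hne'
        have h2 : WC97.tdegN G.hom (genericPoint G.left) ≤ 0 := by
          exact_mod_cast (Var76.FibreBound.tdegN_le_dim G.hom _).trans hd
        omega
      exact ⟨(η[C]).left (IsLocalRing.closedPoint k), (hpt _).symm.trans (hpt w)⟩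
    obtain ⟨r, hr⟩ := IH d' (by omega) C (dim_lt z hfull hd) k' hK q fun b => by
      obtain ⟨b₁, hb₁⟩ := (hKpts (b ≫ k')).1 ⟨b, rfl⟩
      obtain ⟨b₂, hb₂⟩ := hyB b₁
      obtain ⟨r, hr⟩ := (hKpts (q * (b ≫ k') * q⁻¹)).2 ⟨b₂, by
        rw [MonObj.mul_comp _ _ z, MonObj.mul_comp _ _ z, GrpObj.inv_comp, hq, ← hb₁, hb₂]⟩
      exact ⟨r, hr.symm⟩
    obtain ⟨b, hb⟩ := (hKpts q).1 ⟨r, hr⟩
    exact ⟨b, hb.trans hq⟩

end Groth.Agent.AlgGrp79.NormBorel
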