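import Groth.Agent.AlgGrp79.BorelQuot

/-!
Existence and conjugacy of Borel subgroups over an algebraically closed field.
-/

set_option autoImplicit false
set_option linter.unusedSectionVars false
set_option backward.isDefEq.respectTransparency.types false

universe u

open CategoryTheory MonoidalCategory CartesianMonoidalCategory MonObj GrpObj AlgebraicGeometry
open scoped commutatorElement

noncomputable section

namespace Groth.Agent.AlgGrp79.BorelConj

variable {k : Type u} [Field k] [IsAlgClosed k]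

/-- Solvability of a smooth connected affine group is seen on rational points. -/
theorem derivedSeries_eq_bot_of_pts (n : ℕ) : ∀ (B : Over (Spec (CommRingCat.of k))) [GrpObj B] [IsAffine B.left]
    [Smooth B.hom] [ConnectedSpace B.left], derivedSeries (𝟙_ (Over (Spec (CommRingCat.of k))) ⟶ B) n = ⊥ →
    ∀ T : Over (Spec (CommRingCat.of k)), derivedSeries (T ⟶ B) n = ⊥ := by
  induction n with
  | zero =>
    intro B _ _ _ _ hn T
    haveI : IsReduced B.left := isReduced_of_smooth B.hom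
    haveI := isSeparated_grp B
    have e : 𝟙 B = (1 : B ⟶ B) := BorelFixed.hom_ext_pts _ _ fun p => by
      rw [derivedSeries_zero] at hn
      rw [Category.comp_id, MonObj.comp_one]
      exact Subgroup.mem_bot.1 (hn ▸ Subgroup.mem_top p)
    rw [derivedSeries_zero, eq_bot_iff]
    intro g _
    rw [Subgroup.mem_bot, ← Category.comp_id g, e, MonObj.comp_one]
  | succ n ih =>
    intro B _ _ _ _ hn T
    haveI : IsReduced B.left := isReduced_of_smooth B.hom
    haveI : QuasiCompact B.hom := inferInstance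
    obtain ⟨D, _, i, _, _, _, _, hD⟩ := BorelFixed.exists_commutator B
    haveI : IsAffine D.left := isAffine_of_isAffineHom i.left
    haveI : Mono i := Over.mono_of_mono_left i
    have hDn : derivedSeries (𝟙_ (Over (Spec (CommRingCat.of k))) ⟶ D) n = ⊥ :=
      BorelFixed.derivedSeries_eq_bot (IsMonHom.monoidHom i _) (fun p q h => (cancel_mono i).1 h)
        (by rintro _ ⟨d, rfl⟩; exact hD.le ⟨d, rfl⟩) hn
    haveI := reduced_prod B B
    haveI := lft_prod B B
    obtain ⟨c, hc⟩ := exists_lift_of_range_subset i (⁅(fst B B : B ⊗ B ⟶ B), snd B B⁆)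
      (range_subset_of_pts _ i.left.isClosedEmbedding.isClosed_range fun p => by
        have hm : p ≫ ⁅(fst B B : B ⊗ B ⟶ B), snd B B⁆ ∈ commutator (𝟙_ (Over (Spec (CommRingCat.of k))) ⟶ B) := by
          rw [commutatorElement_def, MonObj.comp_mul, MonObj.comp_mul, MonObj.comp_mul, GrpObj.comp_inv, GrpObj.comp_inv,
            ← commutatorElement_def]
          exact Subgroup.commutator_mem_commutator (Subgroup.mem_top _) (Subgroup.mem_top _)
        obtain ⟨d, hd⟩ := hD.ge hm
        rw [← hd]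
        exact ⟨d.left (IsLocalRing.closedPoint k), rfl⟩)
    let φ : (T ⟶ D) →* (T ⟶ B) := IsMonHom.monoidHom i T
    have hrange : commutator (T ⟶ B) ≤ φ.range := by
      rw [commutator_eq_closure, Subgroup.closure_le]
      rintro _ ⟨g, h, rfl⟩
      refine ⟨lift g h ≫ c, ?_⟩
      show (lift g h ≫ c) ≫ i = _
      simp [hc, commutatorElement_def, MonObj.comp_mul, GrpObj.comp_inv]
    have key : ∀ m, derivedSeries (T ⟶ B) (m + 1) ≤ (derivedSeries (T ⟶ D) m).map φ := by
      intro m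
      induction m with
      | zero => rw [derivedSeries_one, derivedSeries_zero, ← MonoidHom.range_eq_map]; exact hrange
      | succ m hm =>
        rw [derivedSeries_succ (T ⟶ B) (m + 1), derivedSeries_succ (T ⟶ D) m, Subgroup.map_commutator]
        exact Subgroup.commutator_mono hm hm
    rw [eq_bot_iff]
    refine (key n).trans ?_
    rw [ih D hDn T, Subgroup.map_bot]

theorem isSolvableGrp_of_pts (B : Over (Spec (CommRingCat.of k))) [GrpObj B] [IsAffine B.left] [Smooth B.hom]
    [ConnectedSpace B.left] [Group.IsSolvable (𝟙_ (Over (Spec (CommRingCat.of k))) ⟶ B)] : Red.IsSolvableGrp B := by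
  obtain ⟨n, hn⟩ := Group.IsSolvable.solvable (G := 𝟙_ (Over (Spec (CommRingCat.of k))) ⟶ B)
  exact ⟨n, derivedSeries_eq_bot_of_pts n B hn⟩

/-- A solvable smooth connected subgroup with proper quotient exists. -/
theorem exists_solvable_proper (G : Over (Spec (CommRingCat.of k))) [GrpObj G] [IsAffine G.left] [Smooth G.hom]
    [ConnectedSpace G.left] :
    ∃ (B : Over (Spec (CommRingCat.of k))) (_ : GrpObj B) (iB : B ⟶ G), IsMonHom iB ∧ IsClosedImmersion iB.left ∧
      Smooth B.hom ∧ ConnectedSpace B.left ∧ Red.IsSolvableGrp B ∧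
      ∃ (X : Over (Spec (CommRingCat.of k))) (a : AlgGrp.Action G X) (o : 𝟙_ (Over (Spec (CommRingCat.of k))) ⟶ X),
        AGF.IsQuotient iB X a o ∧ IsProper X.hom := by
  haveI : QuasiCompact G.hom := inferInstance
  haveI := Var76.FibreBound.noetherianSpace G.hom
  let S : Set (TopologicalSpace.Closeds G.left) :=
    {C | ∃ (B : Over (Spec (CommRingCat.of k))) (_ : GrpObj B) (iB : B ⟶ G), IsMonHom iB ∧ IsClosedImmersion iB.left ∧
      Smooth B.hom ∧ ConnectedSpace B.left ∧ Set.range iB.left = (C : Set G.left) ∧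
      ∃ (X : Over (Spec (CommRingCat.of k))) (a : AlgGrp.Action G X) (o : 𝟙_ (Over (Spec (CommRingCat.of k))) ⟶ X),
        AGF.IsQuotient iB X a o ∧ IsProper X.hom}
  have hS : S.Nonempty := by
    haveI : IsIso (𝟙 G : G ⟶ G).left := inferInstanceAs (IsIso (𝟙 G.left))
    obtain ⟨X, a, o, h1, -, h3, h4, h5⟩ := QuotSub.exists_quotient G G (𝟙 G)
    refine ⟨⊤, G, inferInstance, 𝟙 G, inferInstance, inferInstance, inferInstance, inferInstance, ?_, X, a, o,
      ⟨h1, h3, h4, h5⟩, QuotTrans.isProper_of_open (𝟙 G) ?_ ⟨h1, h3, h4, h5⟩⟩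
    · simp
    · exact (𝟙 G : G ⟶ G).left.isOpenEmbedding.isOpen_range
  obtain ⟨C, ⟨B, _, iB, _, _, _, _, hr, X, a, o, hX, hp⟩, hmin⟩ :=
    WellFounded.has_min (wellFounded_lt (α := TopologicalSpace.Closeds G.left)) S hS
  haveI : IsAffine B.left := isAffine_of_isAffineHom iB.left
  haveI : Mono iB := Over.mono_of_mono_left iB
  refine ⟨B, inferInstance, iB, inferInstance, inferInstance, inferInstance, inferInstance, ?_, X, a, o, hX, hp⟩
  by_cases hsol : Group.IsSolvable (𝟙_ (Over (Spec (CommRingCat.of k))) ⟶ B)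
  · exact isSolvableGrp_of_pts B
  exfalso
  obtain ⟨K, _, f, _, _, _, _, hne, Y, b, y, hY, _⟩ := BorelQuot.exists_smaller B hsol
  haveI : IsClosedImmersion (f ≫ iB).left := inferInstanceAs (IsClosedImmersion (f.left ≫ iB.left))
  haveI : Mono (f ≫ iB) := Over.mono_of_mono_left _
  haveI : LocallyOfFiniteType K.hom := by rw [← Over.w (f ≫ iB)]; infer_instance
  haveI : QuasiCompact K.hom := by rw [← Over.w (f ≫ iB)]; infer_instance
  obtain ⟨X', a', o', q1, -, q3, q4, q5⟩ := QuotSub.exists_quotient G K (f ≫ iB)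
  have hp' := QuotTrans.isProper_trans iB f hX (a' := a') (o' := o') ⟨q1, q3, q4, q5⟩ (b := b) (y := y) hY
  refine hmin ⟨Set.range (f ≫ iB).left, (f ≫ iB).left.isClosedEmbedding.isClosed_range⟩
    ⟨K, inferInstance, f ≫ iB, inferInstance, inferInstance, inferInstance, inferInstance, rfl, X', a', o',
      ⟨q1, q3, q4, q5⟩, hp'⟩ ?_
  have hsub : Set.range (f ≫ iB).left ⊆ (C : Set G.left) := by
    rw [← hr]
    exact Set.range_comp_subset_range f.left iB.left
  refine lt_of_le_not_ge hsub fun hge => hne (Set.eq_univ_of_forall fun z => ?_)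
  obtain ⟨w, hw⟩ := hge (hr.le ⟨z, rfl⟩)
  exact ⟨w, iB.left.isClosedEmbedding.injective hw⟩

variable {G : Over (Spec (CommRingCat.of k))} [GrpObj G]

theorem comp_conjBy {H K : Over (Spec (CommRingCat.of k))} (φ : K ⟶ H) (g : 𝟙_ (Over (Spec (CommRingCat.of k))) ⟶ G)
    (i : H ⟶ G) : φ ≫ AGF.conjBy g i = AGF.conjBy g (φ ≫ i) := by
  simp only [AGF.conjBy, MonObj.comp_mul, GrpObj.comp_inv, ← Category.assoc, toUnit_unique (φ ≫ toUnit H) (toUnit K)]

theorem conjBy_conjBy {H : Over (Spec (CommRingCat.of k))} (g g' : 𝟙_ (Over (Spec (CommRingCat.of k))) ⟶ G)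
    (i : H ⟶ G) : AGF.conjBy g (AGF.conjBy g' i) = AGF.conjBy (g * g') i := by
  simp only [AGF.conjBy, MonObj.comp_mul, _root_.mul_inv_rev, _root_.mul_assoc]

theorem conjBy_one {H : Over (Spec (CommRingCat.of k))} (i : H ⟶ G) :
    AGF.conjBy (1 : 𝟙_ (Over (Spec (CommRingCat.of k))) ⟶ G) i = i := by
  simp [AGF.conjBy, MonObj.comp_one]

theorem isMonHom_conjBy {H : Over (Spec (CommRingCat.of k))} [GrpObj H] (g : 𝟙_ (Over (Spec (CommRingCat.of k))) ⟶ G)
    (i : H ⟶ G) [IsMonHom i] : IsMonHom (AGF.conjBy g i) :=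
  AlgGrp79.isMonHom_of_forall _ fun T s t => by
    rw [comp_conjBy, comp_conjBy, comp_conjBy, MonObj.mul_comp]
    simp only [AGF.conjBy]
    group

theorem isClosedImmersion_conjBy {H : Over (Spec (CommRingCat.of k))} (g : 𝟙_ (Over (Spec (CommRingCat.of k))) ⟶ G)
    (i : H ⟶ G) [IsClosedImmersion i.left] : IsClosedImmersion (AGF.conjBy g i).left := by
  let e : G ≅ G := ⟨AGF.conjBy g (𝟙 G), AGF.conjBy g⁻¹ (𝟙 G),
    by rw [comp_conjBy, Category.comp_id, conjBy_conjBy, inv_mul_cancel, conjBy_one],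
    by rw [comp_conjBy, Category.comp_id, conjBy_conjBy, mul_inv_cancel, conjBy_one]⟩
  have : IsIso e.hom.left := ((Over.forget _).mapIso e).isIso_hom
  have h : AGF.conjBy g i = i ≫ e.hom := by rw [comp_conjBy, Category.comp_id]
  rw [h]
  exact inferInstanceAs (IsClosedImmersion (i.left ≫ e.hom.left))

/-- A solvable connected group is conjugate into a subgroup with proper quotient. -/
theorem exists_conj_into [LocallyOfFiniteType G.hom] {P : Over (Spec (CommRingCat.of k))} [GrpObj P] (i : P ⟶ G)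
    {X : Over (Spec (CommRingCat.of k))} {a : AlgGrp.Action G X} {o : 𝟙_ (Over (Spec (CommRingCat.of k))) ⟶ X}
    (hX : AGF.IsQuotient i X a o) [IsProper X.hom]
    {B : Over (Spec (CommRingCat.of k))} [GrpObj B] [IsAffine B.left] [Smooth B.hom] [ConnectedSpace B.left]
    (hsolv : Red.IsSolvableGrp B) (iB : B ⟶ G) [IsMonHom iB] :
    ∃ (g : 𝟙_ (Over (Spec (CommRingCat.of k))) ⟶ G) (φ : B ⟶ P), φ ≫ AGF.conjBy g i = iB := by
  haveI : Group.IsSolvable (𝟙_ (Over (Spec (CommRingCat.of k))) ⟶ B) := by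
    obtain ⟨n, hn⟩ := hsolv
    exact ⟨⟨n, hn _⟩⟩
  haveI : Nonempty X.left := ⟨o.left (IsLocalRing.closedPoint k)⟩
  obtain ⟨x, hx⟩ := BorelFixed.exists_fixedPt B X (actRestrict a iB)
  obtain ⟨g, hg⟩ : ∃ g : 𝟙_ (Over (Spec (CommRingCat.of k))) ⟶ G, g ≫ a.orbitMap o = x := by
    haveI := hX.2.2.1
    haveI : JacobsonSpace G.left := LocallyOfFiniteType.jacobsonSpace G.hom
    obtain ⟨w, hw⟩ := (a.orbitMap o).left.surjective (x.left (IsLocalRing.closedPoint k))
    obtain ⟨w', hw', hwc⟩ := nonempty_inter_closedPoints (Z := (a.orbitMap o).left ⁻¹' {x.left (IsLocalRing.closedPoint k)})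
      ⟨w, hw⟩ ((rat_isClosed x).preimage (a.orbitMap o).left.continuous).isLocallyClosed
    obtain ⟨g, hg⟩ := ptVal_eq w' hwc
    exact ⟨g, pt_ext _ _ (by rw [Over.comp_left, Scheme.Hom.comp_apply, hg]; exact hw')⟩
  have h := hx B (𝟙 B)
  change lift (𝟙 B) (toUnit B ≫ x) ≫ (iB ▷ X) ≫ a.act = toUnit B ≫ x at h
  rw [lift_whiskerRight_assoc, Category.id_comp, ← hg, ← Category.assoc, ← AGF80.Orbit.comp_orbitMap_mul] at h
  obtain ⟨φ, hφ⟩ := (QuotTrans.coset_iff hX (toUnit B ≫ g) (iB * (toUnit B ≫ g))).1 h.symm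
  exact ⟨g, φ, by rw [comp_conjBy, AGF.conjBy, hφ, mul_inv_cancel_right]⟩

/-- A closed immersion of a Noetherian scheme into itself is surjective. -/
theorem surjective_endo {X : Scheme.{u}} [TopologicalSpace.NoetherianSpace X] (e : X ⟶ X) [IsClosedImmersion e] :
    Surjective e := by
  have hcl : ∀ n : ℕ, IsClosed (Set.range (e : X → X)^[n]) := by
    intro n
    induction n with
    | zero => simp
    | succ n ih => rw [Function.iterate_succ', Set.range_comp]; exact e.isClosedEmbedding.isClosedMap _ ih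
  let C : ℕ → TopologicalSpace.Closeds X := fun n => ⟨_, hcl n⟩
  obtain ⟨_, ⟨n, rfl⟩, hmin⟩ := WellFounded.has_min (wellFounded_lt (α := TopologicalSpace.Closeds X))
    (Set.range C) ⟨C 0, 0, rfl⟩
  refine ⟨fun z => ?_⟩
  by_contra hz
  push Not at hz
  refine hmin (C (n + 1)) ⟨_, rfl⟩ (lt_of_le_not_ge ?_ fun hge => ?_)
  · show Set.range (e : X → X)^[n + 1] ⊆ Set.range (e : X → X)^[n]
    rw [Function.iterate_succ]
    exact Set.range_comp_subset_range _ _
  · obtain ⟨w, hw⟩ := hge (⟨z, rfl⟩ : ((e : X → X)^[n]) z ∈ Set.range (e : X → X)^[n])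
    rw [Function.iterate_succ_apply] at hw
    exact hz w (e.isClosedEmbedding.injective.iterate n hw)

theorem isIso_of_surj {H K : Over (Spec (CommRingCat.of k))} (f : H ⟶ K) [IsClosedImmersion f.left]
    [Surjective f.left] [IsReduced K.left] : IsIso f := by
  haveI : IsIso f.left := isIso_of_isClosedImmersion_of_surjective _
  haveI : IsIso ((Over.forget _).map f) := ‹IsIso f.left›
  exact isIso_of_reflects_iso f (Over.forget _)

/-- A solvable smooth connected subgroup with proper quotient is a Borel subgroup. -/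
theorem isBorelOver_of_proper [IsAffine G.left] [LocallyOfFiniteType G.hom] {H : Over (Spec (CommRingCat.of k))} [GrpObj H]
    (iH : H ⟶ G) [IsMonHom iH] [IsClosedImmersion iH.left] [Smooth H.hom] [ConnectedSpace H.left]
    (hsolv : Red.IsSolvableGrp H) {X : Over (Spec (CommRingCat.of k))} {a : AlgGrp.Action G X}
    {o : 𝟙_ (Over (Spec (CommRingCat.of k))) ⟶ X} (hX : AGF.IsQuotient iH X a o) [IsProper X.hom] :
    Red.IsBorelOver k iH := by
  refine ⟨inferInstance, inferInstance, inferInstance, inferInstance, hsolv, ?_⟩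
  intro B' _ i' _ f hci' hs' hc' hsolv' hf
  haveI := hci'; haveI := hs'; haveI := hc'
  haveI : IsAffine B'.left := isAffine_of_isAffineHom i'.left
  haveI : QuasiCompact H.hom := by rw [← Over.w iH]; infer_instance
  haveI : IsReduced H.left := isReduced_of_smooth H.hom
  haveI : IsReduced B'.left := isReduced_of_smooth B'.hom
  haveI := isSeparated_grp G
  obtain ⟨g, φ, hφ⟩ := exists_conj_into iH hX hsolv' i'
  haveI : IsClosedImmersion f.left := by
    have : IsClosedImmersion (f.left ≫ i'.left) := by rw [← Over.comp_left, hf]; infer_instance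
    exact IsClosedImmersion.of_comp f.left i'.left
  haveI := isClosedImmersion_conjBy g iH
  haveI : IsClosedImmersion φ.left := by
    have : IsClosedImmersion (φ.left ≫ (AGF.conjBy g iH).left) := by rw [← Over.comp_left, hφ]; infer_instance
    exact IsClosedImmersion.of_comp φ.left (AGF.conjBy g iH).left
  haveI := Var76.FibreBound.noetherianSpace H.hom
  haveI : Surjective φ.left := by
    haveI := surjective_endo (f.left ≫ φ.left)
    exact Surjective.of_comp f.left φ.left
  haveI := isIso_of_surj φ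
  haveI : IsIso φ.left := (Over.forget _).map_isIso φ
  haveI : Surjective f.left := by
    haveI := surjective_endo (f.left ≫ φ.left)
    refine ⟨fun z => ?_⟩
    obtain ⟨w, hw⟩ := (f.left ≫ φ.left).surjective (φ.left z)
    exact ⟨w, φ.left.isClosedEmbedding.injective hw⟩
  exact isIso_of_surj f

/-- A Borel subgroup maps isomorphically onto a conjugate of any solvable subgroup with proper quotient. -/
theorem exists_iso_conj [IsAffine G.left] [LocallyOfFiniteType G.hom] {B B₀ : Over (Spec (CommRingCat.of k))} [GrpObj B]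
    [GrpObj B₀] (iB : B ⟶ G) (hB : Red.IsBorelOver k iB) (i₀ : B₀ ⟶ G) [IsMonHom i₀] [IsClosedImmersion i₀.left]
    [Smooth B₀.hom] [ConnectedSpace B₀.left] (hs₀ : Red.IsSolvableGrp B₀) {X : Over (Spec (CommRingCat.of k))}
    {a : AlgGrp.Action G X} {o : 𝟙_ (Over (Spec (CommRingCat.of k))) ⟶ X} (hX : AGF.IsQuotient i₀ X a o) [IsProper X.hom] :
    ∃ (g : 𝟙_ (Over (Spec (CommRingCat.of k))) ⟶ G) (φ : B ≅ B₀), φ.hom ≫ AGF.conjBy g i₀ = iB := by
  obtain ⟨_, _, _, _, hsolv, hmax⟩ := hB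
  haveI : IsAffine B.left := isAffine_of_isAffineHom iB.left
  obtain ⟨g, φ, hφ⟩ := exists_conj_into i₀ hX hsolv iB
  haveI := isMonHom_conjBy g i₀
  have := hmax B₀ (AGF.conjBy g i₀) φ (isClosedImmersion_conjBy g i₀) inferInstance inferInstance hs₀ hφ
  exact ⟨g, asIso φ, hφ⟩

/-- Borel subgroups are conjugate. -/
theorem borel_conj (G : Over (Spec (CommRingCat.of k))) [GrpObj G] [IsAffine G.left] [Smooth G.hom] [ConnectedSpace G.left]
    (B B' : Over (Spec (CommRingCat.of k))) [GrpObj B] [GrpObj B'] (iB : B ⟶ G) (iB' : B' ⟶ G)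
    (hB : Red.IsBorelOver k iB) (hB' : Red.IsBorelOver k iB') :
    ∃ (g : 𝟙_ (Over (Spec (CommRingCat.of k))) ⟶ G) (f : B ≅ B'), f.hom ≫ iB' = AGF.conjBy g iB := by
  obtain ⟨B₀, _, i₀, _, _, _, _, hs₀, X, a, o, hX, _⟩ := exists_solvable_proper G
  obtain ⟨g, φ, hφ⟩ := exists_iso_conj iB hB i₀ hs₀ hX
  obtain ⟨g', φ', hφ'⟩ := exists_iso_conj iB' hB' i₀ hs₀ hX
  refine ⟨g' * g⁻¹, φ ≪≫ φ'.symm, ?_⟩
  rw [← hφ', Iso.trans_hom, Category.assoc, Iso.symm_hom, Iso.inv_hom_id_assoc, ← hφ, comp_conjBy, comp_conjBy,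
    conjBy_conjBy, inv_mul_cancel_right]

/-- Two maps covering with the same fibres have isomorphic targets. -/
theorem exists_iso_of_same_fibres {U X Y : Over (Spec (CommRingCat.of k))} {p : U ⟶ X} {q : U ⟶ Y} (hp : IsCov p)
    (hq : IsCov q) (h : ∀ (T : Over (Spec (CommRingCat.of k))) (s t : T ⟶ U), s ≫ p = t ≫ p ↔ s ≫ q = t ≫ q) :
    ∃ e : X ≅ Y, p ≫ e.hom = q := by
  obtain ⟨u, hu⟩ := hp.desc q fun T s t e => (h T s t).1 e
  obtain ⟨v, hv⟩ := hq.desc p fun T s t e => (h T s t).2 e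
  haveI := hp.epi
  haveI := hq.epi
  exact ⟨⟨u, v, by rw [← cancel_epi p, reassoc_of% hu, hv, Category.comp_id],
    by rw [← cancel_epi q, reassoc_of% hv, hu, Category.comp_id]⟩, hu⟩

/-- The quotient by a Borel subgroup is proper. -/
theorem isProper_quotient_borel (G : Over (Spec (CommRingCat.of k))) [GrpObj G] [IsAffine G.left] [Smooth G.hom]
    [ConnectedSpace G.left] {B : Over (Spec (CommRingCat.of k))} [GrpObj B] (iB : B ⟶ G) (hB : Red.IsBorelOver k iB)
    {X : Over (Spec (CommRingCat.of k))} {a : AlgGrp.Action G X} {o : 𝟙_ (Over (Spec (CommRingCat.of k))) ⟶ X}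
    (hX : AGF.IsQuotient iB X a o) : IsProper X.hom := by
  obtain ⟨B₀, _, i₀, _, _, _, _, hs₀, Y, b, y, hY, _⟩ := exists_solvable_proper G
  obtain ⟨g, φ, hφ⟩ := exists_iso_conj iB hB i₀ hs₀ hY
  let r : G ≅ G :=
    { hom := 𝟙 G * (toUnit G ≫ g)
      inv := 𝟙 G * (toUnit G ≫ g)⁻¹
      hom_inv_id := by simp [MonObj.comp_mul, GrpObj.comp_inv, toUnit_unique (_ ≫ toUnit G) (toUnit G)]
      inv_hom_id := by simp [MonObj.comp_mul, GrpObj.comp_inv, toUnit_unique (_ ≫ toUnit G) (toUnit G)] }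
  haveI : IsIso r.hom.left := ((Over.forget _).mapIso r).isIso_hom
  have hr : IsCov r.hom := IsCov.of_left _
  have hpts : ∀ {T : Over (Spec (CommRingCat.of k))} (s : T ⟶ G), s ≫ r.hom = s * (toUnit T ≫ g) := fun {T} s => by
    simp [r, MonObj.comp_mul, toUnit_unique (s ≫ toUnit G) (toUnit T)]
  obtain ⟨e, -⟩ := exists_iso_of_same_fibres (QuotTrans.isCov_orbit hX) (hr.comp (QuotTrans.isCov_orbit hY)) fun T s t => by
    rw [QuotTrans.coset_iff hX, ← Category.assoc, ← Category.assoc, hpts, hpts, QuotTrans.coset_iff hY]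
    constructor
    · rintro ⟨c, hc⟩
      refine ⟨c ≫ φ.hom, ?_⟩
      rw [← hc, ← hφ, ← Category.assoc, comp_conjBy, AGF.conjBy]
      group
    · rintro ⟨c, hc⟩
      refine ⟨c ≫ φ.inv, ?_⟩
      rw [← hφ, Category.assoc, Iso.inv_hom_id_assoc, comp_conjBy, AGF.conjBy]
      calc s * ((toUnit T ≫ g) * (c ≫ i₀) * (toUnit T ≫ g)⁻¹) = s * (toUnit T ≫ g) * (c ≫ i₀) * (toUnit T ≫ g)⁻¹ := by group
        _ = t := by rw [hc, mul_inv_cancel_right]
  haveI : IsIso e.hom.left := ((Over.forget _).mapIso e).isIso_hom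
  rw [← Over.w e.hom]
  infer_instance

end Groth.Agent.AlgGrp79.BorelConj
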