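import Groth.Agent.AlgGrp79.Orbit
import Groth.Agent.AlgGrp79.Image
import Groth.Agent.Grpd80.DimStab
import Groth.Agent.Var76.FibreBound
import Groth.Agent.S7984

set_option autoImplicit false
universe u v w

open CategoryTheory MonoidalCategory CartesianMonoidalCategory MonObj AlgebraicGeometry CategoryTheory.Limits
open scoped commutatorElement TensorProduct nonZeroDivisors

open Groth.Agent.WC97 (tdegN)
open Groth.Agent.E4O (fdeg)

namespace Groth.Agent.AlgGrp79

section OrbitDim
open Groth.Agent.Var76.FibreBound TopologicalSpace Topology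

variable {k : Type u} [Field k]

lemma dim_over_field {T : Scheme.{u}} {P Q : Over T} (e : P ≅ Q) :
    topologicalKrullDim P.left = topologicalKrullDim Q.left :=
  IsHomeomorph.topologicalKrullDim_eq _ ((Over.forget T).mapIso e).hom.homeomorph.isHomeomorph

lemma orbit_mul {G X : Over (Spec (CommRingCat.of k))} [GrpObj G] (a : AlgGrp.Action G X)
    (x : 𝟙_ (Over (Spec (CommRingCat.of k))) ⟶ X) {T : Over (Spec (CommRingCat.of k))} (b c : T ⟶ G) :
    (b * c) ≫ a.orbitMap x = lift b (c ≫ a.orbitMap x) ≫ a.act := by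
  have h := congr(lift b c ≫ $(orbitMap_equivariant a x))
  rw [lift_whiskerLeft_assoc] at h
  rw [h, Hom.mul_def, Category.assoc]

lemma orbit_one {G X : Over (Spec (CommRingCat.of k))} [GrpObj G] (a : AlgGrp.Action G X)
    (x : 𝟙_ (Over (Spec (CommRingCat.of k))) ⟶ X) {T : Over (Spec (CommRingCat.of k))} :
    (1 : T ⟶ G) ≫ a.orbitMap x = toUnit T ≫ x := by
  rw [Hom.one_def, Category.assoc, show η[G] ≫ a.orbitMap x = x by
    simp only [AlgGrp.Action.orbitMap]
    rw [comp_lift_assoc, Category.comp_id, ← Category.assoc, toUnit_unique (η[G] ≫ toUnit G) (𝟙 _), Category.id_comp]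
    have h2 : lift η[G] x = lift (𝟙 _) x ≫ (η[G] ▷ X) := by ext : 1 <;> simp
    rw [h2, Category.assoc, a.one_act]
    simp]

theorem dim_orbit_fibre {G X : Over (Spec (CommRingCat.of k))} [GrpObj G] [LocallyOfFiniteType G.hom] [LocallyOfFiniteType X.hom]
    (a : AlgGrp.Action G X) (x : 𝟙_ (Over (Spec (CommRingCat.of k))) ⟶ X) (ξ : G.left) :
    topologicalKrullDim ↥((a.orbitMap x).left.fiber ((a.orbitMap x).left ξ)) =
      topologicalKrullDim ↥(pullback (a.orbitMap x).left x.left) := by
  let α := a.orbitMap x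
  have : LocallyOfFiniteType α.left := by
    have : LocallyOfFiniteType (α.left ≫ X.hom) := by rw [Over.w]; infer_instance
    exact locallyOfFiniteType_of_comp α.left X.hom
  let L := G.left.residueField ξ
  let T : Over (Spec (CommRingCat.of k)) := Over.mk (G.left.fromSpecResidueField ξ ≫ G.hom)
  let g : T ⟶ G := Over.homMk (G.left.fromSpecResidueField ξ) rfl
  let t : T ⟶ X := toUnit T ≫ x
  let P := pullback α (g ≫ α)
  let Q := pullback α t
  let f₁ : P ⟶ Q := pullback.lift ((pullback.snd α (g ≫ α) ≫ g)⁻¹ * pullback.fst α (g ≫ α)) (pullback.snd α (g ≫ α)) (by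
    rw [orbit_mul, pullback.condition, ← Category.assoc, ← orbit_mul, inv_mul_cancel, orbit_one]
    simp only [t, ← Category.assoc, comp_toUnit])
  let f₂ : Q ⟶ P := pullback.lift ((pullback.snd α t ≫ g) * pullback.fst α t) (pullback.snd α t) (by
    rw [orbit_mul, pullback.condition]
    show lift _ (pullback.snd α t ≫ toUnit T ≫ x) ≫ a.act = _
    rw [← Category.assoc (pullback.snd α t), comp_toUnit, ← orbit_one a x, ← orbit_mul, _root_.mul_one, Category.assoc])
  let e : P ≅ Q := {
    hom := f₁, inv := f₂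
    hom_inv_id := by
      apply pullback.hom_ext
      · rw [Category.assoc, pullback.lift_fst, MonObj.comp_mul, ← Category.assoc, pullback.lift_snd, pullback.lift_fst,
          mul_inv_cancel_left, Category.id_comp]
      · rw [Category.assoc, pullback.lift_snd, pullback.lift_snd, Category.id_comp]
    inv_hom_id := by
      apply pullback.hom_ext
      · rw [Category.assoc, pullback.lift_fst, MonObj.comp_mul, GrpObj.comp_inv, ← Category.assoc, pullback.lift_snd,
          pullback.lift_fst, inv_mul_cancel_left, Category.id_comp]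
      · rw [Category.assoc, pullback.lift_snd, pullback.lift_snd, Category.id_comp] }
  have hP := (IsPullback.of_hasPullback α (g ≫ α)).map (Over.forget _)
  have hQ := (IsPullback.of_hasPullback α t).map (Over.forget _)
  have h1 : topologicalKrullDim P.left = topologicalKrullDim ↥(α.left.fiber (α.left ξ)) := by
    let : Algebra (X.left.residueField (α.left ξ)) L := (α.left.residueFieldMap ξ).hom.toAlgebra
    have : LocallyOfFiniteType (α.left.fiberToSpecResidueField (α.left ξ)) := MorphismProperty.pullback_snd (P := @LocallyOfFiniteType) _ _ inferInstance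
    have hd := Grpd80.dim_bc_eq (k := ↑(X.left.residueField (α.left ξ))) (L := ↑L) (α.left.fiberToSpecResidueField (α.left ξ))
    refine Eq.trans ?_ hd
    refine IsHomeomorph.topologicalKrullDim_eq _ (hP.isoPullback ≪≫ pullback.congrHom rfl ?_ ≪≫
      (pullbackLeftPullbackSndIso α.left (X.left.fromSpecResidueField (α.left ξ))
        (Spec.map (CommRingCat.ofHom (algebraMap (X.left.residueField (α.left ξ)) L)))).symm).hom.homeomorph.isHomeomorph
    exact (Scheme.Hom.SpecMap_residueFieldMap_fromSpecResidueField α.left ξ).symm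
  have h2 : topologicalKrullDim Q.left = topologicalKrullDim ↥(pullback α.left x.left) := by
    have : LocallyOfFiniteType (pullback.snd α.left x.left) := MorphismProperty.pullback_snd (P := @LocallyOfFiniteType) _ _ inferInstance
    refine Eq.trans ?_ (Grpd80.dim_pullback_point (L := L) (Iso.refl _) (pullback.snd α.left x.left) T.hom)
    refine IsHomeomorph.topologicalKrullDim_eq _ (hQ.isoPullback ≪≫ pullback.congrHom rfl ?_ ≪≫
      (pullbackLeftPullbackSndIso α.left x.left T.hom).symm).hom.homeomorph.isHomeomorph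
    show (toUnit T).left ≫ x.left = T.hom ≫ x.left
    congr 1
  rw [← h1, dim_over_field e, h2]

theorem tdegN_le_dim_of_locallyClosed {X : Scheme.{u}} (f : X ⟶ Spec (CommRingCat.of k)) [LocallyOfFiniteType f]
    {O : Set X} (hO : IsLocallyClosed O) {ep : X} (hep : ep ∈ O) :
    (tdegN f ep : WithBot ℕ∞) ≤ topologicalKrullDim ↥O := by
  obtain ⟨U, C, hU, hC, rfl⟩ := hO
  let W : X.Opens := ⟨U, hU⟩
  let w : W := ⟨ep, hep.1⟩
  have he : tdegN (W.ι ≫ f) w = tdegN f ep := by
    rw [← fdeg_str_eq (W.ι ≫ f), ← fdeg_str_eq f]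
    exact E4O.fdeg_comp_openImmersion W.ι f w
  rw [← he]
  refine (tdegN_le_dim_of_closure_subset (W.ι ≫ f) (s := W.ι ⁻¹' (U ∩ C)) ?_).trans ?_
  · intro z hz
    exact ⟨z.2, hC.closure_subset_iff.2 (Set.singleton_subset_iff.2 hep.2)
      ((image_closure_subset_closure_image W.ι.continuous).trans (by simp [w]) ⟨z, hz, rfl⟩)⟩
  · let m : ↥(W.ι ⁻¹' (U ∩ C)) → ↥(U ∩ C) := Set.MapsTo.restrict W.ι _ _ fun _ h => h
    have hm : IsInducing m :=
      IsInducing.of_comp (W.ι.continuous.restrict _) continuous_subtype_val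
        (W.ι.isEmbedding.isInducing.comp IsInducing.subtypeVal)
    exact hm.topologicalKrullDim_le

theorem closure_range_orbit {X G : Scheme.{u}} (α : G ⟶ X) [NoetherianSpace G] {y : X} (hy : y ∈ closure (Set.range α)) :
    ∃ ep ∈ Set.range α, ep ⤳ y := by
  have hfin := NoetherianSpace.finite_irreducibleComponents (α := G)
  have hpt : ∀ Z ∈ irreducibleComponents G, ∃ z, z ∈ Z ∧ Z ⊆ closure {z} := fun Z hZ => by
    obtain ⟨z, rfl, -⟩ := E4O.exists_eq_closure_of_mem_irreducibleComponents hZ
    exact ⟨z, subset_closure rfl, subset_rfl⟩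
  choose z hz hz' using hpt
  let C : Set X := ⋃ Z : irreducibleComponents G, closure {α (z Z.1 Z.2)}
  have := hfin.to_subtype
  have hC : IsClosed C := isClosed_iUnion_of_finite fun _ => isClosed_closure
  have hsub : Set.range α ⊆ C := by
    rintro _ ⟨g, rfl⟩
    obtain ⟨Z, hZ, hgZ⟩ := exists_mem_irreducibleComponents_subset_of_isIrreducible _
      (isIrreducible_singleton (x := g))
    refine Set.mem_iUnion.2 ⟨⟨Z, hZ⟩, ?_⟩
    exact specializes_iff_mem_closure.1 ((specializes_iff_mem_closure.2 (hz' Z hZ (hgZ rfl))).map α.continuous)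
  obtain ⟨Z, hZ⟩ := Set.mem_iUnion.1 (hC.closure_subset_iff.2 hsub hy)
  exact ⟨_, ⟨_, rfl⟩, specializes_iff_mem_closure.2 hZ⟩

end OrbitDim

end Groth.Agent.AlgGrp79
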