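import Mathlib
import Groth.Prelude.Def_AlgGrp
import Groth.Prelude.Def_AGF
import Groth.Prelude.Def_ChGrp
import Groth.Prelude.Def_Red2
import Groth.Agent.AlgGrp79.Act
import Groth.Agent.AlgGrp79.Pullback
import Groth.Agent.AlgGrp79.Cover

set_option autoImplicit false
universe u v w

open CategoryTheory MonoidalCategory CartesianMonoidalCategory MonObj AlgebraicGeometry CategoryTheory.Limits
open scoped commutatorElement

namespace Groth.Agent.AlgGrp79

section ActKer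
variable {S : Scheme.{u}} {G H Q N : Over S} [GrpObj G] [GrpObj H] {i : H ⟶ G} [IsMonHom i]
  (a : AlgGrp.Action G Q) (o : 𝟙_ (Over S) ⟶ Q)

def Detects : Prop :=
  ∀ (T : Over S) (x α β : T ⟶ Q), (∀ (T' : Over S) (c : T' ⟶ T) (g : T' ⟶ G),
    g ≫ a.orbitMap o = c ≫ x → c ≫ α = c ≫ β) → α = β

lemma comp_orbitMap {T : Over S} (g : T ⟶ G) :
    g ≫ a.orbitMap o = lift g (toUnit T ≫ o) ≫ a.act := by
  rw [AlgGrp.Action.orbitMap, comp_lift_assoc]
  simp

lemma kernel_action_normal_largest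
    (hpb : IsPullback (fst G H) ((G ◁ i) ≫ μ[G]) (a.orbitMap o) (a.orbitMap o))
    (hdet : Detects a o) [GrpObj N] (n : N ⟶ G) [IsMonHom n]
    (hN : ∀ (T : Over S) (g : T ⟶ G),
      (∃ m : T ⟶ N, m ≫ n = g) ↔
        ∀ (T' : Over S) (s : T' ⟶ T) (x : T' ⟶ Q),
          lift (s ≫ g) x ≫ a.act = x) :
    AlgGrp.IsNormalHom n ∧ (∃ f : N ⟶ H, f ≫ i = n) ∧
      ∀ (N' : Over S) [GrpObj N'] (n' : N' ⟶ G) [IsMonHom n'],
        AlgGrp.IsNormalHom n' → (∃ f : N' ⟶ H, f ≫ i = n') → ∃ f' : N' ⟶ N, f' ≫ n = n' := by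
  have hfix : ∀ (T : Over S) (h : T ⟶ H), (h ≫ i) ≫ a.orbitMap o = toUnit T ≫ o := fun T h => by
    have := congrArg (fun q => lift (1 : T ⟶ G) h ≫ q) hpb.w
    simp only [lift_fst_assoc, lift_whiskerLeft_assoc, Category.assoc] at this
    rw [← Category.assoc _ μ[G], ← Hom.mul_def, _root_.one_mul, comp_orbitMap, one_act'] at this
    exact this.symm
  refine ⟨fun T g m => ?_, ?_, fun N' _ n' _ hn' hf => ?_⟩
  · obtain ⟨m', hm'⟩ := (hN T (g * (m ≫ n) * g⁻¹)).2 fun T' s x => by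
      rw [MonObj.comp_mul, MonObj.comp_mul, GrpObj.comp_inv, mul_act', mul_act']
      have hm := fun y => (hN T' (s ≫ m ≫ n)).1 ⟨s ≫ m, Category.assoc _ _ _⟩ T' (𝟙 _) y
      simp only [Category.id_comp] at hm
      rw [hm]
      exact act_inv_act a _ _
    exact ⟨m', hm'.symm⟩
  · have h := (hN N n).1 ⟨𝟙 N, Category.id_comp n⟩ N (𝟙 N) (toUnit N ≫ o)
    rw [Category.id_comp, ← comp_orbitMap] at h
    have e : (1 : N ⟶ G) ≫ a.orbitMap o = n ≫ a.orbitMap o := by rw [h, comp_orbitMap, one_act']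
    refine ⟨hpb.lift _ _ e ≫ snd G H, ?_⟩
    have h1 := hpb.lift_fst _ _ e
    have h2 := hpb.lift_snd _ _ e
    generalize hpb.lift (1 : N ⟶ G) n e = p at h1 h2 ⊢
    obtain ⟨p1, p2, rfl⟩ : ∃ g x, p = lift g x := ⟨p ≫ fst _ _, p ≫ snd _ _, by ext <;> simp⟩
    simp only [lift_fst] at h1
    subst h1
    rw [lift_whiskerLeft_assoc, ← Hom.mul_def, _root_.one_mul] at h2
    simpa using h2
  · obtain ⟨f, hf⟩ := hf
    refine (hN N' n').2 fun T' s x => hdet T' x _ _ fun T'' c g hg => ?_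
    obtain ⟨m, hm⟩ := hn' T'' g⁻¹ ((c ≫ s))
    rw [inv_inv] at hm
    rw [comp_lift_act, ← hg, comp_orbitMap, ← mul_act']
    have e : (c ≫ s ≫ n') * g = g * (m ≫ n') := by
      rw [← hm, Category.assoc]; group
    rw [e, mul_act']
    rw [← comp_orbitMap a o (m ≫ n'), ← hf, ← Category.assoc m f i, hfix]

end ActKer

end Groth.Agent.AlgGrp79
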