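import Mathlib

set_option autoImplicit false
universe u v w

open CategoryTheory MonoidalCategory CartesianMonoidalCategory MonObj AlgebraicGeometry CategoryTheory.Limits

namespace Groth.Agent.AlgGrp79

lemma formallyUnramified_of_fiber (R A : Type u) [CommRing R] [CommRing A] [Algebra R A]
    [Algebra.EssFiniteType R A]
    (h : ∀ (p : Ideal R) [p.IsPrime], Algebra.FormallyUnramified p.ResidueField (p.Fiber A)) :
    Algebra.FormallyUnramified R A := by
  refine ⟨?_⟩
  rw [← Module.support_eq_empty_iff (R := A)]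
  ext q
  simp only [Set.mem_empty_iff_false, iff_false]
  rw [Module.mem_support_iff_nontrivial_residueField_tensorProduct, not_nontrivial_iff_subsingleton]
  let p := q.asIdeal.under R
  have : q.asIdeal.LiesOver p := ⟨rfl⟩
  let : Algebra A (p.Fiber A) := Algebra.TensorProduct.rightAlgebra
  have hsub : Subsingleton (TensorProduct A (p.Fiber A) Ω[A⁄R]) :=
    (KaehlerDifferential.tensorKaehlerEquiv R p.ResidueField A (p.Fiber A)).toEquiv.subsingleton
  let ψ₀ : p.Fiber A →ₐ[R] q.asIdeal.ResidueField :=
    Algebra.TensorProduct.lift (Ideal.ResidueField.mapₐ p q.asIdeal (Algebra.ofId R A) rfl)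
      (IsScalarTower.toAlgHom R A q.asIdeal.ResidueField) fun _ _ => Commute.all _ _
  let ψ : p.Fiber A →ₗ[A] q.asIdeal.ResidueField :=
    { toFun := ψ₀, map_add' := map_add ψ₀,
      map_smul' := fun a x => by
        rw [Algebra.smul_def, map_mul, Algebra.smul_def]
        congr 1
        simp [ψ₀, Algebra.TensorProduct.right_algebraMap_apply] }
  have key : ∀ ω : Ω[A⁄R], (1 : q.asIdeal.ResidueField) ⊗ₜ[A] ω = 0 := by
    intro ω
    have := congrArg (ψ.rTensor Ω[A⁄R]) (Subsingleton.elim ((1 : p.Fiber A) ⊗ₜ[A] ω) 0)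
    simpa [ψ] using this
  refine subsingleton_of_forall_eq 0 fun x => ?_
  induction x using TensorProduct.induction_on with
  | zero => rfl
  | tmul c ω =>
    rw [show c ⊗ₜ[A] ω = c • ((1 : q.asIdeal.ResidueField) ⊗ₜ[A] ω) by simp [TensorProduct.smul_tmul'], key, smul_zero]
  | add x y hx hy => simp [hx, hy]

instance instTargetFU : IsZariskiLocalAtTarget @FormallyUnramified.{u} :=
  HasRingHomProperty.instIsZariskiLocalAtTarget (P := @FormallyUnramified.{u}) (Q := RingHom.FormallyUnramified)

instance instSourceFU : IsZariskiLocalAtSource @FormallyUnramified.{u} :=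
  HasRingHomProperty.instIsZariskiLocalAtSource (P := @FormallyUnramified.{u}) (Q := RingHom.FormallyUnramified)

lemma formallyUnramified_of_fiberToSpecResidueField {X Y : Scheme.{u}} (f : X ⟶ Y) [LocallyOfFiniteType f]
    (h : ∀ y, FormallyUnramified (f.fiberToSpecResidueField y)) :
    FormallyUnramified f := by
  wlog hY : ∃ R, Y = Spec R
  · rw [IsZariskiLocalAtTarget.iff_of_openCover (P := @FormallyUnramified) Y.affineCover]
    intro i
    dsimp [Scheme.Cover.pullbackHom]
    have hft : LocallyOfFiniteType (pullback.snd f (Y.affineCover.f i)) :=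
      MorphismProperty.pullback_snd _ _ inferInstance
    refine this (pullback.snd f (Y.affineCover.f i)) (fun y ↦ ?_) ⟨_, rfl⟩
    exact MorphismProperty.of_isPullback
      (isPullback_fiberToSpecResidueField_of_isPullback (IsPullback.of_hasPullback _ _) _) (h _)
  obtain ⟨R, rfl⟩ := hY
  wlog hX : ∃ S, X = Spec S generalizing f X
  · rw [IsZariskiLocalAtSource.iff_of_openCover (P := @FormallyUnramified) X.affineCover]
    intro i
    refine this _ (fun y ↦ ?_) ⟨_, rfl⟩
    rw [Scheme.Hom.fiberToSpecResidueField, ← pullbackRightPullbackFstIso_inv_snd_snd]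
    refine (MorphismProperty.cancel_left_of_respectsIso @FormallyUnramified _ _).2 ?_
    exact MorphismProperty.comp_mem @FormallyUnramified _ _
      (MorphismProperty.pullback_snd _ _ inferInstance) (h y)
  obtain ⟨S, rfl⟩ := hX
  obtain ⟨φ, rfl⟩ := Spec.map_surjective f
  rw [HasRingHomProperty.Spec_iff (P := @FormallyUnramified) (Q := RingHom.FormallyUnramified)]
  rw [HasRingHomProperty.Spec_iff (P := @LocallyOfFiniteType)] at *
  algebraize [φ.hom]
  refine formallyUnramified_of_fiber R S fun p hp ↦ ?_
  rw [← RingHom.formallyUnramified_algebraMap, ← CommRingCat.hom_ofHom (algebraMap p.ResidueField (p.Fiber ↑S)),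
    ← HasRingHomProperty.Spec_iff (P := @FormallyUnramified), ← MorphismProperty.arrow_mk_iso_iff (P := @FormallyUnramified)
    (Spec.fiberToSpecResidueFieldIso R S ⟨p, hp⟩)]
  exact h ⟨p, hp⟩

lemma universallyInjective_of_fiber_mono {X Y : Scheme.{u}} (f : X ⟶ Y)
    (h : ∀ y, Mono (f.fiberToSpecResidueField y)) : UniversallyInjective f := by
  refine ((tfae_universallyInjective f).out 0 1).2 ?_
  intro K _ g₁ g₂ hg
  let y : Y := (g₁ ≫ f) (IsLocalRing.closedPoint K)
  obtain ⟨t, ht⟩ : ∃ t : Spec (.of K) ⟶ Spec (Y.residueField y), t ≫ Y.fromSpecResidueField y = g₁ ≫ f :=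
    ⟨Spec.map (Scheme.descResidueField (Scheme.stalkClosedPointTo (g₁ ≫ f))),
      Scheme.descResidueField_stalkClosedPointTo_fromSpecResidueField K Y (g₁ ≫ f)⟩
  have := h y
  have e : pullback.lift (f := f) (g := Y.fromSpecResidueField y) g₁ t ht.symm =
      pullback.lift g₂ t (hg.symm.trans ht.symm) := by
    exact (cancel_mono (f.fiberToSpecResidueField y)).1 ((pullback.lift_snd _ _ _).trans (pullback.lift_snd _ _ _).symm)
  exact (pullback.lift_fst _ _ _).symm.trans ((congrArg (· ≫ pullback.fst _ _) e).trans (pullback.lift_fst _ _ _))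

end Groth.Agent.AlgGrp79
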