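import Groth.Agent.AlgGrp79.ActRep

/-!
A group scheme acting faithfully on an affine scheme is affine.
-/

set_option autoImplicit false
set_option backward.isDefEq.respectTransparency.types false
universe u

open CategoryTheory CategoryTheory.Limits MonoidalCategory CartesianMonoidalCategory MonObj AlgebraicGeometry
open Groth.Agent.RedPts82 CoordGrp CoactBr

noncomputable section

namespace Groth.Agent.AlgGrp79

variable {k : Type u} [Field k]

lemma lft_glN (n : ℕ) : LocallyOfFiniteType (sp k (GLn n k)).hom := by
  show LocallyOfFiniteType (Spec.map (CommRingCat.ofHom (algebraMap k (GLn n k))))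
  rw [HasRingHomProperty.Spec_iff (P := @LocallyOfFiniteType)]
  have : Algebra.FiniteType k (GLn n k) := by
    have : Algebra.FiniteType k (CoordGrp.GLb n k) :=
      inferInstanceAs (Algebra.FiniteType k (MvPolynomial (CoordGrp.GLPoly.Idx n) k))
    exact Algebra.FiniteType.of_surjective (CoordGrp.GLn.mk n k) Ideal.Quotient.mk_surjective
  exact RingHom.finiteType_algebraMap.2 this

lemma isAffine_of_rep {G : Over (Spec (CommRingCat.of k))} [GrpObj G] [LocallyOfFiniteType G.hom] [QuasiCompact G.hom]
    {n : ℕ} (ρ : G ⟶ sp k (GLn n k)) [IsMonHom ρ]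
    (h : ∀ (T : Over (Spec (CommRingCat.of k))) (g : T ⟶ G), g ≫ ρ = 1 → g = 1) : IsAffine G.left := by
  have := lft_glN (k := k) n
  have := isClosedImmersion_hom_of_trivial_kernel ρ h
  have : IsAffine (sp k (GLn n k)).left := inferInstanceAs (IsAffine (Spec (CommRingCat.of (GLn n k))))
  exact isAffine_of_isAffineHom ρ.left

theorem isAffine_of_faithful_action_affine {G X : Over (Spec (CommRingCat.of k))} [GrpObj G] [LocallyOfFiniteType G.hom]
    [QuasiCompact G.hom] [IsAffine X.left] (a : AlgGrp.Action G X)
    (hf : ∀ (T : Over (Spec (CommRingCat.of k))) (g : T ⟶ G),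
      (∀ (T' : Over (Spec (CommRingCat.of k))) (t : T' ⟶ T) (x : T' ⟶ X), lift (t ≫ g) x ≫ a.act = x) → g = 1) :
    IsAffine G.left := by
  have := isSeparated_grp G
  obtain ⟨n, ρ, hρ, hker, -⟩ := ActRep.exists_rep_kernel a
  refine isAffine_of_rep ρ fun T g hg => hf T g fun T' t x => ?_
  ext : 1
  exact ext_of_isAffine (CommRingCat.hom_ext (RingHom.ext fun f => hker T g hg T' t x f))

end Groth.Agent.AlgGrp79
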