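import Groth.Agent.AlgGrp79.FactorLft
import Groth.Agent.GrpQ80.FlatStab
import Groth.Prelude.Def_RedSub

/-!
Quotients by flat stabilizers and flat kernels, with an arbitrary target over a locally Noetherian base.
-/

set_option autoImplicit false
set_option backward.isDefEq.respectTransparency.types false

universe u

open CategoryTheory MonoidalCategory CartesianMonoidalCategory MonObj GrpObj AlgebraicGeometry
open CategoryTheory.Limits (pullback)

namespace Groth.Agent.AlgGrp79.StabQuot

variable {S : Scheme.{u}}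

/-- A morphism whose kernel pair is given by translations by a flat subgroup factors as a cover then a mono. -/
theorem exists_factor_sub {G H Y : Over S} [GrpObj G] (i : H ⟶ G) (f : G ⟶ Y)
    (sq : IsPullback (fst G H) ((G ◁ i) ≫ μ[G]) f f) [LocallyOfFinitePresentation G.hom]
    [Flat H.hom] [LocallyOfFinitePresentation H.hom] :
    ∃ (Q : Over S) (p : G ⟶ Q) (j : Q ⟶ Y), p ≫ j = f ∧ Surjective p.left ∧ Flat p.left ∧
      LocallyOfFinitePresentation p.left ∧ Mono j ∧ LocallyOfFinitePresentation Q.hom ∧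
      IsPullback (fst G H) ((G ◁ i) ≫ μ[G]) p p := by
  have e : pullback.fst f.left f.left = (AlgGrp79.isPullback_left sq).isoPullback.inv ≫ (fst G H).left :=
    (AlgGrp79.isPullback_left sq).isoPullback_inv_fst.symm
  have : Flat (fst G H).left := inferInstanceAs (Flat (pullback.fst G.hom H.hom))
  have : LocallyOfFinitePresentation (fst G H).left :=
    inferInstanceAs (LocallyOfFinitePresentation (pullback.fst G.hom H.hom))
  have : Flat (pullback.fst f.left f.left) := by rw [e]; infer_instance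
  have : LocallyOfFinitePresentation (pullback.fst f.left f.left) := by rw [e]; infer_instance
  have : LocallyOfFiniteType (f.left ≫ Y.hom) := by rw [Over.w]; infer_instance
  have : LocallyOfFiniteType f.left := locallyOfFiniteType_of_comp f.left Y.hom
  obtain ⟨Q, f', f'', h1, h2, h3, h4, -, h5⟩ := FactorLft.exists_factor_lft f.left
  have h6 : LocallyOfFinitePresentation (f' ≫ f'' ≫ Y.hom) := by rw [reassoc_of% h5, Over.w]; infer_instance
  have : Mono (Over.homMk f'' rfl : Over.mk (f'' ≫ Y.hom) ⟶ Y).left := h4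
  have : Mono (Over.homMk f'' rfl : Over.mk (f'' ≫ Y.hom) ⟶ Y) := Over.mono_of_mono_left _
  refine ⟨Over.mk (f'' ≫ Y.hom), Over.homMk f' (by show f' ≫ f'' ≫ Y.hom = G.hom; rw [reassoc_of% h5, Over.w]),
    Over.homMk f'' rfl, by ext; exact h5, h1, h2, h3, inferInstance,
    Unr55.locallyOfFinitePresentation_of_fppf_comp f' (f'' ≫ Y.hom), GrpQ80.isPullback_of_mono (i := (Over.homMk f'' rfl : Over.mk (f'' ≫ Y.hom) ⟶ Y)) ?_⟩
  rw [show _ ≫ (Over.homMk f'' rfl : Over.mk (f'' ≫ Y.hom) ⟶ Y) = f by ext; exact h5]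
  exact sq

/-- A base change of a section is locally of finite type. -/
theorem lfp_of_section [IsLocallyNoetherian S] {G X H : Over S} [LocallyOfFinitePresentation G.hom]
    {h : H ⟶ G} {f : G ⟶ X} {ξ : 𝟙_ (Over S) ⟶ X} (hH : IsPullback h (toUnit H) f ξ) :
    LocallyOfFinitePresentation H.hom := by
  have : IsImmersion (ξ.left ≫ X.hom) := by rw [Over.w]; exact inferInstanceAs (IsImmersion (𝟙 S))
  have : IsImmersion ξ.left := IsImmersion.of_comp ξ.left X.hom
  have : IsImmersion h.left := MorphismProperty.of_isPullback (AlgGrp79.isPullback_left hH).flip ‹IsImmersion ξ.left›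
  have : LocallyOfFiniteType H.hom := by rw [← Over.w h]; infer_instance
  exact LocallyOfFinitePresentation.iff_locallyOfFiniteType.2 ‹_›

/-- A base change of a section of a scheme locally of finite type. -/
theorem lfp_of_section' {G X H : Over S} [LocallyOfFinitePresentation G.hom] [LocallyOfFiniteType X.hom]
    {h : H ⟶ G} {f : G ⟶ X} {ξ : 𝟙_ (Over S) ⟶ X} (hH : IsPullback h (toUnit H) f ξ) :
    LocallyOfFinitePresentation H.hom := by
  have : LocallyOfFinitePresentation (ξ.left ≫ X.hom) := by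
    rw [Over.w]; exact inferInstanceAs (LocallyOfFinitePresentation (𝟙 S))
  have : LocallyOfFinitePresentation ξ.left := SpPts86.lfp_of_comp ξ.left X.hom
  have : LocallyOfFinitePresentation h.left :=
    MorphismProperty.of_isPullback (AlgGrp79.isPullback_left hH).flip ‹LocallyOfFinitePresentation ξ.left›
  rw [← Over.w h]
  infer_instance

theorem lfp_of_or {G X H : Over S} [LocallyOfFinitePresentation G.hom] {h : H ⟶ G} {f : G ⟶ X}
    {ξ : 𝟙_ (Over S) ⟶ X} (hH : IsPullback h (toUnit H) f ξ)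
    (hX : LocallyOfFiniteType X.hom ∨ IsLocallyNoetherian S) : LocallyOfFinitePresentation H.hom := by
  rcases hX with h1 | h1
  · exact lfp_of_section' hH
  · exact lfp_of_section hH

theorem exists_quotient_stabilizer (G X : Over S) [GrpObj G] [LocallyOfFinitePresentation G.hom]
    (a : AlgGrp.Action G X) (ξ : 𝟙_ (Over S) ⟶ X) (H : Over S) (h : H ⟶ G)
    (hH : IsPullback h (toUnit H) (a.orbitMap ξ) ξ) [Flat H.hom]
    (hX : LocallyOfFiniteType X.hom ∨ IsLocallyNoetherian S) :
    ∃ (Q : Over S) (q : G ⟶ Q), RedSub.IsQuotient h q ∧ LocallyOfFinitePresentation Q.hom ∧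
      ∃ m : Q ⟶ X, Mono m ∧ q ≫ m = a.orbitMap ξ := by
  have : Mono h := AGF80.Orbit.mono_isotropy a ξ h hH
  have := lfp_of_or hH hX
  obtain ⟨Q, p, j, e, h1, h2, h3, h4, h5, h6⟩ :=
    exists_factor_sub h (a.orbitMap ξ) (AGF80.Orbit.isPullback_of_stabilizer a ξ h hH)
  exact ⟨Q, p, ⟨h1, h2, h3, h6⟩, h5, j, h4, e⟩

theorem exists_quotient_kernel (G H : Over S) [GrpObj G] [GrpObj H] [LocallyOfFinitePresentation G.hom]
    (hH : LocallyOfFiniteType H.hom ∨ IsLocallyNoetherian S) (u : G ⟶ H) [IsMonHom u]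
    (K : Over S) (k : K ⟶ G) (hK : AlgGrp.IsKernel k u) [Flat K.hom] :
    ∃ (Q : Over S) (_ : GrpObj Q) (q : G ⟶ Q) (_ : IsMonHom q), RedSub.IsQuotient k q ∧
      LocallyOfFinitePresentation Q.hom ∧ ∃ (m : Q ⟶ H) (_ : IsMonHom m), Mono m ∧ q ≫ m = u := by
  have := lfp_of_or hK hH
  obtain ⟨Q, p, i, hpi, h1, h2, h3, h4, h5, h6⟩ := exists_factor_sub k u (GrpQ80.isPullback_of_kernel u k hK)
  have hc : AlgGrp79.IsCov p := ⟨h2, h1, h3⟩
  have := hc.epi
  have hc2 : AlgGrp79.IsCov (MonoidalCategory.tensorHom p p) := by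
    rw [MonoidalCategory.tensorHom_def]; exact (hc.whiskerRight G).comp (hc.whiskerLeft Q)
  have := hc2.epi
  obtain ⟨m, hm⟩ := hc2.desc (μ[G] ≫ p) fun T a b hab => by
    rw [← cancel_mono i, Category.assoc, Category.assoc, Category.assoc, Category.assoc, hpi, IsMonHom.mul_hom u,
      ← hpi, ← MonoidalCategory.tensorHom_comp_tensorHom, Category.assoc, reassoc_of% hab]
  obtain ⟨v, hv⟩ := hc.desc (ι[G] ≫ p) fun T a b hab => by
    rw [← cancel_mono i, Category.assoc, Category.assoc, Category.assoc, Category.assoc, hpi,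
      GrpObj.inv_hom u, ← hpi, Category.assoc, reassoc_of% hab]
  have hmi : m ≫ i = MonoidalCategory.tensorHom i i ≫ μ[H] := by
    rw [← cancel_epi (MonoidalCategory.tensorHom p p), reassoc_of% hm, hpi, IsMonHom.mul_hom u,
      MonoidalCategory.tensorHom_comp_tensorHom_assoc, hpi]
  have hvi : v ≫ i = i ≫ ι[H] := by
    rw [← cancel_epi p, reassoc_of% hv, hpi, GrpObj.inv_hom u, reassoc_of% hpi]
  have hei : (η[G] ≫ p) ≫ i = η[H] := by rw [Category.assoc, hpi, IsMonHom.one_hom]
  have hpt : ∀ {T : Over S} (a b : T ⟶ Q), (lift a b ≫ m) ≫ i = (a ≫ i) * (b ≫ i) := fun a b => by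
    rw [Category.assoc, hmi, lift_map_assoc, Hom.mul_def]
  let _ : GrpObj Q :=
    { one := η[G] ≫ p
      mul := m
      inv := v
      one_mul := by
        rw [show (η[G] ≫ p) ▷ Q = lift (fst _ Q ≫ η[G] ≫ p) (snd _ Q) by ext <;> simp, ← cancel_mono i, hpt,
          Category.assoc, hei, toUnit_unique (fst (𝟙_ (Over S)) Q) (toUnit _), ← Hom.one_def, _root_.one_mul,
          CartesianMonoidalCategory.leftUnitor_hom]
      mul_one := by
        rw [show Q ◁ (η[G] ≫ p) = lift (fst Q _) (snd Q _ ≫ η[G] ≫ p) by ext <;> simp, ← cancel_mono i, hpt,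
          Category.assoc, hei, toUnit_unique (snd Q (𝟙_ (Over S))) (toUnit _), ← Hom.one_def, _root_.mul_one,
          CartesianMonoidalCategory.rightUnitor_hom]
      mul_assoc := by
        have hmi' : m ≫ i = (fst Q Q ≫ i) * (snd Q Q ≫ i) := by
          rw [← hpt, lift_fst_snd, Category.id_comp]
        rw [show m ▷ Q = lift (fst (Q ⊗ Q) Q ≫ m) (snd (Q ⊗ Q) Q) by ext <;> simp,
          ← Category.assoc (α_ Q Q Q).hom,
          show (α_ Q Q Q).hom ≫ (Q ◁ m) =
            lift (fst (Q ⊗ Q) Q ≫ fst Q Q) (lift (fst (Q ⊗ Q) Q ≫ snd Q Q) (snd (Q ⊗ Q) Q) ≫ m) by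
              rw [show Q ◁ m = lift (fst Q _) (snd Q _ ≫ m) from CartesianMonoidalCategory.hom_ext _ _ (by simp) (by simp),
                comp_lift, associator_hom_fst, ← Category.assoc (α_ Q Q Q).hom,
                show (α_ Q Q Q).hom ≫ snd Q (Q ⊗ Q) = lift (fst (Q ⊗ Q) Q ≫ snd Q Q) (snd (Q ⊗ Q) Q) from
                  CartesianMonoidalCategory.hom_ext _ _ (by simp) (by simp)],
          ← cancel_mono i, hpt, hpt, Category.assoc, hmi', hpt, MonObj.comp_mul]
        simp only [Category.assoc]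
        exact _root_.mul_assoc _ _ _
      left_inv := by
        rw [← cancel_mono i, hpt, hvi, Category.id_comp, Category.assoc, hei, ← Hom.one_def, ← Hom.inv_def]
        exact inv_mul_cancel _
      right_inv := by
        rw [← cancel_mono i, hpt, hvi, Category.id_comp, Category.assoc, hei, ← Hom.one_def, ← Hom.inv_def]
        exact mul_inv_cancel _ }
  exact ⟨Q, inferInstance, p, ⟨rfl, hm.symm⟩, ⟨h1, h2, h3, h6⟩, h5, i, ⟨hei, hmi⟩, h4, hpi⟩

end Groth.Agent.AlgGrp79.StabQuot
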