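import Groth.Agent.AlgGrp79.Blanchard
import Groth.Agent.AlgGrp79.AntiAffine

/-!
A connected group acting on a product of complete varieties acts factorwise.
-/

set_option autoImplicit false
set_option backward.isDefEq.respectTransparency.types false
universe u

open CategoryTheory CategoryTheory.Limits MonoidalCategory CartesianMonoidalCategory MonObj AlgebraicGeometry

noncomputable section

namespace Groth.Agent.AlgGrp79

variable {k : Type u} [Field k] [IsAlgClosed k] {G X Y : Over (Spec (CommRingCat.of k))}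

lemma antiAff_of_proper_integral (X : Over (Spec (CommRingCat.of k))) [IsProper X.hom] [IsIntegral X.left] :
    AntiAff X := by
  let str : CommRingCat.of k ⟶ Γ(X.left, ⊤) := (Scheme.ΓSpecIso (CommRingCat.of k)).inv ≫ X.hom.appTop
  letI := str.hom.toAlgebra
  letI : Field Γ(X.left, ⊤) := (isField_of_universallyClosed k X.hom).toField
  have hfin : str.hom.Finite :=
    (finite_appTop_of_universallyClosed k X.hom).comp
      (RingHom.Finite.of_surjective _
        (ConcreteCategory.bijective_of_isIso (Scheme.ΓSpecIso (CommRingCat.of k)).inv).2)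
  have : Module.Finite k Γ(X.left, ⊤) := hfin
  have : Algebra.IsIntegral k Γ(X.left, ⊤) := inferInstance
  exact IsAlgClosed.algebraMap_bijective_of_isIntegral (k := k) (K := Γ(X.left, ⊤))

omit [IsAlgClosed k] in
lemma isIso_fst_app {X Y : Over (Spec (CommRingCat.of k))} [QuasiCompact Y.hom] [QuasiSeparated Y.hom]
    (hY : AntiAff Y) (U : X.left.Opens) (hU : IsAffineOpen U) : IsIso ((fst X Y).left.app U) := by
  have H : IsPullback (snd X Y).left (fst X Y).left Y.hom X.hom := (IsPullback.of_hasPullback X.hom Y.hom).flip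
  have : IsIso ((Scheme.ΓSpecIso (CommRingCat.of k)).inv ≫ Y.hom.appTop) :=
    (ConcreteCategory.isIso_iff_bijective _).2 hY
  have : IsIso Y.hom.appTop := IsIso.of_isIso_comp_left (Scheme.ΓSpecIso (CommRingCat.of k)).inv _
  have : CompactSpace Y.left := QuasiCompact.compactSpace_of_compactSpace Y.hom
  have : QuasiSeparatedSpace Y.left := quasiSeparatedSpace_of_quasiSeparated Y.hom
  have hiso := isIso_pushoutSection_of_isQuasiSeparated_of_flat_right H (US := ⊤) (UT := U) (UX := ⊤)
    (UY := (fst X Y).left ⁻¹ᵁ U) le_top le_top (by rw [Scheme.Hom.preimage_top, top_inf_eq]) (isAffineOpen_top _) hU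
    isCompact_univ (IsQuasiSeparated.of_quasiSeparatedSpace _)
  have hpo := (isIso_pushoutSection_iff ..).1 hiso
  have : IsIso (Y.hom.appLE ⊤ ⊤ le_top) := by
    rw [show Y.hom.appLE ⊤ ⊤ le_top = Y.hom.appTop from (Scheme.Hom.app_eq_appLE _).symm]; infer_instance
  have := hpo.isIso_inr_of_isIso
  rwa [Scheme.Hom.app_eq_appLE]

lemma surjective_fst {X Y : Over (Spec (CommRingCat.of k))} [Surjective Y.hom] : Surjective (fst X Y).left :=
  MorphismProperty.pullback_fst (P := @Surjective) _ _ ‹_›

theorem action_prod [GrpObj G] [LocallyOfFiniteType G.hom] [QuasiCompact G.hom] [ConnectedSpace G.left]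
    [IsProper X.hom] [IsIntegral X.left] [IsProper Y.hom] [IsIntegral Y.left] (a : AlgGrp.Action G (X ⊗ Y)) :
    ∃ (b : AlgGrp.Action G X) (c : AlgGrp.Action G Y),
      a.act = lift ((G ◁ fst X Y) ≫ b.act) ((G ◁ snd X Y) ≫ c.act) ∧
      ∀ (b' : AlgGrp.Action G X) (c' : AlgGrp.Action G Y),
        a.act = lift ((G ◁ fst X Y) ≫ b'.act) ((G ◁ snd X Y) ≫ c'.act) → b' = b ∧ c' = c := by
  have : Surjective X.hom := ⟨fun _ => ⟨(inferInstance : Nonempty X.left).some, Subsingleton.elim (α := PrimeSpectrum k) _ _⟩⟩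
  have : Surjective Y.hom := ⟨fun _ => ⟨(inferInstance : Nonempty Y.left).some, Subsingleton.elim (α := PrimeSpectrum k) _ _⟩⟩
  have : IsProper (fst X Y).left := MorphismProperty.pullback_fst _ _ ‹_›
  have : IsProper (snd X Y).left := MorphismProperty.pullback_snd _ _ ‹_›
  have : Surjective (fst X Y).left := surjective_fst
  have : Surjective (snd X Y).left := MorphismProperty.pullback_snd (P := @Surjective) _ _ ‹Surjective X.hom›
  have h1 := existsUnique_action_desc (fst X Y) (isIso_fst_app (antiAff_of_proper_integral Y)) a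
  have hsnd : ∀ U : Y.left.Opens, IsAffineOpen U → IsIso ((snd X Y).left.app U) := fun U hU => by
    have e : (snd X Y).left = (β_ X Y).hom.left ≫ (fst Y X).left := by rw [← Over.comp_left, braiding_hom_fst]
    have := isIso_fst_app (X := Y) (antiAff_of_proper_integral X) U hU
    have hb : IsIso (β_ X Y).hom.left := ((Over.forget _).mapIso (β_ X Y)).isIso_hom
    have hb' : ∀ W, IsIso ((β_ X Y).hom.left.app W) := fun W => inferInstance
    rw [e, Scheme.Hom.comp_app]
    exact IsIso.comp_isIso' this (hb' _)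
  have h2 := existsUnique_action_desc (snd X Y) hsnd a
  obtain ⟨b, hb, hbu⟩ := h1
  obtain ⟨c, hc, hcu⟩ := h2
  refine ⟨b, c, ?_, fun b' c' h => ⟨hbu b' ?_, hcu c' ?_⟩⟩
  · apply CartesianMonoidalCategory.hom_ext <;> simp [hb, hc]
  · rw [h, lift_fst]
  · rw [h, lift_snd]

end Groth.Agent.AlgGrp79
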