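import Groth.Agent.AlgGrp79.IsogenyFactor
import Groth.Agent.Alb96.GeomInt
import Groth.Agent.AVRig94.Curve
import Groth.Agent.S7996

/-!
An abelian subvariety times an affine normal subgroup.
-/

set_option autoImplicit false
set_option linter.unusedSectionVars false
set_option backward.isDefEq.respectTransparency.types false

universe u

open CategoryTheory MonoidalCategory CartesianMonoidalCategory MonObj GrpObj AlgebraicGeometry

noncomputable section

namespace Groth.Agent.AlgGrp79.AbMulAffine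

variable {k : Type u} [Field k]

theorem isFinite_inter {G A N P : Over (Spec (CommRingCat.of k))} (j : A ⟶ G) [IsClosedImmersion j.left]
    (i : N ⟶ G) [IsClosedImmersion i.left] [IsProper A.hom] [IsAffine N.left] {p : P ⟶ A} {q : P ⟶ N}
    (sq : IsPullback p q j i) : IsFinite P.hom := by
  haveI : IsClosedImmersion p.left := MorphismProperty.of_isPullback (AlgGrp79.isPullback_left sq).flip inferInstance
  haveI : IsClosedImmersion q.left := MorphismProperty.of_isPullback (AlgGrp79.isPullback_left sq) inferInstance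
  rw [IsFinite.iff_isProper_and_isAffineHom]
  constructor
  · rw [← Over.w p]; infer_instance
  · rw [← Over.w q]; infer_instance

theorem main
    (G N A Q : Over (Spec (CommRingCat.of k))) [GrpObj G] [GrpObj N] [GrpObj A] [GrpObj Q]
    [Smooth G.hom] [QuasiCompact G.hom] [ConnectedSpace ↥G.left]
    (i : N ⟶ G) [IsMonHom i] [IsClosedImmersion i.left] [IsAffine N.left]
    (π : G ⟶ Q) [IsMonHom π] [Flat π.left] [Surjective π.left] (hker : AlgGrp.IsKernel i π)
    (j : A ⟶ G) [IsMonHom j] [IsClosedImmersion j.left] [Smooth A.hom] [ConnectedSpace ↥A.left] [IsProper A.hom]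
    (hsurj : Surjective ((j ⊗ₘ i) ≫ μ[G]).left) :
    IsMonHom ((j ⊗ₘ i) ≫ μ[G]) ∧ SGA7.IsIsogenyOver ((j ⊗ₘ i) ≫ μ[G]) ∧ SGA7.IsIsogenyOver (j ≫ π) := by
  haveI : Mono i := Over.mono_of_mono_left i
  haveI : Mono j := Over.mono_of_mono_left j
  haveI : GeometricallyReduced A.hom := AVRig94.geometricallyReduced_of_smooth A.hom
  haveI := Alb96.geometricallyIntegral_of_connectedSpace A
  have hO := Alb96.antiAffine_of_geometricallyIntegral A
  have hcen : ∀ {T : Over (Spec (CommRingCat.of k))} (a : T ⟶ A) (g : T ⟶ G), (a ≫ j) * g = g * (a ≫ j) :=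
    fun {T} a g => by simpa using Groth.Agent.S7996.result k A G hO j T a T (𝟙 T) g
  set m := (j ⊗ₘ i) ≫ μ[G] with hmdef
  have hm : ∀ (T : Over (Spec (CommRingCat.of k))) (t : T ⟶ A ⊗ N),
      t ≫ m = (t ≫ fst A N ≫ j) * (t ≫ snd A N ≫ i) := by
    intro T t
    rw [hmdef, Hom.mul_def, ← Category.assoc, ← Category.assoc]
    congr 1
    ext : 1 <;> simp
  haveI hmm : IsMonHom m := AlgGrp79.isMonHom_of_forall _ fun T s t => by
    rw [hm, hm, hm, ← Category.assoc, ← Category.assoc, ← Category.assoc s, ← Category.assoc s, ← Category.assoc t,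
      ← Category.assoc t, MonObj.mul_comp, MonObj.mul_comp, MonObj.mul_comp, MonObj.mul_comp]
    rw [_root_.mul_assoc, ← _root_.mul_assoc ((t ≫ fst A N) ≫ j), hcen (t ≫ fst A N)]
    simp only [_root_.mul_assoc]
  refine ⟨hmm, ⟨hsurj, fun M n hn => ?_⟩, ⟨?_, fun M n hn => ?_⟩⟩
  · have hinv : ∀ {T : Over (Spec (CommRingCat.of k))} (b : T ⟶ N), b⁻¹ ≫ i = (b ≫ i)⁻¹ := fun b => GrpObj.inv_comp b i
    have h1 : (n ≫ fst A N ≫ j) * (n ≫ snd A N ≫ i) = 1 := by rw [← hm, hn.w, Hom.one_def]
    have w : (n ≫ fst A N) ≫ j = ((n ≫ snd A N)⁻¹) ≫ i := by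
      rw [hinv, Category.assoc, Category.assoc]
      exact eq_inv_of_mul_eq_one_left h1
    refine isFinite_inter j i (IsPullback.mk' w (fun T a b h h' => hn.hom_ext ?_ (toUnit_unique _ _)) fun T a b h => ?_)
    · ext : 1
      · simpa [Category.assoc] using h
      · rw [GrpObj.comp_inv, GrpObj.comp_inv, inv_inj] at h'
        simpa [Category.assoc] using h'
    · have e : lift a b⁻¹ ≫ m = toUnit T ≫ η[G] := by
        rw [hm, lift_fst_assoc, lift_snd_assoc, hinv, h, mul_inv_cancel, Hom.one_def]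
      refine ⟨hn.lift (lift a b⁻¹) (toUnit T) e, ?_, ?_⟩
      · rw [← Category.assoc, hn.lift_fst, lift_fst]
      · rw [GrpObj.comp_inv, ← Category.assoc, hn.lift_fst, lift_snd, _root_.inv_inv]
  · have e : m ≫ π = fst A N ≫ j ≫ π := by
      have := hm _ (𝟙 (A ⊗ N))
      rw [Category.id_comp, Category.id_comp, Category.id_comp] at this
      rw [this, MonObj.mul_comp, Category.assoc, Category.assoc, hker.w, ← Category.assoc (snd A N),
        toUnit_unique (snd A N ≫ toUnit N) (toUnit _), ← Hom.one_def, _root_.mul_one]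
    haveI := hsurj
    haveI : Surjective ((fst A N).left ≫ (j ≫ π).left) := by
      rw [← Over.comp_left, ← e, Over.comp_left]; infer_instance
    exact Surjective.of_comp (fst A N).left (j ≫ π).left
  · have hw : (n ≫ j) ≫ π = toUnit M ≫ η[Q] := by rw [Category.assoc, hn.w]
    refine isFinite_inter j i (IsPullback.mk' (hker.lift_fst (n ≫ j) (toUnit M) hw).symm
      (fun T a b h _ => hn.hom_ext h (toUnit_unique _ _)) fun T a b h => ?_)
    have e : a ≫ j ≫ π = toUnit T ≫ η[Q] := by
      rw [← Category.assoc, h, Category.assoc, hker.w, ← Category.assoc, toUnit_unique (b ≫ toUnit N) (toUnit T)]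
    refine ⟨hn.lift a (toUnit T) e, hn.lift_fst _ _ _, ?_⟩
    rw [← cancel_mono i, Category.assoc, hker.lift_fst, ← Category.assoc, hn.lift_fst, h]

end Groth.Agent.AlgGrp79.AbMulAffine
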