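import Groth.Agent.AlgGrp79.ProdSections
import Groth.Agent.AlgGrp79.FiniteKernelHom
import Groth.Agent.AlgGrp79.Act
import Groth.Agent.AlgGrp79.GenSubgroup
import Mathlib.LinearAlgebra.TensorProduct.RightExactness

/-!
Finite-dimensional representations inside the functions on a scheme with an action.
-/

set_option autoImplicit false
set_option backward.isDefEq.respectTransparency.types false
universe u

open CategoryTheory CategoryTheory.Limits MonoidalCategory CartesianMonoidalCategory MonObj AlgebraicGeometry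
open Groth.Agent.RedPts82 CoordGrp CoactBr
open scoped TensorProduct

noncomputable section

namespace Groth.Agent.AlgGrp79.ActRep

open GLnDiag ProdSections

attribute [local instance] GLnDiag.gAlg

variable {k : Type u} [Field k] {G X : Over (Spec (CommRingCat.of k))} [GrpObj G] [QuasiCompact G.hom] [QuasiSeparated G.hom]
  [QuasiCompact X.hom] (a : AlgGrp.Action G X)

/-- `Γ(G × X) = Γ(G) ⊗ Γ(X)` -/
def prodEquiv (G X : Over (Spec (CommRingCat.of k))) [QuasiCompact G.hom] [QuasiSeparated G.hom] [QuasiCompact X.hom] :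
    (Γ(G.left, ⊤) ⊗[k] Γ(X.left, ⊤)) ≃ₐ[k] Γ((G ⊗ X).left, ⊤) :=
  AlgEquiv.ofBijective _ (ev_bijective G X)

/-- the coaction -/
def Δ : Γ(X.left, ⊤) →ₐ[k] Γ(G.left, ⊤) ⊗[k] Γ(X.left, ⊤) := (prodEquiv G X).symm.toAlgHom.comp (pb a.act)

lemma ev_Δ {P : Over (Spec (CommRingCat.of k))} (g : P ⟶ G) (x : P ⟶ X) (f : Γ(X.left, ⊤)) :
    ev g x (Δ a f) = pb (lift g x ≫ a.act) f := by
  rw [pb_comp_apply]
  have h : ev (fst G X) (snd G X) (Δ a f) = pb a.act f := (prodEquiv G X).apply_symm_apply _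
  rw [← h, pb_ev_apply, lift_fst, lift_snd]

/-- coassociativity -/
lemma Δ_assoc (f : Γ(X.left, ⊤)) :
    Algebra.TensorProduct.map (pb (fst G G * snd G G)) (AlgHom.id k _) (Δ a f) =
      Algebra.TensorProduct.map (ev (fst G G) (snd G G)) (AlgHom.id k _)
        ((Algebra.TensorProduct.assoc k k k _ _ _).symm (Algebra.TensorProduct.map (AlgHom.id k _) (Δ a) (Δ a f))) := by
  haveI : QuasiCompact (G ⊗ G).hom := by
    have : QuasiCompact (fst G G).left := MorphismProperty.pullback_fst (P := @QuasiCompact) _ _ inferInstance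
    rw [← Over.w (fst G G)]; infer_instance
  haveI : QuasiSeparated (G ⊗ G).hom := by
    have : QuasiSeparated (fst G G).left := MorphismProperty.pullback_fst (P := @QuasiSeparated) _ _ inferInstance
    rw [← Over.w (fst G G)]; infer_instance
  apply ev_injective (G ⊗ G) X
  let q := fst (G ⊗ G) X
  let x := snd (G ⊗ G) X
  have hR : (ev q x).comp ((Algebra.TensorProduct.map (ev (fst G G) (snd G G)) (AlgHom.id k _)).comp
      ((Algebra.TensorProduct.assoc k k k _ _ _).symm.toAlgHom.comp (Algebra.TensorProduct.map (AlgHom.id k _) (Δ a)))) =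
      ev (q ≫ fst G G) (lift (q ≫ snd G G) x ≫ a.act) := by
    refine Algebra.TensorProduct.ext' fun u v => ?_
    rw [AlgHom.comp_apply, AlgHom.comp_apply, AlgHom.comp_apply, Algebra.TensorProduct.map_tmul, AlgHom.id_apply, ev_tmul,
      ← ev_Δ]
    show ev q x (Algebra.TensorProduct.map (ev (fst G G) (snd G G)) (AlgHom.id k _)
      ((Algebra.TensorProduct.assoc k k k _ _ _).symm (u ⊗ₜ Δ a v))) = _
    induction Δ a v using TensorProduct.induction_on with
    | zero => simp
    | tmul b c =>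
      simp only [Algebra.TensorProduct.assoc_symm_tmul, Algebra.TensorProduct.map_tmul, ev_tmul, AlgHom.id_apply,
        map_mul, ← pb_comp_apply, _root_.mul_assoc]
    | add b c hb hc => simp only [TensorProduct.tmul_add, map_add, hb, hc, mul_add]
  have hL : (ev q x).comp (Algebra.TensorProduct.map (pb (fst G G * snd G G)) (AlgHom.id k _)) =
      ev ((q ≫ fst G G) * (q ≫ snd G G)) x := by
    rw [← pb_id, ev_map, MonObj.comp_mul, Category.comp_id]
  calc ev (fst (G ⊗ G) X) (snd (G ⊗ G) X) (Algebra.TensorProduct.map (pb (fst G G * snd G G)) (AlgHom.id k _) (Δ a f))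
      = ev ((q ≫ fst G G) * (q ≫ snd G G)) x (Δ a f) := congr($hL (Δ a f))
    _ = ev (q ≫ fst G G) (lift (q ≫ snd G G) x ≫ a.act) (Δ a f) := by rw [ev_Δ, ev_Δ, mul_act']
    _ = _ := (congr($hR (Δ a f))).symm

lemma unit_eval (f : Γ(X.left, ⊤)) : ev (1 : X ⟶ G) (𝟙 X) (Δ a f) = f := by
  rw [ev_Δ]
  have : lift (1 : X ⟶ G) (𝟙 X) ≫ a.act = 𝟙 X := by
    rw [one_def']
    have h := congr(lift (toUnit X) (𝟙 X) ≫ $(a.one_act))
    simp only [lift_whiskerRight_assoc] at h
    simpa using h
  rw [this, pb_id]; rfl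

lemma exists_scalar (h : Γ((𝟙_ (Over (Spec (CommRingCat.of k)))).left, ⊤)) : ∃ r : k, h = cst _ r := by
  refine ⟨(Scheme.ΓSpecIso (CommRingCat.of k)).hom h, ?_⟩
  show h = ((Scheme.ΓSpecIso (CommRingCat.of k)).inv ≫ (𝟙 (Spec (CommRingCat.of k)) :).appTop) ((Scheme.ΓSpecIso (CommRingCat.of k)).hom h)
  rw [Scheme.Hom.id_appTop, Category.comp_id, Iso.hom_inv_id_apply]

lemma exists_scalar_one {P : Over (Spec (CommRingCat.of k))} (h : Γ(G.left, ⊤)) :
    ∃ r : k, pb (1 : P ⟶ G) h = algebraMap k _ r := by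
  obtain ⟨r, hr⟩ := exists_scalar (pb η[G] h)
  refine ⟨r, ?_⟩
  rw [one_def', pb_comp_apply, hr]
  exact comp_cst _ r

/-- stable subspace -/
def Stable (V : Submodule k Γ(X.left, ⊤)) : Prop :=
  ∀ v ∈ V, Δ a v ∈ LinearMap.range (LinearMap.lTensor Γ(G.left, ⊤) V.subtype)

lemma exists_stable_single (f : Γ(X.left, ⊤)) :
    ∃ V : Submodule k Γ(X.left, ⊤), f ∈ V ∧ Module.Finite k V ∧ Stable a V := by
  classical
  let c := Module.Free.chooseBasis k Γ(G.left, ⊤)
  let d := TensorProduct.equivFinsuppOfBasisLeft c (Δ a f)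
  have hd : Δ a f = ∑ l ∈ d.support, c l ⊗ₜ d l := by
    apply (TensorProduct.equivFinsuppOfBasisLeft c).injective
    refine Finsupp.ext fun l => ?_
    simp only [map_sum, Finsupp.finset_sum_apply, TensorProduct.equivFinsuppOfBasisLeft_apply_tmul_apply,
      Module.Basis.repr_self, Finsupp.single_apply, ite_smul, _root_.one_smul, zero_smul]
    rw [Finset.sum_ite_eq']
    split_ifs with hl
    · rfl
    · exact Finsupp.notMem_support_iff.1 hl
  let V := Submodule.span k (d.support.image d : Set Γ(X.left, ⊤))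
  have hmem : ∀ l, d l ∈ V := fun l => by
    by_cases hl : l ∈ d.support
    · exact Submodule.subset_span (Finset.mem_coe.2 (Finset.mem_image_of_mem d hl))
    · rw [Finsupp.notMem_support_iff.1 hl]; exact V.zero_mem
  refine ⟨V, ?_, Module.Finite.span_of_finite k (Finset.finite_toSet _), ?_⟩
  · have h := unit_eval a f
    rw [hd, map_sum] at h
    rw [← h]
    refine V.sum_mem fun l _ => ?_
    rw [ev_tmul, pb_id]
    obtain ⟨r, hr⟩ := exists_scalar_one (P := X) (c l)
    rw [hr, ← Algebra.smul_def]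
    exact V.smul_mem r (hmem l)
  let π := V.mkQ
  have hπ : ∀ l, π (d l) = 0 := fun l => (Submodule.Quotient.mk_eq_zero V).2 (hmem l)
  let m := ev (fst G G) (snd G G)
  have hm : Function.Injective m := ev_injective G G
  have key : ∀ l, LinearMap.lTensor Γ(G.left, ⊤) π (Δ a (d l)) = 0 := by
    have h := congrArg (LinearMap.lTensor Γ((G ⊗ G).left, ⊤) π) (Δ_assoc a f)
    have e1 : LinearMap.lTensor Γ((G ⊗ G).left, ⊤) π
        (Algebra.TensorProduct.map (pb (fst G G * snd G G)) (AlgHom.id k _) (Δ a f)) = 0 := by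
      rw [hd, map_sum, map_sum]
      refine Finset.sum_eq_zero fun l _ => ?_
      simp [hπ]
    rw [e1] at h
    have e2 : ∀ z : Γ(G.left, ⊤) ⊗[k] Γ(X.left, ⊤), LinearMap.lTensor Γ((G ⊗ G).left, ⊤) π
        (Algebra.TensorProduct.map m (AlgHom.id k _)
          ((Algebra.TensorProduct.assoc k k k _ _ _).symm (Algebra.TensorProduct.map (AlgHom.id k _) (Δ a) z))) =
        LinearMap.rTensor _ m.toLinearMap ((TensorProduct.assoc k _ _ _).symm
          (LinearMap.lTensor Γ(G.left, ⊤) (LinearMap.lTensor Γ(G.left, ⊤) π ∘ₗ (Δ a).toLinearMap) z)) := fun z => by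
      induction z using TensorProduct.induction_on with
      | zero => simp
      | tmul b c =>
        simp only [Algebra.TensorProduct.map_tmul, AlgHom.id_apply, LinearMap.lTensor_tmul, LinearMap.comp_apply,
          AlgHom.toLinearMap_apply]
        induction Δ a c using TensorProduct.induction_on with
        | zero => simp
        | tmul b' c' => simp
        | add x y hx hy => simp only [TensorProduct.tmul_add, map_add, hx, hy]
      | add x y hx hy => simp only [map_add, hx, hy]
    rw [e2] at h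
    have h2 := (TensorProduct.assoc k _ _ _).symm.injective
      ((Module.Flat.rTensor_preserves_injective_linearMap m.toLinearMap hm (h.symm.trans (map_zero _).symm)).trans
        (map_zero _).symm)
    rw [hd, map_sum] at h2
    intro l
    by_cases hl : l ∈ d.support
    · have h3 := congrArg (fun z => TensorProduct.equivFinsuppOfBasisLeft c z l) h2
      simpa [Finsupp.single_apply, Finset.sum_ite_eq', hl] using h3
    · rw [Finsupp.notMem_support_iff.1 hl]; simp
  intro v hv
  have hex := lTensor_exact Γ(G.left, ⊤) (LinearMap.exact_subtype_mkQ V) V.mkQ_surjective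
  refine (hex _).1 ?_
  have : v ∈ LinearMap.ker (LinearMap.lTensor Γ(G.left, ⊤) π ∘ₗ (Δ a).toLinearMap) := by
    refine Submodule.span_le.2 ?_ hv
    intro w hw
    obtain ⟨l, -, rfl⟩ := Finset.mem_image.1 hw
    exact key l
  exact this

lemma exists_stable (F : Finset Γ(X.left, ⊤)) :
    ∃ V : Submodule k Γ(X.left, ⊤), (∀ f ∈ F, f ∈ V) ∧ Module.Finite k V ∧ Stable a V := by
  classical
  choose W hW hfin hst using exists_stable_single a
  refine ⟨⨆ f : F, W f.1, fun f hf => Submodule.mem_iSup_of_mem ⟨f, hf⟩ (hW f), ?_, ?_⟩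
  · haveI := fun f : F => hfin f.1
    infer_instance
  · intro v hv
    let R := LinearMap.range (LinearMap.lTensor Γ(G.left, ⊤) (⨆ f : F, W f.1).subtype)
    suffices h : (⨆ f : F, W f.1) ≤ Submodule.comap (Δ a).toLinearMap R from h hv
    refine iSup_le fun f w hw => ?_
    obtain ⟨z, hz⟩ := hst f.1 w hw
    refine ⟨LinearMap.lTensor Γ(G.left, ⊤) (Submodule.inclusion (le_iSup (fun f : F => W f.1) f)) z, ?_⟩
    rw [← LinearMap.comp_apply, ← LinearMap.lTensor_comp]
    exact hz

lemma coeff_eq {P : Over (Spec (CommRingCat.of k))} {n : ℕ} {V : Submodule k Γ(X.left, ⊤)}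
    (b : Module.Basis (Fin n) k V) (u v : Fin n → Γ(P.left, ⊤))
    (h : ∑ j, u j ⊗ₜ[k] (b j).1 = ∑ j, v j ⊗ₜ[k] (b j).1) : u = v := by
  classical
  have h1 : ∑ j, u j ⊗ₜ[k] b j = ∑ j, v j ⊗ₜ[k] b j :=
    Module.Flat.lTensor_preserves_injective_linearMap V.subtype Subtype.val_injective (by simpa [map_sum] using h)
  funext l
  simpa [Finsupp.single_apply, Finset.sum_ite_eq'] using
    congrArg (fun z => TensorProduct.equivFinsuppOfBasisRight b z l) h1

/-- the representation on a stable subspace -/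
theorem exists_rep (V : Submodule k Γ(X.left, ⊤)) [Module.Finite k V] (hV : Stable a V) :
    ∃ (n : ℕ) (ρ : G ⟶ sp k (GLn n k)), IsMonHom ρ ∧
      ∀ (T : Over (Spec (CommRingCat.of k))) (g : T ⟶ G), g ≫ ρ = 1 ↔
        ∀ v ∈ V, Algebra.TensorProduct.map (pb g) (AlgHom.id k _) (Δ a v) = 1 ⊗ₜ v := by
  classical
  obtain ⟨n, b⟩ : Σ' n, Module.Basis (Fin n) k V := ⟨_, Module.finBasis k V⟩
  have hN : ∀ i, ∃ r : Fin n → Γ(G.left, ⊤), Δ a (b i).1 = ∑ j, r j ⊗ₜ[k] (b j).1 := fun i => by
    obtain ⟨z, hz⟩ := hV _ (b i).2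
    refine ⟨fun j => TensorProduct.equivFinsuppOfBasisRight b z j, ?_⟩
    have e : z = ∑ j, TensorProduct.equivFinsuppOfBasisRight b z j ⊗ₜ[k] b j := by
      apply (TensorProduct.equivFinsuppOfBasisRight b).injective
      refine Finsupp.ext fun l => ?_
      simp [Finsupp.single_apply, Finset.sum_ite_eq']
    rw [← hz]
    conv_lhs => rw [e]
    simp [map_sum]
  choose N hN using hN
  let M : ∀ {T : Over (Spec (CommRingCat.of k))}, (T ⟶ G) → Matrix (Fin n) (Fin n) Γ(T.left, ⊤) :=
    fun g i j => pb g (N i j)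
  have hone : ∀ T : Over (Spec (CommRingCat.of k)), M (1 : T ⟶ G) = 1 := by
    intro T
    have h : ∀ i j, ∃ r : k, pb η[G] (N i j) = cst _ r := fun i j => exists_scalar _
    choose r hr using h
    have hr' : ∀ (P : Over (Spec (CommRingCat.of k))) i j, pb (1 : P ⟶ G) (N i j) = algebraMap k _ (r i j) :=
      fun P i j => by rw [one_def', pb_comp_apply, hr]; exact comp_cst _ _
    have hr1 : ∀ i j, r i j = if i = j then 1 else 0 := fun i j => by
      have h2 := unit_eval a (b i).1
      rw [hN, map_sum] at h2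
      simp only [ev_tmul, hr', pb_id, AlgHom.id_apply, ← Algebra.smul_def] at h2
      have h3 : ∑ l, r i l • b l = b i := Subtype.val_injective (by simpa using h2)
      have := congrArg (fun z => b.repr z j) h3
      simpa [Finsupp.single_apply, Finset.sum_ite_eq'] using this
    ext i j
    show pb (1 : T ⟶ G) (N i j) = _
    rw [hr', hr1, Matrix.one_apply]
    split_ifs <;> simp
  have hmul0 : M (fst G G * snd G G) = M (fst G G) * M (snd G G) := by
    funext i
    apply coeff_eq b
    have h := Δ_assoc a (b i).1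
    rw [hN, map_sum, map_sum, map_sum, map_sum] at h
    simp only [Algebra.TensorProduct.map_tmul, AlgHom.id_apply, hN, TensorProduct.tmul_sum, map_sum,
      Algebra.TensorProduct.assoc_symm_tmul, ev_tmul] at h
    rw [h, Finset.sum_comm]
    refine Finset.sum_congr rfl fun j _ => ?_
    rw [Matrix.mul_apply, TensorProduct.sum_tmul]
  have hMcomp : ∀ {T T' : Over (Spec (CommRingCat.of k))} (s : T' ⟶ T) (g : T ⟶ G), M (s ≫ g) = (M g).map (pb s) :=
    fun s g => by ext i j; exact pb_comp_apply s g _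
  have hmul : ∀ (T : Over (Spec (CommRingCat.of k))) (g h : T ⟶ G), M (g * h) = M g * M h := fun T g h => by
    have e := congrArg (fun z : Matrix (Fin n) (Fin n) _ => z.map (pb (lift g h))) hmul0
    simp only [Matrix.map_mul] at e
    rw [← hMcomp, ← hMcomp, ← hMcomp, MonObj.comp_mul, lift_fst, lift_snd] at e
    exact e
  have hunit : IsUnit (M (𝟙 G)).det := Matrix.isUnit_det_of_right_inverse (B := M (𝟙 G)⁻¹) (by
    rw [← hmul, mul_inv_cancel, hone])
  obtain ⟨ρ, hρ⟩ := glFn_surjective (X := G) (M (𝟙 G)) hunit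
  have hg : ∀ (T : Over (Spec (CommRingCat.of k))) (g : T ⟶ G), glFn (g ≫ ρ) = M g := fun T g => by
    rw [glFn_comp, hρ]
    ext i j
    show pb g (pb (𝟙 G) (N i j)) = pb g (N i j)
    rw [pb_id]; rfl
  refine ⟨n, ρ, RedPts82.isMonHom_of_points ρ fun T g h => glFn_injective (by rw [glFn_mul, hg, hg, hg, hmul]), ?_⟩
  intro T g
  refine ⟨fun hgρ => ?_, fun hfix => glFn_injective ?_⟩
  swap
  · rw [hg, glFn_one]
    funext i
    apply coeff_eq b
    have h := hfix _ (b i).2
    rw [hN, map_sum] at h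
    simp only [Algebra.TensorProduct.map_tmul, AlgHom.id_apply] at h
    rw [h, Finset.sum_eq_single i]
    · simp
    · intro j _ hj; simp [Matrix.one_apply_ne' hj]
    · simp
  have h1 : M g = 1 := by rw [← hg, hgρ, glFn_one]
  suffices h : V ≤ LinearMap.eqLocus
      ((Algebra.TensorProduct.map (pb g) (AlgHom.id k Γ(X.left, ⊤))).toLinearMap ∘ₗ (Δ a).toLinearMap)
      (TensorProduct.mk k Γ(T.left, ⊤) Γ(X.left, ⊤) 1) from fun v hv => h hv
  intro v hv
  have hsum : v = ∑ i, b.repr ⟨v, hv⟩ i • (b i).1 := by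
    have h := congrArg V.subtype (b.sum_repr ⟨v, hv⟩)
    rw [map_sum] at h
    simpa using h.symm
  rw [hsum]
  refine Submodule.sum_mem _ fun i _ => Submodule.smul_mem _ _ ?_
  show Algebra.TensorProduct.map (pb g) (AlgHom.id k Γ(X.left, ⊤)) (Δ a (b i).1) = 1 ⊗ₜ (b i).1
  rw [hN, map_sum]
  simp only [Algebra.TensorProduct.map_tmul, AlgHom.id_apply, show ∀ j, pb g (N i j) = (1 : Matrix (Fin n) (Fin n) Γ(T.left, ⊤)) i j from fun j => congrFun (congrFun h1 i) j]
  rw [Finset.sum_eq_single i]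
  · simp
  · intro j _ hj; simp [Matrix.one_apply_ne' hj]
  · simp

lemma act_trivial_of_fix {T : Over (Spec (CommRingCat.of k))} (g : T ⟶ G) (f : Γ(X.left, ⊤))
    (h : Algebra.TensorProduct.map (pb g) (AlgHom.id k _) (Δ a f) = 1 ⊗ₜ f)
    {T' : Over (Spec (CommRingCat.of k))} (t : T' ⟶ T) (x : T' ⟶ X) :
    pb (lift (t ≫ g) x ≫ a.act) f = pb x f := by
  rw [← ev_Δ, ← Category.comp_id x, ← ev_map, AlgHom.comp_apply, pb_id, h, ev_tmul, map_one, _root_.one_mul, Category.comp_id]

/-- a representation with the same kernel as the action on functions -/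
theorem exists_rep_kernel [LocallyOfFiniteType G.hom] :
    ∃ (n : ℕ) (ρ : G ⟶ sp k (GLn n k)), IsMonHom ρ ∧
      (∀ (T : Over (Spec (CommRingCat.of k))) (g : T ⟶ G), g ≫ ρ = 1 →
        ∀ (T' : Over (Spec (CommRingCat.of k))) (t : T' ⟶ T) (x : T' ⟶ X) (f : Γ(X.left, ⊤)),
          pb (lift (t ≫ g) x ≫ a.act) f = pb x f) ∧
      ∀ (T : Over (Spec (CommRingCat.of k))) (g : T ⟶ G) [QuasiCompact T.hom] [QuasiSeparated T.hom],
        lift (fst T X ≫ g) (snd T X) ≫ a.act = snd T X → g ≫ ρ = 1 := by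
  classical
  have : IsLocallyNoetherian G.left := LocallyOfFiniteType.isLocallyNoetherian G.hom
  have : CompactSpace G.left := QuasiCompact.compactSpace_of_compactSpace G.hom
  let 𝒰 := G.left.affineCover.finiteSubcover
  have : Fintype 𝒰.I₀ := Fintype.ofFinite _
  let Um : 𝒰.I₀ → Over (Spec (CommRingCat.of k)) := fun m => Over.mk (𝒰.f m ≫ G.hom)
  let im : ∀ m, Um m ⟶ G := fun m => Over.homMk (𝒰.f m) rfl
  let e := Module.Free.chooseBasis k Γ(X.left, ⊤)
  let co : ∀ {P : Over (Spec (CommRingCat.of k))} (g : P ⟶ G), Γ(X.left, ⊤) → Module.Free.ChooseBasisIndex k Γ(X.left, ⊤) → Γ(P.left, ⊤) :=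
    fun g f j => TensorProduct.equivFinsuppOfBasisRight e
      (Algebra.TensorProduct.map (pb g) (AlgHom.id k _) (Δ a f) - 1 ⊗ₜ f) j
  have hco : ∀ {P Q : Over (Spec (CommRingCat.of k))} (s : Q ⟶ P) (g : P ⟶ G) f j, co (s ≫ g) f j = pb s (co g f j) := by
    intro P Q s g f j
    have hz : ∀ z : Γ(P.left, ⊤) ⊗[k] Γ(X.left, ⊤),
        TensorProduct.equivFinsuppOfBasisRight e (Algebra.TensorProduct.map (pb s) (AlgHom.id k _) z) j =
          pb s (TensorProduct.equivFinsuppOfBasisRight e z j) := fun z => by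
      induction z using TensorProduct.induction_on with
      | zero => simp
      | tmul u v => simp [map_smul]
      | add x y hx hy => simp only [map_add, Finsupp.add_apply, hx, hy]
    show TensorProduct.equivFinsuppOfBasisRight e _ j = _
    rw [← hz, map_sub (Algebra.TensorProduct.map (pb s) (AlgHom.id k _)), Algebra.TensorProduct.map_tmul, map_one,
      AlgHom.id_apply, pb_comp]
    congr 3
    have : (Algebra.TensorProduct.map ((pb s).comp (pb g)) (AlgHom.id k Γ(X.left, ⊤))) =
        (Algebra.TensorProduct.map (pb s) (AlgHom.id k _)).comp (Algebra.TensorProduct.map (pb g) (AlgHom.id k _)) :=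
      Algebra.TensorProduct.ext' fun u v => by simp
    exact congr($this (Δ a f))
  have hfg : ∀ m, ∃ F : Finset Γ(X.left, ⊤), ∀ f j, co (im m) f j ∈
      Ideal.span {z | ∃ f' ∈ F, ∃ j', co (im m) f' j' = z} := by
    intro m
    haveI : IsLocallyNoetherian (𝒰.X m) := isLocallyNoetherian_of_isOpenImmersion (𝒰.f m)
    haveI : IsAffine (𝒰.X m) := inferInstanceAs (IsAffine (G.left.affineCover.X _))
    haveI : IsNoetherianRing Γ((Um m).left, ⊤) :=
      IsLocallyNoetherian.component_noetherian (X := 𝒰.X m) ⟨⊤, isAffineOpen_top _⟩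
    let S : Set Γ((Um m).left, ⊤) := Set.range fun p : Γ(X.left, ⊤) × Module.Free.ChooseBasisIndex k Γ(X.left, ⊤) => co (im m) p.1 p.2
    obtain ⟨s, hs, hspan⟩ := (Submodule.fg_span_iff_fg_span_finset_subset S).1 (IsNoetherian.noetherian (Submodule.span Γ((Um m).left, ⊤) S))
    choose p hp using fun z : s => hs z.2
    refine ⟨Finset.univ.image fun z => (p z).1, fun f j => ?_⟩
    have h1 : co (im m) f j ∈ Submodule.span Γ((Um m).left, ⊤) S := Submodule.subset_span ⟨(f, j), rfl⟩
    rw [hspan] at h1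
    refine Ideal.span_mono ?_ h1
    intro z hz
    exact ⟨(p ⟨z, hz⟩).1, Finset.mem_image_of_mem _ (Finset.mem_univ _), _, hp ⟨z, hz⟩⟩
  choose F hF using hfg
  obtain ⟨V, hFV, hfin, hV⟩ := exists_stable a (Finset.univ.biUnion F)
  obtain ⟨n, ρ, hρ, hfix⟩ := exists_rep a V hV
  refine ⟨n, ρ, hρ, fun T g hgρ T' t x f => act_trivial_of_fix a g f ?_ t x, fun T g _ _ htriv =>
    (hfix T g).2 fun v _ => ev_injective T X ?_⟩
  swap
  · rw [← AlgHom.comp_apply, ← pb_id, ev_map, Category.comp_id, ev_Δ, htriv, ev_tmul, map_one, _root_.one_mul]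
  rw [← sub_eq_zero]
  refine (TensorProduct.equivFinsuppOfBasisRight e).injective ?_
  rw [map_zero]
  refine Finsupp.ext fun j => ?_
  show co g f j = 0
  obtain ⟨y, hy⟩ := RedPts82.gaFn_surjective (S := Spec (CommRingCat.of k)) (X := T) (co g f j)
  rw [← hy, ← RedPts82.gaFn_one]
  congr 1
  ext : 1
  refine Scheme.Cover.hom_ext (𝒰.pullback₁ g.left) _ _ fun m => ?_
  let Tm : Over (Spec (CommRingCat.of k)) := Over.mk (pullback.fst g.left (𝒰.f m) ≫ T.hom)
  let tm : Tm ⟶ T := Over.homMk (pullback.fst g.left (𝒰.f m)) rfl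
  let gm : Tm ⟶ Um m := Over.homMk (pullback.snd g.left (𝒰.f m)) (by
    show pullback.snd _ _ ≫ 𝒰.f m ≫ G.hom = pullback.fst _ _ ≫ T.hom
    rw [← pullback.condition_assoc, Over.w])
  have hcomm : tm ≫ g = gm ≫ im m := by ext : 1; exact pullback.condition
  have h1 : tm ≫ y = tm ≫ (1 : T ⟶ Red.Ga (Spec (CommRingCat.of k))) := by
    apply RedPts82.gaFn_injective
    rw [MonObj.comp_one, RedPts82.gaFn_one, RedPts82.gaFn_comp, hy, ← pb_apply, ← hco, hcomm, hco]
    have hle : Ideal.span {z | ∃ f' ∈ F m, ∃ j', co (im m) f' j' = z} ≤ RingHom.ker (pb gm).toRingHom := by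
      rw [Ideal.span_le]
      rintro _ ⟨f', hf', j', rfl⟩
      show pb gm (co (im m) f' j') = 0
      have hz := (hfix T g).1 hgρ f' (hFV f' (Finset.mem_biUnion.2 ⟨m, Finset.mem_univ _, hf'⟩))
      rw [← hco, ← hcomm, hco]
      show pb tm (TensorProduct.equivFinsuppOfBasisRight e _ j') = 0
      rw [hz, sub_self, map_zero, Finsupp.zero_apply, map_zero]
    exact hle (hF m f j)
  exact congr(($h1).left)

end Groth.Agent.AlgGrp79.ActRep
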