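import Mathlib
import Groth.Prelude.Def_AlgGrp
import Groth.Agent.SchBasics.TopNoeth

/-!
For a universally closed, locally noetherian scheme over a field the fibres of the affinization are connected components.
-/

set_option autoImplicit false
universe u

open CategoryTheory CategoryTheory.Limits AlgebraicGeometry TopologicalSpace

namespace Groth.Agent.AlgGrp79

lemma exists_pow_mul_eq_zero {k A : Type u} [Field k] [CommRing A] [Algebra k A] (a : A) (ha : IsIntegral k a) :
    ∃ (n : ℕ) (b : A), a ^ n * (1 - a * b) = 0 := by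
  let B := Algebra.adjoin k ({a} : Set A)
  have : Module.Finite k B := Module.Finite.iff_fg.2 (ha.fg_adjoin_singleton)
  have : IsArtinianRing B := IsArtinianRing.of_finite k B
  obtain ⟨n, y, hy⟩ := IsArtinian.exists_pow_succ_smul_dvd (M := B) (⟨a, Algebra.self_mem_adjoin_singleton k a⟩ : B) 1
  refine ⟨n, y, ?_⟩
  have := congrArg (fun z : B => (z : A)) hy
  simp only [smul_eq_mul, mul_one, Subalgebra.coe_mul, Subalgebra.coe_pow] at this
  rw [mul_sub, mul_one, ← mul_assoc, ← pow_succ, ← Nat.succ_eq_add_one, this, sub_self]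

/-- fibres of the affinization are the connected components -/
theorem preimage_toSpecΓ_eq_connectedComponent {k : Type u} [Field k] {X : Scheme.{u}} (f : X ⟶ Spec (CommRingCat.of k))
    [UniversallyClosed f] [LocallyOfFiniteType f] (x₀ : X) :
    X.toSpecΓ ⁻¹' {X.toSpecΓ x₀} = connectedComponent x₀ := by
  have : IsLocallyNoetherian X := LocallyOfFiniteType.isLocallyNoetherian f
  have hint : ((Scheme.ΓSpecIso (CommRingCat.of k)).inv ≫ f.appTop).hom.IsIntegral :=
    RingHom.IsIntegral.trans _ _ (RingHom.isIntegral_of_surjective _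
      ((ConcreteCategory.isIso_iff_bijective (Scheme.ΓSpecIso (CommRingCat.of k)).inv).1 inferInstance).2)
      (isIntegral_appTop_of_universallyClosed f)
  letI : Algebra k Γ(X, ⊤) := ((Scheme.ΓSpecIso (CommRingCat.of k)).inv ≫ f.appTop).hom.toAlgebra
  ext x
  constructor
  · intro hx
    have hopen : IsOpen (connectedComponent x₀) := by
      have : QuasiCompact f := inferInstance
      have : CompactSpace X := QuasiCompact.compactSpace_of_compactSpace f
      have : IsNoetherian X := {}
      exact SchBasics.isOpen_connectedComponent_of_noetherianSpace x₀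
    let U : Bool → X.Opens := fun b => if b then ⟨connectedComponent x₀, hopen⟩
      else ⟨(connectedComponent x₀)ᶜ, isClosed_connectedComponent.isOpen_compl⟩
    have hcov : (⊤ : X.Opens) ≤ ⨆ b, U b := fun y _ => Opens.mem_iSup.2 (by
      by_cases hy : y ∈ connectedComponent x₀
      · exact ⟨true, hy⟩
      · exact ⟨false, hy⟩)
    let sf : ∀ b, Γ(X, U b) := fun b => if b then 1 else 0
    have hcompat : TopCat.Presheaf.IsCompatible X.sheaf.1 U sf := by
      intro a b
      by_cases h : a = b
      · subst h; rfl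
      · have hbot : U a ⊓ U b = ⊥ := by
          ext y
          cases a <;> cases b <;> simp_all [U]
        have : Subsingleton (ToType (X.sheaf.1.obj (Opposite.op (U a ⊓ U b)))) := by
          rw [hbot]
          exact CommRingCat.subsingleton_of_isTerminal X.sheaf.isTerminalOfEmpty
        exact Subsingleton.elim _ _
    obtain ⟨e, he, -⟩ := TopCat.Sheaf.existsUnique_gluing' X.sheaf U ⊤ (fun b => homOfLE le_top) hcov sf hcompat
    by_contra hxC
    have h0 : x₀ ∈ X.basicOpen e := by
      rw [Scheme.mem_basicOpen_top]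
      have : X.presheaf.germ ⊤ x₀ trivial e = X.presheaf.germ (U true) x₀ mem_connectedComponent (sf true) := by
        rw [← he true]; exact (TopCat.Presheaf.germ_res_apply _ _ _ _ _).symm
      rw [this]; simp [sf]
    have h1 : x ∉ X.basicOpen e := by
      rw [Scheme.mem_basicOpen_top]
      have : X.presheaf.germ ⊤ x trivial e = X.presheaf.germ (U false) x hxC (sf false) := by
        rw [← he false]; exact (TopCat.Presheaf.germ_res_apply _ _ _ _ _).symm
      rw [this]; simp [sf]
    rw [← Scheme.toSpecΓ_preimage_basicOpen] at h0 h1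
    simp only [Scheme.Hom.mem_preimage] at h0 h1
    rw [Set.mem_preimage, Set.mem_singleton_iff] at hx
    exact h1 (hx ▸ h0)
  · intro hx
    by_contra hne
    rw [Set.mem_preimage, Set.mem_singleton_iff] at hne
    obtain ⟨a, ha⟩ : ∃ a : Γ(X, ⊤), ¬ (X.toSpecΓ x ∈ PrimeSpectrum.basicOpen a ↔ X.toSpecΓ x₀ ∈ PrimeSpectrum.basicOpen a) := by
      by_contra h
      push_neg at h
      exact hne (PrimeSpectrum.ext (Ideal.ext fun a => not_iff_not.1 (h a)))
    obtain ⟨n, b, hb⟩ := exists_pow_mul_eq_zero a (hint a)
    have hcl : IsClopen (X.toSpecΓ ⁻¹' (PrimeSpectrum.basicOpen a : Set (PrimeSpectrum Γ(X, ⊤)))) := by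
      refine IsClopen.preimage ⟨?_, (PrimeSpectrum.basicOpen a).isOpen⟩ X.toSpecΓ.continuous
      have : (PrimeSpectrum.basicOpen a : Set (PrimeSpectrum Γ(X, ⊤)))ᶜ = PrimeSpectrum.basicOpen (1 - a * b) := by
        ext p
        simp only [Set.mem_compl_iff, SetLike.mem_coe, PrimeSpectrum.mem_basicOpen, not_not]
        constructor
        · intro hap hbp
          refine p.isPrime.ne_top ((Ideal.eq_top_iff_one _).2 ?_)
          have := p.asIdeal.add_mem hbp (p.asIdeal.mul_mem_right b hap)
          rwa [sub_add_cancel] at this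
        · intro hbp
          have := (p.isPrime.mem_or_mem (hb.symm ▸ p.asIdeal.zero_mem : a ^ n * (1 - a * b) ∈ p.asIdeal)).resolve_right hbp
          exact p.isPrime.mem_of_pow_mem n this
      exact ⟨this ▸ (PrimeSpectrum.basicOpen (1 - a * b)).isOpen⟩
    have h' := (isPreconnected_connectedComponent (x := x₀)).subset_isClopen hcl
    by_cases h0 : X.toSpecΓ x₀ ∈ PrimeSpectrum.basicOpen a
    · exact ha ⟨fun _ => h0, fun _ => h' ⟨x₀, mem_connectedComponent, h0⟩ hx⟩
    · exact ha ⟨fun hx' => h' ⟨x, hx, hx'⟩ mem_connectedComponent, fun h => (h0 h).elim⟩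

end Groth.Agent.AlgGrp79
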