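import Groth.Agent.AlgGrp79.IsogenyFactor
import Groth.Agent.AlgGrp79.AffineQuot
import Groth.Agent.AlgGrp79.QuotSub
import Groth.Agent.Alb96.GeomInt
import Groth.Agent.AVRig94.Curve
import Groth.Agent.S11994

/-!
A quotient by an affine connected subgroup onto an abelian variety is the Albanese morphism.
-/

set_option autoImplicit false
set_option linter.unusedSectionVars false
set_option backward.isDefEq.respectTransparency.types false

universe u

open CategoryTheory MonoidalCategory CartesianMonoidalCategory MonObj GrpObj AlgebraicGeometry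

noncomputable section

namespace Groth.Agent.AlgGrp79.AlbaneseQuot

variable {k : Type u} [Field k]

/-- A homomorphism from a smooth connected affine group to a proper group is trivial. -/
theorem hom_eq_one {N B : Over (Spec (CommRingCat.of k))} [GrpObj N] [GrpObj B] [IsAffine N.left] [Smooth N.hom]
    [ConnectedSpace N.left] [IsProper B.hom] (ψ : N ⟶ B) [IsMonHom ψ] : ψ = 1 := by
  haveI : QuasiCompact N.hom := inferInstance
  obtain ⟨K, _, n, hnm, hnc, hker⟩ := IsogenyFactor.exists_kernel ψ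
  haveI := hnm; haveI := hnc
  have hn : AlgGrp.IsNormalHom n := fun T g h => by
    have w : (g * (h ≫ n) * g⁻¹) ≫ ψ = toUnit T ≫ η[B] := by
      rw [MonObj.mul_comp, MonObj.mul_comp, GrpObj.inv_comp, Category.assoc, hker.w, ← Category.assoc,
        toUnit_unique (h ≫ toUnit K) (toUnit T), ← Hom.one_def, _root_.mul_one, mul_inv_cancel]
    exact ⟨hker.lift _ (toUnit T) w, (hker.lift_fst _ _ _).symm⟩
  obtain ⟨Q, _, q, hqm, hQa, hQl, hqf, hqs, hkq⟩ := AffineQuot.exists_quotient n hn
  haveI := hqm; haveI := hQa; haveI := hQl; haveI := hqf; haveI := hqs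
  haveI : QuasiCompact Q.hom := inferInstance
  have hqc := isCov_of_flat_surjective q
  haveI := hqc.epi
  have hiff : ∀ (T : Over (Spec (CommRingCat.of k))) (a b : T ⟶ N), a ≫ q = b ≫ q ↔ a ≫ ψ = b ≫ ψ := by
    intro T a b
    constructor <;> intro h
    · obtain ⟨m, hm⟩ := exists_ker_of_comp_eq q n hkq a b h
      have e : b = a * (m ≫ n) := by rw [← hm, mul_inv_cancel_left]
      rw [e, MonObj.mul_comp, Category.assoc, hker.w, ← Category.assoc, toUnit_unique (m ≫ toUnit K) (toUnit T),
        ← Hom.one_def, _root_.mul_one]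
    · obtain ⟨m, hm⟩ := exists_ker_of_comp_eq ψ n hker a b h
      have e : b = a * (m ≫ n) := by rw [← hm, mul_inv_cancel_left]
      rw [e, MonObj.mul_comp, Category.assoc, hkq.w, ← Category.assoc, toUnit_unique (m ≫ toUnit K) (toUnit T),
        ← Hom.one_def, _root_.mul_one]
  obtain ⟨v, hv⟩ := hqc.desc ψ fun T a b h => (hiff T a b).1 h
  haveI : IsMonHom v := AlgGrp79.isMonHom_of_forall _ fun T a b => by
    obtain ⟨T₁, c₁, a', hc₁, ha'⟩ := hqc.exists_lift a
    obtain ⟨T₂, c₂, b', hc₂, hb'⟩ := hqc.exists_lift (c₁ ≫ b)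
    haveI := (hc₂.comp hc₁).epi
    rw [← cancel_epi (c₂ ≫ c₁)]
    calc (c₂ ≫ c₁) ≫ (a * b) ≫ v = ((c₂ ≫ a') * b') ≫ q ≫ v := by
            rw [← Category.assoc, MonObj.comp_mul, ← Category.assoc _ q, MonObj.mul_comp _ _ q]
            simp only [Category.assoc, ha', hb']
      _ = _ := by
            rw [hv, MonObj.mul_comp, MonObj.comp_mul, ← hv]
            simp only [Category.assoc, reassoc_of% ha', reassoc_of% hb']
  haveI : Mono v := ⟨fun {T} a b h => by
    obtain ⟨T₁, c₁, a', hc₁, ha'⟩ := hqc.exists_lift a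
    obtain ⟨T₂, c₂, b', hc₂, hb'⟩ := hqc.exists_lift (c₁ ≫ b)
    haveI := (hc₂.comp hc₁).epi
    rw [← cancel_epi (c₂ ≫ c₁), Category.assoc, Category.assoc, ← ha', ← hb', ← Category.assoc, hiff]
    rw [← hv, ← Category.assoc, ← Category.assoc b', Category.assoc c₂, ha', hb', Category.assoc, Category.assoc,
      Category.assoc, h]
    simp only [Category.assoc]⟩
  haveI : IsClosedImmersion v.left := QuotSub.isClosedImmersion_of_mono v
  haveI : IsProper Q.hom := by rw [← Over.w v]; infer_instance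
  haveI : IsFinite Q.hom := by rw [IsFinite.iff_isProper_and_isAffineHom]; exact ⟨inferInstance, inferInstance⟩
  haveI : Finite Q.left := FinIndex.finite_left Q
  haveI : JacobsonSpace Q.left := LocallyOfFiniteType.jacobsonSpace Q.hom
  haveI : ConnectedSpace Q.left := q.left.surjective.connectedSpace q.left.continuous
  haveI : Subsingleton Q.left := PreconnectedSpace.trivial_of_discrete
  haveI : Smooth Q.hom := by
    have : Smooth (q.left ≫ Q.hom) := by rw [Over.w]; infer_instance
    haveI := lfp_left q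
    exact smooth_of_flat_surjective q.left Q.hom
  haveI : IsReduced Q.left := isReduced_of_smooth Q.hom
  haveI : IsClosedImmersion (η[Q]).left := by
    haveI : IsClosedImmersion ((η[Q]).left ≫ Q.hom) := by
      rw [Over.w]; exact inferInstanceAs (IsClosedImmersion (𝟙 _))
    exact IsClosedImmersion.of_comp (η[Q]).left Q.hom
  haveI : Surjective (η[Q]).left := ⟨fun z => ⟨IsLocalRing.closedPoint k, Subsingleton.elim _ _⟩⟩
  haveI : IsIso (η[Q]).left := isIso_of_isClosedImmersion_of_surjective _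
  haveI : IsIso ((Over.forget _).map (η[Q] : 𝟙_ _ ⟶ Q)) := inferInstanceAs (IsIso (η[Q]).left)
  haveI : IsIso (η[Q] : 𝟙_ _ ⟶ Q) := isIso_of_reflects_iso _ (Over.forget _)
  have hid : 𝟙 Q = toUnit Q ≫ η[Q] := by
    rw [← cancel_epi (η[Q] : 𝟙_ _ ⟶ Q), Category.comp_id, ← Category.assoc,
      toUnit_unique (η[Q] ≫ toUnit Q) (𝟙 _), Category.id_comp]
  rw [← hv, ← Category.id_comp v, hid, Category.assoc, IsMonHom.one_hom, ← Category.assoc,
    toUnit_unique (q ≫ toUnit Q) (toUnit N), ← Hom.one_def]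

theorem main
    (G : Over (Spec (CommRingCat.of k))) [GrpObj G] [Smooth G.hom] [QuasiCompact G.hom] [ConnectedSpace ↥G.left]
    (N : Over (Spec (CommRingCat.of k))) [GrpObj N] (i : N ⟶ G) [IsMonHom i]
    [Smooth N.hom] [ConnectedSpace ↥N.left] [IsAffine N.left]
    (A : Over (Spec (CommRingCat.of k))) [GrpObj A] [IsProper A.hom] [Smooth A.hom] (α : G ⟶ A) [IsMonHom α]
    [Surjective α.left] [Flat α.left] (hker : AlgGrp.IsKernel i α)
    (B : Over (Spec (CommRingCat.of k))) [GrpObj B] [IsProper B.hom] [Smooth B.hom] [ConnectedSpace ↥B.left] (f : G ⟶ B) :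
    ∃! g : A ⟶ B, α ≫ g = f := by
  haveI : GeometricallyReduced G.hom := AVRig94.geometricallyReduced_of_smooth G.hom
  haveI := Alb96.geometricallyIntegral_of_connectedSpace G
  haveI : GeometricallyReduced B.hom := AVRig94.geometricallyReduced_of_smooth B.hom
  haveI := Alb96.geometricallyIntegral_of_connectedSpace B
  haveI : IsSeparated G.hom := isSeparated_grp G
  let c : 𝟙_ (Over (Spec (CommRingCat.of k))) ⟶ B := η[G] ≫ f
  let φ : G ⟶ B := f * (toUnit G ≫ c)⁻¹
  haveI : IsMonHom φ := Groth.Agent.S11994.result k G B φ (by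
    simp only [φ, MonObj.comp_mul, GrpObj.comp_inv, ← Category.assoc, toUnit_unique (η[G] ≫ toUnit G) (𝟙 _),
      Category.id_comp]
    rw [show c = η[G] ≫ f from rfl, mul_inv_cancel, Hom.one_def, toUnit_unique (toUnit (𝟙_ _)) (𝟙 _), Category.id_comp])
  have hφ : i ≫ φ = 1 := hom_eq_one (i ≫ φ)
  have hαc := isCov_of_flat_surjective α
  haveI := hαc.epi
  obtain ⟨g, hg⟩ := hαc.desc φ fun T a b h => by
    obtain ⟨m, hm⟩ := exists_ker_of_comp_eq α i hker a b h
    have e : b = a * (m ≫ i) := by rw [← hm, mul_inv_cancel_left]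
    rw [e, MonObj.mul_comp, Category.assoc, hφ, MonObj.comp_one, _root_.mul_one]
  refine ⟨g * (toUnit A ≫ c), ?_, fun g' hg' => ?_⟩
  · show α ≫ (g * (toUnit A ≫ c)) = f
    rw [MonObj.comp_mul, hg, ← Category.assoc, toUnit_unique (α ≫ toUnit A) (toUnit G)]
    exact inv_mul_cancel_right _ _
  · rw [← cancel_epi α, hg', MonObj.comp_mul, hg, ← Category.assoc, toUnit_unique (α ≫ toUnit A) (toUnit G)]
    exact (inv_mul_cancel_right _ _).symm

end Groth.Agent.AlgGrp79.AlbaneseQuot
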