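import Groth.Agent.SGA3a.SchemDense
import Groth.Agent.RedPts82.Points
import Groth.Prelude.Def_AlgGrp

set_option autoImplicit false
universe u v w

open CategoryTheory MonoidalCategory CartesianMonoidalCategory MonObj AlgebraicGeometry CategoryTheory.Limits
open scoped commutatorElement TensorProduct nonZeroDivisors

namespace Groth.Agent.AlgGrp79

section SchDom

lemma eq_of_schemeTheoreticallyDominant {X Y W S : Scheme.{u}} (q : Y ⟶ S) [IsSeparated q] (j : W ⟶ X)
    [IsSchemeTheoreticallyDominant j] (a b : X ⟶ Y) (hab : a ≫ q = b ≫ q) (h : j ≫ a = j ≫ b) : a = b := by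
  obtain ⟨E, i, _, hi, hiab, hlift⟩ := Groth.Agent.SGA3a.exists_equalizer q a b hab
  have := hi inferInstance
  obtain ⟨l, hl⟩ := hlift j h
  have : IsIso i := by
    rw [IsClosedImmersion.isIso_iff_ker_eq_bot, ← le_bot_iff, ← j.ker_eq_bot, ← hl]
    exact Scheme.Hom.le_ker_comp l i
  rwa [← cancel_epi i]

end SchDom

end Groth.Agent.AlgGrp79
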