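import Groth.Agent.AlgGrp79.NeutralHomog
import Groth.Agent.AlgGrp79.RatDense
import Groth.Agent.AlgGrp79.CommSpecial
import Groth.Agent.AlgGrp79.ProdDense
import Groth.Agent.FBase64.ProductDim
import Groth.Agent.FBase64.NowhereDense
import Groth.Agent.S1585

set_option autoImplicit false
universe u
open CategoryTheory CategoryTheory.Limits MonoidalCategory CartesianMonoidalCategory MonObj GrpObj AlgebraicGeometry

namespace Groth.Agent.AlgGrp79

variable {k : Type u} [Field k]

/-- almost homogeneous curves -/
theorem isDominant_graph_iff_curve (G C : Over (Spec (CommRingCat.of k))) [GrpObj G] [Smooth G.hom]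
    [QuasiCompact G.hom] [ConnectedSpace ↥G.left] [IsSeparated C.hom] [LocallyOfFiniteType C.hom]
    [QuasiCompact C.hom] [GeometricallyIntegral C.hom] (hdim : topologicalKrullDim ↥C.left = 1)
    (a : AlgGrp.Action G C) :
    IsDominant (lift (snd G C) a.act).left ↔ a.act ≠ snd G C := by
  have : IrreducibleSpace C.left := GeometricallyIrreducible.irreducibleSpace_of_subsingleton C.hom
  have : IsReduced C.left := GeometricallyReduced.isReduced_of_flat_of_isLocallyNoetherian C.hom
  let D : C ⟶ C ⊗ C := lift (𝟙 C) (𝟙 C)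
  have hD : IsClosedImmersion D.left := by
    exact inferInstanceAs (IsClosedImmersion (pullback.diagonal C.hom))
  have hCC : LocallyOfFiniteType (C ⊗ C).hom :=
    inferInstanceAs (LocallyOfFiniteType (pullback.fst C.hom C.hom ≫ C.hom))
  have : UniversallyOpen C.hom := inferInstance
  have hirrCC : IrreducibleSpace ↥(C ⊗ C).left :=
    inferInstanceAs (IrreducibleSpace ↥(pullback C.hom C.hom))
  have hd2 : topologicalKrullDim ↥(C ⊗ C).left = 2 := by
    show topologicalKrullDim ↥(pullback C.hom C.hom) = 2
    rw [FBase64.topologicalKrullDim_pullback C.hom C.hom, hdim]; rfl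
  have hrng : topologicalKrullDim ↥(Set.range D.left) = 1 := by
    rw [← hdim]
    exact (D.left.isClosedEmbedding.isEmbedding.toHomeomorph.isHomeomorph.topologicalKrullDim_eq _).symm
  constructor
  · intro h he
    have hfac : lift (snd G C) a.act = snd G C ≫ D := by
      rw [he]; simp [D]
    have huniv : Set.range D.left = Set.univ := by
      refine Set.eq_univ_of_univ_subset ?_
      rw [← h.1.closure_range]
      refine D.left.isClosedEmbedding.isClosed_range.closure_subset_iff.2 ?_
      rw [hfac, Over.comp_left, Scheme.Hom.comp_base, TopCat.coe_comp]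
      exact Set.range_comp_subset_range _ _
    rw [huniv, (Homeomorph.Set.univ _).isHomeomorph.topologicalKrullDim_eq _, hd2] at hrng
    exact absurd hrng (by decide)
  · intro hne
    have : IrreducibleSpace G.left := by
      have h := (Grp57.connectedComponent_unit G).1
      rw [PreconnectedSpace.connectedComponent_eq_univ] at h
      exact { isPreirreducible_univ := h.2, toNonempty := h.1.to_type }
    have hirrGC : IrreducibleSpace ↥(G ⊗ C).left :=
      inferInstanceAs (IrreducibleSpace ↥(pullback G.hom C.hom))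
    have hredGC : IsReduced (G ⊗ C).left := by
      have : GeometricallyReduced G.hom := geometricallyReduced_of_smooth G.hom
      have : Smooth (pullback.snd G.hom C.hom) := MorphismProperty.pullback_snd _ _ ‹Smooth G.hom›
      have : IsLocallyNoetherian C.left := LocallyOfFiniteType.isLocallyNoetherian C.hom
      exact GeometricallyReduced.isReduced_of_flat_of_isLocallyNoetherian (pullback.snd G.hom C.hom)
    set Φ := lift (snd G C) a.act
    set z := Φ.left (genericPoint ↥(G ⊗ C).left)
    set ξ := genericPoint ↥(C ⊗ C).left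
    set δ := D.left (genericPoint C.left)
    have hsub : Set.range Φ.left ⊆ closure {z} := by
      rintro _ ⟨w, rfl⟩
      exact specializes_iff_mem_closure.1 ((genericPoint_specializes w).map Φ.left.continuous)
    have hcl : closure {δ} = Set.range D.left := by
      refine Set.Subset.antisymm (D.left.isClosedEmbedding.isClosed_range.closure_subset_iff.2
        (Set.singleton_subset_iff.2 ⟨_, rfl⟩)) ?_
      rintro _ ⟨c, rfl⟩
      exact specializes_iff_mem_closure.1 ((genericPoint_specializes c).map D.left.continuous)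
    have hunit : lift (toUnit C ≫ η[G]) (𝟙 C) ≫ Φ = D := by
      apply CartesianMonoidalCategory.hom_ext
      · simp [Φ, D]
      · simp only [Φ, D, Category.assoc, lift_snd]
        rw [show toUnit C ≫ η[G] = (1 : C ⟶ G) from (Hom.one_def).symm]
        exact one_act' a _
    have hzδ : z ⤳ δ := by
      rw [specializes_iff_mem_closure]
      apply hsub
      exact ⟨_, by rw [← Scheme.Hom.comp_apply, ← Over.comp_left, hunit]⟩
    have hne' : z ≠ δ := by
      intro he
      obtain ⟨g, hg⟩ := exists_lift_of_range_subset D Φ (fun y hy => hcl ▸ he ▸ hsub hy)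
      apply hne
      have h1 := congr($hg ≫ fst C C)
      have h2 := congr($hg ≫ snd C C)
      simp [Φ, D] at h1 h2
      rw [← h2, ← h1]
    have hzξ : z = ξ := by
      by_contra hzξ
      have l1 := FBase64.tdegN_lt (C ⊗ C).hom hzδ hne'
      have l2 := FBase64.tdegN_lt (C ⊗ C).hom (show ξ ⤳ z from genericPoint_specializes z) (Ne.symm hzξ)
      have e2 : WC97.tdegN (C ⊗ C).hom ξ = 2 := by
        have := (WC97.dim_eq (C ⊗ C).hom).1
        rw [hd2] at this
        exact_mod_cast this.symm
      have e1 : WC97.tdegN (C ⊗ C).hom δ = 1 := by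
        have := WC97.topologicalKrullDim_closure (C ⊗ C).hom δ
        rw [hcl, hrng] at this
        exact_mod_cast this.symm
      omega
    refine ⟨fun y => ?_⟩
    have hm : ξ ∈ Set.range Φ.left := ⟨_, hzξ⟩
    refine closure_mono (Set.singleton_subset_iff.2 hm) ?_
    rw [genericPoint_closure]; trivial

section Normalization
variable (G X : Over (Spec (CommRingCat.of k))) [GrpObj G]
  [IsSeparated X.hom] [LocallyOfFiniteType X.hom] [IsIntegral X.left]
  [QuasiCompact (X.left.fromSpecStalk (genericPoint ↥X.left))]
  [QuasiSeparated (X.left.fromSpecStalk (genericPoint ↥X.left))]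

/-- the normalization as an object over the base -/
noncomputable abbrev nrm : Over (Spec (CommRingCat.of k)) := Over.mk (Curv2.normalizationι X.left ≫ X.hom)

/-- the normalization morphism -/
noncomputable abbrev nrmι : nrm X ⟶ X := Over.homMk (Curv2.normalizationι X.left) rfl

lemma nrm_facts :
    IsFinite (Curv2.normalizationι X.left) ∧ IsDominant (Curv2.normalizationι X.left) ∧
      (∃ V : X.left.Opens, (V : Set X.left).Nonempty ∧ IsIso (Curv2.normalizationι X.left ∣_ V)) ∧
      IsIntegral (Curv2.normalization X.left) := by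
  let : X.left.Over (Spec (CommRingCat.of k)) := ⟨X.hom⟩
  have : LocallyOfFiniteType (X.left ↘ Spec (CommRingCat.of k)) := ‹LocallyOfFiniteType X.hom›
  have h := Groth.Agent.S1585.result k X.left
  exact ⟨h.1, h.2.1, h.2.2.1, h.2.2.2.1⟩

lemma nrm_surjective : Surjective (Curv2.normalizationι X.left) := by
  obtain ⟨hfin, hdom, -, -⟩ := nrm_facts X
  refine ⟨fun x => ?_⟩
  have h1 := (Curv2.normalizationι X.left).denseRange.closure_range
  rw [(Curv2.normalizationι X.left).isClosedMap.isClosed_range.closure_eq] at h1
  rw [← Set.mem_range, h1]; trivial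

variable {X}

/-- the action square of the normalization is cartesian -/
lemma isPullback_nrm (a : AlgGrp.Action G X) (b : AlgGrp.Action G (nrm X))
    (hb : (G ◁ nrmι X) ≫ a.act = b.act ≫ nrmι X) :
    IsPullback b.act (G ◁ nrmι X) (nrmι X) a.act := by
  refine (whiskerLeft_isPullback G (nrmι X)).flip.of_iso (shear b).symm (Iso.refl _) (shear a).symm
    (Iso.refl _) ?_ ?_ (by simp) ?_
  · show snd G (nrm X) ≫ 𝟙 _ = (shear b).inv ≫ b.act
    rw [← shear_hom_snd b, Iso.inv_hom_id_assoc, Category.comp_id]
  · show (G ◁ nrmι X) ≫ (shear a).inv = (shear b).inv ≫ (G ◁ nrmι X)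
    rw [Iso.eq_inv_comp, ← Category.assoc, Iso.comp_inv_eq]
    apply CartesianMonoidalCategory.hom_ext
    · simp [shear]
    · simp only [shear, Category.assoc, lift_snd, whiskerLeft_snd]
      simp [← hb]
  · show snd G X ≫ 𝟙 _ = (shear a).inv ≫ a.act
    rw [← shear_hom_snd a, Iso.inv_hom_id_assoc, Category.comp_id]

theorem kernel_iff_nrm (a : AlgGrp.Action G X) (b : AlgGrp.Action G (nrm X))
    (hb : (G ◁ nrmι X) ≫ a.act = b.act ≫ nrmι X)
    (T : Over (Spec (CommRingCat.of k))) (g : T ⟶ G) :
    (∀ (T' : Over (Spec (CommRingCat.of k))) (s : T' ⟶ T) (x : T' ⟶ X), lift (s ≫ g) x ≫ a.act = x) ↔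
    (∀ (T' : Over (Spec (CommRingCat.of k))) (s : T' ⟶ T) (y : T' ⟶ nrm X), lift (s ≫ g) y ≫ b.act = y) := by
  obtain ⟨hfin, hdom, ⟨V, hVne, hiso⟩, hint⟩ := nrm_facts X
  have : IsSeparated (nrm X).hom := inferInstanceAs (IsSeparated (Curv2.normalizationι X.left ≫ X.hom))
  have hsq : ∀ {Y : Over (Spec (CommRingCat.of k))} (m : Y ⟶ X) [IsSchemeTheoreticallyDominant m.left]
      [QuasiCompact m.left], IsSchemeTheoreticallyDominant (T ◁ m).left := by
    intro Y m _ _
    have : Flat (snd T X).left := by
      show Flat (pullback.snd T.hom X.hom)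
      have : Flat T.hom := inferInstance
      infer_instance
    exact IsSchemeTheoreticallyDominant.of_isPullback (isPullback_left (whiskerLeft_isPullback T m)).flip
  constructor
  · intro h
    have heq : (g ▷ nrm X) ≫ b.act = snd T (nrm X) := by
      let W : (nrm X).left.Opens := Curv2.normalizationι X.left ⁻¹ᵁ V
      have hWne : Nonempty ↥(W : (nrm X).left.Opens) := by
        obtain ⟨x, hx⟩ := hVne
        obtain ⟨y, rfl⟩ := (nrm_surjective X).surj x
        exact ⟨⟨y, hx⟩⟩
      let Wo : Over (Spec (CommRingCat.of k)) := Over.mk (W.ι ≫ (nrm X).hom)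
      let w : Wo ⟶ nrm X := Over.homMk W.ι rfl
      have : IsLocallyNoetherian (nrm X).left := by
        have : LocallyOfFiniteType (nrm X).hom :=
          inferInstanceAs (LocallyOfFiniteType (Curv2.normalizationι X.left ≫ X.hom))
        exact LocallyOfFiniteType.isLocallyNoetherian (nrm X).hom
      have : IsIntegral (nrm X).left := hint
      have : IsDominant w.left := ⟨by
        show DenseRange W.ι
        rw [DenseRange, Scheme.Opens.range_ι]
        exact W.isOpen.dense ⟨_, hWne.some.2⟩⟩
      have : QuasiCompact w.left := inferInstanceAs (QuasiCompact W.ι)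
      have : IsSchemeTheoreticallyDominant w.left := .of_isDominant _
      let w' : Wo ⟶ nrm X := w
      have : IsSchemeTheoreticallyDominant (T ◁ w).left := by
        have : Flat (snd T (nrm X)).left := by
          show Flat (pullback.snd T.hom (nrm X).hom)
          have : Flat T.hom := inferInstance
          infer_instance
        exact IsSchemeTheoreticallyDominant.of_isPullback (isPullback_left (whiskerLeft_isPullback T w)).flip
      apply Over.OverMorphism.ext
      refine eq_of_schemeTheoreticallyDominant (nrm X).hom (T ◁ w).left _ _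
        ((Over.w _).trans (Over.w _).symm) ?_
      rw [← Over.comp_left, ← Over.comp_left]
      have hcomp : ((T ◁ w) ≫ (g ▷ nrm X) ≫ b.act) ≫ nrmι X = ((T ◁ w) ≫ snd T (nrm X)) ≫ nrmι X := by
        have h' := h (T ⊗ Wo) (fst T Wo) (snd T Wo ≫ w ≫ nrmι X)
        simp only [Category.assoc, ← hb]
        rw [whiskerLeft_snd_assoc, ← h', ← Category.assoc (T ◁ w), ← Category.assoc (T ◁ w ≫ _)]
        congr 1
        apply CartesianMonoidalCategory.hom_ext <;> simp
      set p := (T ◁ w) ≫ (g ▷ nrm X) ≫ b.act
      set q := (T ◁ w) ≫ snd T (nrm X)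
      have hq : Set.range q.left ⊆ (W : Set (nrm X).left) := by
        rintro _ ⟨z, rfl⟩
        rw [show q = snd T Wo ≫ w from whiskerLeft_snd _ _, Over.comp_left, Scheme.Hom.comp_apply]
        exact ((snd T Wo).left z).2
      have hp : Set.range p.left ⊆ (W : Set (nrm X).left) := by
        rintro _ ⟨z, rfl⟩
        show (Curv2.normalizationι X.left) (p.left z) ∈ V
        rw [show (Curv2.normalizationι X.left) (p.left z) = (Curv2.normalizationι X.left) (q.left z) from
          congr($(congrArg Over.Hom.left hcomp) z)]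
        exact hq ⟨z, rfl⟩
      have hlp := IsOpenImmersion.lift_fac W.ι p.left (by rw [Scheme.Opens.range_ι]; exact hp)
      have hlq := IsOpenImmersion.lift_fac W.ι q.left (by rw [Scheme.Opens.range_ι]; exact hq)
      show p.left = q.left
      rw [← hlp, ← hlq]
      congr 1
      rw [← cancel_mono (Curv2.normalizationι X.left ∣_ V), ← cancel_mono V.ι]
      simp only [Category.assoc, morphismRestrict_ι]
      rw [← Category.assoc, ← Category.assoc, hlp, hlq]
      exact congrArg Over.Hom.left hcomp
    intro T' s y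
    have : lift (s ≫ g) y = lift s y ≫ (g ▷ nrm X) := by
      apply CartesianMonoidalCategory.hom_ext <;> simp
    rw [this, Category.assoc, heq, lift_snd]
  · intro h
    have : IsDominant (nrmι X).left := hdom
    have : QuasiCompact (nrmι X).left := inferInstanceAs (QuasiCompact (Curv2.normalizationι X.left))
    have : IsSchemeTheoreticallyDominant (nrmι X).left := .of_isDominant _
    have := hsq (nrmι X)
    have heq : (g ▷ X) ≫ a.act = snd T X := by
      apply Over.OverMorphism.ext
      refine eq_of_schemeTheoreticallyDominant X.hom (T ◁ nrmι X).left _ _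
        ((Over.w _).trans (Over.w _).symm) ?_
      rw [← Over.comp_left, ← Over.comp_left]
      congr 1
      rw [← Category.assoc, whisker_exchange, Category.assoc, hb, whiskerLeft_snd,
        ← Category.assoc]
      congr 1
      have h' := h (T ⊗ nrm X) (fst T (nrm X)) (snd T (nrm X))
      convert h' using 2
      apply CartesianMonoidalCategory.hom_ext <;> simp
    intro T' s x
    have : lift (s ≫ g) x = lift s x ≫ (g ▷ X) := by
      apply CartesianMonoidalCategory.hom_ext <;> simp
    rw [this, Category.assoc, heq, lift_snd]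

theorem isDominant_graph_iff_nrm [GeometricallyIntegral X.hom] [QuasiCompact X.hom]
    [LocallyOfFiniteType G.hom] [QuasiCompact G.hom] (a : AlgGrp.Action G X)
    (b : AlgGrp.Action G (nrm X)) (hb : (G ◁ nrmι X) ≫ a.act = b.act ≫ nrmι X) :
    IsDominant (lift (snd G X) a.act).left ↔ IsDominant (lift (snd G (nrm X)) b.act).left := by
  obtain ⟨hfin, hdom, ⟨V, hVne, hiso⟩, hint⟩ := nrm_facts X
  have hsurj := nrm_surjective X
  let ν := nrmι X
  have : IsFinite ν.left := hfin
  have : Surjective ν.left := hsurj
  have : IsIntegral (nrm X).left := hint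
  have hsqν : (G ◁ ν) ≫ lift (snd G X) a.act = lift (snd G (nrm X)) b.act ≫ (ν ⊗ₘ ν) := by
    apply CartesianMonoidalCategory.hom_ext
    · simp
    · simp [← hb, ν]
  have hνν : ((ν ⊗ₘ ν).left : _ ⟶ (X ⊗ X).left) =
      pullback.map (nrm X).hom (nrm X).hom X.hom X.hom ν.left ν.left (𝟙 _) (by simp) (by simp) := by
    apply pullback.hom_ext
    · rw [pullback.lift_fst]
      show (ν ⊗ₘ ν).left ≫ (fst X X).left = _
      rw [← Over.comp_left, tensorHom_fst]; rfl
    · rw [pullback.lift_snd]
      show (ν ⊗ₘ ν).left ≫ (snd X X).left = _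
      rw [← Over.comp_left, tensorHom_snd]; rfl
  have hGν : Surjective (G ◁ ν).left := SGA3a.surjective_whiskerLeft ν
  have hs2 : Surjective (ν ⊗ₘ ν).left := by
    rw [MonoidalCategory.tensorHom_def, Over.comp_left]
    have h2 : Surjective (X ◁ ν).left := SGA3a.surjective_whiskerLeft ν
    have h1 : Surjective (ν ▷ nrm X).left :=
      MorphismProperty.of_isPullback (P := @Surjective)
        (isPullback_left (whiskerRight_isPullback' ν (nrm X))) hsurj
    infer_instance
  constructor
  · intro h
    set Φ' := lift (snd G (nrm X)) b.act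
    have : UniversallyOpen X.hom := inferInstance
    have hirr : IrreducibleSpace ↥(X ⊗ X).left := by
      have : IrreducibleSpace X.left := GeometricallyIrreducible.irreducibleSpace_of_subsingleton X.hom
      exact inferInstanceAs (IrreducibleSpace ↥(pullback X.hom X.hom))
    set Z := closure (Set.range Φ'.left)
    have himg : (ν ⊗ₘ ν).left '' Z = Set.univ := by
      have hfin2 : IsFinite (ν ⊗ₘ ν).left := by
        rw [MonoidalCategory.tensorHom_def, Over.comp_left]
        have h2 : IsFinite (X ◁ ν).left := MorphismProperty.of_isPullback (P := @IsFinite)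
          (isPullback_left (whiskerLeft_isPullback X ν)).flip ‹_›
        have h1 : IsFinite (ν ▷ nrm X).left := MorphismProperty.of_isPullback (P := @IsFinite)
          (isPullback_left (whiskerRight_isPullback' ν (nrm X))) ‹_›
        infer_instance
      refine Set.eq_univ_of_univ_subset ?_
      rw [← h.1.closure_range]
      refine ((ν ⊗ₘ ν).left.isClosedMap _ isClosed_closure).closure_subset_iff.2 ?_
      rintro _ ⟨w, rfl⟩
      obtain ⟨v, rfl⟩ := hGν.surj w
      refine ⟨Φ'.left v, subset_closure ⟨v, rfl⟩, ?_⟩
      exact congr($(congrArg Over.Hom.left hsqν.symm) v)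
    let W : (nrm X).left.Opens := Curv2.normalizationι X.left ⁻¹ᵁ V
    let W2 : Set ↥(nrm X ⊗ nrm X).left :=
      (fst (nrm X) (nrm X)).left ⁻¹' W ∩ (snd (nrm X) (nrm X)).left ⁻¹' W
    have hW : Dense (W : Set (nrm X).left) := by
      obtain ⟨x, hx⟩ := hVne
      obtain ⟨y, rfl⟩ := hsurj.surj x
      exact W.isOpen.dense ⟨y, hx⟩
    have hW2 : Dense W2 := by
      refine Dense.inter_of_isOpen_left ?_ ?_ (W.isOpen.preimage (fst (nrm X) (nrm X)).left.continuous)
      · exact hW.preimage (pullback.fst (nrm X).hom (nrm X).hom).isOpenMap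
      · exact hW.preimage (pullback.snd (nrm X).hom (nrm X).hom).isOpenMap
    -- over `V × V` the map `ν × ν` is injective
    let V2 : (X ⊗ X).left.Opens := (fst X X).left ⁻¹ᵁ V ⊓ (snd X X).left ⁻¹ᵁ V
    let ξ := genericPoint ↥(X ⊗ X).left
    have hξV : ξ ∈ V2 := by
      obtain ⟨x, hx⟩ := hVne
      obtain ⟨w, hw1, hw2⟩ := Scheme.Pullback.exists_preimage_pullback (f := X.hom) (g := X.hom) x x rfl
      exact (genericPoint_specializes w).mem_open V2.isOpen ⟨by show _ ∈ V; exact hw1 ▸ hx, by show _ ∈ V; exact hw2 ▸ hx⟩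
    obtain ⟨z, hzZ, hz⟩ : ξ ∈ (ν ⊗ₘ ν).left '' Z := himg ▸ Set.mem_univ _
    let Vo : Over (Spec (CommRingCat.of k)) := Over.mk (V.ι ≫ X.hom)
    let iV : Vo ⟶ X := Over.homMk V.ι rfl
    let Wo : Over (Spec (CommRingCat.of k)) := Over.mk (W.ι ≫ (nrm X).hom)
    let jW : Wo ⟶ nrm X := Over.homMk W.ι rfl
    let eo : Wo ⟶ Vo := Over.homMk (Curv2.normalizationι X.left ∣_ V)
      (morphismRestrict_ι_assoc (Curv2.normalizationι X.left) V X.hom)
    have hfac : jW ≫ ν = eo ≫ iV := Over.OverMorphism.ext (morphismRestrict_ι _ V).symm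
    have : IsOpenImmersion eo.left := inferInstanceAs (IsOpenImmersion (Curv2.normalizationι X.left ∣_ V))
    have hopen : ∀ {A B A' B' : Over (Spec (CommRingCat.of k))} (f : A ⟶ B) (f' : A' ⟶ B')
        [IsOpenImmersion f.left] [IsOpenImmersion f'.left], IsOpenImmersion (f ⊗ₘ f').left := by
      intro A B A' B' f f' _ _
      rw [MonoidalCategory.tensorHom_def, Over.comp_left]
      have : IsOpenImmersion (f ▷ A').left := MorphismProperty.of_isPullback (P := @IsOpenImmersion)
        (isPullback_left (whiskerRight_isPullback' f A')) ‹_›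
      have : IsOpenImmersion (B ◁ f').left := MorphismProperty.of_isPullback (P := @IsOpenImmersion)
        (isPullback_left (whiskerLeft_isPullback B f')).flip ‹_›
      infer_instance
    have : IsOpenImmersion jW.left := inferInstanceAs (IsOpenImmersion W.ι)
    have : IsOpenImmersion iV.left := inferInstanceAs (IsOpenImmersion V.ι)
    have : IsOpenImmersion (eo ≫ iV).left := by rw [Over.comp_left]; infer_instance
    have := hopen jW jW
    have := hopen (eo ≫ iV) (eo ≫ iV)
    have hrg : ∀ p ∈ W2, p ∈ Set.range (jW ⊗ₘ jW).left := by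
      intro p hp
      have h1 : (jW ⊗ₘ jW).left = pullback.map Wo.hom Wo.hom (nrm X).hom (nrm X).hom W.ι W.ι (𝟙 _)
          (Category.comp_id _) (Category.comp_id _) := by
        apply pullback.hom_ext
        · rw [pullback.lift_fst]
          show (jW ⊗ₘ jW).left ≫ (fst (nrm X) (nrm X)).left = _
          rw [← Over.comp_left, tensorHom_fst]; rfl
        · rw [pullback.lift_snd]
          show (jW ⊗ₘ jW).left ≫ (snd (nrm X) (nrm X)).left = _
          rw [← Over.comp_left, tensorHom_snd]; rfl
      rw [h1, Scheme.Pullback.range_map]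
      simp only [Scheme.Opens.range_ι]
      exact ⟨⟨⟨_, hp.1⟩, rfl⟩, ⟨⟨_, hp.2⟩, rfl⟩⟩
    have hzW : z ∈ W2 := by
      have h1 := hξV
      rw [← hz] at h1
      have h2 : (fst X X).left ((ν ⊗ₘ ν).left z) ∈ V ∧ (snd X X).left ((ν ⊗ₘ ν).left z) ∈ V := h1
      rw [← Scheme.Hom.comp_apply, ← Scheme.Hom.comp_apply, ← Over.comp_left, ← Over.comp_left,
        tensorHom_fst, tensorHom_snd] at h2
      exact h2
    refine ⟨fun p => ?_⟩
    have hzgen : ∀ q ∈ W2, z ⤳ q := by
      intro q hq
      obtain ⟨za, rfl⟩ := hrg z hzW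
      obtain ⟨qa, rfl⟩ := hrg q hq
      refine Specializes.map ?_ (jW ⊗ₘ jW).left.continuous
      rw [← ((eo ≫ iV) ⊗ₘ (eo ≫ iV)).left.isEmbedding.isInducing.specializes_iff]
      have h1 : ∀ y, ((eo ≫ iV) ⊗ₘ (eo ≫ iV)).left y = (ν ⊗ₘ ν).left ((jW ⊗ₘ jW).left y) := fun y => by
        rw [← Scheme.Hom.comp_apply, ← Over.comp_left, tensorHom_comp_tensorHom, hfac]
      rw [h1, hz]
      exact genericPoint_specializes _
    have hsub : closure W2 ⊆ Z := by
      refine isClosed_closure.closure_subset_iff.2 fun q hq => ?_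
      exact (hzgen q hq).mem_closed isClosed_closure hzZ
    exact hsub (hW2 p)
  · intro h
    have : IsDominant ((G ◁ ν).left ≫ (lift (snd G X) a.act).left) := by
      rw [← Over.comp_left, hsqν, Over.comp_left]
      infer_instance
    exact IsDominant.of_comp (G ◁ ν).left _

end Normalization

end Groth.Agent.AlgGrp79
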