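import Groth.Agent.AlgGrp79.Act
import Groth.Agent.AlgGrp79.RosUnits
import Groth.Agent.Desc59.DDAffine
import Groth.Agent.Unr55.DescProps
import Groth.Agent.S1133
import Groth.Agent.Csa25.SBStable

/-!
The bundle associated to a torsor and an affine variety, by affine descent.
-/

set_option autoImplicit false
set_option backward.isDefEq.respectTransparency.types false
universe u

open CategoryTheory CategoryTheory.Limits MonoidalCategory CartesianMonoidalCategory MonObj AlgebraicGeometry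

noncomputable section

namespace Groth.Agent.AlgGrp79

variable {S : Scheme.{u}} {G X Y Z : Over S} [GrpObj G] (a : AlgGrp.Action G X) (f : X ⟶ Y)
  (hsq : IsPullback a.act.left (snd G X).left f.left f.left) (b : AlgGrp.Action G Z)

include hsq in
lemma existsUnique_transl {T : Over S} (P₀ P₁ : T ⟶ X) (h : P₀.left ≫ f.left = P₁.left ≫ f.left) :
    ∃! g : T ⟶ G, lift g P₀ ≫ a.act = P₁ := by
  let l : T ⟶ G ⊗ X := Over.homMk (hsq.lift P₁.left P₀.left h.symm) (by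
    rw [← Over.w (snd G X), hsq.lift_snd_assoc]; exact Over.w P₀)
  have hl : lift (l ≫ fst G X) P₀ = l := by
    ext : 1
    · simp
    · rw [lift_snd]; ext : 1; exact (hsq.lift_snd _ _ _).symm
  refine ⟨l ≫ fst G X, ?_, fun g hg => ?_⟩
  · simp only [hl]
    ext : 1; exact hsq.lift_fst _ _ _
  · have : lift g P₀ = l := by
      apply Over.OverMorphism.ext
      apply hsq.hom_ext
      · rw [← Over.comp_left, hg]; exact (hsq.lift_fst _ _ _).symm
      · rw [← Over.comp_left, lift_snd]; exact (hsq.lift_snd _ _ _).symm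
    rw [← this, lift_fst]

/-- the element carrying `P₀` to `P₁` -/
def transl {T : Over S} (P₀ P₁ : T ⟶ X) (h : P₀.left ≫ f.left = P₁.left ≫ f.left) : T ⟶ G :=
  (existsUnique_transl a f hsq P₀ P₁ h).choose

lemma transl_spec {T : Over S} (P₀ P₁ : T ⟶ X) (h : P₀.left ≫ f.left = P₁.left ≫ f.left) :
    lift (transl a f hsq P₀ P₁ h) P₀ ≫ a.act = P₁ :=
  (existsUnique_transl a f hsq P₀ P₁ h).choose_spec.1

lemma transl_unique {T : Over S} (P₀ P₁ : T ⟶ X) (h : P₀.left ≫ f.left = P₁.left ≫ f.left) (g : T ⟶ G)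
    (hg : lift g P₀ ≫ a.act = P₁) : transl a f hsq P₀ P₁ h = g :=
  ((existsUnique_transl a f hsq P₀ P₁ h).choose_spec.2 g hg).symm

include hsq in
lemma hom_eq {T : Scheme.{u}} (x₀ x₁ : T ⟶ X.left) (h : x₀ ≫ f.left = x₁ ≫ f.left) : x₁ ≫ X.hom = x₀ ≫ X.hom := by
  rw [← Over.w f, reassoc_of% h]

/-- the glueing map on points -/
def moveVal {T : Scheme.{u}} (x₀ x₁ : T ⟶ X.left) (h : x₀ ≫ f.left = x₁ ≫ f.left)
    (v : T ⟶ (X ⊗ Z).left) (hv : v ≫ (fst X Z).left = x₀) : T ⟶ (X ⊗ Z).left :=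
  let T' : Over S := Over.mk (x₀ ≫ X.hom)
  let P₀ : T' ⟶ X := Over.homMk x₀
  let P₁ : T' ⟶ X := Over.homMk x₁ (hom_eq a f hsq x₀ x₁ h)
  let V : T' ⟶ X ⊗ Z := Over.homMk v (by
    show v ≫ (X ⊗ Z).hom = x₀ ≫ X.hom
    rw [← Over.w (fst X Z), reassoc_of% hv])
  (lift P₁ (lift (transl a f hsq P₀ P₁ h) (V ≫ snd X Z) ≫ b.act)).left

lemma moveVal_eq {T : Scheme.{u}} (x₀ x₁ : T ⟶ X.left) (h : x₀ ≫ f.left = x₁ ≫ f.left)
    (v : T ⟶ (X ⊗ Z).left) (hv : v ≫ (fst X Z).left = x₀)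
    (s : T ⟶ S) (P₀ P₁ : Over.mk s ⟶ X) (V : Over.mk s ⟶ X ⊗ Z)
    (e₀ : P₀.left = x₀) (e₁ : P₁.left = x₁) (eV : V.left = v) (g : Over.mk s ⟶ G) (hg : lift g P₀ ≫ a.act = P₁) :
    moveVal a f hsq b x₀ x₁ h v hv = (lift P₁ (lift g (V ≫ snd X Z) ≫ b.act)).left := by
  have hs : s = x₀ ≫ X.hom := by rw [← e₀]; exact (Over.w P₀).symm
  subst hs
  obtain rfl : P₀ = Over.homMk x₀ rfl := Over.OverMorphism.ext e₀
  obtain rfl : P₁ = Over.homMk x₁ (hom_eq a f hsq x₀ x₁ h) := Over.OverMorphism.ext e₁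
  subst eV
  obtain rfl := (transl_unique a f hsq _ _ h g hg).symm
  rfl

lemma moveVal_fst {T : Scheme.{u}} (x₀ x₁ : T ⟶ X.left) (h : x₀ ≫ f.left = x₁ ≫ f.left)
    (v : T ⟶ (X ⊗ Z).left) (hv : v ≫ (fst X Z).left = x₀) :
    moveVal a f hsq b x₀ x₁ h v hv ≫ (fst X Z).left = x₁ := by
  rw [moveVal, ← Over.comp_left, lift_fst]; rfl

/-- the descent datum on `X ⊗ Z` -/
def assocDD : Desc.SchDD f.left where
  obj := Over.mk (fst X Z).left
  φ T x₀ x₁ h :=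
    { toFun := fun v => ⟨moveVal a f hsq b x₀ x₁ h v.1 v.2, by
        show moveVal a f hsq b x₀ x₁ h v.1 v.2 ≫ (fst X Z).left = x₁
        rw [moveVal, ← Over.comp_left, lift_fst]; rfl⟩
      invFun := fun v => ⟨moveVal a f hsq b x₁ x₀ h.symm v.1 v.2, by
        show moveVal a f hsq b x₁ x₀ h.symm v.1 v.2 ≫ (fst X Z).left = x₀
        rw [moveVal, ← Over.comp_left, lift_fst]; rfl⟩
      left_inv := fun v => by
        apply Subtype.ext
        let T' : Over S := Over.mk (x₀ ≫ X.hom)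
        let P₀ : T' ⟶ X := Over.homMk x₀
        let P₁ : T' ⟶ X := Over.homMk x₁ (hom_eq a f hsq x₀ x₁ h)
        let V : T' ⟶ X ⊗ Z := Over.homMk v.1 (by
          show v.1 ≫ (X ⊗ Z).hom = x₀ ≫ X.hom
          rw [← Over.w (fst X Z)]; erw [reassoc_of% v.2])
        let g := transl a f hsq P₀ P₁ h
        have hg := transl_spec a f hsq P₀ P₁ h
        have e1 := moveVal_eq a f hsq b x₀ x₁ h v.1 v.2 _ P₀ P₁ V rfl rfl rfl g hg
        show moveVal a f hsq b x₁ x₀ h.symm (moveVal a f hsq b x₀ x₁ h v.1 v.2) (moveVal_fst a f hsq b _ _ h _ _) = v.1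
        rw [moveVal_eq a f hsq b x₁ x₀ h.symm _ _ _ P₁ P₀ (lift P₁ (lift g (V ≫ snd X Z) ≫ b.act)) rfl rfl e1.symm g⁻¹
          (by rw [← hg]; exact inv_act_act a _ _)]
        rw [lift_snd, inv_act_act]
        have : P₀ = V ≫ fst X Z := by ext : 1; exact v.2.symm
        rw [this, ← comp_lift, lift_fst_snd, Category.comp_id]
        rfl
      right_inv := fun v => by
        apply Subtype.ext
        let T' : Over S := Over.mk (x₁ ≫ X.hom)
        let P₁ : T' ⟶ X := Over.homMk x₁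
        let P₀ : T' ⟶ X := Over.homMk x₀ (hom_eq a f hsq x₁ x₀ h.symm)
        let V : T' ⟶ X ⊗ Z := Over.homMk v.1 (by
          show v.1 ≫ (X ⊗ Z).hom = x₁ ≫ X.hom
          rw [← Over.w (fst X Z)]; erw [reassoc_of% v.2])
        let g := transl a f hsq P₁ P₀ h.symm
        have hg := transl_spec a f hsq P₁ P₀ h.symm
        have e1 := moveVal_eq a f hsq b x₁ x₀ h.symm v.1 v.2 _ P₁ P₀ V rfl rfl rfl g hg
        show moveVal a f hsq b x₀ x₁ h (moveVal a f hsq b x₁ x₀ h.symm v.1 v.2) (moveVal_fst a f hsq b _ _ h.symm _ _) = v.1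
        rw [moveVal_eq a f hsq b x₀ x₁ h _ _ _ P₀ P₁ (lift P₀ (lift g (V ≫ snd X Z) ≫ b.act)) rfl rfl e1.symm g⁻¹
          (by rw [← hg]; exact inv_act_act a _ _)]
        rw [lift_snd, inv_act_act]
        have : P₁ = V ≫ fst X Z := by ext : 1; exact v.2.symm
        rw [this, ← comp_lift, lift_fst_snd, Category.comp_id]
        rfl }
  φ_natural T T' g x₀ x₁ h h' v v' hv' := by
    let T₀ : Over S := Over.mk (x₀ ≫ X.hom)
    let P₀ : T₀ ⟶ X := Over.homMk x₀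
    let P₁ : T₀ ⟶ X := Over.homMk x₁ (hom_eq a f hsq x₀ x₁ h)
    let V : T₀ ⟶ X ⊗ Z := Over.homMk v.1 (by
      show v.1 ≫ (X ⊗ Z).hom = x₀ ≫ X.hom
      rw [← Over.w (fst X Z)]; erw [reassoc_of% v.2])
    let gm : Over.mk (g ≫ x₀ ≫ X.hom) ⟶ T₀ := Over.homMk g
    have hg := transl_spec a f hsq P₀ P₁ h
    show moveVal a f hsq b (g ≫ x₀) (g ≫ x₁) h' v'.1 v'.2 = g ≫ moveVal a f hsq b x₀ x₁ h v.1 v.2
    rw [moveVal_eq a f hsq b (g ≫ x₀) (g ≫ x₁) h' v'.1 v'.2 _ (gm ≫ P₀) (gm ≫ P₁) (gm ≫ V) rfl rfl hv'.symm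
      (gm ≫ transl a f hsq P₀ P₁ h) (by rw [← comp_lift_assoc, hg]),
      moveVal_eq a f hsq b x₀ x₁ h v.1 v.2 _ P₀ P₁ V rfl rfl rfl _ hg]
    rw [Category.assoc, ← comp_lift, Category.assoc, ← comp_lift]
    rfl
  φ_self T x v := by
    apply Subtype.ext
    let T₀ : Over S := Over.mk (x ≫ X.hom)
    let P₀ : T₀ ⟶ X := Over.homMk x
    let V : T₀ ⟶ X ⊗ Z := Over.homMk v.1 (by
      show v.1 ≫ (X ⊗ Z).hom = x ≫ X.hom
      rw [← Over.w (fst X Z)]; erw [reassoc_of% v.2])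
    show moveVal a f hsq b x x rfl v.1 v.2 = v.1
    rw [moveVal_eq a f hsq b x x rfl v.1 v.2 _ P₀ P₀ V rfl rfl rfl 1 (one_act' a _), one_act']
    have : P₀ = V ≫ fst X Z := by ext : 1; exact v.2.symm
    rw [this, ← comp_lift, lift_fst_snd, Category.comp_id]
    rfl
  φ_comp T x₀ x₁ x₂ h₀₁ h₁₂ v := by
    apply Subtype.ext
    let T₀ : Over S := Over.mk (x₀ ≫ X.hom)
    let P₀ : T₀ ⟶ X := Over.homMk x₀
    let P₁ : T₀ ⟶ X := Over.homMk x₁ (hom_eq a f hsq x₀ x₁ h₀₁)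
    let P₂ : T₀ ⟶ X := Over.homMk x₂ (hom_eq a f hsq x₀ x₂ (h₀₁.trans h₁₂))
    let V : T₀ ⟶ X ⊗ Z := Over.homMk v.1 (by
      show v.1 ≫ (X ⊗ Z).hom = x₀ ≫ X.hom
      rw [← Over.w (fst X Z)]; erw [reassoc_of% v.2])
    let g := transl a f hsq P₀ P₁ h₀₁
    let g' := transl a f hsq P₁ P₂ h₁₂
    have hg := transl_spec a f hsq P₀ P₁ h₀₁
    have hg' := transl_spec a f hsq P₁ P₂ h₁₂
    have e1 := moveVal_eq a f hsq b x₀ x₁ h₀₁ v.1 v.2 _ P₀ P₁ V rfl rfl rfl g hg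
    show moveVal a f hsq b x₁ x₂ h₁₂ (moveVal a f hsq b x₀ x₁ h₀₁ v.1 v.2) (moveVal_fst a f hsq b _ _ h₀₁ _ _) = moveVal a f hsq b x₀ x₂ (h₀₁.trans h₁₂) v.1 v.2
    rw [moveVal_eq a f hsq b x₁ x₂ h₁₂ _ _ _ P₁ P₂ (lift P₁ (lift g (V ≫ snd X Z) ≫ b.act)) rfl rfl e1.symm g' hg',
      moveVal_eq a f hsq b x₀ x₂ (h₀₁.trans h₁₂) v.1 v.2 _ P₀ P₂ V rfl rfl rfl (g' * g)
        (by rw [mul_act', hg, hg']), lift_snd, mul_act']

variable [Flat f.left] [Surjective f.left] [QuasiCompact f.left]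

include hsq in
theorem exists_assoc_affine [IsAffineHom Z.hom] :
    ∃ (W : Over S) (φ : X ⊗ Z ⟶ W) (ψ : W ⟶ Y),
      lift ((G ◁ fst X Z) ≫ a.act) ((G ◁ snd X Z) ≫ b.act) ≫ φ = snd G (X ⊗ Z) ≫ φ ∧
      IsPullback (fst X Z).left φ.left f.left ψ.left ∧ IsAffineHom ψ.left := by
  have : IsAffineHom (fst X Z).left := MorphismProperty.pullback_fst _ _ ‹_›
  have : IsAffineHom (assocDD a f hsq b).obj.hom := ‹IsAffineHom (fst X Z).left›
  obtain ⟨U, ⟨e⟩⟩ := Groth.Agent.S1133.result f.left (assocDD a f hsq b)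
  let φl : (X ⊗ Z).left ⟶ U.left := e.inv.hom.left ≫ pullback.snd f.left U.hom
  let W : Over S := Over.mk (U.hom ≫ Y.hom)
  have hsq' : IsPullback (fst X Z).left φl f.left U.hom := by
    let i : pullback f.left U.hom ≅ (X ⊗ Z).left :=
      { hom := e.hom.hom.left
        inv := e.inv.hom.left
        hom_inv_id := congr($(e.hom_inv_id).hom.left)
        inv_hom_id := congr($(e.inv_hom_id).hom.left) }
    refine (IsPullback.of_hasPullback f.left U.hom).of_iso i (Iso.refl _) (Iso.refl _) (Iso.refl _) ?_ ?_ ?_ ?_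
    · simp only [Iso.refl_hom, Category.comp_id]; exact (Over.w e.hom.hom).symm
    · simp only [Iso.refl_hom, Category.comp_id, φl, ← Category.assoc]
      rw [show i.hom ≫ e.inv.hom.left = 𝟙 _ from i.hom_inv_id]; exact (Category.id_comp _).symm
    · simp
    · simp
  have hUa : IsAffineHom U.hom := by
    haveI := Unr55.isAffineHom.{u}
    exact MorphismProperty.of_isPullback_of_descendsAlong (P := @IsAffineHom) (Q := Unr55.fpqc)
      hsq' ⟨⟨inferInstance, inferInstance⟩, inferInstance⟩ ‹IsAffineHom (fst X Z).left›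
  let φ : X ⊗ Z ⟶ W := Over.homMk φl (by
    show φl ≫ U.hom ≫ Y.hom = _
    rw [← hsq'.w_assoc, Over.w, Over.w])
  refine ⟨W, φ, Over.homMk U.hom rfl, ?_, hsq', hUa⟩
  let m : G ⊗ (X ⊗ Z) ⟶ X ⊗ Z := lift ((G ◁ fst X Z) ≫ a.act) ((G ◁ snd X Z) ≫ b.act)
  have h01 : ((snd G (X ⊗ Z)).left ≫ (fst X Z).left) ≫ f.left = (m.left ≫ (fst X Z).left) ≫ f.left := by
    show (snd G (X ⊗ Z) ≫ fst X Z).left ≫ f.left = (m ≫ fst X Z).left ≫ f.left
    simp only [m]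
    rw [lift_fst, show snd G (X ⊗ Z) ≫ fst X Z = (G ◁ fst X Z) ≫ snd G X by simp,
      Over.comp_left, Over.comp_left, Category.assoc, Category.assoc, hsq.w]
  have hmv : moveVal a f hsq b _ _ h01 (snd G (X ⊗ Z)).left rfl = m.left := by
    have e0 : (snd G (X ⊗ Z)).left ≫ (fst X Z).left = (snd G (X ⊗ Z) ≫ fst X Z).left := rfl
    rw [moveVal_eq a f hsq b _ _ h01 _ rfl (G ⊗ (X ⊗ Z)).hom (snd G (X ⊗ Z) ≫ fst X Z) (m ≫ fst X Z) (snd G (X ⊗ Z))
      rfl rfl rfl (fst G (X ⊗ Z)) (by rw [lift_fst]; congr 1)]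
    congr 1
    ext : 1
    · simp
    · rw [lift_snd, lift_snd]; congr 1
  let w0 : Desc.Lifts (assocDD a f hsq b).obj ((snd G (X ⊗ Z)).left ≫ (fst X Z).left) := ⟨(snd G (X ⊗ Z)).left, rfl⟩
  have hc := e.inv.comm _ _ h01 w0 (e.inv.push w0) rfl
  have hc' := congrArg (· ≫ pullback.snd f.left U.hom) hc
  apply Over.OverMorphism.ext
  show m.left ≫ φl = (snd G (X ⊗ Z)).left ≫ φl
  simp only [φl]
  rw [← hmv, ← Category.assoc]
  refine hc'.symm.trans ?_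
  show (Desc.canMap f.left U _ _ h01 (e.inv.push w0)).1 ≫ pullback.snd f.left U.hom = _
  rw [Desc.canMap_val, pullback.lift_snd]
  exact Category.assoc _ _ _

end Groth.Agent.AlgGrp79
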