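import Groth.Agent.AlgGrp79.KernelPts
import Groth.Prelude.Def_W4bk4git07Quot
import Groth.Agent.Unr55.DescProps

/-!
Associated bundles of a torsor: base change along the torsor trivialises them.
-/

set_option autoImplicit false
universe u

open CategoryTheory CategoryTheory.Limits MonoidalCategory CartesianMonoidalCategory MonObj AlgebraicGeometry

namespace Groth.Agent.AlgGrp79

section
variable {k : Type u} [Field k]


lemma exists_smul_of_psiY {H Z Q : Over (Spec (CommRingCat.of k))} [GrpObj H] (b : AlgGrp.Action H Z) (q : Z ⟶ Q)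
    (hinv : GIT.IsInvariant b q) (hpsi : IsIso (GIT.PsiY b q hinv))
    {T : Over (Spec (CommRingCat.of k))} (t t' : T ⟶ Z) (h : t ≫ q = t' ≫ q) : ∃ h₀ : T ⟶ H, t' = lift h₀ t ≫ b.act := by
  let w : T.left ⟶ (H ⊗ Z).left :=
    pullback.lift t'.left t.left (congrArg Over.Hom.left h.symm) ≫ inv (GIT.PsiY b q hinv)
  have h1 : w ≫ b.act.left = t'.left := by
    have e : inv (GIT.PsiY b q hinv) ≫ b.act.left = pullback.fst _ _ := by
      rw [IsIso.inv_comp_eq, GIT.PsiY, pullback.lift_fst]
    simp only [w, Category.assoc, e, pullback.lift_fst]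
  have h2 : w ≫ (snd H Z).left = t.left := by
    have e : inv (GIT.PsiY b q hinv) ≫ (snd H Z).left = pullback.snd _ _ := by
      rw [IsIso.inv_comp_eq, GIT.PsiY, pullback.lift_snd]
    simp only [w, Category.assoc, e, pullback.lift_snd]
  let wO : T ⟶ H ⊗ Z := Over.homMk w (by
    rw [← Over.w (snd H Z), reassoc_of% h2, Over.w t])
  refine ⟨wO ≫ fst H Z, ?_⟩
  have e : lift (wO ≫ fst H Z) t = wO := by
    apply CartesianMonoidalCategory.hom_ext
    · simp
    · rw [lift_snd]; exact Over.OverMorphism.ext h2.symm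
  rw [e]
  exact Over.OverMorphism.ext h1.symm

variable {G H : Over (Spec (CommRingCat.of k))} [GrpObj G] [GrpObj H] (j : H ⟶ G) [IsMonHom j] [Mono j]

/-- the pullback of an associated bundle along the torsor is the product -/
theorem isPullback_assoc [LocallyOfFiniteType G.hom] {B X QX : Over (Spec (CommRingCat.of k))}
    [LocallyOfFiniteType X.hom] [LocallyOfFiniteType QX.hom]
    (r : AlgGrp.Action H G)
    (hr : ∀ (T : Over (Spec (CommRingCat.of k))) (h : T ⟶ H) (g : T ⟶ G), lift h g ≫ r.act = g * (h ≫ j)⁻¹)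
    (π : G ⟶ B) (hπinv : GIT.IsInvariant r π) (hπpsi : IsIso (GIT.PsiY r π hπinv))
    (act : H ⊗ X ⟶ X) (hone : ∀ (T : Over (Spec (CommRingCat.of k))) (x : T ⟶ X), lift (1 : T ⟶ H) x ≫ act = x)
    (b : AlgGrp.Action H (G ⊗ X))
    (hb : ∀ (T : Over (Spec (CommRingCat.of k))) (h : T ⟶ H) (g : T ⟶ G) (x : T ⟶ X),
      lift h (lift g x) ≫ b.act = lift (g * (h ≫ j)⁻¹) (lift h x ≫ act))
    (qX : G ⊗ X ⟶ QX) (hq : GIT.IsInvariant b qX) (hqpsi : IsIso (GIT.PsiY b qX hq))
    [Flat qX.left] [Surjective qX.left]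
    (pX : QX ⟶ B) (hp : qX ≫ pX = fst G X ≫ π) :
    IsPullback (fst G X) qX π pX := by
  have hmove : ∀ {T : Over (Spec (CommRingCat.of k))} (h : T ⟶ H) (g : T ⟶ G) (x : T ⟶ X),
      lift (g * (h ≫ j)⁻¹) (lift h x ≫ act) ≫ qX = lift g x ≫ qX := by
    intro T h g x
    have e : b.act ≫ qX = snd H (G ⊗ X) ≫ qX := hq
    rw [← hb, Category.assoc, e, lift_snd_assoc]
  let m : G ⊗ X ⟶ pullback π pX := pullback.lift (fst G X) qX hp.symm
  have hmono : Mono m := by
    refine ⟨fun {T} a a' haa => ?_⟩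
    have h1 : a ≫ fst G X = a' ≫ fst G X := by
      have e : m ≫ pullback.fst π pX = _ := pullback.lift_fst _ _ _
      rw [← e, reassoc_of% haa]
    have h2 : a ≫ qX = a' ≫ qX := by
      have e : m ≫ pullback.snd π pX = _ := pullback.lift_snd _ _ _
      rw [← e, reassoc_of% haa]
    obtain ⟨h₀, hh⟩ := exists_smul_of_psiY b qX hq hqpsi a a' h2
    have ea : lift (a ≫ fst G X) (a ≫ snd G X) = a := by rw [← comp_lift, lift_fst_snd, Category.comp_id]
    rw [← ea, hb] at hh
    have hfst := congrArg (· ≫ fst G X) hh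
    simp only [lift_fst] at hfst
    rw [← h1] at hfst
    have hj : h₀ ≫ j = 1 := inv_eq_one.1 (left_eq_mul.1 hfst)
    have hh0 : h₀ = 1 := by rw [← cancel_mono j, hj, MonObj.one_comp]
    have hsnd := congrArg (· ≫ snd G X) hh
    simp only [lift_snd] at hsnd
    rw [hh0, hone] at hsnd
    exact CartesianMonoidalCategory.hom_ext _ _ h1 hsnd.symm
  have hcov : IsCov qX := by
    have : LocallyOfFiniteType (G ⊗ X).hom :=
      inferInstanceAs (LocallyOfFiniteType (pullback.fst G.hom X.hom ≫ G.hom))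
    exact isCov_of_flat_surjective qX
  have hiso : IsIso m := by
    refine IsCov.isIso_of_mono ?_
    obtain ⟨T, c, z, hc, hz⟩ := hcov.exists_lift (pullback.snd π pX)
    obtain ⟨h₀, hh⟩ := exists_smul_of_psiY r π hπinv hπpsi (z ≫ fst G X) (c ≫ pullback.fst π pX) (by
      rw [Category.assoc, ← hp, ← Category.assoc, hz, Category.assoc, Category.assoc, pullback.condition])
    rw [hr] at hh
    refine ⟨T, c, lift (c ≫ pullback.fst π pX) (lift h₀ (z ≫ snd G X) ≫ act), hc, ?_⟩
    apply pullback.hom_ext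
    · rw [Category.assoc, pullback.lift_fst, lift_fst]
    · rw [Category.assoc, pullback.lift_snd, hh, hmove, ← comp_lift, lift_fst_snd, Category.comp_id, hz]
  exact IsPullback.of_iso_pullback ⟨hp.symm⟩ (asIso m) (pullback.lift_fst _ _ _) (pullback.lift_snd _ _ _)

variable [LocallyOfFiniteType G.hom]

theorem isProper_assoc [QuasiCompact G.hom] {B X QX : Over (Spec (CommRingCat.of k))} [IsSeparated B.hom]
    [LocallyOfFiniteType B.hom] [IsProper X.hom]
    (π : G ⟶ B) [Flat π.left] [Surjective π.left]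
    (qX : G ⊗ X ⟶ QX) (pX : QX ⟶ B) (h : IsPullback (fst G X) qX π pX) : IsProper pX.left := by
  have hqc : QuasiCompact π.left := by
    have : QuasiCompact (π.left ≫ B.hom) := by rw [Over.w]; infer_instance
    exact QuasiCompact.of_comp π.left B.hom
  have hfst : IsProper (fst G X).left := by
    show IsProper (pullback.fst G.hom X.hom); infer_instance
  have := Unr55.isProper.{u}
  exact MorphismProperty.of_isPullback_of_descendsAlong (P := @IsProper) (Q := Unr55.fpqc)
    (isPullback_left h) ⟨⟨‹Surjective π.left›, ‹Flat π.left›⟩, hqc⟩ hfst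

theorem isOpenImmersion_assoc {B X Y QX QY : Over (Spec (CommRingCat.of k))}
    [LocallyOfFiniteType Y.hom] [LocallyOfFiniteType QY.hom]
    (π : G ⟶ B) (i : X ⟶ Y) [IsOpenImmersion i.left]
    (qX : G ⊗ X ⟶ QX) (qY : G ⊗ Y ⟶ QY) [Flat qY.left] [Surjective qY.left]
    (pX : QX ⟶ B) (pY : QY ⟶ B) (hX : IsPullback (fst G X) qX π pX)
    (hY : IsPullback (fst G Y) qY π pY) (m : QX ⟶ QY) (hm : qX ≫ m = (G ◁ i) ≫ qY)
    (hmp : m ≫ pY = pX) : IsOpenImmersion m.left := by
  have hsq : IsPullback (G ◁ i) qX qY m := by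
    refine IsPullback.of_right (h₁₂ := fst G Y) ?_ hm.symm hY
    rw [whiskerLeft_fst, hmp]; exact hX
  have hGi : IsOpenImmersion (G ◁ i).left := MorphismProperty.of_isPullback (P := @IsOpenImmersion)
    (isPullback_left (whiskerLeft_isPullback G i)).flip ‹_›
  have : LocallyOfFiniteType (G ⊗ Y).hom :=
    inferInstanceAs (LocallyOfFiniteType (pullback.fst G.hom Y.hom ≫ G.hom))
  have hlfp := lfp_left qY
  exact MorphismProperty.of_isPullback_of_descendsAlong (P := @IsOpenImmersion)
    (Q := (@Surjective ⊓ @Flat ⊓ @LocallyOfFinitePresentation : MorphismProperty Scheme.{u}))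
    (isPullback_left hsq) ⟨⟨‹Surjective qY.left›, ‹Flat qY.left›⟩, hlfp⟩ hGi

/-- the associated bundle of a product is the fibre product of the associated bundles -/
theorem isPullback_assoc_prod {B X Y QX QY QXY : Over (Spec (CommRingCat.of k))}
    (π : G ⟶ B) (hπ : IsCov π)
    (qX : G ⊗ X ⟶ QX) (qY : G ⊗ Y ⟶ QY) (qXY : G ⊗ (X ⊗ Y) ⟶ QXY)
    (pX : QX ⟶ B) (pY : QY ⟶ B) (pXY : QXY ⟶ B)
    (hX : IsPullback (fst G X) qX π pX) (hY : IsPullback (fst G Y) qY π pY)
    (hXY : IsPullback (fst G (X ⊗ Y)) qXY π pXY)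
    (fX : QXY ⟶ QX) (hfX : qXY ≫ fX = (G ◁ fst X Y) ≫ qX) (hfXp : fX ≫ pX = pXY)
    (fY : QXY ⟶ QY) (hfY : qXY ≫ fY = (G ◁ snd X Y) ≫ qY) (hfYp : fY ≫ pY = pXY) :
    IsPullback fX fY pX pY := by
  let m : QXY ⟶ pullback pX pY := pullback.lift fX fY (hfXp.trans hfYp.symm)
  have hmono : Mono m := by
    refine ⟨fun {T} a a' haa => ?_⟩
    have h1 : a ≫ fX = a' ≫ fX := by
      have e : m ≫ pullback.fst pX pY = _ := pullback.lift_fst _ _ _
      rw [← e, reassoc_of% haa]
    have h2 : a ≫ fY = a' ≫ fY := by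
      have e : m ≫ pullback.snd pX pY = _ := pullback.lift_snd _ _ _
      rw [← e, reassoc_of% haa]
    obtain ⟨T', c, g, hc, hg⟩ := hπ.exists_lift (a ≫ pXY)
    have := hc.epi
    rw [← cancel_epi c]
    have hp : a' ≫ pXY = a ≫ pXY := by rw [← hfXp, ← Category.assoc, ← h1, Category.assoc]
    let z := hXY.lift g (c ≫ a) (by rw [hg, Category.assoc])
    let z' := hXY.lift g (c ≫ a') (by rw [hg, Category.assoc, hp])
    have e1 : z = z' := by
      have h11 : z ≫ (G ◁ fst X Y) = z' ≫ (G ◁ fst X Y) := by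
        apply hX.hom_ext
        · simp [z, z']
        · rw [Category.assoc, Category.assoc, ← hfX, hXY.lift_snd_assoc, hXY.lift_snd_assoc,
            Category.assoc, Category.assoc, h1]
      have h12 : z ≫ (G ◁ snd X Y) = z' ≫ (G ◁ snd X Y) := by
        apply hY.hom_ext
        · simp [z, z']
        · rw [Category.assoc, Category.assoc, ← hfY, hXY.lift_snd_assoc, hXY.lift_snd_assoc,
            Category.assoc, Category.assoc, h2]
      apply CartesianMonoidalCategory.hom_ext
      · rw [hXY.lift_fst, hXY.lift_fst]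
      · apply CartesianMonoidalCategory.hom_ext
        · simpa using congrArg (· ≫ snd G X) h11
        · simpa using congrArg (· ≫ snd G Y) h12
    have := congrArg (· ≫ qXY) e1
    simpa [z, z'] using this
  have hiso : IsIso m := by
    refine IsCov.isIso_of_mono ?_
    obtain ⟨T, c, g, hc, hg⟩ := hπ.exists_lift (pullback.fst pX pY ≫ pX)
    let zX := hX.lift g (c ≫ pullback.fst pX pY) (by rw [hg, Category.assoc])
    let zY := hY.lift g (c ≫ pullback.snd pX pY) (by
      rw [hg, Category.assoc, pullback.condition])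
    refine ⟨T, c, lift g (lift (zX ≫ snd G X) (zY ≫ snd G Y)) ≫ qXY, hc, ?_⟩
    apply pullback.hom_ext
    · rw [Category.assoc, Category.assoc, pullback.lift_fst, hfX]
      have e : lift g (lift (zX ≫ snd G X) (zY ≫ snd G Y)) ≫ (G ◁ fst X Y) = zX := by
        apply CartesianMonoidalCategory.hom_ext
        · simp [zX]
        · simp
      rw [← Category.assoc, e]
      exact hX.lift_snd _ _ _
    · rw [Category.assoc, Category.assoc, pullback.lift_snd, hfY]
      have e : lift g (lift (zX ≫ snd G X) (zY ≫ snd G Y)) ≫ (G ◁ snd X Y) = zY := by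
        apply CartesianMonoidalCategory.hom_ext
        · simp [zY]
        · simp
      rw [← Category.assoc, e]
      exact hY.lift_snd _ _ _
  exact IsPullback.of_iso_pullback ⟨hfXp.trans hfYp.symm⟩ (asIso m) (pullback.lift_fst _ _ _)
    (pullback.lift_snd _ _ _)

end

end Groth.Agent.AlgGrp79
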