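import Groth.Agent.AlgGrp79.WeakChar
import Groth.Agent.AlgGrp79.Act
import Groth.Agent.Grp57.AffineNhd

/-!
An étale equivariant morphism reflects fixed points under a group with connected fibres.
-/

set_option autoImplicit false
set_option backward.isDefEq.respectTransparency.types false
universe u

open CategoryTheory CategoryTheory.Limits MonoidalCategory CartesianMonoidalCategory MonObj AlgebraicGeometry
open Groth.Agent.RedPts82

noncomputable section

namespace Groth.Agent.AlgGrp79

variable {S : Scheme.{u}}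

/-- the base change of a connected fibre of a group scheme to an algebraically closed field is irreducible -/
lemma isIrreducible_bc {G : Over S} [GrpObj G] [LocallyOfFiniteType G.hom] (s : S)
    [ConnectedSpace (G.hom.fiber s)] (Ω : Type u) [Field Ω] [IsAlgClosed Ω] (σ : S.residueField s →+* Ω) :
    IrreducibleSpace (Red.bc (Spec.map (CommRingCat.ofHom σ) ≫ S.fromSpecResidueField s) G).left := by
  let Gs : Over (Spec (CommRingCat.of (S.residueField s))) := Red.bc (S.fromSpecResidueField s) G
  have : LocallyOfFiniteType Gs.hom := MorphismProperty.pullback_snd _ _ ‹_›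
  have : ConnectedSpace Gs.left := ‹_›
  have h := Grp57.isIrreducible_preimage_connectedComponent_unit Gs σ
  rw [PreconnectedSpace.connectedComponent_eq_univ, Set.preimage_univ] at h
  have hh : IrreducibleSpace (pullback Gs.hom (Spec.map (CommRingCat.ofHom σ)) : Scheme.{u}) :=
    irreducibleSpace_def _ |>.2 h
  let e := pullbackLeftPullbackSndIso G.hom (S.fromSpecResidueField s) (Spec.map (CommRingCat.ofHom σ))
  exact e.hom.homeomorph.irreducibleSpace_iff.1 hh

theorem etale_reflects_fixed {G X Y T : Over S} [GrpObj G] [LocallyOfFiniteType G.hom]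
    (hconn : ∀ s : S, ConnectedSpace (G.hom.fiber s)) (a : AlgGrp.Action G X) (f : X ⟶ Y) [Etale f.left]
    (x : T ⟶ X)
    (hPQ : (lift (fst G T) (snd G T ≫ x) ≫ a.act) ≫ f = (snd G T ≫ x) ≫ f) :
    lift (fst G T) (snd G T ≫ x) ≫ a.act = snd G T ≫ x := by
  generalize hP : lift (fst G T) (snd G T ≫ x) ≫ a.act = P at hPQ ⊢
  generalize hQ : snd G T ≫ x = Q at hPQ ⊢
  let pq : (G ⊗ T).left ⟶ pullback f.left f.left := pullback.lift P.left Q.left congr($(hPQ).left)
  let ι' := pullback.snd (pullback.diagonal f.left) pq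
  have hoi : IsOpenImmersion ι' := MorphismProperty.pullback_snd _ _ inferInstance
  have heq : ι' ≫ P.left = ι' ≫ Q.left := by
    have h := pullback.condition (f := pullback.diagonal f.left) (g := pq)
    have h1 := congrArg (· ≫ pullback.fst f.left f.left) h
    have h2 := congrArg (· ≫ pullback.snd f.left f.left) h
    simp only [Category.assoc, pq, pullback.diagonal_fst, pullback.diagonal_snd, pullback.lift_fst,
      pullback.lift_snd] at h1 h2
    exact h1.symm.trans h2
  -- points of the equaliser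
  have hmem : ∀ {T' : Over S} (w : T' ⟶ G ⊗ T), w ≫ P = w ≫ Q ↔ Set.range w.left ⊆ Set.range ι' := by
    intro T' w
    constructor
    · intro h
      have hc : (w ≫ P).left ≫ pullback.diagonal f.left = w.left ≫ pq := by
        apply pullback.hom_ext
        · simp only [pq, Category.assoc, pullback.diagonal_fst, pullback.lift_fst, Category.comp_id, Over.comp_left]
        · simp only [pq, Category.assoc, pullback.diagonal_snd, pullback.lift_snd, Category.comp_id]
          exact congr($(h).left)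
      rw [← pullback.lift_snd _ _ hc]
      rintro _ ⟨y, rfl⟩
      exact ⟨_, (Scheme.Hom.comp_apply _ _ _).symm⟩
    · intro h
      obtain ⟨l, hl⟩ : ∃ l, l ≫ ι' = w.left := ⟨IsOpenImmersion.lift ι' w.left h, IsOpenImmersion.lift_fac _ _ _⟩
      apply Over.OverMorphism.ext
      rw [Over.comp_left, Over.comp_left, ← hl, Category.assoc, Category.assoc, heq]
  suffices hsurj : Function.Surjective ι' by
    have : Surjective ι' := ⟨hsurj⟩
    have : IsIso ι' := (isIso_iff_isOpenImmersion_and_epi_base ι').2 ⟨inferInstance, by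
      rw [TopCat.epi_iff_surjective]; exact hsurj⟩
    exact Over.OverMorphism.ext ((cancel_epi ι').1 heq)
  intro p
  -- an algebraically closed field at `p`
  let s : S := (G ⊗ T).hom p
  let Ω : Type u := AlgebraicClosure ((G ⊗ T).left.residueField p)
  let σ : S.residueField s →+* Ω :=
    (algebraMap ((G ⊗ T).left.residueField p) Ω).comp ((G ⊗ T).hom.residueFieldMap p).hom
  let st : Spec (CommRingCat.of Ω) ⟶ S := Spec.map (CommRingCat.ofHom σ) ≫ S.fromSpecResidueField s
  let wl : Spec (CommRingCat.of Ω) ⟶ (G ⊗ T).left :=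
    Spec.map (CommRingCat.ofHom (algebraMap ((G ⊗ T).left.residueField p) Ω)) ≫ (G ⊗ T).left.fromSpecResidueField p
  have hwl : wl ≫ (G ⊗ T).hom = st := by
    simp only [wl, st, s, σ, Category.assoc, CommRingCat.ofHom_comp, Spec.map_comp,
      CommRingCat.ofHom_hom, Scheme.Hom.SpecMap_residueFieldMap_fromSpecResidueField]
  have hwp : ∀ z, wl z = p := fun z => by
    simp only [wl, Scheme.Hom.comp_apply]
    exact Scheme.fromSpecResidueField_apply _ _
  let w : Over.mk st ⟶ G ⊗ T := Over.homMk wl hwl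
  let τ : Over.mk st ⟶ T := w ≫ snd G T
  let Fix : (Over.mk st ⟶ G) → Prop := fun g => lift g (τ ≫ x) ≫ a.act = τ ≫ x
  have hFix : ∀ g, Fix g ↔ Set.range (lift g τ).left ⊆ Set.range ι' := fun g => by
    rw [← hmem]
    simp only [Fix, ← hP, ← hQ]
    rw [comp_lift_assoc, lift_fst, lift_snd_assoc]
  have fix_one : Fix 1 := one_act' a _
  have fix_mul : ∀ g h, Fix g → Fix h → Fix (g * h) := fun g h hg hh => by
    simp only [Fix] at hg hh ⊢; rw [mul_act', hh, hg]
  have fix_inv : ∀ g, Fix g → Fix g⁻¹ := fun g hg => by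
    simp only [Fix] at hg ⊢
    conv_lhs => rw [← hg]
    exact inv_act_act a _ _
  suffices h : Fix (w ≫ fst G T) by
    have := (hFix _).1 h
    rw [show lift (w ≫ fst G T) τ = w from by simp [τ]] at this
    exact this ⟨IsLocalRing.closedPoint Ω, hwp _⟩
  -- the group over `Ω`
  let GΩ := Red.bc st G
  have : IrreducibleSpace GΩ.left := by
    have := hconn s
    exact isIrreducible_bc s Ω σ
  have : LocallyOfFiniteType GΩ.hom := MorphismProperty.pullback_snd _ _ ‹_›
  have : JacobsonSpace GΩ.left := LocallyOfFiniteType.jacobsonSpace GΩ.hom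
  let univ : (Over.map st).obj GΩ ⟶ G := toBase st (𝟙 GΩ)
  let m : (Over.map st).obj GΩ ⟶ G ⊗ T := lift univ (structPt st GΩ ≫ τ)
  let U : Set GΩ.left := m.left ⁻¹' Set.range ι'
  have hUo : IsOpen U := ι'.isOpenEmbedding.isOpen_range.preimage m.left.continuous
  let e : Over.mk st ⟶ (Over.map st).obj (Over.mk (𝟙 (Spec (CommRingCat.of Ω)))) :=
    Over.homMk (𝟙 _) (by simp)
  -- sections and points
  let pt : (Over.mk (𝟙 (Spec (CommRingCat.of Ω))) ⟶ GΩ) → (Over.mk st ⟶ G) := fun q => e ≫ toBase st q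
  have hq : ∀ q, e ≫ (Over.map st).map q ≫ m = lift (pt q) τ := fun q => by
    have h1 : e ≫ structPt st (Over.mk (𝟙 (Spec (CommRingCat.of Ω)))) = 𝟙 _ := by
      ext : 1
      exact Category.id_comp _
    simp only [m, comp_lift]
    rw [reassoc_of% map_comp_structPt st q, reassoc_of% h1]
    simp only [pt, univ]
    rw [toBase_eq_map_comp]
  have hqU : ∀ q : Over.mk (𝟙 (Spec (CommRingCat.of Ω))) ⟶ GΩ,
      q.left (IsLocalRing.closedPoint Ω) ∈ U ↔ Fix (pt q) := fun q => by
    have : ∀ z, (lift (pt q) τ).left z = m.left (q.left (IsLocalRing.closedPoint Ω)) := fun z => by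
      rw [Subsingleton.elim (α := PrimeSpectrum Ω) z (IsLocalRing.closedPoint Ω), ← hq q]
      rfl
    rw [hFix]
    constructor
    · rintro h _ ⟨z, rfl⟩; rw [this]; exact h
    · intro h
      show m.left _ ∈ Set.range ι'
      rw [← this (IsLocalRing.closedPoint Ω)]
      exact h ⟨_, rfl⟩
  have hmk : ∀ g : Over.mk st ⟶ G, ∃ q, pt q = g := fun g => by
    let e' : (Over.map st).obj (Over.mk (𝟙 (Spec (CommRingCat.of Ω)))) ⟶ Over.mk st :=
      Over.homMk (𝟙 _) (by simp)
    refine ⟨ofBase st (e' ≫ g), ?_⟩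
    simp only [pt, toBase_ofBase]
    rw [← Category.assoc, show e ≫ e' = 𝟙 _ from by ext : 1; exact Category.id_comp _, Category.id_comp]
  set g := w ≫ fst G T
  let ψ : GΩ ⟶ GΩ := ofBase st ((structPt st GΩ ≫ g) * univ)
  have hψ : ∀ q, pt (q ≫ ψ) = g * pt q := fun q => by
    have h1 : e ≫ structPt st (Over.mk (𝟙 (Spec (CommRingCat.of Ω)))) = 𝟙 _ := by
      ext : 1
      exact Category.id_comp _
    simp only [pt, ψ, toBase_comp, toBase_ofBase, MonObj.comp_mul, univ, toBase_eq_map_comp,
      reassoc_of% map_comp_structPt, reassoc_of% h1]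
    rw [toBase_eq_map_comp]
  obtain ⟨q0, hq0⟩ := hmk 1
  obtain ⟨q1, hq1⟩ := hmk g⁻¹
  have hne : (U ∩ ψ.left ⁻¹' U).Nonempty := by
    refine nonempty_preirreducible_inter hUo (hUo.preimage ψ.left.continuous)
      ⟨_, (hqU q0).2 (hq0 ▸ fix_one)⟩ ⟨q1.left (IsLocalRing.closedPoint Ω), ?_⟩
    show (q1 ≫ ψ).left (IsLocalRing.closedPoint Ω) ∈ U
    rw [hqU, hψ, hq1, mul_inv_cancel]
    exact fix_one
  obtain ⟨z, ⟨hzU, hzψ⟩, hzc⟩ := nonempty_inter_closedPoints hne
    (hUo.inter (hUo.preimage ψ.left.continuous)).isLocallyClosed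
  let q : Over.mk (𝟙 (Spec (CommRingCat.of Ω))) ⟶ GΩ := Var76.ActTrans.sec GΩ z hzc
  have hqz : q.left (IsLocalRing.closedPoint Ω) = z := Var76.ActTrans.sec_apply _ _ _ _
  have hu : Fix (pt q) := (hqU q).1 (hqz ▸ hzU)
  have hgu : Fix (g * pt q) := by
    rw [← hψ, ← hqU, Over.comp_left, Scheme.Hom.comp_apply, hqz]
    exact hzψ
  have := fix_mul _ _ hgu (fix_inv _ hu)
  rwa [mul_inv_cancel_right] at this

end Groth.Agent.AlgGrp79
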