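import Groth.Agent.AlgGrp79.ConnFactor
import Groth.Agent.AlgGrp79.EtaleFixed
import Groth.Agent.AlgGrp79.SepDense
import Groth.Agent.AlgGrp79.NeutralHomog

/-!
Blanchard's lemma: actions of connected groups descend along proper morphisms with connected fibres.
-/

set_option autoImplicit false
set_option backward.isDefEq.respectTransparency.types false
universe u

open CategoryTheory CategoryTheory.Limits MonoidalCategory CartesianMonoidalCategory MonObj AlgebraicGeometry
open Groth.Agent.RedPts82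

noncomputable section

namespace Groth.Agent.AlgGrp79

variable {k : Type u} [Field k] {G X Y : Over (Spec (CommRingCat.of k))}

lemma surjective_of_isIso_app {W V : Scheme.{u}} (f : W ⟶ V) [IsProper f] (hf : ∀ U : V.Opens, IsIso (f.app U)) :
    Function.Surjective f := by
  intro q
  by_contra hq
  let U : V.Opens := ⟨(Set.range f)ᶜ, f.isClosedMap.isClosed_range.isOpen_compl⟩
  have hqU : q ∈ U := fun ⟨z, hz⟩ => hq ⟨z, hz⟩
  have hbot : f ⁻¹ᵁ U = ⊥ := by
    ext z
    simpa [U] using ⟨z, rfl⟩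
  have hsub : Subsingleton Γ(W, f ⁻¹ᵁ U) := by
    rw [hbot]
    exact CommRingCat.subsingleton_of_isTerminal W.sheaf.isTerminalOfEmpty
  have := hf U
  have : Subsingleton Γ(V, U) :=
    ((ConcreteCategory.isIso_iff_bijective (f.app U)).1 inferInstance).1.subsingleton
  exact one_ne_zero (α := V.presheaf.stalk q)
    (((V.presheaf.germ U q hqU).hom.map_one).symm.trans
      ((congrArg _ (Subsingleton.elim (1 : Γ(V, U)) 0)).trans (map_zero _)))

lemma whisker_sameSections (M : Over (Spec (CommRingCat.of k))) [LocallyOfFiniteType M.hom] (f : X ⟶ Y)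
    [QuasiCompact f.left] [QuasiSeparated f.left] (hf : ∀ U : Y.left.Opens, IsAffineOpen U → IsIso (f.left.app U)) :
    SameSections (M ◁ f).left := by
  intro q O hq
  obtain ⟨U, hU, hqU, -⟩ := exists_isAffineOpen_mem_and_subset (U := ⊤) (x := (snd M Y).left q) trivial
  obtain ⟨Ω, hΩ, hqΩ, hle⟩ := exists_isAffineOpen_mem_and_subset (U := O ⊓ (snd M Y).left ⁻¹ᵁ U) (x := q) ⟨hq, hqU⟩
  refine ⟨Ω, hqΩ, fun z hz => (hle hz).1, hΩ, ?_⟩
  have hΩU : Ω ≤ (snd M Y).left ⁻¹ᵁ U := fun z hz => (hle hz).2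
  have H : IsPullback (snd M X).left (M ◁ f).left f.left (snd M Y).left :=
    (isPullback_left (whiskerLeft_isPullback M f)).flip
  have : Flat M.hom := inferInstance
  have : Flat (snd M Y).left := inferInstanceAs (Flat (pullback.snd M.hom Y.hom))
  have hc : IsCompact (f.left ⁻¹ᵁ U : Set X.left) := QuasiCompact.isCompact_preimage _ U.isOpen hU.isCompact
  have hqs : IsQuasiSeparated (f.left ⁻¹ᵁ U : Set X.left) := by
    have : IsAffine U.toScheme := hU
    have : QuasiSeparated (f.left ∣_ U) := IsZariskiLocalAtTarget.restrict ‹QuasiSeparated f.left› U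
    have := quasiSeparatedSpace_of_quasiSeparated (f.left ∣_ U)
    exact (isQuasiSeparated_iff_quasiSeparatedSpace _ (f.left ⁻¹ᵁ U).isOpen).2 this
  have hY : (M ◁ f).left ⁻¹ᵁ Ω = (snd M X).left ⁻¹ᵁ (f.left ⁻¹ᵁ U) ⊓ (M ◁ f).left ⁻¹ᵁ Ω := by
    refine le_antisymm (le_inf (fun z hz => ?_) le_rfl) inf_le_right
    show f.left ((snd M X).left z) ∈ U
    rw [← Scheme.Hom.comp_apply, H.w, Scheme.Hom.comp_apply]
    exact hΩU hz
  have hiso := isIso_pushoutSection_of_isQuasiSeparated_of_flat_right H (US := U) (UT := Ω)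
    (UX := f.left ⁻¹ᵁ U) (UY := (M ◁ f).left ⁻¹ᵁ Ω) hΩU le_rfl hY hU hΩ hc hqs
  have hpo := (isIso_pushoutSection_iff ..).1 hiso
  have : IsIso (f.left.appLE U (f.left ⁻¹ᵁ U) le_rfl) := by
    rw [← Scheme.Hom.app_eq_appLE]; exact hf U hU
  have := hpo.isIso_inr_of_isIso
  rwa [Scheme.Hom.app_eq_appLE]

lemma exists_specPt_of_isField {L : Type u} [Field L] (z : Spec (CommRingCat.of L) ⟶ X.left) :
    ∃ (st : Spec (CommRingCat.of L) ⟶ Spec (CommRingCat.of k)) (Z : Over.mk st ⟶ X), Z.left = z :=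
  ⟨z ≫ X.hom, Over.homMk z rfl, rfl⟩

/-- the morphism to be descended is constant on fibres -/
lemma exists_factor_whisker [GrpObj G] [LocallyOfFiniteType G.hom] [QuasiCompact G.hom] [ConnectedSpace G.left]
    (f : X ⟶ Y) [IsProper f.left] [Surjective f.left] (hf : ∀ U : Y.left.Opens, IsAffineOpen U → IsIso (f.left.app U)) (a : AlgGrp.Action G X) :
    ∃ v : G ⊗ Y ⟶ Y, (G ◁ f) ≫ v = a.act ≫ f := by
  set p := (G ◁ f).left with hp_def
  set h := (a.act ≫ f).left with hh
  have : IsProper p := MorphismProperty.of_isPullback (P := @IsProper)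
    (isPullback_left (whiskerLeft_isPullback G f)).flip ‹_›
  have hp : SameSections p := whisker_sameSections G f hf
  have hs0 : Surjective f.left := ‹_›
  have hps : Function.Surjective p := (MorphismProperty.of_isPullback (P := @Surjective)
    (isPullback_left (whiskerLeft_isPullback G f)).flip hs0 : Surjective p).surj
  let Good : Set ↥(G ⊗ Y).left := {q | ∃ (Ω : (G ⊗ Y).left.Opens) (v : Ω.toScheme ⟶ Y.left),
    q ∈ Ω ∧ (p ∣_ Ω) ≫ v = (p ⁻¹ᵁ Ω).ι ≫ h}
  have hgood : IsOpen Good := isOpen_iff_forall_mem_open.2 fun q ⟨Ω, v, hq, hv⟩ =>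
    ⟨Ω, fun z hz => ⟨Ω, v, hz, hv⟩, Ω.isOpen, hq⟩
  let GoodO : (G ⊗ Y).left.Opens := ⟨Good, hgood⟩
  -- criterion
  have crit : ∀ q, (∀ z z', p z = q → p z' = q → h z = h z') → q ∈ Good := fun q hq => by
    obtain ⟨z₀, hz₀⟩ := hps q
    obtain ⟨U, hU, hzU, -⟩ := exists_isAffineOpen_mem_and_subset (U := ⊤) (x := h z₀) trivial
    let O : (G ⊗ Y).left.Opens := ⟨(p '' (h ⁻¹ᵁ U : Set _)ᶜ)ᶜ, (p.isClosedMap _ (h ⁻¹ᵁ U).isOpen.isClosed_compl).isOpen_compl⟩
    have hqO : q ∈ O := by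
      rintro ⟨z, hz, hzq⟩
      refine hz ?_
      show h z ∈ U
      rw [hq z z₀ hzq hz₀]; exact hzU
    obtain ⟨Ω, hqΩ, hΩO, hΩ, hiso⟩ := hp q O hqO
    obtain ⟨v, hv⟩ := exists_local_factor Ω hΩ hiso h U hU fun z hz => by
      by_contra hz'
      exact hΩO hz ⟨z, hz', rfl⟩
    exact ⟨Ω, v, hqΩ, hv⟩
  obtain ⟨v₀, hv₀⟩ := exists_factor_on hp hps h GoodO fun q hq => hq
  -- consequence on points
  have eqGood : ∀ {T : Over (Spec (CommRingCat.of k))} (g : T ⟶ G) (x x' : T ⟶ X), x ≫ f = x' ≫ f →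
      Set.range (lift g (x ≫ f)).left ⊆ Good → lift g x ≫ a.act ≫ f = lift g x' ≫ a.act ≫ f := by
    intro T g x x' hxx hr
    have key : ∀ y : T ⟶ X, y ≫ f = x ≫ f →
        (lift g y ≫ a.act ≫ f).left = IsOpenImmersion.lift GoodO.ι
          (lift g (x ≫ f)).left (by rwa [Scheme.Opens.range_ι]) ≫ v₀ := by
      intro y hy
      have hyp : (lift g y).left ≫ p = (lift g (x ≫ f)).left := by
        rw [hp_def, ← Over.comp_left, lift_whiskerLeft, hy]
      have hr' : Set.range (lift g y).left ⊆ Set.range (p ⁻¹ᵁ GoodO).ι := by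
        rw [Scheme.Opens.range_ι]
        rintro _ ⟨z, rfl⟩
        show p ((lift g y).left z) ∈ Good
        rw [← Scheme.Hom.comp_apply, hyp]
        exact hr ⟨z, rfl⟩
      have hl : IsOpenImmersion.lift (p ⁻¹ᵁ GoodO).ι (lift g y).left hr' ≫ (p ∣_ GoodO) =
          IsOpenImmersion.lift GoodO.ι
            (lift g (x ≫ f)).left (by rwa [Scheme.Opens.range_ι]) := by
        rw [← cancel_mono GoodO.ι, Category.assoc,
          morphismRestrict_ι, IsOpenImmersion.lift_fac_assoc, IsOpenImmersion.lift_fac, hyp]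
      rw [← hl, Category.assoc, hv₀, IsOpenImmersion.lift_fac_assoc, hh, ← Over.comp_left]
    exact Over.OverMorphism.ext ((key x rfl).trans (key x' hxx.symm).symm)
  suffices hall : ∀ q, q ∈ Good by
    obtain ⟨v, hv⟩ := exists_factor_on hp hps h ⊤ fun q _ => hall q
    let v' : (G ⊗ Y).left ⟶ Y.left := (G ⊗ Y).left.topIso.inv ≫ v
    have hv' : p ≫ v' = h := by
      have : (p ∣_ ⊤) ≫ (⊤ : (G ⊗ Y).left.Opens).ι = (p ⁻¹ᵁ ⊤).ι ≫ p := morphismRestrict_ι _ _
      have hι : IsIso (p ⁻¹ᵁ ⊤).ι := inferInstanceAs (IsIso (G ⊗ X).left.topIso.hom)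
      rw [← cancel_epi (p ⁻¹ᵁ ⊤).ι, ← hv, ← reassoc_of% this]
      congr 1
      simp [v', ← Scheme.topIso_hom]
    refine ⟨Over.homMk v' ?_, Over.OverMorphism.ext hv'⟩
    refine hp.hom_ext hps _ _ ?_
    rw [reassoc_of% hv', hp_def, hh, Over.w, Over.w]
  intro q
  refine crit q fun z z' hz hz' => ?_
  -- a common field
  obtain ⟨w, hw, hw'⟩ := Scheme.Pullback.exists_preimage_pullback (f := p) (g := p) z z' (hz.trans hz'.symm)
  let L : Type u := AlgebraicClosure ((pullback p p).residueField w)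
  let wl : Spec (CommRingCat.of L) ⟶ pullback p p :=
    Spec.map (CommRingCat.ofHom (algebraMap ((pullback p p).residueField w) L)) ≫ (pullback p p).fromSpecResidueField w
  let st : Spec (CommRingCat.of L) ⟶ Spec (CommRingCat.of k) := (wl ≫ pullback.fst p p) ≫ (G ⊗ X).hom
  let Z : Over.mk st ⟶ G ⊗ X := Over.homMk (wl ≫ pullback.fst p p) rfl
  let Z' : Over.mk st ⟶ G ⊗ X := Over.homMk (wl ≫ pullback.snd p p) (by
    show (wl ≫ pullback.snd p p) ≫ (G ⊗ X).hom = st
    simp only [st, Category.assoc]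
    rw [← Over.w (G ◁ f), ← hp_def, pullback.condition_assoc])
  have hZZ : Z ≫ (G ◁ f) = Z' ≫ (G ◁ f) := by
    apply Over.OverMorphism.ext
    show (wl ≫ pullback.fst p p) ≫ p = (wl ≫ pullback.snd p p) ≫ p
    simp only [Category.assoc, pullback.condition]
  suffices heq : Z ≫ a.act ≫ f = Z' ≫ a.act ≫ f by
    have := congr(($heq).left (IsLocalRing.closedPoint L))
    simp only [Over.comp_left, Z, Z', Over.homMk_left, Category.assoc, Scheme.Hom.comp_apply] at this
    have hwl : wl (IsLocalRing.closedPoint L) = w := by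
      simp only [wl, Scheme.Hom.comp_apply]; exact Scheme.fromSpecResidueField_apply _ _
    rw [hwl, hw, hw'] at this
    rw [hh, Over.comp_left, Scheme.Hom.comp_apply, Scheme.Hom.comp_apply]
    exact this
  -- components
  set g := Z ≫ fst G X with hg
  set x₁ := Z ≫ snd G X with hx₁
  set x₂ := Z' ≫ snd G X with hx₂
  have hg' : Z' ≫ fst G X = g := by
    have := congrArg (· ≫ fst G Y) hZZ
    simpa [hg] using this.symm
  have hxx : x₁ ≫ f = x₂ ≫ f := by
    have := congrArg (· ≫ snd G Y) hZZ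
    simpa [hx₁, hx₂] using this
  have eZ : Z = lift g x₁ := by ext : 1 <;> simp [g, x₁]
  have eZ' : Z' = lift g x₂ := by ext : 1 <;> simp [hg', x₂]
  rw [eZ, eZ']
  -- the group over `L`
  obtain ⟨τ, hτ⟩ : ∃ τ : k →+* L, Spec.map (CommRingCat.ofHom τ) = st := ⟨(Spec.preimage st).hom, Spec.map_preimage st⟩
  have : IrreducibleSpace (Red.bc st G).left := by
    have h := Grp57.isIrreducible_preimage_connectedComponent_unit G τ
    rw [PreconnectedSpace.connectedComponent_eq_univ, Set.preimage_univ] at h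
    have hh' : IrreducibleSpace (pullback G.hom (Spec.map (CommRingCat.ofHom τ)) : Scheme.{u}) :=
      irreducibleSpace_def _ |>.2 h
    rw [hτ] at hh'
    exact hh'
  let GΩ := Red.bc st G
  have : LocallyOfFiniteType GΩ.hom := MorphismProperty.pullback_snd _ _ ‹_›
  have : JacobsonSpace GΩ.left := LocallyOfFiniteType.jacobsonSpace GΩ.hom
  have : PreirreducibleSpace ↥((Over.map st).obj GΩ).left := inferInstanceAs (PreirreducibleSpace GΩ.left)
  have : JacobsonSpace ↥((Over.map st).obj GΩ).left := ‹JacobsonSpace GΩ.left›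
  let unv : (Over.map st).obj GΩ ⟶ G := toBase st (𝟙 GΩ)
  let m₁ : (Over.map st).obj GΩ ⟶ G ⊗ Y := lift unv (structPt st GΩ ≫ x₁ ≫ f)
  let m₂ : (Over.map st).obj GΩ ⟶ G ⊗ Y :=
    lift ((structPt st GΩ ≫ g) * unv⁻¹) (lift unv (structPt st GΩ ≫ x₁) ≫ a.act ≫ f)
  let e : Over.mk st ⟶ (Over.map st).obj (Over.mk (𝟙 (Spec (CommRingCat.of L)))) :=
    Over.homMk (𝟙 _) (by simp)
  let e' : (Over.map st).obj (Over.mk (𝟙 (Spec (CommRingCat.of L)))) ⟶ Over.mk st :=
    Over.homMk (𝟙 _) (by simp)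
  have he : e ≫ e' = 𝟙 _ := by ext : 1; exact Category.id_comp _
  have he₂ : e ≫ structPt st (Over.mk (𝟙 (Spec (CommRingCat.of L)))) = 𝟙 _ := by
    ext : 1
    exact Category.id_comp _
  -- points of `GΩ`
  have hpt : ∀ q : Over.mk (𝟙 (Spec (CommRingCat.of L))) ⟶ GΩ, ∀ m : (Over.map st).obj GΩ ⟶ G ⊗ Y, ∀ s,
      m.left (q.left s) ∈ Good → Set.range (e ≫ (Over.map st).map q ≫ m).left ⊆ Good := by
    rintro q m s hm _ ⟨s', rfl⟩
    rw [Subsingleton.elim (α := PrimeSpectrum L) s' s]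
    exact hm
  have hrange : ∀ (x : Over.mk st ⟶ X), Set.range (lift (1 : Over.mk st ⟶ G) (x ≫ f)).left ⊆ Good := by
    rintro x _ ⟨s, rfl⟩
    refine crit _ fun z z' hz hz' => ?_
    -- over the unit section `h` is `f`
    have key : ∀ z, p z = (lift (1 : Over.mk st ⟶ G) (x ≫ f)).left s → h z = (x ≫ f).left s := by
      intro z hz
      let t₀ : ↥(𝟙_ (Over (Spec (CommRingCat.of k)))).left := IsLocalRing.closedPoint k
      obtain ⟨hu1, hu2⟩ : ((fst G Y).left ((lift (1 : Over.mk st ⟶ G) (x ≫ f)).left s) = η[G].left t₀) ∧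
          (snd G Y).left ((lift (1 : Over.mk st ⟶ G) (x ≫ f)).left s) = (x ≫ f).left s := by
        refine ⟨?_, ?_⟩
        · rw [← Scheme.Hom.comp_apply, ← Over.comp_left, lift_fst, Hom.one_def, Over.comp_left, Scheme.Hom.comp_apply]
          congr 1
          exact Subsingleton.elim (α := PrimeSpectrum k) _ _
        · rw [← Scheme.Hom.comp_apply, ← Over.comp_left, lift_snd]
      have hfst : (fst G X).left z = η[G].left t₀ := by
        rw [← hu1, ← hz, hp_def, ← Scheme.Hom.comp_apply, ← Over.comp_left, whiskerLeft_fst]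
      -- `z` lies on the unit section
      have H : IsPullback ((η[G] ▷ X)).left (fst (𝟙_ _) X).left (fst G X).left η[G].left :=
        (isPullback_left (whiskerRight_isPullback' η[G] X)).flip
      obtain ⟨z₀, hz₀, -⟩ := Scheme.exists_preimage_of_isPullback H z t₀ hfst
      have : h z = (snd G Y).left (p z) := by
        rw [← hz₀, hh, hp_def, ← Scheme.Hom.comp_apply, ← Scheme.Hom.comp_apply, ← Scheme.Hom.comp_apply,
          ← Over.comp_left, ← Over.comp_left, ← Over.comp_left, ← Category.assoc _ a.act, a.one_act,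
          whiskerLeft_snd]
        simp
      rw [this, hz, hu2]
    rw [key z hz, key z' hz']
  obtain ⟨q₁, hq₁⟩ : ∃ q : Over.mk (𝟙 (Spec (CommRingCat.of L))) ⟶ GΩ, e ≫ toBase st q = 1 :=
    ⟨ofBase st (e' ≫ 1), by rw [toBase_ofBase, ← Category.assoc, he, Category.id_comp]⟩
  obtain ⟨q₂, hq₂⟩ : ∃ q : Over.mk (𝟙 (Spec (CommRingCat.of L))) ⟶ GΩ, e ≫ toBase st q = g :=
    ⟨ofBase st (e' ≫ g), by rw [toBase_ofBase, ← Category.assoc, he, Category.id_comp]⟩
  have hm₁ : ∀ q, e ≫ (Over.map st).map q ≫ m₁ = lift (e ≫ toBase st q) (x₁ ≫ f) := fun q => by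
    simp only [m₁, comp_lift, unv, toBase_eq_map_comp, reassoc_of% map_comp_structPt, reassoc_of% he₂]
    rw [toBase_eq_map_comp]
  have hm₂ : ∀ q, e ≫ (Over.map st).map q ≫ m₂ =
      lift (g * (e ≫ toBase st q)⁻¹) (lift (e ≫ toBase st q) x₁ ≫ a.act ≫ f) := fun q => by
    simp only [m₂, comp_lift, comp_lift_assoc, unv, MonObj.comp_mul, GrpObj.comp_inv, toBase_eq_map_comp,
      reassoc_of% map_comp_structPt, reassoc_of% he₂]
    rw [toBase_eq_map_comp]
  have hne : ((m₁.left ⁻¹' Good) ∩ (m₂.left ⁻¹' Good)).Nonempty := by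
    refine nonempty_preirreducible_inter (hgood.preimage m₁.left.continuous) (hgood.preimage m₂.left.continuous)
      ⟨q₁.left (IsLocalRing.closedPoint L), ?_⟩ ⟨q₂.left (IsLocalRing.closedPoint L), ?_⟩
    · have : (e ≫ (Over.map st).map q₁ ≫ m₁).left (IsLocalRing.closedPoint L) ∈ Good := by
        rw [hm₁, hq₁]; exact hrange x₁ ⟨_, rfl⟩
      exact this
    · have : (e ≫ (Over.map st).map q₂ ≫ m₂).left (IsLocalRing.closedPoint L) ∈ Good := by
        rw [hm₂, hq₂, mul_inv_cancel, ← Category.assoc]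
        exact hrange (lift g x₁ ≫ a.act) ⟨_, rfl⟩
      exact this
  obtain ⟨y, ⟨hy₁, hy₂⟩, hyc⟩ := nonempty_inter_closedPoints hne
    ((hgood.preimage m₁.left.continuous).inter (hgood.preimage m₂.left.continuous)).isLocallyClosed
  let q : Over.mk (𝟙 (Spec (CommRingCat.of L))) ⟶ GΩ := Var76.ActTrans.sec GΩ y hyc
  have hqy : q.left (IsLocalRing.closedPoint L) = y := Var76.ActTrans.sec_apply _ _ _ _
  set u := e ≫ toBase st q with hu
  have r₁ := hpt q m₁ _ (hqy.symm ▸ hy₁)
  have r₂ := hpt q m₂ _ (hqy.symm ▸ hy₂)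
  rw [hm₁, ← hu] at r₁
  rw [hm₂, ← hu] at r₂
  have e1 : (lift u x₁ ≫ a.act) ≫ f = (lift u x₂ ≫ a.act) ≫ f := by
    simpa using eqGood u x₁ x₂ hxx r₁
  have e2 := eqGood (g * u⁻¹) _ _ e1 (by rwa [Category.assoc])
  simpa only [← Category.assoc, ← mul_act', inv_mul_cancel_right] using e2

end Groth.Agent.AlgGrp79

namespace Groth.Agent.AlgGrp79

variable {k : Type u} [Field k] {G X Y : Over (Spec (CommRingCat.of k))}

lemma whisker_hom_ext (M : Over (Spec (CommRingCat.of k))) [LocallyOfFiniteType M.hom] (f : X ⟶ Y) [IsProper f.left] [Surjective f.left]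
    (hf : ∀ U : Y.left.Opens, IsAffineOpen U → IsIso (f.left.app U)) {Z : Over (Spec (CommRingCat.of k))} (u v : M ⊗ Y ⟶ Z)
    (h : (M ◁ f) ≫ u = (M ◁ f) ≫ v) : u = v := by
  refine Over.OverMorphism.ext ((whisker_sameSections M f hf).hom_ext ?_ _ _ congr($(h).left))
  have hs : Surjective f.left := ‹_›
  exact (MorphismProperty.of_isPullback (P := @Surjective) (isPullback_left (whiskerLeft_isPullback M f)).flip hs).surj

theorem existsUnique_action_desc [GrpObj G] [LocallyOfFiniteType G.hom] [QuasiCompact G.hom] [ConnectedSpace G.left]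
    (f : X ⟶ Y) [IsProper f.left] [Surjective f.left] (hf : ∀ U : Y.left.Opens, IsAffineOpen U → IsIso (f.left.app U)) (a : AlgGrp.Action G X) :
    ∃! b : AlgGrp.Action G Y, (G ◁ f) ≫ b.act = a.act ≫ f := by
  obtain ⟨v, hv⟩ := exists_factor_whisker f hf a
  have : LocallyOfFiniteType (G ⊗ G).hom := by
    have : LocallyOfFiniteType (fst G G).left := MorphismProperty.pullback_fst _ _ ‹_›
    rw [← Over.w (fst G G)]
    infer_instance
  have : LocallyOfFiniteType (𝟙_ (Over (Spec (CommRingCat.of k)))).hom :=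
    inferInstanceAs (LocallyOfFiniteType (𝟙 (Spec (CommRingCat.of k))))
  refine ⟨⟨v, ?_, ?_⟩, hv, fun b hb => ?_⟩
  · refine whisker_hom_ext _ f hf _ _ ?_
    rw [whisker_exchange_assoc, hv, ← Category.assoc, a.one_act, leftUnitor_naturality]
  · refine whisker_hom_ext (G ⊗ G) f hf _ _ ?_
    rw [whisker_exchange_assoc, hv, ← Category.assoc, a.mul_act, associator_naturality_right_assoc,
      ← MonoidalCategory.whiskerLeft_comp_assoc, hv]
    simp only [MonoidalCategory.whiskerLeft_comp, Category.assoc, hv]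
  · obtain ⟨act, h1, h2⟩ := b
    congr 1
    exact whisker_hom_ext _ f hf _ _ (hb.trans hv.symm)

end Groth.Agent.AlgGrp79

namespace Groth.Agent.AlgGrp79

variable {k : Type u} [Field k] {G X Y : Over (Spec (CommRingCat.of k))}

theorem exists_factor_of_const {W V Z : Scheme.{u}} {p : W ⟶ V} [IsProper p] (hp : SameSections p)
    (hps : Function.Surjective p) (h : W ⟶ Z) (hc : ∀ z z', p z = p z' → h z = h z') : ∃ v : V ⟶ Z, p ≫ v = h := by
  obtain ⟨v, hv⟩ := exists_factor_on hp hps h ⊤ fun q _ => by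
    obtain ⟨z₀, hz₀⟩ := hps q
    obtain ⟨U, hU, hzU, -⟩ := exists_isAffineOpen_mem_and_subset (U := ⊤) (x := h z₀) trivial
    let O : V.Opens := ⟨(p '' (h ⁻¹ᵁ U : Set _)ᶜ)ᶜ, (p.isClosedMap _ (h ⁻¹ᵁ U).isOpen.isClosed_compl).isOpen_compl⟩
    have hqO : q ∈ O := by
      rintro ⟨z, hz, hzq⟩
      refine hz ?_
      show h z ∈ U
      rw [hc z z₀ (hzq.trans hz₀.symm)]; exact hzU
    obtain ⟨Ω, hqΩ, hΩO, hΩ, hiso⟩ := hp q O hqO
    obtain ⟨v, hv⟩ := exists_local_factor Ω hΩ hiso h U hU fun z hz => by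
      by_contra hz'
      exact hΩO hz ⟨z, hz', rfl⟩
    exact ⟨Ω, v, hqΩ, hv⟩
  refine ⟨V.topIso.inv ≫ v, ?_⟩
  have : (p ∣_ ⊤) ≫ (⊤ : V.Opens).ι = (p ⁻¹ᵁ ⊤).ι ≫ p := morphismRestrict_ι _ _
  have hι : IsIso (p ⁻¹ᵁ ⊤).ι := inferInstanceAs (IsIso W.topIso.hom)
  rw [← cancel_epi (p ⁻¹ᵁ ⊤).ι, ← hv, ← reassoc_of% this]
  congr 1
  simp [← Scheme.topIso_hom]

theorem tfae_action_desc [GrpObj G] [LocallyOfFiniteType G.hom]
    (f : X ⟶ Y) [IsProper f.left] [Surjective f.left] (hf : ∀ U : Y.left.Opens, IsAffineOpen U → IsIso (f.left.app U))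
    (a : AlgGrp.Action G X) :
    [∃ b : AlgGrp.Action G Y, (G ◁ f) ≫ b.act = a.act ≫ f,
      ∀ (T : Over (Spec (CommRingCat.of k))) (g : T ⟶ G) (x₁ x₂ : T ⟶ X),
        x₁ ≫ f = x₂ ≫ f → lift g x₁ ≫ a.act ≫ f = lift g x₂ ≫ a.act ≫ f,
      ∀ p q : ↥(G ⊗ X).left, (G ◁ f).left.base p = (G ◁ f).left.base q →
        (a.act ≫ f).left.base p = (a.act ≫ f).left.base q].TFAE := by
  have hsq := (isPullback_left (whiskerLeft_isPullback G f)).flip
  have : IsProper (G ◁ f).left := MorphismProperty.of_isPullback (P := @IsProper) hsq ‹_›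
  have hps : Surjective (G ◁ f).left := MorphismProperty.of_isPullback (P := @Surjective) hsq ‹_›
  tfae_have 1 → 2 := by
    rintro ⟨b, hb⟩ T g x₁ x₂ h
    rw [← hb, ← Category.assoc, ← Category.assoc, lift_whiskerLeft, lift_whiskerLeft, h]
  tfae_have 2 → 3 := by
    intro h z z' hz
    obtain ⟨w, hw, hw'⟩ := Scheme.Pullback.exists_preimage_pullback (f := (G ◁ f).left) (g := (G ◁ f).left) z z' hz
    let P := pullback (G ◁ f).left (G ◁ f).left
    let T : Over (Spec (CommRingCat.of k)) := Over.mk (pullback.fst (G ◁ f).left (G ◁ f).left ≫ (G ⊗ X).hom)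
    let Z : T ⟶ G ⊗ X := Over.homMk (pullback.fst _ _) rfl
    let Z' : T ⟶ G ⊗ X := Over.homMk (pullback.snd (G ◁ f).left (G ◁ f).left) (by
      show _ ≫ (G ⊗ X).hom = _ ≫ (G ⊗ X).hom
      rw [← Over.w (G ◁ f), pullback.condition_assoc])
    have hZ : Z ≫ (G ◁ f) = Z' ≫ (G ◁ f) := Over.OverMorphism.ext pullback.condition
    have h1 : Z' ≫ fst G X = Z ≫ fst G X := by simpa using congrArg (· ≫ fst G Y) hZ.symm
    have h2 : (Z ≫ snd G X) ≫ f = (Z' ≫ snd G X) ≫ f := by simpa using congrArg (· ≫ snd G Y) hZ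
    have key := h T (Z ≫ fst G X) _ _ h2
    rw [lift_comp_fst_snd, ← h1, lift_comp_fst_snd] at key
    have := congr(($key).left w)
    simp only [Over.comp_left, Z, Z', Over.homMk_left, Scheme.Hom.comp_apply] at this
    rw [hw, hw'] at this
    rw [Over.comp_left, Scheme.Hom.comp_apply, Scheme.Hom.comp_apply]
    exact this
  tfae_have 3 → 1 := by
    intro h
    obtain ⟨v, hv⟩ := exists_factor_of_const (whisker_sameSections G f hf) hps.surj (a.act ≫ f).left h
    let v' : G ⊗ Y ⟶ Y := Over.homMk v (by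
      refine (whisker_sameSections G f hf).hom_ext hps.surj _ _ ?_
      rw [reassoc_of% hv, Over.w, Over.w])
    have hv' : (G ◁ f) ≫ v' = a.act ≫ f := Over.OverMorphism.ext hv
    have : LocallyOfFiniteType (G ⊗ G).hom := by
      have : LocallyOfFiniteType (fst G G).left := MorphismProperty.pullback_fst _ _ ‹_›
      rw [← Over.w (fst G G)]
      infer_instance
    have : LocallyOfFiniteType (𝟙_ (Over (Spec (CommRingCat.of k)))).hom :=
      inferInstanceAs (LocallyOfFiniteType (𝟙 (Spec (CommRingCat.of k))))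
    refine ⟨⟨v', ?_, ?_⟩, hv'⟩
    · refine whisker_hom_ext _ f hf _ _ ?_
      rw [whisker_exchange_assoc, hv', ← Category.assoc, a.one_act, leftUnitor_naturality]
    · refine whisker_hom_ext (G ⊗ G) f hf _ _ ?_
      rw [whisker_exchange_assoc, hv', ← Category.assoc, a.mul_act, associator_naturality_right_assoc,
        ← MonoidalCategory.whiskerLeft_comp_assoc, hv']
      simp only [MonoidalCategory.whiskerLeft_comp, Category.assoc, hv']
  tfae_finish

end Groth.Agent.AlgGrp79
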