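import Mathlib
import Groth.Prelude.Def_AlgGrp
import Groth.Prelude.Def_LieS
import Groth.Agent.AlgGrp79.Act
import Groth.Agent.S0558
import Groth.Agent.S1535
import Groth.Agent.S15593
import Groth.Agent.SGA3a.SmoothWeil

/-! A closed subgroup of a smooth connected group with the same Lie algebra which is smooth is everything. -/

set_option autoImplicit false
set_option backward.isDefEq.respectTransparency.types false
universe u v w

open CategoryTheory MonoidalCategory CartesianMonoidalCategory MonObj AlgebraicGeometry CategoryTheory.Limits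
open IsLocalRing

namespace Groth.Agent.AlgGrp79

section Ring
variable {k : Type u} [Field k]

/-- A surjection of regular local rings with rational residue field inducing a surjection of tangent spaces is
injective. -/
lemma spanFinrank_le_of_tangent_surjective {R S : Type u} [CommRing R] [IsLocalRing R] [IsNoetherianRing R] [CommRing S]
    [IsLocalRing S] [IsNoetherianRing S] [Algebra k R] (ρ : R →ₐ[k] k) (hρ : ∀ x, ρ x = 0 ↔ x ∈ maximalIdeal R)
    (φ : R →+* S) (hφ : Function.Surjective φ)
    (hfac : ∀ ψ : R →+* DualNumber k, (∀ x, (ψ x).fst = ρ x) → ψ.comp (algebraMap k R) = algebraMap k (DualNumber k) →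
      ∃ ψ' : S →+* DualNumber k, ψ = ψ'.comp φ) :
    (maximalIdeal R).spanFinrank ≤ (maximalIdeal S).spanFinrank := by
  classical
  have hloc : IsLocalHom φ := IsLocalHom.of_surjective φ hφ
  have hsub : RingHom.ker φ ≤ maximalIdeal R ^ 2 := by
    intro a ha
    by_contra hna
    have ham : a ∈ maximalIdeal R := le_maximalIdeal (RingHom.ker_ne_top φ) ha
    let W : Submodule k R := ((maximalIdeal R ^ 2).restrictScalars k) ⊔ Submodule.span k {1}
    have haW : a ∉ W := by
      intro h
      obtain ⟨y, hy, z, hz, hyz⟩ := Submodule.mem_sup.1 h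
      obtain ⟨c, rfl⟩ := Submodule.mem_span_singleton.1 hz
      have hy' : y ∈ maximalIdeal R := Ideal.pow_le_self two_ne_zero hy
      have : ρ a = c := by
        rw [← hyz, map_add, (hρ y).2 hy', zero_add, map_smul, map_one, smul_eq_mul, _root_.mul_one]
      rw [(hρ a).2 ham] at this
      exact hna (by rw [← hyz, ← this, zero_smul, add_zero]; exact hy)
    obtain ⟨lam, hla, hlW⟩ := Submodule.exists_dual_map_eq_bot_of_notMem haW inferInstance
    have hW0 : ∀ w ∈ W, lam w = 0 := fun w hw => by
      have : lam w ∈ W.map lam := ⟨w, hw, rfl⟩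
      rwa [hlW] at this
    have h1 : lam 1 = 0 := hW0 1 (Submodule.mem_sup_right (Submodule.subset_span rfl))
    have hdec : ∀ x : R, x - algebraMap k R (ρ x) ∈ maximalIdeal R := fun x => by
      rw [← hρ, map_sub, AlgHom.commutes]
      simp
    have hmul : ∀ x y : R, lam (x * y) = ρ x * lam y + ρ y * lam x := by
      intro x y
      have hsq : (x - algebraMap k R (ρ x)) * (y - algebraMap k R (ρ y)) ∈ maximalIdeal R ^ 2 := by
        rw [sq]; exact Ideal.mul_mem_mul (hdec x) (hdec y)
      have h0 := hW0 _ (Submodule.mem_sup_left (T := Submodule.span k {(1 : R)}) hsq)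
      have he : (x - algebraMap k R (ρ x)) * (y - algebraMap k R (ρ y)) =
          x * y - ρ x • y - ρ y • x + (ρ x * ρ y) • (1 : R) := by
        simp only [Algebra.smul_def, map_mul]; ring
      rw [he, map_add, map_sub, map_sub, map_smul, map_smul, map_smul, h1, smul_zero, add_zero] at h0
      simp only [smul_eq_mul] at h0
      linear_combination h0
    let ψ : R →+* DualNumber k :=
      { toFun := fun x => TrivSqZeroExt.inl (ρ x) + TrivSqZeroExt.inr (lam x)
        map_one' := by ext <;> simp [h1]
        map_mul' := fun x y => by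
          ext
          · simp
          · simp [hmul, mul_comm]
        map_zero' := by ext <;> simp
        map_add' := fun x y => by ext <;> simp }
    obtain ⟨ψ', hψ'⟩ := hfac ψ (fun x => by simp [ψ]) (by
      ext c
      · simp [ψ, TrivSqZeroExt.algebraMap_eq_inl']
      · show _ = (algebraMap k (DualNumber k) c).snd
        have : lam (algebraMap k R c) = 0 := by
          rw [Algebra.algebraMap_eq_smul_one, map_smul, h1, smul_zero]
        simp [ψ, TrivSqZeroExt.algebraMap_eq_inl', this])
    have h2 := congrArg (fun f : R →+* DualNumber k => (f a).snd) hψ'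
    simp only [RingHom.comp_apply, RingHom.mem_ker.1 ha, map_zero] at h2
    exact hla (by simpa [ψ] using h2)
  have hfg : (maximalIdeal S).FG := IsNoetherian.noetherian _
  obtain ⟨g, hgfin, hg⟩ : ∃ g : Finset S, g.card = (maximalIdeal S).spanFinrank ∧ Ideal.span (g : Set S) = maximalIdeal S := by
    obtain ⟨f, hf⟩ := Submodule.FG.exists_span_set_encard_eq_spanFinrank hfg
    have hfin : f.Finite := Set.finite_of_encard_eq_coe hf.1
    refine ⟨hfin.toFinset, ?_, by rw [Set.Finite.coe_toFinset]; exact hf.2⟩
    have := hf.1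
    rw [hfin.encard_eq_coe_toFinset_card] at this
    exact_mod_cast this
  choose sec hsec using hφ
  let g' : Finset R := g.image sec
  have hmap : ∀ x ∈ maximalIdeal R, φ x ∈ (Ideal.span (g' : Set R)).map φ := by
    intro x hx
    rw [Ideal.map_span]
    have : φ '' (g' : Set R) = (g : Set S) := by
      simp only [g', Finset.coe_image, Set.image_image, hsec, Set.image_id']
    rw [this, hg]
    exact map_nonunit φ x hx
  have hsup : maximalIdeal R ≤ Ideal.span (g' : Set R) ⊔ maximalIdeal R • maximalIdeal R := by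
    intro x hx
    obtain ⟨y, hy, hxy⟩ := (Ideal.mem_map_iff_of_surjective φ (fun s => ⟨sec s, hsec s⟩)).1 (hmap x hx)
    have : x - y ∈ RingHom.ker φ := by rw [RingHom.mem_ker, map_sub, hxy, sub_self]
    have h2 := hsub this
    rw [sq] at h2
    exact Submodule.mem_sup.2 ⟨y, hy, x - y, h2, by ring⟩
  have hspan : Ideal.span (g' : Set R) = maximalIdeal R := by
    refine le_antisymm (Ideal.span_le.2 ?_) ?_
    · intro x hx
      simp only [g', Finset.coe_image] at hx
      obtain ⟨s, hs, rfl⟩ := hx
      have : s ∈ maximalIdeal S := hg.le (Ideal.subset_span hs)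
      rw [← hsec s] at this
      exact fun hu => this (hu.map φ)
    · exact Submodule.le_of_le_smul_of_le_jacobson_bot (IsNoetherian.noetherian _)
        (IsLocalRing.jacobson_eq_maximalIdeal _ bot_ne_top).ge hsup
  rw [← hspan, ← hgfin]
  exact (Submodule.spanFinrank_span_le_ncard_of_finite g'.finite_toSet).trans
    ((Set.ncard_coe_finset g').le.trans Finset.card_image_le)

/-- The target being regular, so is the source. -/
lemma isRegularLocalRing_of_tangent_surjective {R S : Type u} [CommRing R] [IsLocalRing R] [IsNoetherianRing R] [CommRing S]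
    [IsRegularLocalRing S] [Algebra k R] (ρ : R →ₐ[k] k) (hρ : ∀ x, ρ x = 0 ↔ x ∈ maximalIdeal R)
    (φ : R →+* S) (hφ : Function.Surjective φ)
    (hfac : ∀ ψ : R →+* DualNumber k, (∀ x, (ψ x).fst = ρ x) → ψ.comp (algebraMap k R) = algebraMap k (DualNumber k) →
      ∃ ψ' : S →+* DualNumber k, ψ = ψ'.comp φ) : IsRegularLocalRing R :=
  IsRegularLocalRing.of_spanFinrank_maximalIdeal_le R
    ((Nat.cast_le.2 (spanFinrank_le_of_tangent_surjective ρ hρ φ hφ hfac)).trans
      ((IsRegularLocalRing.spanFinrank_maximalIdeal (R := S)).le.trans (ringKrullDim_le_of_surjective φ hφ)))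

lemma injective_of_tangent_surjective {R S : Type u} [CommRing R] [IsRegularLocalRing R] [CommRing S]
    [IsRegularLocalRing S] [Algebra k R] (ρ : R →ₐ[k] k) (hρ : ∀ x, ρ x = 0 ↔ x ∈ maximalIdeal R)
    (φ : R →+* S) (hφ : Function.Surjective φ)
    (hfac : ∀ ψ : R →+* DualNumber k, (∀ x, (ψ x).fst = ρ x) → ψ.comp (algebraMap k R) = algebraMap k (DualNumber k) →
      ∃ ψ' : S →+* DualNumber k, ψ = ψ'.comp φ) : Function.Injective φ := by
  have : IsDomain R := Groth.Agent.S0558.result R
  have hle := spanFinrank_le_of_tangent_surjective ρ hρ φ hφ hfac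
  by_contra hinj
  obtain ⟨r, hr, hr0⟩ : ∃ r, φ r = 0 ∧ r ≠ 0 := by
    rw [injective_iff_map_eq_zero] at hinj
    push_neg at hinj
    exact hinj
  have h1 := ringKrullDim_succ_le_of_surjective φ hφ (mem_nonZeroDivisors_of_ne_zero hr0) hr
  rw [← IsRegularLocalRing.spanFinrank_maximalIdeal (R := S), ← IsRegularLocalRing.spanFinrank_maximalIdeal (R := R)] at h1
  have h2 : ((maximalIdeal S).spanFinrank + 1 : ℕ) ≤ (maximalIdeal R).spanFinrank := by exact_mod_cast h1
  omega

end Ring

section Scheme
variable {k : Type u} [Field k]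

lemma exists_stalk_fac {X : Scheme.{u}} {R : CommRingCat.{u}} [IsLocalRing R] (f : Spec R ⟶ X) (x : X)
    (hx : f (closedPoint R) = x) : ∃ ψ : X.presheaf.stalk x ⟶ R, Spec.map ψ ≫ X.fromSpecStalk x = f := by
  subst hx
  exact ⟨Scheme.stalkClosedPointTo f, Scheme.Spec_stalkClosedPointTo_fromSpecStalk f⟩

lemma specMap_dual_closedPoint (ψ : DualNumber k →+* k) (c : PrimeSpectrum k) :
    Spec.map (CommRingCat.ofHom ψ) c = closedPoint (DualNumber k) := by
  have : Subsingleton (PrimeSpectrum (DualNumber k)) := by
    refine ⟨fun p q => ?_⟩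
    have h : ∀ p : PrimeSpectrum (DualNumber k), p.asIdeal = maximalIdeal (DualNumber k) := by
      intro p
      refine le_antisymm (le_maximalIdeal p.2.ne_top) fun x hx => ?_
      have : x * x = 0 := by
        have h0 : x.fst = 0 := by
          by_contra h
          exact hx (TrivSqZeroExt.isUnit_iff_isUnit_fst.2 (Ne.isUnit h))
        ext <;> simp [h0]
      have h2 : x * x ∈ p.asIdeal := by rw [this]; exact p.asIdeal.zero_mem
      exact (p.2.mem_or_mem h2).elim id id
    exact PrimeSpectrum.ext ((h p).trans (h q).symm)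
  exact Subsingleton.elim (α := PrimeSpectrum (DualNumber k)) _ _

lemma regular_and_injective_of_lie_surjective {P H : Over (Spec (CommRingCat.of k))} [GrpObj P] [GrpObj H]
    [Smooth P.hom] [LocallyOfFiniteType H.hom] (p : P ⟶ H) [IsMonHom p] [IsClosedImmersion p.left]
    (hL : Function.Surjective (LieS.map k (𝟙 (Spec (CommRingCat.of k))) p)) :
    IsRegularLocalRing (H.left.presheaf.stalk (p.left (η[P].left (closedPoint k)))) ∧
      Function.Injective (p.left.stalkMap (η[P].left (closedPoint k))).hom := by
  let eP : P.left := η[P].left (closedPoint k)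
  let R := H.left.presheaf.stalk (p.left eP)
  let St := P.left.presheaf.stalk eP
  let : P.left.Over (Spec (CommRingCat.of k)) := ⟨P.hom⟩
  have : Smooth (P.left ↘ Spec (CommRingCat.of k)) := ‹Smooth P.hom›
  have : IsLocallyNoetherian H.left := LocallyOfFiniteType.isLocallyNoetherian H.hom
  have : IsRegularLocalRing St := Groth.Agent.S1535.result k P.left _
  obtain ⟨ι', hι⟩ : ∃ ι', Spec.map ι' = H.left.fromSpecStalk (p.left eP) ≫ H.hom :=
    ⟨Spec.preimage _, Spec.map_preimage _⟩
  let : Algebra k R := ι'.hom.toAlgebra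
  have heH : η[H].left (closedPoint k) = p.left eP := by
    rw [← Scheme.Hom.comp_apply, ← Over.comp_left, IsMonHom.one_hom]
  obtain ⟨r, hr⟩ := exists_stalk_fac (X := H.left) (R := CommRingCat.of k) η[H].left _ heH
  have hιr : ι' ≫ r = 𝟙 _ := by
    apply Spec.map_injective
    rw [Spec.map_comp, hι, ← Category.assoc, hr, Over.w η[H], Spec.map_id]
    rfl
  let ρ : R →ₐ[k] k := { r.hom with commutes' := fun c => RingHom.congr_fun (congrArg CommRingCat.Hom.hom hιr) c }
  have hρs : Function.Surjective ρ := fun c => ⟨algebraMap k R c, by simp⟩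
  have hρm : ∀ x, ρ x = 0 ↔ x ∈ maximalIdeal R := fun x => by
    rw [← IsLocalRing.ker_eq_maximalIdeal ρ.toRingHom hρs]
    exact Iff.rfl
  suffices hfac : ∀ ψ : R →+* DualNumber k, (∀ x, (ψ x).fst = ρ x) → ψ.comp (algebraMap k R) = algebraMap k (DualNumber k) →
      ∃ ψ' : St →+* DualNumber k, ψ = ψ'.comp (p.left.stalkMap eP).hom by
    have hreg := isRegularLocalRing_of_tangent_surjective ρ hρm (p.left.stalkMap eP).hom (p.left.stalkMap_surjective eP) hfac
    exact ⟨hreg, injective_of_tangent_surjective ρ hρm (p.left.stalkMap eP).hom (p.left.stalkMap_surjective eP) hfac⟩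
  intro ψ hψ hψk
  have hw : (Spec.map (CommRingCat.ofHom ψ) ≫ H.left.fromSpecStalk (p.left eP)) ≫ H.hom =
      Spec.map (CommRingCat.ofHom (algebraMap k (DualNumber k))) ≫ 𝟙 (Spec (CommRingCat.of k)) := by
    rw [Category.assoc, ← hι, ← Spec.map_comp, Category.comp_id]
    congr 1
    exact CommRingCat.hom_ext hψk
  let v : LieS.dpt k (𝟙 (Spec (CommRingCat.of k))) ⟶ H := Over.homMk _ hw
  have hv : v ∈ LieS.Lie H k (𝟙 (Spec (CommRingCat.of k))) := by
    rw [LieS.mem_Lie_iff, one_def']
    apply Over.OverMorphism.ext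
    show Spec.map _ ≫ Spec.map _ ≫ H.left.fromSpecStalk _ = (toUnit (LieS.pt k (𝟙 _))).left ≫ η[H].left
    have hid : (toUnit (LieS.pt k (𝟙 (Spec (CommRingCat.of k))))).left = 𝟙 (Spec (CommRingCat.of k)) := rfl
    rw [← Category.assoc, ← Spec.map_comp, ← hr, hid]
    erw [Category.id_comp]
    congr 2
    ext x
    exact hψ x
  obtain ⟨w, hw2⟩ := hL ⟨v, hv⟩
  have hwv : w.1 ≫ p = v := congrArg Subtype.val hw2
  have hwp : w.1.left (closedPoint (DualNumber k)) = eP := by
    have h1 := (LieS.mem_Lie_iff P k (𝟙 (Spec (CommRingCat.of k))) w.1).1 w.2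
    rw [one_def'] at h1
    have h2 := congrArg (fun f => f.left (closedPoint k)) h1
    simp only [Over.comp_left, Scheme.Hom.comp_apply] at h2
    rw [← specMap_dual_closedPoint (TrivSqZeroExt.fstHom k k k).toRingHom (closedPoint k)]
    exact h2.trans (congrArg _ (Subsingleton.elim (α := PrimeSpectrum k) _ _))
  obtain ⟨ψ', hψ'⟩ := exists_stalk_fac (X := P.left) (R := CommRingCat.of (DualNumber k)) w.1.left eP hwp
  refine ⟨ψ'.hom, ?_⟩
  have h3 : Spec.map (p.left.stalkMap eP ≫ ψ') = Spec.map (CommRingCat.ofHom ψ) := by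
    rw [← cancel_mono (H.left.fromSpecStalk (p.left eP)), Spec.map_comp, Category.assoc,
      Scheme.SpecMap_stalkMap_fromSpecStalk, ← Category.assoc, hψ']
    exact congrArg CommaMorphism.left hwv
  exact (congrArg CommRingCat.Hom.hom (Spec.map_injective h3)).symm

theorem isIso_of_lie_surjective {P H : Over (Spec (CommRingCat.of k))} [GrpObj P] [GrpObj H]
    [Smooth P.hom] [QuasiCompact P.hom] [Smooth H.hom] [QuasiCompact H.hom] [ConnectedSpace H.left]
    (p : P ⟶ H) [IsMonHom p] [IsClosedImmersion p.left]
    (hL : Function.Surjective (LieS.map k (𝟙 (Spec (CommRingCat.of k))) p)) : IsIso p := by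
  have : IrreducibleSpace H.left := SGA3a.irreducibleSpace_of_smooth_connected H.hom
  have : Mono p := Over.mono_of_mono_left p
  let eP : P.left := η[P].left (closedPoint k)
  have hbij : Function.Bijective (p.left.stalkMap eP).hom :=
    ⟨(regular_and_injective_of_lie_surjective p hL).2, p.left.stalkMap_surjective eP⟩
  have hsurj : Surjective p.left := by
    have hge : genericPoint H.left ∈ Set.range (H.left.fromSpecStalk (p.left eP)) := by
      rw [Scheme.range_fromSpecStalk]
      exact (genericPoint_spec H.left).specializes trivial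
    obtain ⟨q, hq⟩ := hge
    have hiso : IsIso (p.left.stalkMap eP) := (ConcreteCategory.isIso_iff_bijective _).2 hbij
    obtain ⟨q', hq'⟩ : ∃ q', Spec.map (p.left.stalkMap eP) q' = q := (Spec.map (p.left.stalkMap eP)).homeomorph.surjective q
    have hmem : genericPoint H.left ∈ Set.range p.left := by
      refine ⟨P.left.fromSpecStalk eP q', ?_⟩
      rw [← hq, ← hq', ← Scheme.Hom.comp_apply, ← Scheme.Hom.comp_apply, Scheme.SpecMap_stalkMap_fromSpecStalk]
    refine ⟨fun x => ?_⟩
    exact p.left.isClosedEmbedding.isClosed_range.closure_subset_iff.2 (Set.singleton_subset_iff.2 hmem)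
      (specializes_iff_mem_closure.1 ((genericPoint_spec H.left).specializes trivial))
  exact Groth.Agent.S15593.result k P H p

end Scheme

end Groth.Agent.AlgGrp79
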