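import Groth.Agent.AlgGrp79.TorsionDetect
import Groth.Agent.AlgGrp79.LieCrit
import Groth.Agent.AlgGrp79.ReducedUnit
import Groth.Agent.AlgGrp79.CentTorus
import Groth.Agent.AlgGrp79.BorelDesc
import Groth.Agent.RedPts82.SmoothTransporter
import Groth.Agent.S8357
import Groth.Agent.S5260

/-!
A Borel subgroup is its own normalizer as a scheme.
-/

set_option autoImplicit false
set_option linter.unusedSectionVars false
set_option backward.isDefEq.respectTransparency.types false

universe u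

open CategoryTheory MonoidalCategory CartesianMonoidalCategory MonObj GrpObj AlgebraicGeometry
open scoped TensorProduct

noncomputable section

namespace Groth.Agent.AlgGrp79.BorelNormalizer

variable {k : Type u} [Field k] [IsAlgClosed k]

local notation "pk" => 𝟙_ (Over (Spec (CommRingCat.of k)))
local notation "bS" => 𝟙 (Spec (CommRingCat.of k))

/-- The two presentations of the dual numbers over the base. -/
def dptIso : VecGrp.pt k (DualNumber k) ≅ LieS.dpt k bS :=
  Over.isoMk (Iso.refl _) (by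
    show 𝟙 _ ≫ Spec.map _ ≫ 𝟙 _ = Spec.map _
    rw [Category.id_comp, Category.comp_id])

theorem smul_smul_lie {G : Over (Spec (CommRingCat.of k))} [GrpObj G] (b c : k) (v : LieS.Lie G k bS) :
    (b * c) • v = b • c • v := by
  refine Subtype.ext ?_
  rw [LieS.smul_val, LieS.smul_val, LieS.smul_val, ← Category.assoc, LieS93.scale_eq, LieS93.scale_eq, LieS93.scale_eq]
  congr 1
  refine Eq.trans ?_ (LieS93.sm_comp _ _ _).symm
  congr 1
  ext
  simp [mul_comm]

/-- Tangent vectors normalising a subgroup containing a Borel subgroup are tangent to it. -/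
theorem dual_mem_of_le (G : Over (Spec (CommRingCat.of k))) [GrpObj G] [IsAffine G.left] [Smooth G.hom] [ConnectedSpace G.left]
    {B P : Over (Spec (CommRingCat.of k))} [GrpObj B] [GrpObj P] (iB : B ⟶ G) (hB : Red.IsBorelOver k iB) (iP : P ⟶ G)
    [IsMonHom iP] [Mono iP] (e : B ⟶ P) (he : e ≫ iP = iB) (v : LieS.Lie G k bS)
    (hnorm : ∀ (X' : Over (Spec (CommRingCat.of k))) (x : X' ⟶ LieS.dpt k bS) (h : X' ⟶ P),
      ∃ h' : X' ⟶ P, (x ≫ v.1) * (h ≫ iP) * (x ≫ v.1)⁻¹ = h' ≫ iP) :
    ∃ w : LieS.Lie P k bS, LieS.map k bS iP w = v := by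
  classical
  obtain ⟨_, _, _, _, -⟩ := id hB
  haveI : Mono iB := Over.mono_of_mono_left iB
  obtain ⟨T, _, iT, t, ht, hmax, -⟩ := BorelTorus.main G iB hB
  obtain ⟨_, _, hT, -⟩ := id hmax
  obtain ⟨_, _, _, _, _⟩ := AlgGrp33.IsogSub.torus_props hT
  obtain ⟨ℓ, N, hℓp, hℓ, hfin, hdet⟩ := TorsionDetect.exists_detect iT hT
  letI : CommGroup (LieS.Lie G k bS) :=
    { (inferInstance : Group (LieS.Lie G k bS)) with mul_comm := LieS93.lie_mul_comm (f := bS) }
  let S : Subgroup (LieS.Lie G k bS) := (LieS.map k bS iP).range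
  have hS : ∀ (x : LieS.Lie G k bS) (d : LieS.dpt k bS ⟶ P), d ≫ iP = x.1 → x ∈ S := fun x d hd => by
    refine ⟨⟨d, ?_⟩, Subtype.ext hd⟩
    rw [LieS.mem_Lie_iff, ← cancel_mono iP, Category.assoc, hd, MonObj.one_comp]
    exact (LieS.mem_Lie_iff _ _ _ _).1 x.2
  let F : Subgroup (pk ⟶ T) :=
    { carrier := {s | s ^ (ℓ ^ N) = 1}
      one_mem' := one_pow _
      mul_mem' := fun {a b} ha hb => by
        show (a * b) ^ (ℓ ^ N) = 1
        rw [(show Commute a b from mul_comm a b).mul_pow, show a ^ (ℓ ^ N) = 1 from ha, show b ^ (ℓ ^ N) = 1 from hb,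
          _root_.one_mul]
      inv_mem' := fun {a} ha => by
        show a⁻¹ ^ (ℓ ^ N) = 1
        rw [inv_pow, show a ^ (ℓ ^ N) = 1 from ha, inv_one] }
  haveI : Finite F := hfin.to_subtype
  haveI : Fintype F := Fintype.ofFinite F
  let c : (pk ⟶ T) → (LieS.dpt k bS ⟶ G) := fun s => LieS.proj k bS ≫ s ≫ iT
  let ad : (pk ⟶ T) → LieS.Lie G k bS →* LieS.Lie G k bS := fun s => LieS.Ad G k bS (s ≫ iT)
  have hval : ∀ s x, (ad s x).1 = c s * x.1 * (c s)⁻¹ := fun s x => rfl
  have hcmul : ∀ r s, c (r * s) = c r * c s := fun r s => by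
    show LieS.proj k bS ≫ (r * s) ≫ iT = _
    rw [MonObj.mul_comp _ _ iT, MonObj.comp_mul]
  have hadmul : ∀ r s x, ad (r * s) x = ad r (ad s x) := fun r s x => Subtype.ext (by
    rw [hval, hval, hval, hcmul]; group)
  let Y : LieS.Lie G k bS := ∏ s : F, ad s.1 v
  have hYfix : ∀ r : F, ad r.1 Y = Y := fun r => by
    show ad r.1 (∏ s : F, ad s.1 v) = ∏ s : F, ad s.1 v
    rw [map_prod]
    refine Fintype.prod_equiv (Equiv.mulLeft r) _ _ fun s => ?_
    rw [← hadmul]
    rfl
  have hYS : Y ∈ S := by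
    obtain ⟨C, _, z, hz, hzcl, hCsm⟩ :=
      (Groth.Agent.S3006.result _ G T iT (QuotSub.isClosedImmersion_of_mono iT) hT).1
    haveI := hzcl
    haveI := hCsm
    haveI : IsReduced C.left := isReduced_of_smooth C.hom
    obtain ⟨φ, hφ⟩ := exists_lift_of_range_subset iB z
      (range_subset_of_pts _ iB.left.isClosedEmbedding.isClosed_range fun q => by
        obtain ⟨b, hb⟩ := BorelTori.cent_mem hB hmax t ht (q ≫ z) fun s => by
          have := (hz.2.2 _ _).1 ⟨q, rfl⟩ _ (𝟙 _) s
          rwa [Category.id_comp] at this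
        rw [← hb, Over.comp_left]
        exact ⟨_, rfl⟩)
    have hcomm := hdet (DualNumber k) (dptIso.hom ≫ Y.1) fun s hs => by
      have h := congrArg Subtype.val (hYfix ⟨s, hs⟩)
      rw [hval, mul_inv_eq_iff_eq_mul] at h
      have hcs : toUnit (VecGrp.pt k (DualNumber k)) ≫ s ≫ iT = dptIso.hom ≫ c s := by
        show _ = dptIso.hom ≫ LieS.proj k bS ≫ s ≫ iT
        rw [← Category.assoc dptIso.hom, toUnit_unique (dptIso.hom ≫ LieS.proj k bS : _ ⟶ pk) (toUnit _)]
      rw [hcs, ← MonObj.comp_mul, ← MonObj.comp_mul, h]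
    obtain ⟨y, hy⟩ := (hz.2.2 _ Y.1).2 fun X' x h => by
      have := hcomm X' (x ≫ dptIso.inv) h
      rwa [Category.assoc, Iso.inv_hom_id_assoc] at this
    exact hS Y (y ≫ φ ≫ e) (by rw [Category.assoc, Category.assoc, he, hφ, hy])
  have hdiff : ∀ s : F, ad s.1 v * v⁻¹ ∈ S := fun s => by
    obtain ⟨h', hh'⟩ := hnorm _ (𝟙 _) (LieS.proj k bS ≫ s.1 ≫ t ≫ e)⁻¹
    rw [Category.id_comp, GrpObj.inv_comp, Category.assoc, Category.assoc, Category.assoc, he, ht] at hh'
    refine hS _ ((LieS.proj k bS ≫ s.1 ≫ t ≫ e) * h') ?_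
    rw [MonObj.mul_comp _ _ iP, ← hh', Category.assoc, Category.assoc, Category.assoc, he, ht]
    show c s.1 * (v.1 * (c s.1)⁻¹ * v.1⁻¹) = (ad s.1 v).1 * v.1⁻¹
    rw [hval]
    group
  have hpow : v ^ Fintype.card F ∈ S := by
    have h1 : Y = (∏ s : F, (ad s.1 v * v⁻¹)) * v ^ Fintype.card F := by
      rw [Fintype.card, ← Finset.prod_const, ← Finset.prod_mul_distrib]
      exact Finset.prod_congr rfl fun s _ => (inv_mul_cancel_right _ _).symm
    rw [eq_inv_mul_of_mul_eq h1.symm]
    exact mul_mem (inv_mem (prod_mem fun s _ => hdiff s)) hYS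
  have hm : ((Fintype.card F : ℕ) : k) ≠ 0 := by
    haveI := Fact.mk hℓp
    obtain ⟨a, ha⟩ := IsPGroup.iff_card.1 (fun s : F => ⟨N, Subtype.ext (by rw [SubmonoidClass.coe_pow]; exact s.2)⟩ : IsPGroup ℓ F)
    rw [← Nat.card_eq_fintype_card, ha, Nat.cast_pow]
    exact pow_ne_zero a hℓ
  obtain ⟨w, hw⟩ := hpow
  refine ⟨((Fintype.card F : k)⁻¹) • w, Subtype.ext ?_⟩
  have h2 : v ^ Fintype.card F = (Fintype.card F : k) • v := by
    have := Groth.Agent.S8357.result (Spec (CommRingCat.of k)) G k bS v (Fintype.card F : ℤ)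
    rwa [zpow_natCast, Int.cast_natCast] at this
  show (LieS.scale k bS _ ≫ w.1) ≫ iP = v.1
  rw [Category.assoc, show w.1 ≫ iP = ((Fintype.card F : k) • v).1 from (congrArg Subtype.val hw).trans (congrArg Subtype.val h2)]
  show (((Fintype.card F : k)⁻¹) • ((Fintype.card F : k) • v)).1 = v.1
  rw [← smul_smul_lie, inv_mul_cancel₀ hm, LieS93.one_smul']

/-- Tangent vectors normalising a Borel subgroup are tangent to it. -/
theorem dual_mem (G : Over (Spec (CommRingCat.of k))) [GrpObj G] [IsAffine G.left] [Smooth G.hom] [ConnectedSpace G.left]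
    {B : Over (Spec (CommRingCat.of k))} [GrpObj B] (iB : B ⟶ G) [IsMonHom iB] (hB : Red.IsBorelOver k iB)
    (v : LieS.Lie G k bS)
    (hnorm : ∀ (X' : Over (Spec (CommRingCat.of k))) (x : X' ⟶ LieS.dpt k bS) (h : X' ⟶ B),
      ∃ h' : X' ⟶ B, (x ≫ v.1) * (h ≫ iB) * (x ≫ v.1)⁻¹ = h' ≫ iB) :
    ∃ w : LieS.Lie B k bS, LieS.map k bS iB w = v := by
  obtain ⟨_, _, _, _, -⟩ := id hB
  haveI : Mono iB := Over.mono_of_mono_left iB
  exact dual_mem_of_le G iB hB iB (𝟙 B) (Category.id_comp iB) v hnorm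

end Groth.Agent.AlgGrp79.BorelNormalizer

namespace Groth.Agent.AlgGrp79.BorelNormalizer

variable {k : Type u} [Field k] [IsAlgClosed k]

local notation "pk" => 𝟙_ (Over (Spec (CommRingCat.of k)))
local notation "bS" => 𝟙 (Spec (CommRingCat.of k))

/-- Over an algebraically closed field the normalizer of a Borel subgroup is the Borel subgroup. -/
theorem exists_factor (G : Over (Spec (CommRingCat.of k))) [GrpObj G] [IsAffine G.left] [Smooth G.hom]
    [ConnectedSpace G.left] {B : Over (Spec (CommRingCat.of k))} [GrpObj B] (iB : B ⟶ G)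
    (hB : Red.IsBorelOver k iB) (X : Over (Spec (CommRingCat.of k))) (g : X ⟶ G)
    (hg : ∀ (X' : Over (Spec (CommRingCat.of k))) (x : X' ⟶ X) (h : X' ⟶ B),
      (∃ h' : X' ⟶ B, (x ≫ g) * (h ≫ iB) * (x ≫ g)⁻¹ = h' ≫ iB) ∧
      (∃ h' : X' ⟶ B, (x ≫ g)⁻¹ * (h ≫ iB) * (x ≫ g) = h' ≫ iB)) :
    ∃ b : X ⟶ B, b ≫ iB = g := by
  obtain ⟨_, _, _, _, -⟩ := id hB
  haveI : IsAffine B.left := isAffine_of_isAffineHom iB.left
  haveI : Mono iB := Over.mono_of_mono_left iB
  haveI : IsReduced B.left := isReduced_of_smooth B.hom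
  haveI : QuasiCompact B.hom := inferInstance
  haveI : QuasiSeparated B.hom := inferInstance
  haveI : QuasiSeparated G.hom := inferInstance
  obtain ⟨N, _, n, hN, hncl, -⟩ := Groth.Agent.S5260.result G B (fun s => by
    haveI : ConnectedSpace B.left := ‹_›
    exact BorelDesc.connectedSpace_bc (G := B) (L := (Spec (CommRingCat.of k)).residueField s)
      ((Spec (CommRingCat.of k)).fromSpecResidueField s)) iB
  obtain ⟨_, _, hNiff⟩ := hN
  haveI := hncl
  obtain ⟨p, hp⟩ := (hNiff B iB).2 fun X' x h => ⟨⟨x * h * x⁻¹, by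
    simp only [MonObj.mul_comp, GrpObj.inv_comp]⟩, ⟨x⁻¹ * h * x, by simp only [MonObj.mul_comp, GrpObj.inv_comp]⟩⟩
  haveI : IsMonHom p := AlgGrp79.isMonHom_of_forall _ fun X s t => by
    rw [← cancel_mono n, MonObj.mul_comp _ _ n, Category.assoc, Category.assoc, Category.assoc, hp, MonObj.mul_comp]
  haveI : IsClosedImmersion p.left := by
    haveI : IsClosedImmersion (p.left ≫ n.left) := by rw [← Over.comp_left, hp]; infer_instance
    exact IsClosedImmersion.of_comp p.left n.left
  haveI : LocallyOfFiniteType N.hom := by rw [← Over.w n]; infer_instance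
  have hL : Function.Surjective (LieS.map k bS p) := fun v => by
    obtain ⟨w, hw⟩ := dual_mem G iB hB (LieS.map k bS n v) fun X' x h => by
      obtain ⟨h', hh'⟩ := ((hNiff _ (v.1 ≫ n)).1 ⟨v.1, rfl⟩ X' x h).1
      exact ⟨h', hh'⟩
    refine ⟨w, Subtype.ext ((cancel_mono n).1 ?_)⟩
    show (w.1 ≫ p) ≫ n = v.1 ≫ n
    rw [Category.assoc, hp]
    exact congrArg Subtype.val hw
  haveI : IsReduced N.left := by
    have h := (regular_and_injective_of_lie_surjective p hL).1
    haveI := h
    haveI := Groth.Agent.S0558.result (N.left.presheaf.stalk (p.left (η[B].left (IsLocalRing.closedPoint k))))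
    have he : η[N].left (IsLocalRing.closedPoint k) = p.left (η[B].left (IsLocalRing.closedPoint k)) := by
      rw [← Scheme.Hom.comp_apply, ← Over.comp_left, IsMonHom.one_hom]
    exact isReduced_of_stalk_unit N (IsLocalRing.closedPoint k) (by
      show _root_.IsReduced (N.left.presheaf.stalk (η[N].left (IsLocalRing.closedPoint k)))
      rw [he]
      infer_instance)
  obtain ⟨d, hd⟩ := BorelTori.exists_dim G
  obtain ⟨q, hq⟩ := exists_lift_of_range_subset p (𝟙 N)
    (range_subset_of_pts _ p.left.isClosedEmbedding.isClosed_range fun z => by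
      obtain ⟨b, hb⟩ := NormBorel.mem_of_normalizes d G hd iB hB (z ≫ n) fun b => by
        have := ((hNiff _ (z ≫ n)).1 ⟨z, rfl⟩ _ (𝟙 _) b).1
        simpa only [Category.id_comp] using this
      have : b ≫ p = z := by rw [← cancel_mono n, Category.assoc, hp, hb]
      rw [Category.comp_id, ← this, Over.comp_left]
      exact ⟨_, rfl⟩)
  obtain ⟨z, hz⟩ := (hNiff X g).2 hg
  exact ⟨z ≫ q, by rw [← hp, Category.assoc, ← Category.assoc q, hq, Category.id_comp, hz]⟩

end Groth.Agent.AlgGrp79.BorelNormalizer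

namespace Groth.Agent.AlgGrp79.BorelNormalizer

variable {k : Type u} [Field k]

/-- A Borel subgroup is its own normalizer, over any field. -/
theorem isNormalizerOf_self (G : Over (Spec (CommRingCat.of k))) [GrpObj G] [IsAffine G.left] [Smooth G.hom]
    [ConnectedSpace G.left] {B : Over (Spec (CommRingCat.of k))} [GrpObj B] (iB : B ⟶ G) (hB : Red.IsBorel iB) :
    Red.IsNormalizerOf iB iB := by
  obtain ⟨_, _, _, hgeo⟩ := hB
  haveI : Mono iB := Over.mono_of_mono_left iB
  refine ⟨inferInstance, inferInstance, fun X g => ⟨?_, fun hg => ?_⟩⟩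
  · rintro ⟨z, rfl⟩ X' x h
    exact ⟨⟨(x ≫ z) * h * (x ≫ z)⁻¹, by simp only [MonObj.mul_comp, GrpObj.inv_comp, Category.assoc]⟩,
      ⟨(x ≫ z)⁻¹ * h * (x ≫ z), by simp only [MonObj.mul_comp, GrpObj.inv_comp, Category.assoc]⟩⟩
  let s : Spec (CommRingCat.of k) := IsLocalRing.closedPoint k
  let f := Red.geomPt s
  haveI : Surjective f := ⟨fun y => ⟨IsLocalRing.closedPoint _, Subsingleton.elim (α := PrimeSpectrum k) _ _⟩⟩
  haveI : Flat f := by
    obtain ⟨φ, hφ⟩ := Spec.map_surjective f
    rw [← hφ, HasRingHomProperty.Spec_iff (P := @Flat)]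
    letI := φ.hom.toAlgebra
    exact RingHom.flat_algebraMap_iff.2 (inferInstance : Module.Flat k _)
  haveI : IsAffine (Red.bc f G).left := inferInstanceAs (IsAffine (Limits.pullback G.hom f))
  haveI : Smooth (Red.bc f G).hom := inferInstanceAs (Smooth (Limits.pullback.snd G.hom f))
  haveI := BorelDesc.connectedSpace_bc (G := G) f
  haveI := (hgeo s).1
  obtain ⟨b, hb⟩ := exists_factor (Red.bc f G) ((Over.pullback f).map iB) (hgeo s) (Red.bc f X)
    ((Over.pullback f).map g) fun X' x h => by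
      obtain ⟨⟨h₁, e₁⟩, ⟨h₂, e₂⟩⟩ := hg _ (RedPts82.toBase f x) (RedPts82.toBase f h)
      refine ⟨⟨RedPts82.ofBase f h₁, RedPts82.toBase_injective f ?_⟩, ⟨RedPts82.ofBase f h₂, RedPts82.toBase_injective f ?_⟩⟩
      · simp only [RedPts82.toBase_mul, RedPts82.toBase_inv, RedPts82.toBase_comp_map, RedPts82.toBase_ofBase]
        exact e₁
      · simp only [RedPts82.toBase_mul, RedPts82.toBase_inv, RedPts82.toBase_comp_map, RedPts82.toBase_ofBase]
        exact e₂
  let P := Limits.pullback g.left iB.left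
  let c : P ⟶ X.left := Limits.pullback.fst g.left iB.left
  let π : Limits.pullback X.hom f ⟶ X.left := Limits.pullback.fst X.hom f
  haveI : Flat π := MorphismProperty.pullback_fst _ _ inferInstance
  haveI : Surjective π := MorphismProperty.pullback_fst _ _ inferInstance
  haveI : QuasiCompact π := MorphismProperty.pullback_fst _ _ inferInstance
  have hπ : b.left ≫ Limits.pullback.fst B.hom f ≫ iB.left = π ≫ g.left := by
    rw [(RedPts82.isPullback_bc_map iB f).w, ← Category.assoc, ← Over.comp_left, hb]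
    exact ((RedPts82.isPullback_bc_map g f).w).symm
  haveI : IsClosedImmersion c := MorphismProperty.pullback_fst (P := @IsClosedImmersion) _ _ inferInstance
  let l : Limits.pullback X.hom f ⟶ P := Limits.pullback.lift π (b.left ≫ Limits.pullback.fst B.hom f) (by
    rw [Category.assoc, hπ])
  have hl : l ≫ c = π := Limits.pullback.lift_fst _ _ _
  haveI hc' : IsIso (Limits.pullback.fst π c) := by
    refine ⟨Limits.pullback.lift (𝟙 _) l (by rw [Category.id_comp, hl]), ?_, Limits.pullback.lift_fst _ _ _⟩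
    rw [← cancel_mono (Limits.pullback.fst π c), Category.assoc, Limits.pullback.lift_fst, Category.comp_id,
      Category.id_comp]
  haveI : IsIso c := by
    haveI : MorphismProperty.DescendsAlong (MorphismProperty.isomorphisms Scheme.{u}) Unr55.fpqc.{u} := by
      unfold Unr55.fpqc; infer_instance
    exact MorphismProperty.of_isPullback_of_descendsAlong (P := MorphismProperty.isomorphisms Scheme.{u})
      (Q := Unr55.fpqc.{u}) (IsPullback.of_hasPullback π c) ⟨⟨inferInstance, inferInstance⟩, inferInstance⟩ hc'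
  refine ⟨Over.homMk (inv c ≫ Limits.pullback.snd g.left iB.left) ?_, ?_⟩
  · rw [← Over.w iB, Category.assoc, ← Limits.pullback.condition_assoc, IsIso.inv_hom_id_assoc, Over.w g]
  · apply Over.OverMorphism.ext
    show (inv c ≫ Limits.pullback.snd g.left iB.left) ≫ iB.left = g.left
    rw [Category.assoc, ← Limits.pullback.condition, IsIso.inv_hom_id_assoc]

end Groth.Agent.AlgGrp79.BorelNormalizer
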