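import Groth.Agent.AlgGrp79.BorelFixed
import Groth.Agent.AlgGrp79.BorelDesc
import Groth.Prelude.Def_AGF
import Mathlib.GroupTheory.Nilpotent

/-!
Nilpotency of a group scheme from that of its rational points.
-/

set_option autoImplicit false
set_option linter.unusedSectionVars false
set_option backward.isDefEq.respectTransparency.types false

universe u

open CategoryTheory MonoidalCategory CartesianMonoidalCategory MonObj GrpObj AlgebraicGeometry
open scoped commutatorElement

noncomputable section

namespace Groth.Agent.AlgGrp79.Nilp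

theorem ucs_comap_le {G H : Type*} [Group G] [Group H] (f : G →* H) (hf : Function.Injective f) :
    ∀ j, (Subgroup.upperCentralSeries H j).comap f ≤ Subgroup.upperCentralSeries G j
  | 0 => fun x hx => by
      rw [Subgroup.upperCentralSeries_zero, Subgroup.mem_comap, Subgroup.mem_bot] at hx
      rw [Subgroup.upperCentralSeries_zero, Subgroup.mem_bot]
      exact hf (hx.trans f.map_one.symm)
  | j + 1 => fun x hx => by
      rw [Subgroup.mem_comap, Subgroup.mem_upperCentralSeries_succ_iff] at hx
      rw [Subgroup.mem_upperCentralSeries_succ_iff]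
      intro y
      refine ucs_comap_le f hf j ?_
      rw [Subgroup.mem_comap, map_commutatorElement]
      exact hx (f y)

theorem ucs_eq_top_of_injective {G H : Type*} [Group G] [Group H] (f : G →* H) (hf : Function.Injective f) {n : ℕ}
    (h : Subgroup.upperCentralSeries H n = ⊤) : Subgroup.upperCentralSeries G n = ⊤ :=
  top_le_iff.1 fun x _ => ucs_comap_le f hf n (by rw [h]; trivial)

variable {k : Type u} [Field k]

/-- The domains of iterated commutators. -/
def Q (G : Over (Spec (CommRingCat.of k))) : ℕ → Over (Spec (CommRingCat.of k))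
  | 0 => G
  | m + 1 => Q G m ⊗ G

/-- The iterated commutators. -/
def W (G : Over (Spec (CommRingCat.of k))) [GrpObj G] : ∀ m, Q G m ⟶ G
  | 0 => 𝟙 G
  | m + 1 => (⁅fst (Q G m) G ≫ W G m, snd (Q G m) G⁆ : Q G m ⊗ G ⟶ G)

variable (G : Over (Spec (CommRingCat.of k))) [GrpObj G]

theorem comp_commutator {X Y : Over (Spec (CommRingCat.of k))} (q : X ⟶ Y) (a b : Y ⟶ G) :
    q ≫ ⁅a, b⁆ = ⁅q ≫ a, q ≫ b⁆ := by
  simp only [commutatorElement_def, MonObj.comp_mul, GrpObj.comp_inv]

theorem comp_W_succ {X : Over (Spec (CommRingCat.of k))} (m : ℕ) (q : X ⟶ Q G m) (y : X ⟶ G) :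
    lift q y ≫ W G (m + 1) = ⁅q ≫ W G m, y⁆ := by
  show lift q y ≫ ⁅fst (Q G m) G ≫ W G m, snd (Q G m) G⁆ = _
  rw [comp_commutator, lift_fst_assoc, lift_snd]

variable [IsAlgClosed k] [Smooth G.hom]

theorem smooth_Q : ∀ m, Smooth (Q G m).hom
  | 0 => inferInstanceAs (Smooth G.hom)
  | m + 1 => by
    haveI := smooth_Q m
    exact inferInstanceAs (Smooth (Limits.pullback.fst (Q G m).hom G.hom ≫ (Q G m).hom))

/-- Nilpotency of the rational points propagates to all points. -/
theorem ucs_eq_top [IsSeparated G.hom] {n : ℕ}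
    (h : Subgroup.upperCentralSeries (𝟙_ (Over (Spec (CommRingCat.of k))) ⟶ G) n = ⊤)
    (X : Over (Spec (CommRingCat.of k))) : Subgroup.upperCentralSeries (X ⟶ G) n = ⊤ := by
  have hpt : ∀ m j, m + j = n → ∀ p : 𝟙_ (Over (Spec (CommRingCat.of k))) ⟶ Q G m,
      p ≫ W G m ∈ Subgroup.upperCentralSeries (𝟙_ (Over (Spec (CommRingCat.of k))) ⟶ G) j := by
    intro m
    induction m with
    | zero => intro j hj p; rw [show j = n by omega, h]; trivial
    | succ m ih =>
      intro j hj p
      have e : p = lift (p ≫ fst (Q G m) G) (p ≫ snd (Q G m) G) := by ext : 1 <;> simp [Q]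
      rw [e]
      erw [comp_W_succ]
      exact (Subgroup.mem_upperCentralSeries_succ_iff.1 (ih (j + 1) (by omega) _)) _
  have hW : W G n = 1 := by
    haveI := smooth_Q G n
    haveI : IsReduced (Q G n).left := isReduced_of_smooth (Q G n).hom
    refine BorelFixed.hom_ext_pts _ _ fun p => ?_
    rw [MonObj.comp_one]
    simpa using hpt n 0 (by omega) p
  have key : ∀ j m, m + j = n → ∀ q : X ⟶ Q G m, q ≫ W G m ∈ Subgroup.upperCentralSeries (X ⟶ G) j := by
    intro j
    induction j with
    | zero =>
      intro m hm q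
      obtain rfl : m = n := by omega
      rw [hW, MonObj.comp_one]
      exact one_mem _
    | succ j ih =>
      intro m hm q
      rw [Subgroup.mem_upperCentralSeries_succ_iff]
      intro y
      erw [← comp_W_succ]
      exact ih (m + 1) (by omega) _
  refine top_le_iff.1 fun x _ => ?_
  have := key n 0 (by omega) x
  have e : x ≫ W G 0 = x := Category.comp_id x
  exact e ▸ this

end Groth.Agent.AlgGrp79.Nilp
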