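import Groth.Agent.AlgGrp79.CentTorus
import Groth.Agent.AlgGrp79.Nilp

/-!
A connected group with central maximal torus is nilpotent and solvable.
-/

set_option autoImplicit false
set_option linter.unusedSectionVars false
set_option backward.isDefEq.respectTransparency.types false

universe u

open CategoryTheory MonoidalCategory CartesianMonoidalCategory MonObj GrpObj AlgebraicGeometry
open scoped TensorProduct
open WithConv Groth.Agent.GMod80

noncomputable section

namespace Groth.Agent.AlgGrp79.CartanNilp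

open Comod33 Comod33.DimOneClass

variable {k : Type u} [Field k] [IsAlgClosed k]

theorem isSolvable_pts {A : Type u} [CommRing A] [HopfAlgebra k A] [Algebra.FiniteType k A] [_root_.IsReduced A]
    (hA : HopfRep.IsTrigonalizable k A) :
    ∃ N : Subgroup (Conn.Pt k A), Group.IsNilpotent N ∧ unipPts k A ⊆ N ∧ N.Normal ∧
      ∀ a b, a * b * a⁻¹ * b⁻¹ ∈ N := by
  obtain ⟨C₀, _, _, ψ, J, hJh, hψ, hC₀, hJ, hUJ⟩ := (Groth.Agent.S7967.result k A).1 hA
  let π : Conn.Pt k A →* Conn.Pt k C₀ := HopfFlat.restrPts ψ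
  have hker : ∀ u ∈ π.ker, ∃ g : Conn.Pt k (A ⧸ J), HopfFlat.restrPts (Bialgebra.Quotient.mkBialgHom (R := k) J) g = u := by
    intro u hu
    have hk : ∀ a ∈ J, u.ofConv a = 0 := by
      intro a ha
      rw [hJ] at ha
      refine Submodule.span_induction (fun x hx => ?_) (map_zero _) (fun x y _ _ hx hy => by rw [map_add, hx, hy, add_zero])
        (fun c x _ hx => by rw [smul_eq_mul, map_mul, hx, mul_zero]) ha
      obtain ⟨c, hc, rfl⟩ := hx
      have := DFunLike.congr_fun (congrArg WithConv.ofConv (MonoidHom.mem_ker.1 hu)) c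
      exact this.trans ((congrArg (algebraMap k k) (RingHom.mem_ker.1 hc)).trans (map_zero _))
    exact ⟨toConv (Ideal.Quotient.liftₐ J u.ofConv hk), WithConv.ofConv_injective (AlgHom.ext fun a => rfl)⟩
  haveI := Groth.Agent.S7986.result k (A ⧸ J) hUJ
  have hnil : Group.IsNilpotent π.ker := by
    let r := HopfFlat.restrPts (Bialgebra.Quotient.mkBialgHom (R := k) J)
    have hrange : π.ker ≤ r.range := fun u hu => hker u hu
    haveI : Group.IsNilpotent r.range := nilpotent_of_surjective r.rangeRestrict r.rangeRestrict_surjective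
    exact ⟨_, Nilp.ucs_eq_top_of_injective (Subgroup.inclusion hrange) (Subgroup.inclusion_injective hrange)
      (Group.IsNilpotent.nilpotent (G := r.range)).choose_spec⟩
  refine ⟨π.ker, hnil, fun u hu => MonoidHom.mem_ker.2 ?_, inferInstance, fun a b => MonoidHom.mem_ker.2 ?_⟩
  · apply WithConv.ofConv_injective
    refine AlgHom.ext fun b => ?_
    have hb : b ∈ Submodule.span k {b : C₀ | IsGroupLikeElem k b} := hC₀ ▸ Submodule.mem_top
    induction hb using Submodule.span_induction with
    | mem χ hχ =>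
      change u.ofConv (ψ χ) = algebraMap k k (CoalgebraStruct.counit (R := k) χ)
      rw [apply_groupLike_of_unip hu (hχ.map ψ), hχ.counit_eq_one, map_one]
    | zero => simp
    | add x y _ _ hx hy => simp only [map_add, hx, hy]
    | smul c x _ hx => simp only [map_smul, hx]
  · rw [map_mul, map_mul, map_mul, map_inv, map_inv, TorusPts.comm_pts hC₀ (π a) (π b), mul_inv_cancel_right,
      mul_inv_cancel]

/-- Points of a group with central maximal torus. -/
theorem pts_of_central (C : Over (Spec (CommRingCat.of k))) [GrpObj C] [IsAffine C.left] [Smooth C.hom]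
    [ConnectedSpace C.left] {T : Over (Spec (CommRingCat.of k))} [GrpObj T] (iT : T ⟶ C) (hT : AGF.IsMaxTorus iT)
    (hcen : ∀ (X : Over (Spec (CommRingCat.of k))) (g : X ⟶ C) (h : X ⟶ T), g * (h ≫ iT) = (h ≫ iT) * g) :
    Group.IsNilpotent (𝟙_ (Over (Spec (CommRingCat.of k))) ⟶ C) ∧ Red.IsSolvableGrp C := by
  obtain ⟨A, _, _, ψ, _⟩ := exists_coord C
  haveI : Algebra.FiniteType k A := GMod80.finiteType ψ
  haveI : IsReduced C.left := isReduced_of_smooth C.hom
  haveI : _root_.IsReduced A := isReduced_of_injective (fn ψ).toRingHom (fn ψ).injective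
  have hA := CentralTorus.isTrigonalizable_of_central C ψ iT hT hcen
  obtain ⟨N, hN, hunip, hNn, hcomm⟩ := isSolvable_pts hA
  haveI := hN
  haveI : Group.IsSolvable (Conn.Pt k A) := by
    haveI := hNn
    haveI : Group.IsSolvable N := inferInstance
    letI : CommGroup (Conn.Pt k A ⧸ N) :=
      { (inferInstance : Group (Conn.Pt k A ⧸ N)) with
        mul_comm := fun x y => by
          obtain ⟨a, rfl⟩ := QuotientGroup.mk'_surjective N x
          obtain ⟨b, rfl⟩ := QuotientGroup.mk'_surjective N y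
          rw [← map_mul, ← map_mul]
          refine (QuotientGroup.eq_iff_div_mem).2 ?_
          rw [div_eq_mul_inv, _root_.mul_inv_rev, ← _root_.mul_assoc]
          exact hcomm a b }
    exact solvable_of_ker_le_range N.subtype (QuotientGroup.mk' N) (by simp)
  haveI : Group.IsSolvable (𝟙_ (Over (Spec (CommRingCat.of k))) ⟶ C) :=
    solvable_of_surjective (f := ToriConj.ev ψ) (ToriConj.ev_surjective ψ)
  have hs : Red.IsSolvableGrp C := BorelConj.isSolvableGrp_of_pts C
  refine ⟨?_, hs⟩
  obtain ⟨T₀, _, j, _, _, hT₀, hdec, hconj⟩ := ToriConj.exists_maxTorus_coord C hs ψ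
  obtain ⟨_, _, hTt, hmax⟩ := id hT
  obtain ⟨b, χ, hχ⟩ := hconj T hTt iT
  have hkey : χ ≫ j = iT := by
    rw [BorelConj.comp_conjBy] at hχ
    have hfix : AGF.conjBy b⁻¹ iT = iT := by
      show (toUnit T ≫ b⁻¹) * iT * (toUnit T ≫ b⁻¹)⁻¹ = iT
      have := hcen T (toUnit T ≫ b⁻¹) (𝟙 T)
      rw [Category.id_comp] at this
      rw [this, mul_inv_cancel_right]
    conv_rhs => rw [← hfix, ← hχ, BorelConj.conjBy_conjBy, inv_mul_cancel, BorelConj.conjBy_one]
  haveI : Mono j := Over.mono_of_mono_left _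
  haveI := hmax T₀ j χ hT₀ hkey
  obtain ⟨_, _, _, _, hTc⟩ := AlgGrp33.IsogSub.torus_props hT₀
  let P : (𝟙_ (Over (Spec (CommRingCat.of k))) ⟶ T₀) × N →* (𝟙_ (Over (Spec (CommRingCat.of k))) ⟶ C) :=
    { toFun := fun p => (p.1 ≫ j) * ToriConj.ev ψ p.2.1
      map_one' := by simp [MonObj.one_comp]
      map_mul' := fun p q => by
        rw [Prod.fst_mul, Prod.snd_mul, Subgroup.coe_mul, MonObj.mul_comp, map_mul]
        have hc : (q.1 ≫ j) * ToriConj.ev ψ p.2.1 = ToriConj.ev ψ p.2.1 * (q.1 ≫ j) := by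
          have := hcen _ (ToriConj.ev ψ p.2.1) (q.1 ≫ inv χ)
          rw [Category.assoc, ← hkey, IsIso.inv_hom_id_assoc] at this
          exact this.symm
        simp only [_root_.mul_assoc]
        rw [← _root_.mul_assoc (q.1 ≫ j) (ToriConj.ev ψ p.2.1), hc, _root_.mul_assoc] }
  letI : CommGroup (𝟙_ (Over (Spec (CommRingCat.of k))) ⟶ T₀) :=
    { (inferInstance : Group (𝟙_ (Over (Spec (CommRingCat.of k))) ⟶ T₀)) with
      mul_comm := fun x y => mul_comm x y }
  refine nilpotent_of_surjective P fun g => ?_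
  obtain ⟨x, rfl⟩ := ToriConj.ev_surjective ψ g
  obtain ⟨t, u, hu, hx⟩ := hdec x
  exact ⟨⟨t, ⟨u, hunip hu⟩⟩, hx.symm⟩

end Groth.Agent.AlgGrp79.CartanNilp
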