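import Groth.Agent.Dyn50.More
import Groth.Agent.S3306
import Groth.Agent.S3307
import Groth.Agent.Comod33.Connected
import Groth.Agent.Comod33.HopfSurjFG

/-!
The centraliser of a one-parameter subgroup of a connected smooth affine group is connected and smooth.
-/

set_option autoImplicit false
set_option linter.unusedSectionVars false

universe u

open LaurentPolynomial TensorProduct WithConv

noncomputable section

namespace Groth.Agent.AlgGrp79.CentLam

open Dyn50

variable {k : Type u} [Field k] {A : Type u} [CommRing A] [HopfAlgebra k A] (lam : A →ₐc[k] k[T;T⁻¹])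

/-- The ideal of the centraliser. -/
def Z : Ideal A := Ideal.span {x | ∃ n ≠ 0, ∃ a, comp lam n a = x}

theorem Z_iff {R : Type u} [CommRing R] [Algebra k R] (g : A →ₐ[k] R) :
    (∀ a ∈ Z lam, g a = 0) ↔ toConv g ∈ (orb lam R).eqLocus (Dyn50.push cst) := by
  rw [Z, kills_span]
  show _ ↔ orb lam R (toConv g) = _
  rw [orb_eq_cst_iff]
  exact ⟨fun h n hn a => h _ ⟨n, hn, a, rfl⟩, by rintro h _ ⟨n, hn, a, rfl⟩; exact h n hn a⟩

theorem isHopfIdeal_Z : (Z lam).IsHopfIdeal k :=
  isHopfIdeal_of_subgroup _ (fun R _ _ => (orb lam R).eqLocus (Dyn50.push cst)) fun R _ _ g => Z_iff lam g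

theorem Jp_le_Z : Dyn50.Jp lam ≤ Z lam := Ideal.span_mono (by rintro x ⟨n, hn, a, rfl⟩; exact ⟨n, hn.ne, a, rfl⟩)

theorem exists_retraction : ∃ r : A ⧸ Z lam →ₐ[k] A ⧸ Dyn50.Jp lam,
    (Ideal.Quotient.factorₐ k (Jp_le_Z lam)).comp r = AlgHom.id k _ := by
  obtain ⟨h, hh⟩ := (Jp_iff lam (Ideal.Quotient.mkₐ k (Dyn50.Jp lam))).1 fun a ha => Ideal.Quotient.eq_zero_iff_mem.2 ha
  have hg : ∀ a ∈ Z lam, (Dyn50.push ev0 h).ofConv a = 0 := (Z_iff lam _).2 (orb_ev0 lam hh)
  refine ⟨Ideal.Quotient.liftₐ _ (Dyn50.push ev0 h).ofConv hg, Ideal.Quotient.algHom_ext k (AlgHom.ext fun a => ?_)⟩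
  let π := Ideal.Quotient.factorₐ k (Jp_le_Z lam)
  show π (ev0 (k := k) (h.ofConv a)) = Ideal.Quotient.mk _ a
  have h2 : orb lam _ (toConv (Ideal.Quotient.mkₐ k (Z lam))) = Dyn50.push cst (toConv (Ideal.Quotient.mkₐ k (Z lam))) :=
    (Z_iff lam _).1 fun b hb => Ideal.Quotient.eq_zero_iff_mem.2 hb
  have h3 : mapL π (toL (k := k) (h.ofConv a)) = cst (k := k) (Ideal.Quotient.mk (Z lam) a) := by
    have e := DFunLike.congr_fun (congrArg WithConv.ofConv (orb_push lam π (toConv (Ideal.Quotient.mkₐ k (Dyn50.Jp lam))))) a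
    rw [show Dyn50.push π (toConv (Ideal.Quotient.mkₐ k (Dyn50.Jp lam))) = toConv (Ideal.Quotient.mkₐ k (Z lam)) from
      WithConv.ofConv_injective (AlgHom.ext fun b => rfl), h2, ← hh] at e
    exact e.symm
  have h4 := congrArg (fun f : (A ⧸ Z lam)[T;T⁻¹] => f.coeff 0) h3
  simp only [cst_apply, ← single_eq_C, coeff_single, if_true, coeff_mapL] at h4
  rw [← h4, ev0_apply]
  exact congrArg π (toL_coeff (k := k) _ 0).symm

variable [Algebra.FiniteType k A]

theorem noIdem (h : ∀ e : A, IsIdempotentElem e → e = 0 ∨ e = 1) (e : A ⧸ Z lam) (he : IsIdempotentElem e) :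
    e = 0 ∨ e = 1 := by
  obtain ⟨r, hr⟩ := exists_retraction lam
  have h1 : _ = e := DFunLike.congr_fun hr e
  rcases Dyn50.idempotent_Jp lam h (r e) (he.map r) with hre | hre
  · exact Or.inl (by rw [← h1, AlgHom.comp_apply, hre, map_zero])
  · exact Or.inr (by rw [← h1, AlgHom.comp_apply, hre, map_one])

theorem smooth [Algebra.Smooth k A] : Algebra.Smooth k (A ⧸ Z lam) := by
  haveI : IsNoetherianRing A := Algebra.FiniteType.isNoetherianRing k A
  haveI : Algebra.FiniteType k (A ⧸ Z lam) :=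
    Algebra.FiniteType.of_surjective (Ideal.Quotient.mkₐ k _) Ideal.Quotient.mk_surjective
  haveI := isHopfIdeal_of_subgroup (Dyn50.Jp lam) (fun R _ _ => Plim lam R) (fun R _ _ g => Jp_iff lam g)
  haveI := isHopfIdeal_of_subgroup (Dyn50.Ju lam) (fun R _ _ => Ulim lam R) (fun R _ _ g => Ju_iff lam g)
  haveI := isHopfIdeal_of_subgroup (Dyn50.Ju (negHom lam)) (fun R _ _ => Ulim (negHom lam) R) (fun R _ _ g => Ju_iff (negHom lam) g)
  haveI : Algebra.FinitePresentation k A := Algebra.FinitePresentation.of_finiteType.1 inferInstance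
  obtain ⟨hsm, -, -⟩ := Groth.Agent.S3306.result k A lam (negHom lam) (negHom_eq lam) (Dyn50.Jp lam) (Dyn50.Ju lam)
    (Dyn50.Ju (negHom lam)) (represents_Jp lam) (represents_Ju lam) (represents_Ju (negHom lam))
  haveI := hsm.formallySmooth
  obtain ⟨r, hr⟩ := exists_retraction lam
  refine ⟨Algebra.FormallySmooth.of_comp_surjective fun S _ _ I hI f => ?_,
    Algebra.FinitePresentation.of_finiteType.1 inferInstance⟩
  obtain ⟨g, hg⟩ := Algebra.FormallySmooth.comp_surjective k (A ⧸ Dyn50.Jp lam) I hI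
    (f.comp (Ideal.Quotient.factorₐ k (Jp_le_Z lam)))
  exact ⟨g.comp r, by rw [← AlgHom.comp_assoc, hg, AlgHom.comp_assoc, hr, AlgHom.comp_id]⟩

variable [IsAlgClosed k] in
/-- Points of the centraliser. -/
theorem pts_iff (g : Comod33.Conn.Pt k A) :
    (∀ a ∈ Z lam, g.ofConv a = 0) ↔
      ∀ s : Comod33.Conn.Pt k k[T;T⁻¹], Comod33.HopfFlat.restrPts lam s * g = g * Comod33.HopfFlat.restrPts lam s := by
  rw [Z_iff]
  show orb lam k g = Dyn50.push cst g ↔ _
  have hev : ∀ s : Comod33.Conn.Pt k k[T;T⁻¹], Dyn50.push s.ofConv (Dyn50.push cst g) = g := fun s =>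
    WithConv.ofConv_injective (AlgHom.ext fun a => s.ofConv.commutes _)
  have hLam : ∀ s : Comod33.Conn.Pt k k[T;T⁻¹], Dyn50.push s.ofConv (Lam lam k) = Comod33.HopfFlat.restrPts lam s := fun s => by
    refine WithConv.ofConv_injective (AlgHom.ext fun a => congrArg s.ofConv (LaurentPolynomial.ext fun n => ?_))
    show (mapL (Algebra.ofId k k) (lam a)).coeff n = _
    rw [coeff_mapL]
    rfl
  rw [orb_def, mul_inv_eq_iff_eq_mul]
  constructor
  · intro h s
    have := congrArg (Dyn50.push s.ofConv) h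
    rwa [map_mul, map_mul, hev, hLam] at this
  · intro h
    haveI : Algebra.FiniteType k k[T;T⁻¹] := inferInstance
    refine WithConv.ofConv_injective (AlgHom.ext fun a => sub_eq_zero.1 ?_)
    refine Comod33.Conn.eq_zero_of_forall_point (k := k) (A := k[T;T⁻¹]) fun s => ?_
    rw [map_sub, sub_eq_zero]
    have e : Dyn50.push s.ofConv (Lam lam k * Dyn50.push cst g) = Dyn50.push s.ofConv (Dyn50.push cst g * Lam lam k) := by
      rw [map_mul, map_mul, hev, hLam]
      exact h s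
    exact DFunLike.congr_fun (congrArg WithConv.ofConv e) a

end Groth.Agent.AlgGrp79.CentLam
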