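import Groth.Agent.AlgGrp79.CartanNilp
import Groth.Agent.AlgGrp79.TorusBC
import Groth.Agent.AlgGrp79.DenseConj
import Groth.Agent.Comod33.IdentityComp
import Groth.Agent.Comod33.Diag
import Groth.Agent.S3019
import Groth.Agent.S3272

/-!
A maximal torus of a Borel subgroup has a point with finitely many fixed points on the flag variety, and the
centraliser of the torus lies in the Borel subgroup.
-/

set_option autoImplicit false
set_option linter.unusedSectionVars false
set_option backward.isDefEq.respectTransparency.types false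

universe u

open CategoryTheory MonoidalCategory CartesianMonoidalCategory MonObj GrpObj AlgebraicGeometry
open scoped TensorProduct
open WithConv Groth.Agent.GMod80

noncomputable section

namespace Groth.Agent.AlgGrp79.FiniteFixed

open Comod33

variable {k : Type u} [Field k] [IsAlgClosed k]

/-- A closed subgroup is the stabilizer of a line, on rational points. -/
theorem exists_stab {A A' : Type u} [CommRing A] [HopfAlgebra k A] [Algebra.FiniteType k A] [CommRing A'] [HopfAlgebra k A']
    (φ : A →ₐc[k] A') (hφ : Function.Surjective φ) :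
    ∃ (V : Type u) (_ : AddCommGroup V) (_ : Module k V) (_ : HopfRep.Comod k A V) (_ : Module.Finite k V) (v : V),
      ∀ g : Conn.Pt k A, (∃ h, HopfFlat.restrPts φ h = g) ↔ ∃ c : k, actHom k A V g v = c • v := by
  haveI := isHopfIdeal_ker φ
  obtain ⟨V, _, _, cV, hV, v, -, hrep⟩ := Groth.Agent.S3019.result k A (RingHom.ker (φ : A →ₐ[k] A'))
  refine ⟨V, inferInstance, inferInstance, cV, hV, v, fun g => ?_⟩
  have hact : actHom k A V g v =
      TensorProduct.rid k V (LinearMap.lTensor V g.ofConv.toLinearMap (HopfRep.Comod.coact (k := k) (A := A) v)) := rfl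
  constructor
  · rintro ⟨h, rfl⟩
    obtain ⟨c, hc⟩ := (hrep k (HopfFlat.restrPts φ h).ofConv).1 fun a ha => (congrArg h.ofConv ha).trans (map_zero _)
    exact ⟨c, by rw [hact, hc, TensorProduct.rid_tmul]⟩
  · rintro ⟨c, hc⟩
    have hk := (hrep k g.ofConv).2 ⟨c, (TensorProduct.rid k V).injective (by
      rw [TensorProduct.rid_tmul, ← hc]; exact hact.symm)⟩
    choose s hs using hφ
    refine ⟨toConv (AlgHom.ofLinearMap
      { toFun := fun b => g.ofConv (s b)
        map_add' := fun x y => ?_
        map_smul' := fun r x => ?_ } ?_ ?_), WithConv.ofConv_injective (AlgHom.ext fun a => ?_)⟩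
    · rw [← map_add, ← sub_eq_zero, ← map_sub]
      refine hk _ ?_
      show φ _ = 0
      rw [map_sub, map_add, hs, hs, hs, sub_self]
    · rw [RingHom.id_apply, ← map_smul, ← sub_eq_zero, ← map_sub]
      refine hk _ ?_
      show φ _ = 0
      rw [map_sub, map_smul, hs, hs, sub_self]
    · show g.ofConv (s 1) = 1
      rw [← map_one g.ofConv, ← sub_eq_zero, ← map_sub]
      refine hk _ ?_
      show φ _ = 0
      rw [map_sub, map_one, hs, sub_self]
    · intro x y
      show g.ofConv (s (x * y)) = g.ofConv (s x) * g.ofConv (s y)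
      rw [← map_mul, ← sub_eq_zero, ← map_sub]
      refine hk _ ?_
      show φ _ = 0
      rw [map_sub, map_mul, hs, hs, hs, sub_self]
    · show g.ofConv (s (φ a)) = g.ofConv a
      rw [← sub_eq_zero, ← map_sub]
      refine hk _ ?_
      show φ _ = 0
      rw [map_sub, hs, sub_self]

/-- A torus has a point all of whose eigenvectors in a given representation are weight vectors. -/
theorem exists_regular {C : Type u} [CommRing C] [HopfAlgebra k C] [Algebra.FiniteType k C] [IsDomain C]
    (hC : HopfRep.IsDiagonalizable k C) (V : Type u) [AddCommGroup V] [Module k V] [HopfRep.Comod k C V]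
    [Module.Finite k V] :
    ∃ t₀ : Conn.Pt k C, ∀ w : V, (∃ c : k, actHom k C V t₀ w = c • w) →
      ∀ s : Conn.Pt k C, ∃ c : k, actHom k C V s w = c • w := by
  classical
  let S := {v : V | ∃ a : C, HopfRep.Comod.coact (k := k) (A := C) v = v ⊗ₜ[k] a}
  have hS : Submodule.span k S = ⊤ := (Groth.Agent.S3272.result k C).1 hC V inferInstance
  obtain ⟨b, hbS, hbspan, hbli⟩ := exists_linearIndependent k S
  let B : Module.Basis b k V := Module.Basis.mk hbli (by rw [Subtype.range_coe, hbspan, hS])
  haveI : Fintype b := FiniteDimensional.fintypeBasisIndex B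
  choose a ha using fun i : b => hbS i.2
  have hact : ∀ (s : Conn.Pt k C) (i : b), actHom k C V s (B i) = s.ofConv (a i) • B i := fun s i => by
    rw [Module.Basis.mk_apply, actHom_apply, act_eq_dact, dact_apply, ha, rc_tmul]
    rfl
  let P : C := ∏ p ∈ (Finset.univ : Finset (b × b)).filter (fun p => a p.1 ≠ a p.2), (a p.1 - a p.2)
  have hP : P ≠ 0 := Finset.prod_ne_zero_iff.2 fun p hp => sub_ne_zero.2 (Finset.mem_filter.1 hp).2
  obtain ⟨t₀, ht₀⟩ : ∃ t₀ : Conn.Pt k C, t₀.ofConv P ≠ 0 := by
    by_contra h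
    push Not at h
    exact hP (Conn.eq_zero_of_forall_point h)
  refine ⟨t₀, fun w ⟨c, hc⟩ s => ?_⟩
  have hexp : ∀ g : Conn.Pt k C, actHom k C V g w = ∑ i, (B.repr w i * g.ofConv (a i)) • B i := fun g => by
    conv_lhs => rw [← B.sum_repr w]
    rw [map_sum]
    exact Finset.sum_congr rfl fun i _ => by rw [map_smul, hact, smul_smul]
  have hcoef : ∀ (g : Conn.Pt k C) (i : b), B.repr (actHom k C V g w) i = B.repr w i * g.ofConv (a i) := fun g i => by
    rw [hexp, Module.Basis.repr_sum_self]
  have heq : ∀ i, B.repr w i ≠ 0 → t₀.ofConv (a i) = c := fun i hi => by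
    refine mul_left_cancel₀ hi ?_
    rw [← hcoef, hc, map_smul, Finsupp.smul_apply, smul_eq_mul, _root_.mul_comm]
  by_cases hw : w = 0
  · exact ⟨0, by simp [hw]⟩
  obtain ⟨i₀, hi₀⟩ : ∃ i, B.repr w i ≠ 0 := by
    by_contra h
    push Not at h
    exact hw (B.repr.injective (Finsupp.ext fun i => by simp [h i]))
  refine ⟨s.ofConv (a i₀), B.repr.injective (Finsupp.ext fun i => ?_)⟩
  rw [hcoef, map_smul, Finsupp.smul_apply, smul_eq_mul]
  by_cases hi : B.repr w i = 0
  · simp [hi]
  have : a i = a i₀ := by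
    by_contra hne
    refine ht₀ ?_
    rw [map_prod]
    exact Finset.prod_eq_zero (i := (i, i₀)) (Finset.mem_filter.2 ⟨Finset.mem_univ _, hne⟩)
      (by rw [map_sub, heq i hi, heq i₀ hi₀, sub_self])
  rw [this, _root_.mul_comm]

/-- Centralizing a torus is centralizing a finite subgroup; the normaliser acts through a finite group. -/
theorem exists_finite_detect {A : Type u} [CommRing A] [HopfAlgebra k A] [Algebra.FiniteType k A]
    {C : Type u} [CommRing C] [HopfAlgebra k C] [Algebra.FiniteType k C] [IsDomain C]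
    (hC : HopfRep.IsDiagonalizable k C) (τ : A →ₐc[k] C) :
    ∃ ℓ N : ℕ, ℓ.Prime ∧ (ℓ : k) ≠ 0 ∧ {s : Conn.Pt k C | s ^ (ℓ ^ N) = 1}.Finite ∧ ∀ g : Conn.Pt k A,
      (∀ s : Conn.Pt k C, s ^ (ℓ ^ N) = 1 → HopfFlat.restrPts τ s * g = g * HopfFlat.restrPts τ s) →
      ∀ s, HopfFlat.restrPts τ s * g = g * HopfFlat.restrPts τ s := by
  classical
  obtain ⟨ℓ, hℓ, hℓk⟩ := SolvTori.exists_ell (k := k)
  let u : Conn.Pt k C → A → A := fun s a =>
    (Conn.const (HopfFlat.restrPts τ s) * Conn.gen k A).ofConv a - (Conn.gen k A * Conn.const (HopfFlat.restrPts τ s)).ofConv a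
  have hu : ∀ (g : Conn.Pt k A) s a, g.ofConv (u s a) =
      (HopfFlat.restrPts τ s * g).ofConv a - (g * HopfFlat.restrPts τ s).ofConv a := fun g s a => by
    rw [map_sub, ← Conn.push_apply, ← Conn.push_apply, map_mul, map_mul, Conn.push_const, Conn.push_gen]
  let E : ℕ →o Ideal A :=
    { toFun := fun j => Ideal.span {x | ∃ s : Conn.Pt k C, s ^ (ℓ ^ j) = 1 ∧ ∃ a, u s a = x}
      monotone' := monotone_nat_of_le_succ fun j => Ideal.span_mono (by
        rintro x ⟨s, hs, hx⟩
        exact ⟨s, by rw [pow_succ, pow_mul, hs, one_pow], hx⟩) }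
  haveI : IsNoetherianRing A := Algebra.FiniteType.isNoetherianRing k A
  obtain ⟨N, hN⟩ := monotone_stabilizes_iff_noetherian.2 ‹IsNoetherianRing A› E
  haveI : Group.FG (GroupLike k C) := Hopf35.GL.fg_groupLike
  refine ⟨ℓ, N, hℓ, hℓk, TorusPts.finite_torsion hC (pow_pos hℓ.pos N), fun g hg => ?_⟩
  have hvan : ∀ x ∈ E N, g.ofConv x = 0 := fun x hx => by
    have hle : E N ≤ RingHom.ker (g.ofConv : A →+* k) := Ideal.span_le.2 (by
      rintro _ ⟨s, hs, a, rfl⟩
      show g.ofConv (u s a) = 0
      rw [hu, hg s hs, sub_self])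
    exact hle hx
  have htors : ∀ s : Conn.Pt k C, (∃ j, s ^ (ℓ ^ j) = 1) → ∀ a,
      (HopfFlat.restrPts τ s * g).ofConv a - (g * HopfFlat.restrPts τ s).ofConv a = 0 := by
    rintro s ⟨j, hj⟩ a
    rw [← hu]
    refine hvan _ (hN (max N j) (le_max_left _ _) ▸ E.monotone (le_max_right N j) ?_)
    exact Ideal.subset_span ⟨s, hj, a, rfl⟩
  intro s
  refine WithConv.ofConv_injective (AlgHom.ext fun a => sub_eq_zero.1 ?_)
  let cg : WithConv (A →ₐ[k] C) := toConv ((Algebra.ofId k C).comp g.ofConv)
  let tu : WithConv (A →ₐ[k] C) := toConv (τ : A →ₐ[k] C)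
  let b : C := (tu * cg).ofConv a - (cg * tu).ofConv a
  have hb : ∀ r : Conn.Pt k C, r.ofConv b =
      (HopfFlat.restrPts τ r * g).ofConv a - (g * HopfFlat.restrPts τ r).ofConv a := by
    intro r
    let pr : WithConv (A →ₐ[k] C) →* Conn.Pt k A :=
      { toFun := fun w => toConv (r.ofConv.comp w.ofConv)
        map_one' := by
          apply WithConv.ofConv_injective
          refine AlgHom.ext fun c => ?_
          show r.ofConv (algebraMap k C (CoalgebraStruct.counit (R := k) c)) = _
          rw [AlgHom.commutes]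
          rfl
        map_mul' := fun w w' => WithConv.ofConv_injective (AlgHom.comp_convMul_distrib r.ofConv w w') }
    have hc : pr cg = g := WithConv.ofConv_injective (AlgHom.ext fun c => r.ofConv.commutes _)
    refine Eq.trans (show r.ofConv b = (pr (tu * cg)).ofConv a - (pr (cg * tu)).ofConv a from map_sub _ _ _) ?_
    rw [map_mul, map_mul, hc]
    rfl
  have hb0 : b = 0 := TorusPts.eq_zero_of_torsion hC hℓ.one_lt hℓk fun r hr => (hb r).trans (htors r hr a)
  rw [← hb, hb0, map_zero]

end Groth.Agent.AlgGrp79.FiniteFixed
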