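import Groth.Agent.AlgGrp79.Act
import Groth.Agent.AlgGrp79.Cover
import Groth.Agent.Var76.FibreBound
import Mathlib.AlgebraicGeometry.AlgClosed.Basic
import Mathlib.AlgebraicGeometry.Geometrically.Integral

/-!
The open orbit of an almost homogeneous variety.
-/

set_option autoImplicit false
set_option backward.isDefEq.respectTransparency.types false
universe u

open CategoryTheory CategoryTheory.Limits MonoidalCategory CartesianMonoidalCategory MonObj GrpObj AlgebraicGeometry

noncomputable section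

namespace Groth.Agent.AlgGrp79.OpenOrbit

variable {k : Type u} [Field k]

/-- a geometric point lifts along a morphism of finite type whose image contains it -/
lemma exists_pt_lift {K : Type u} [Field K] [IsAlgClosed K] {S : Scheme.{u}} {A B : Over S}
    {t : Spec (CommRingCat.of K) ⟶ S} (f : A ⟶ B) [LocallyOfFiniteType f.left]
    (b : Over.mk t ⟶ B) (h : b.left (IsLocalRing.closedPoint K) ∈ Set.range f.left) :
    ∃ a : Over.mk t ⟶ A, a ≫ f = b := by
  obtain ⟨x, hx⟩ := h
  obtain ⟨z, -, -⟩ := Scheme.Pullback.exists_preimage_pullback (f := b.left) (g := f.left)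
    (IsLocalRing.closedPoint K) x hx.symm
  have : LocallyOfFiniteType (pullback.fst b.left f.left) := MorphismProperty.pullback_fst _ _ inferInstance
  have : JacobsonSpace ↥(Over.mk t).left := inferInstanceAs (JacobsonSpace (PrimeSpectrum K))
  have : JacobsonSpace ↥(pullback b.left f.left) := LocallyOfFiniteType.jacobsonSpace (pullback.fst b.left f.left)
  obtain ⟨q, -, hq⟩ := nonempty_inter_closedPoints (Z := (Set.univ : Set ↥(pullback b.left f.left))) ⟨z, trivial⟩
    isOpen_univ.isLocallyClosed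
  let s := pointOfClosedPoint (pullback.fst b.left f.left) q hq
  have e : (s ≫ pullback.snd b.left f.left) ≫ f.left = b.left := by
    rw [Category.assoc, ← pullback.condition, pointOfClosedPoint_comp_assoc]
  refine ⟨Over.homMk (s ≫ pullback.snd b.left f.left) ?_, by ext : 1; exact e⟩
  show (s ≫ pullback.snd b.left f.left) ≫ A.hom = t
  rw [← Over.w f, ← Category.assoc, e]
  exact Over.w b

variable {G X : Over (Spec (CommRingCat.of k))} [GrpObj G]

/-- a geometric point through a given point -/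
lemma exists_geom_pt (Y : Over (Spec (CommRingCat.of k))) (y : Y.left) :
    ∃ (K : Type u) (_ : Field K) (_ : IsAlgClosed K) (t : Spec (CommRingCat.of K) ⟶ Spec (CommRingCat.of k))
      (b : Over.mk t ⟶ Y), b.left (IsLocalRing.closedPoint K) = y := by
  obtain ⟨t0, ht0⟩ : ∃ t0 : Spec (CommRingCat.of (AlgebraicClosure (Y.left.residueField y))) ⟶ Y.left,
      t0 (IsLocalRing.closedPoint _) = y :=
    ⟨Spec.map (CommRingCat.ofHom (algebraMap (Y.left.residueField y) _)) ≫ Y.left.fromSpecResidueField y,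
      by rw [Scheme.Hom.comp_apply]; exact Scheme.fromSpecResidueField_apply _ _⟩
  exact ⟨_, inferInstance, inferInstance, t0 ≫ Y.hom, Over.homMk (U := Over.mk (t0 ≫ Y.hom)) t0 rfl, ht0⟩

/-- the image of an almost homogeneous graph contains a nonempty open -/
theorem exists_open_in_range {A B : Over (Spec (CommRingCat.of k))} [LocallyOfFiniteType A.hom] [QuasiCompact A.hom]
    [LocallyOfFiniteType B.hom] [QuasiCompact B.hom] [IrreducibleSpace B.left] (Φ : A ⟶ B) (hd : IsDominant Φ.left) :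
    ∃ W : B.left.Opens, (W : Set B.left).Nonempty ∧ (W : Set B.left) ⊆ Set.range Φ.left := by
  haveI := Var76.FibreBound.noetherianSpace A.hom
  haveI := Var76.FibreBound.noetherianSpace B.hom
  haveI : IsLocallyNoetherian B.left := LocallyOfFiniteType.isLocallyNoetherian B.hom
  haveI : LocallyOfFiniteType Φ.left := by
    haveI := lfp_left Φ
    infer_instance
  obtain ⟨W, hW, hξ, hsub⟩ := Var76.FibreBound.exists_nhd_inter_closure (genericPoint B.left)
    (Set.image_univ (f := Φ.left) ▸ Var76.FibreBound.isConstructible_image Φ.left isOpen_univ)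
  have huniv : closure {genericPoint B.left} = Set.univ := genericPoint_closure _
  rw [huniv, Set.inter_univ] at hsub
  refine ⟨⟨W, hW⟩, ⟨_, hξ⟩, ?_⟩
  rcases hsub with h | h
  · exact h
  · obtain ⟨y, hy⟩ := hd.denseRange.exists_mem_open hW ⟨_, hξ⟩
    exact absurd ⟨y, rfl⟩ (h hy)

/-- translates of second coordinates -/
abbrev moveMap (a : AlgGrp.Action G X) {Wo : Over (Spec (CommRingCat.of k))} (w : Wo ⟶ X ⊗ X) : G ⊗ Wo ⟶ X :=
  (G ◁ (w ≫ snd X X)) ≫ a.act

lemma isOpen_range_move [LocallyOfFiniteType G.hom] (a : AlgGrp.Action G X) {Wo : Over (Spec (CommRingCat.of k))}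
    (w : Wo ⟶ X ⊗ X) (hw : IsOpen (Set.range w.left)) : IsOpen (Set.range (moveMap a w).left) := by
  have hopen : ∀ {A B : Over (Spec (CommRingCat.of k))}, IsOpenMap (snd A B).left := fun {A B} => by
    have : UniversallyOpen A.hom := inferInstance
    have : UniversallyOpen (snd A B).left := MorphismProperty.pullback_snd _ _ this
    exact (snd A B).left.isOpenMap
  have hr : Set.range (G ◁ (w ≫ snd X X)).left = (snd G X).left ⁻¹' Set.range (w ≫ snd X X).left := by
    have hpb := isPullback_left (whiskerLeft_isPullback G (w ≫ snd X X))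
    ext p
    constructor
    · rintro ⟨q, rfl⟩
      exact ⟨(snd G Wo).left q, congr($(hpb.w) q).symm⟩
    · rintro ⟨x, hx⟩
      obtain ⟨q, hq, -⟩ := exists_preimage_of_isPullback hpb p x hx.symm
      exact ⟨q, hq⟩
  have : UniversallyOpen a.act.left := act_left_prop a @UniversallyOpen inferInstance
  rw [show Set.range (moveMap a w).left = a.act.left '' Set.range (G ◁ (w ≫ snd X X)).left by
    rw [← Set.range_comp]; rfl, hr]
  refine a.act.left.isOpenMap _ (IsOpen.preimage (snd G X).left.continuous ?_)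
  rw [Over.comp_left, Scheme.Hom.comp_base, TopCat.coe_comp, Set.range_comp]
  exact hopen _ hw

lemma decompose [LocallyOfFiniteType G.hom] [LocallyOfFiniteType X.hom] (a : AlgGrp.Action G X) {Wo : Over (Spec (CommRingCat.of k))}
    [LocallyOfFiniteType Wo.hom] (w : Wo ⟶ X ⊗ X) {K : Type u} [Field K] [IsAlgClosed K]
    {t : Spec (CommRingCat.of K) ⟶ Spec (CommRingCat.of k)} (v : Over.mk t ⟶ X)
    (hv : v.left (IsLocalRing.closedPoint K) ∈ Set.range (moveMap a w).left) :
    ∃ (g : Over.mk t ⟶ G) (z : Over.mk t ⟶ Wo), lift g (z ≫ w ≫ snd X X) ≫ a.act = v := by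
  haveI : LocallyOfFiniteType (G ⊗ Wo).hom :=
    inferInstanceAs (LocallyOfFiniteType (pullback.fst G.hom Wo.hom ≫ G.hom))
  haveI : LocallyOfFiniteType (moveMap a w).left := by
    haveI := lfp_left (moveMap a w)
    infer_instance
  obtain ⟨c, hc⟩ := exists_pt_lift (moveMap a w) v hv
  refine ⟨c ≫ fst G Wo, c ≫ snd G Wo, ?_⟩
  have e : lift (c ≫ fst G Wo) ((c ≫ snd G Wo) ≫ w ≫ snd X X) = c ≫ (G ◁ (w ≫ snd X X)) := by
    ext : 1 <;> simp
  rw [e, ← hc, moveMap, Category.assoc]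

/-- common third point -/
lemma exists_third [LocallyOfFiniteType X.hom] [GeometricallyIntegral X.hom] {K : Type u} [Field K] [IsAlgClosed K]
    {t : Spec (CommRingCat.of K) ⟶ Spec (CommRingCat.of k)} (W : (X ⊗ X).left.Opens) (p q : Over.mk t ⟶ X ⊗ X)
    (hp : p.left (IsLocalRing.closedPoint K) ∈ W) (hq : q.left (IsLocalRing.closedPoint K) ∈ W) :
    ∃ x : Over.mk t ⟶ X, (lift (p ≫ fst X X) x).left (IsLocalRing.closedPoint K) ∈ W ∧
      (lift (q ≫ fst X X) x).left (IsLocalRing.closedPoint K) ∈ W := by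
  have : UniversallyOpen X.hom := inferInstance
  haveI : IrreducibleSpace ↥(Over.mk t ⊗ X).left := inferInstanceAs (IrreducibleSpace ↥(pullback t X.hom))
  let θ : (Over.mk t ⟶ X ⊗ X) → (Over.mk t ⊗ X ⟶ X ⊗ X) := fun r => lift (fst _ X ≫ r ≫ fst X X) (snd _ X)
  have hθ : ∀ r : Over.mk t ⟶ X ⊗ X, r.left (IsLocalRing.closedPoint K) ∈ W →
      ((θ r).left ⁻¹' (W : Set (X ⊗ X).left)).Nonempty := fun r hr => by
    refine ⟨(lift (𝟙 _) (r ≫ snd X X)).left (IsLocalRing.closedPoint K), ?_⟩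
    have : lift (𝟙 _) (r ≫ snd X X) ≫ θ r = r := by ext : 1 <;> simp [θ]
    show (θ r).left ((lift (𝟙 _) (r ≫ snd X X)).left _) ∈ W
    rw [← Scheme.Hom.comp_apply, ← Over.comp_left, this]
    exact hr
  obtain ⟨z, hz⟩ := (PreirreducibleSpace.isPreirreducible_univ (X := ↥(Over.mk t ⊗ X).left)) _ _
    (W.isOpen.preimage (θ p).left.continuous) (W.isOpen.preimage (θ q).left.continuous)
    (by simpa using hθ p hp) (by simpa using hθ q hq)
  let O : (Over.mk t ⊗ X).left.Opens := (θ p).left ⁻¹ᵁ W ⊓ (θ q).left ⁻¹ᵁ W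
  let Oo : Over (Spec (CommRingCat.of k)) := Over.mk (O.ι ≫ (Over.mk t ⊗ X).hom)
  let oι : Oo ⟶ Over.mk t ⊗ X := Over.homMk O.ι rfl
  haveI : LocallyOfFiniteType (oι ≫ fst (Over.mk t) X).left := by
    haveI : LocallyOfFiniteType (fst (Over.mk t) X).left := MorphismProperty.pullback_fst _ _ ‹LocallyOfFiniteType X.hom›
    exact inferInstanceAs (LocallyOfFiniteType (O.ι ≫ (fst (Over.mk t) X).left))
  obtain ⟨s, hs⟩ := exists_pt_lift (oι ≫ fst (Over.mk t) X) (𝟙 _)
    ⟨⟨z, hz.2⟩, Subsingleton.elim (α := PrimeSpectrum K) _ _⟩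
  have hs' : ∀ r, (s ≫ oι) ≫ θ r = lift (r ≫ fst X X) (s ≫ oι ≫ snd _ X) := fun r => by
    ext : 1
    · simp only [θ, Category.assoc, lift_fst]
      rw [reassoc_of% hs]
    · simp [θ]
  refine ⟨s ≫ oι ≫ snd _ X, ?_, ?_⟩
  · rw [← hs' p, Over.comp_left, Scheme.Hom.comp_apply]; exact (s.left _).2.1
  · rw [← hs' q, Over.comp_left, Scheme.Hom.comp_apply]; exact (s.left _).2.2

theorem exists_open_orbit [LocallyOfFiniteType G.hom] [QuasiCompact G.hom] [LocallyOfFiniteType X.hom]
    [QuasiCompact X.hom] [GeometricallyIntegral X.hom] (a : AlgGrp.Action G X)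
    (hd : IsDominant (lift (snd G X) a.act).left) :
    ∃ U : X.left.Opens, (U : Set X.left).Nonempty ∧
      ∃ b : AlgGrp.Action G (Over.mk (U.ι ≫ X.hom)),
        (G ◁ (Over.homMk U.ι rfl : Over.mk (U.ι ≫ X.hom) ⟶ X)) ≫ a.act = b.act ≫ Over.homMk U.ι rfl ∧
        Surjective (lift (snd G (Over.mk (U.ι ≫ X.hom))) b.act).left := by
  classical
  haveI : IsIntegral X.left := GeometricallyIntegral.isIntegral_of_subsingleton X.hom
  haveI : UniversallyOpen X.hom := inferInstance
  haveI : IrreducibleSpace ↥(X ⊗ X).left := inferInstanceAs (IrreducibleSpace ↥(pullback X.hom X.hom))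
  haveI : LocallyOfFiniteType (X ⊗ X).hom := inferInstanceAs (LocallyOfFiniteType (pullback.fst X.hom X.hom ≫ X.hom))
  haveI : LocallyOfFiniteType (G ⊗ X).hom := inferInstanceAs (LocallyOfFiniteType (pullback.fst G.hom X.hom ≫ G.hom))
  haveI : QuasiCompact (X ⊗ X).hom := inferInstanceAs (QuasiCompact (pullback.fst X.hom X.hom ≫ X.hom))
  haveI : QuasiCompact (G ⊗ X).hom := inferInstanceAs (QuasiCompact (pullback.fst G.hom X.hom ≫ G.hom))
  obtain ⟨W, ⟨ξ, hξ⟩, hWsub⟩ := exists_open_in_range (lift (snd G X) a.act) hd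
  let Wo : Over (Spec (CommRingCat.of k)) := Over.mk (W.ι ≫ (X ⊗ X).hom)
  let w : Wo ⟶ X ⊗ X := Over.homMk W.ι rfl
  haveI : LocallyOfFiniteType Wo.hom := inferInstanceAs (LocallyOfFiniteType (W.ι ≫ (X ⊗ X).hom))
  let U : X.left.Opens := ⟨Set.range (moveMap a w).left, isOpen_range_move a w (by
    show IsOpen (Set.range W.ι); rw [Scheme.Opens.range_ι]; exact W.isOpen)⟩
  let Uo : Over (Spec (CommRingCat.of k)) := Over.mk (U.ι ≫ X.hom)
  let uι : Uo ⟶ X := Over.homMk U.ι rfl
  haveI : IsOpenImmersion uι.left := inferInstanceAs (IsOpenImmersion U.ι)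
  haveI : Mono uι := (Over.forget _).mono_of_mono_map (inferInstanceAs (Mono uι.left))
  have hstab : Set.range ((G ◁ uι) ≫ a.act).left ⊆ U := by
    rintro _ ⟨y, rfl⟩
    obtain ⟨K, _, _, t, b, rfl⟩ := exists_geom_pt (G ⊗ Uo) y
    obtain ⟨g, z, hgz⟩ := decompose a w (b ≫ snd G Uo ≫ uι) (by
      show ((b ≫ snd G Uo) ≫ uι).left _ ∈ (U : Set X.left)
      exact ((b ≫ snd G Uo).left _).2)
    refine ⟨(lift ((b ≫ fst G Uo) * g) z).left (IsLocalRing.closedPoint K), ?_⟩
    rw [← Scheme.Hom.comp_apply, ← Scheme.Hom.comp_apply, ← Over.comp_left, ← Over.comp_left]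
    congr 3
    have e : lift (b ≫ fst G Uo) (b ≫ snd G Uo ≫ uι) = b ≫ (G ◁ uι) := by ext : 1 <;> simp
    rw [moveMap, lift_whiskerLeft_assoc, mul_act', hgz, e, Category.assoc]
  obtain ⟨bact, hbact⟩ : ∃ bact : G ⊗ Uo ⟶ Uo, bact ≫ uι = (G ◁ uι) ≫ a.act :=
    ⟨Over.homMk (IsOpenImmersion.lift U.ι ((G ◁ uι) ≫ a.act).left (by rwa [Scheme.Opens.range_ι])) (by
      show _ ≫ U.ι ≫ X.hom = _
      rw [IsOpenImmersion.lift_fac_assoc, Over.w]), by ext : 1; exact IsOpenImmersion.lift_fac _ _ _⟩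
  let ba : AlgGrp.Action G Uo :=
    { act := bact
      one_act := by
        rw [← cancel_mono uι, Category.assoc, hbact, ← Category.assoc, ← whisker_exchange, Category.assoc, a.one_act]
        simp
      mul_act := by
        rw [← cancel_mono uι]
        simp only [Category.assoc, hbact]
        rw [← Category.assoc, ← whisker_exchange, Category.assoc, a.mul_act, ← Category.assoc (G ◁ bact),
          ← MonoidalCategory.whiskerLeft_comp, hbact, MonoidalCategory.whiskerLeft_comp]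
        simp }
  refine ⟨U, ⟨_, (lift (1 : Wo ⟶ G) (𝟙 Wo)).left ⟨ξ, hξ⟩, rfl⟩, ba, hbact.symm, ⟨fun y => ?_⟩⟩
  obtain ⟨K, _, _, t, b, rfl⟩ := exists_geom_pt (Uo ⊗ Uo) y
  obtain ⟨g1, z1, e1⟩ := decompose a w ((b ≫ fst Uo Uo) ≫ uι) ((b ≫ fst Uo Uo).left _).2
  obtain ⟨g2, z2, e2⟩ := decompose a w ((b ≫ snd Uo Uo) ≫ uι) ((b ≫ snd Uo Uo).left _).2
  have hrange : ∀ p : Over.mk t ⟶ X ⊗ X, p.left (IsLocalRing.closedPoint K) ∈ W →
      ∃ g : Over.mk t ⟶ G, lift g (p ≫ fst X X) ≫ a.act = p ≫ snd X X := fun p hp => by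
    haveI : LocallyOfFiniteType (lift (snd G X) a.act).left := by
      haveI := lfp_left (lift (snd G X) a.act)
      infer_instance
    obtain ⟨c, hc⟩ := exists_pt_lift (lift (snd G X) a.act) p (hWsub hp)
    refine ⟨c ≫ fst G X, ?_⟩
    rw [← hc]
    simp only [Category.assoc, lift_fst, lift_snd]
    rw [← comp_lift_assoc, lift_fst_snd, Category.id_comp]
  obtain ⟨x, hx1, hx2⟩ := exists_third W (z1 ≫ w) (z2 ≫ w) (z1.left _).2 (z2.left _).2
  obtain ⟨m1, hm1⟩ := hrange _ hx1
  obtain ⟨m2, hm2⟩ := hrange _ hx2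
  obtain ⟨n1, hn1⟩ := hrange (z1 ≫ w) (z1.left _).2
  obtain ⟨n2, hn2⟩ := hrange (z2 ≫ w) (z2.left _).2
  simp only [Category.assoc, lift_fst, lift_snd] at hn1 hn2 hm1 hm2
  have hM : lift (g2 * n2 * m2⁻¹ * m1 * n1⁻¹ * g1⁻¹) (b ≫ fst Uo Uo) ≫ lift (snd G Uo) bact = b := by
    apply CartesianMonoidalCategory.hom_ext
    · simp
    · rw [Category.assoc, lift_snd, ← cancel_mono uι, Category.assoc, hbact, lift_whiskerLeft_assoc, ← e1]
      simp only [mul_act', inv_act_act]
      rw [← hn1, inv_act_act, hm1, ← hm2, inv_act_act, hn2, e2]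
  refine ⟨(lift (g2 * n2 * m2⁻¹ * m1 * n1⁻¹ * g1⁻¹) (b ≫ fst Uo Uo)).left (IsLocalRing.closedPoint K), ?_⟩
  show (lift (snd G Uo) bact).left _ = _
  rw [← Scheme.Hom.comp_apply, ← Over.comp_left, hM]

end Groth.Agent.AlgGrp79.OpenOrbit
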