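import Groth.Agent.AlgGrp79.TrigPts
import Groth.Agent.AlgGrp79.FiniteFixed
import Groth.Agent.AlgGrp79.OpenOrbit
import Groth.Agent.S3266

/-!
The centraliser of a torus of a Borel subgroup meets it in a Borel subgroup of the centraliser.
-/

set_option autoImplicit false
set_option linter.unusedSectionVars false
set_option backward.isDefEq.respectTransparency.types false

universe u

open CategoryTheory MonoidalCategory CartesianMonoidalCategory MonObj GrpObj AlgebraicGeometry
open scoped TensorProduct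
open WithConv Groth.Agent.GMod80

noncomputable section

namespace Groth.Agent.AlgGrp79.CentOrbit

open Comod33

variable {k : Type u} [Field k] [IsAlgClosed k]

local notation "pk" => 𝟙_ (Over (Spec (CommRingCat.of k)))

/-- Restriction of an action along a homomorphism. -/
def restrict {G C X : Over (Spec (CommRingCat.of k))} [GrpObj G] [GrpObj C] (a : AlgGrp.Action G X) (z : C ⟶ G)
    [IsMonHom z] : AlgGrp.Action C X where
  act := (z ▷ X) ≫ a.act
  one_act := by rw [← comp_whiskerRight_assoc, IsMonHom.one_hom, a.one_act]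
  mul_act := by
    have hμ : (μ[C] : C ⊗ C ⟶ C) = fst C C * snd C C := by
      rw [Hom.mul_def, lift_fst_snd, Category.id_comp]
    have e : (μ[C] ▷ X) ≫ (z ▷ X) = lift ((fst (C ⊗ C) X ≫ fst C C ≫ z) * (fst (C ⊗ C) X ≫ snd C C ≫ z))
        (snd (C ⊗ C) X) := by
      apply CartesianMonoidalCategory.hom_ext
      · rw [Category.assoc, whiskerRight_fst, whiskerRight_fst_assoc, lift_fst, hμ, MonObj.mul_comp, MonObj.comp_mul]
      · rw [Category.assoc, whiskerRight_snd, whiskerRight_snd, lift_snd]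
    rw [← Category.assoc, e, AlgGrp79.mul_act' a]
    simp only [← Category.assoc]
    congr 1
    apply CartesianMonoidalCategory.hom_ext
    · simp
    · simp only [lift_snd, Category.assoc, whiskerLeft_snd, whiskerRight_snd]
      rw [show lift (fst (C ⊗ C) X ≫ snd C C ≫ z) (snd (C ⊗ C) X) = (α_ C C X).hom ≫ snd C (C ⊗ X) ≫ (z ▷ X) by
        apply CartesianMonoidalCategory.hom_ext <;> simp]
      simp only [Category.assoc]

theorem restrict_orbitMap {G C X : Over (Spec (CommRingCat.of k))} [GrpObj G] [GrpObj C] (a : AlgGrp.Action G X)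
    (z : C ⟶ G) [IsMonHom z] (o : pk ⟶ X) : (restrict a z).orbitMap o = z ≫ a.orbitMap o := by
  rw [AGF80.Orbit.comp_orbitMap, AlgGrp.Action.orbitMap]
  show lift (𝟙 C) (toUnit C ≫ o) ≫ (z ▷ X) ≫ a.act = _
  rw [lift_whiskerRight_assoc, Category.id_comp]

variable {G B : Over (Spec (CommRingCat.of k))} [GrpObj G] [GrpObj B] {A A' D : Type u} [CommRing A] [HopfAlgebra k A]
  [CommRing A'] [HopfAlgebra k A'] [CommRing D] [HopfAlgebra k D]

/-- The closed subgroup of a surjection of coordinate rings. -/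
theorem quot_props {Q : Type u} [CommRing Q] [HopfAlgebra k Q] [Algebra.Smooth k Q] (π : A →ₐc[k] Q)
    (hπ : Function.Surjective π) (hQ : ∀ e : Q, IsIdempotentElem e → e = 0 ∨ e = 1) (ψ : sp k A ≅ G) [IsMonHom ψ.hom] :
    IsClosedImmersion (spHom π ≫ ψ.hom).left ∧ Smooth (sp k Q).hom ∧ ConnectedSpace (sp k Q).left ∧
      ∀ p : pk ⟶ G, (∃ q : pk ⟶ sp k Q, q ≫ spHom π ≫ ψ.hom = p) ↔
        ∃ g, ToriConj.ev ψ g = p ∧ ∃ h, HopfFlat.restrPts π h = g := by
  haveI : IsIso ψ.hom.left := ((Over.forget _).mapIso ψ).isIso_hom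
  haveI : IsClosedImmersion (spHom π).left := by rw [spHom_left]; exact IsClosedImmersion.spec_of_surjective _ hπ
  haveI : IsMonHom (Iso.refl (sp k Q)).hom := inferInstanceAs (IsMonHom (𝟙 _))
  have hzev : ∀ h : Conn.Pt k Q, ToriConj.ev (Iso.refl (sp k Q)) h ≫ spHom π ≫ ψ.hom =
      ToriConj.ev ψ (HopfFlat.restrPts π h) := by
    intro h
    show (ToriConj.pt0 ≫ Spec.mapMulEquiv h ≫ 𝟙 _) ≫ spHom π ≫ ψ.hom = ToriConj.pt0 ≫ Spec.mapMulEquiv _ ≫ ψ.hom
    rw [Category.comp_id, Category.assoc]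
    exact (congrArg (ToriConj.pt0 ≫ ·) (Category.assoc _ _ _).symm).trans
      (congrArg (fun x => ToriConj.pt0 ≫ x ≫ ψ.hom) (comp_spHom π h))
  refine ⟨inferInstanceAs (IsClosedImmersion ((spHom π).left ≫ ψ.hom.left)), ?_, ?_, fun p => ⟨?_, ?_⟩⟩
  · change Smooth (Spec.map (CommRingCat.ofHom (algebraMap k Q)))
    rw [HasRingHomProperty.Spec_iff (P := @Smooth)]
    exact RingHom.smooth_algebraMap.2 inferInstance
  · exact (CAlg6.connectedSpace_iff_idempotent Q).2 ⟨Bialgebra.nontrivial (R := k), hQ⟩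
  · rintro ⟨q, rfl⟩
    obtain ⟨h, rfl⟩ := ToriConj.ev_surjective (Iso.refl (sp k Q)) q
    exact ⟨_, (hzev h).symm, h, rfl⟩
  · rintro ⟨g, rfl, h, rfl⟩
    exact ⟨_, hzev h⟩

variable [Algebra.FiniteType k A] [Algebra.FiniteType k A'] [Algebra.FiniteType k D] [IsDomain D]

theorem smooth_coord [Smooth G.hom] [IsAffine G.left] (ψ : sp k A ≅ G) [IsMonHom ψ.hom] : Algebra.Smooth k A := by
  haveI : IsIso ψ.hom.left := ((Over.forget _).mapIso ψ).isIso_hom
  have hs : Smooth (sp k A).hom := by rw [← Over.w ψ.hom]; infer_instance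
  change Smooth (Spec.map (CommRingCat.ofHom (algebraMap k A))) at hs
  rw [HasRingHomProperty.Spec_iff (P := @Smooth)] at hs
  exact RingHom.smooth_algebraMap.1 hs

theorem noIdem_coord [Smooth G.hom] [ConnectedSpace G.left] (ψ : sp k A ≅ G) [IsMonHom ψ.hom] (e : A)
    (he : IsIdempotentElem e) : e = 0 ∨ e = 1 := by
  haveI : IsReduced G.left := isReduced_of_smooth G.hom
  haveI : IrreducibleSpace G.left := by
    have hirr := (Grp57.connectedComponent_unit G).1
    rw [PreconnectedSpace.connectedComponent_eq_univ] at hirr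
    exact { isPreirreducible_univ := hirr.2, toNonempty := inferInstance }
  haveI : IsIntegral G.left := isIntegral_of_irreducibleSpace_of_isReduced _
  haveI : IsDomain A := (fn ψ).toMulEquiv.isDomain _
  exact IsIdempotentElem.iff_eq_zero_or_one.1 he

/-- An element carrying a torus of a Borel subgroup into it, compatibly with the projection to the quotient torus,
lies in the product of the centraliser and the Borel subgroup. -/
theorem exists_mul_centralizes (hD : HopfRep.IsDiagonalizable k D) (φ : A →ₐc[k] A') (τ' : A' →ₐc[k] D)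
    (hA' : HopfRep.IsTrigonalizable k A') (hφ : Function.Injective (HopfFlat.restrPts φ)) :
    ∃ (C₀ : Type u) (_ : CommRing C₀) (_ : HopfAlgebra k C₀) (ψ₀ : C₀ →ₐc[k] A'), HopfRep.IsDiagonalizable k C₀ ∧
      ∀ g : Conn.Pt k A, (∀ s : Conn.Pt k D, ∃ b : Conn.Pt k A',
        HopfFlat.restrPts φ b = g⁻¹ * HopfFlat.restrPts (τ'.comp φ) s * g ∧
          HopfFlat.restrPts ψ₀ b = HopfFlat.restrPts ψ₀ (HopfFlat.restrPts τ' s)) →
        ∃ u : Conn.Pt k A', ∀ s : Conn.Pt k D,
          HopfFlat.restrPts (τ'.comp φ) s * (g * HopfFlat.restrPts φ u) =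
            (g * HopfFlat.restrPts φ u) * HopfFlat.restrPts (τ'.comp φ) s := by
  classical
  obtain ⟨C₀, _, _, ψ₀, hC₀, hnil, -, hdiv⟩ := TrigPts.exists_proj hA'
  refine ⟨C₀, inferInstance, inferInstance, ψ₀, hC₀, fun g hg => ?_⟩
  haveI := hnil
  obtain ⟨ℓ, N, hℓ, hℓk, hfin, hdet⟩ := FiniteFixed.exists_finite_detect hD (τ'.comp φ)
  haveI := Fact.mk hℓ
  have hcomp : ∀ s, HopfFlat.restrPts (τ'.comp φ) s = HopfFlat.restrPts φ (HopfFlat.restrPts τ' s) := fun s => rfl
  letI : CommGroup (Conn.Pt k D) :=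
    { (inferInstance : Group (Conn.Pt k D)) with mul_comm := TorusPts.comm_pts hD }
  let F : Subgroup (Conn.Pt k D) := (powMonoidHom (ℓ ^ N) : Conn.Pt k D →* Conn.Pt k D).ker
  haveI : Finite F := hfin.to_subtype
  letI := Fintype.ofFinite F
  have hbij : Function.Bijective fun u : (HopfFlat.restrPts ψ₀).ker => u ^ Fintype.card F := by
    have hp : IsPGroup ℓ F := fun q => ⟨N, Subtype.ext q.2⟩
    obtain ⟨m, hm⟩ := IsPGroup.iff_card.1 hp
    rw [← Nat.card_eq_fintype_card, hm]
    exact hdiv ℓ hℓk m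
  choose f hf1 hf2 using hg
  let f1 : F →* Conn.Pt k A' := MonoidHom.mk' (fun s => f s.1) fun s t => hφ (by
    simp only [Subgroup.coe_mul, map_mul, hf1]
    group)
  obtain ⟨u, -, hu⟩ := UDivisible.exists_conj (HopfFlat.restrPts ψ₀).ker hbij ((HopfFlat.restrPts τ').comp F.subtype) f1
    fun s => by
      rw [MonoidHom.mem_ker, map_mul, map_inv]
      show HopfFlat.restrPts ψ₀ (f s.1) * (HopfFlat.restrPts ψ₀ (HopfFlat.restrPts τ' s.1))⁻¹ = 1
      rw [hf2, mul_inv_cancel]
  refine ⟨u, hdet _ fun s hs => ?_⟩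
  have h1 : f s = u * HopfFlat.restrPts τ' s * u⁻¹ := hu ⟨s, hs⟩
  have h2 := (hf1 s).symm.trans (congrArg (HopfFlat.restrPts φ) h1)
  rw [map_mul, map_mul, map_inv, ← hcomp] at h2
  calc HopfFlat.restrPts (τ'.comp φ) s * (g * HopfFlat.restrPts φ u)
      = g * (g⁻¹ * HopfFlat.restrPts (τ'.comp φ) s * g) * HopfFlat.restrPts φ u := by group
    _ = g * (HopfFlat.restrPts φ u * HopfFlat.restrPts (τ'.comp φ) s * (HopfFlat.restrPts φ u)⁻¹) *
        HopfFlat.restrPts φ u := by rw [h2]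
    _ = g * HopfFlat.restrPts φ u * HopfFlat.restrPts (τ'.comp φ) s := by group

/-- The centraliser of a torus of a Borel subgroup, and its Borel subgroup. -/
theorem exists_cent_borel [IsAffine G.left] [Smooth G.hom] [ConnectedSpace G.left]
    (iB : B ⟶ G) (hB : Red.IsBorelOver k iB) [IsMonHom iB] (ψ : sp k A ≅ G) [IsMonHom ψ.hom] (ψB : sp k A' ≅ B)
    [IsMonHom ψB.hom] (hD : HopfRep.IsDiagonalizable k D) (τ' : A' →ₐc[k] D) :
    ∃ (C : Over (Spec (CommRingCat.of k))) (_ : GrpObj C) (z : C ⟶ G), IsMonHom z ∧ IsClosedImmersion z.left ∧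
      Smooth C.hom ∧ ConnectedSpace C.left ∧
      (∀ p : pk ⟶ G, (∃ q : pk ⟶ C, q ≫ z = p) ↔
        ∀ s, ToriConj.ev ψB (HopfFlat.restrPts τ' s) ≫ iB * p = p * (ToriConj.ev ψB (HopfFlat.restrPts τ' s) ≫ iB)) ∧
      ∃ (K : Over (Spec (CommRingCat.of k))) (_ : GrpObj K) (k' : K ⟶ C), Red.IsBorelOver k k' ∧
        ∀ q : pk ⟶ C, (∃ r : pk ⟶ K, r ≫ k' = q) ↔ ∃ b : pk ⟶ B, b ≫ iB = q ≫ z := by
  classical
  obtain ⟨_, _, _, _, hsB, -⟩ := id hB
  haveI : IsAffine B.left := isAffine_of_isAffineHom iB.left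
  haveI : Mono iB := Over.mono_of_mono_left iB
  haveI : IsSeparated G.hom := inferInstance
  haveI := smooth_coord ψ
  haveI := smooth_coord ψB
  let φ := pullBialg ψ ψB iB
  have hev : ∀ b, ToriConj.ev ψB b ≫ iB = ToriConj.ev ψ (HopfFlat.restrPts φ b) := CentTorus.ev_comp ψ ψB iB
  have hφ : Function.Injective (HopfFlat.restrPts φ) := fun b b' h =>
    ToriConj.ev_injective ψB ((cancel_mono iB).1 (by rw [hev, hev, h]))
  -- the centraliser in G and in B
  obtain ⟨Q, _, _, π, hπ, _, hQs, hQ, hpts⟩ := CentTorusPts.exists_cent (noIdem_coord ψ) hD (τ'.comp φ)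
  obtain ⟨hzc, hCs, hCc, hzpts⟩ := quot_props π hπ hQ ψ
  haveI := hzc; haveI := hCs; haveI := hCc
  let z : sp k Q ⟶ G := spHom π ≫ ψ.hom
  haveI : IsMonHom z := inferInstanceAs (IsMonHom (spHom π ≫ ψ.hom))
  haveI : Mono z := Over.mono_of_mono_left z
  haveI : IsAffine (sp k Q).left := inferInstanceAs (IsAffine (Spec (CommRingCat.of Q)))
  have hC : ∀ p : pk ⟶ G, (∃ q : pk ⟶ sp k Q, q ≫ z = p) ↔
      ∀ s, ToriConj.ev ψB (HopfFlat.restrPts τ' s) ≫ iB * p = p * (ToriConj.ev ψB (HopfFlat.restrPts τ' s) ≫ iB) := by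
    intro p
    rw [hzpts p]
    obtain ⟨g, rfl⟩ := ToriConj.ev_surjective ψ p
    constructor
    · rintro ⟨g', he, h⟩ s
      obtain rfl := ToriConj.ev_injective ψ he
      rw [hev, ← map_mul, ← map_mul]
      exact congrArg _ ((hpts g').1 h s)
    · intro h
      exact ⟨g, rfl, (hpts g).2 fun s => ToriConj.ev_injective ψ (by
        rw [map_mul, map_mul]
        have h' := h s
        rwa [hev] at h')⟩
  obtain ⟨QB, _, _, πB, hπB, _, hQBs, hQB, hptsB⟩ := CentTorusPts.exists_cent (noIdem_coord ψB) hD τ'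
  obtain ⟨hkc, hKs, hKc, hkpts⟩ := quot_props πB hπB hQB ψB
  haveI := hkc; haveI := hKs; haveI := hKc
  let zB : sp k QB ⟶ B := spHom πB ≫ ψB.hom
  haveI : IsMonHom zB := inferInstanceAs (IsMonHom (spHom πB ≫ ψB.hom))
  haveI : IsAffine (sp k QB).left := inferInstanceAs (IsAffine (Spec (CommRingCat.of QB)))
  haveI : IsReduced (sp k QB).left := isReduced_of_smooth (sp k QB).hom
  have hin : ∀ r : pk ⟶ sp k QB, ∃ q : pk ⟶ sp k Q, q ≫ z = r ≫ zB ≫ iB := fun r => by
    refine (hC _).2 fun s => ?_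
    obtain ⟨g, hg, h⟩ := (hkpts _).1 ⟨r, rfl⟩
    rw [show r ≫ zB ≫ iB = (r ≫ zB) ≫ iB from (Category.assoc _ _ _).symm,
      show r ≫ zB = ToriConj.ev ψB g from hg.symm, ← MonObj.mul_comp, ← MonObj.mul_comp, ← map_mul, ← map_mul,
      (hptsB g).1 h s]
  obtain ⟨k', hk'⟩ := exists_lift_of_range_subset z (zB ≫ iB)
    (range_subset_of_pts _ z.left.isClosedEmbedding.isClosed_range fun r => by
      obtain ⟨q, hq⟩ := hin r
      rw [← hq, Over.comp_left]
      exact ⟨_, rfl⟩)
  haveI : IsMonHom k' := AlgGrp79.isMonHom_of_forall _ fun T s t => by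
    rw [← cancel_mono z, MonObj.mul_comp _ _ z, Category.assoc, Category.assoc, Category.assoc, hk', MonObj.mul_comp]
  haveI : IsClosedImmersion k'.left := by
    haveI : IsClosedImmersion (k'.left ≫ z.left) := by
      rw [← Over.comp_left, hk']
      exact inferInstanceAs (IsClosedImmersion ((spHom πB ≫ ψB.hom).left ≫ iB.left))
    exact IsClosedImmersion.of_comp k'.left z.left
  have hK : ∀ q : pk ⟶ sp k Q, (∃ r : pk ⟶ sp k QB, r ≫ k' = q) ↔ ∃ b : pk ⟶ B, b ≫ iB = q ≫ z := by
    intro q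
    constructor
    · rintro ⟨r, rfl⟩
      exact ⟨r ≫ zB, by rw [Category.assoc r zB iB, Category.assoc r k' z, hk']⟩
    · rintro ⟨b, hb⟩
      obtain ⟨g, rfl⟩ := ToriConj.ev_surjective ψB b
      obtain ⟨r, hr⟩ := (hkpts (ToriConj.ev ψB g)).2 ⟨g, rfl, (hptsB g).2 fun s => ToriConj.ev_injective ψB
        ((cancel_mono iB).1 (by
          rw [map_mul, map_mul, MonObj.mul_comp, MonObj.mul_comp, hb]
          exact (hC _).1 ⟨q, rfl⟩ s))⟩
      have hr' : r ≫ zB = ToriConj.ev ψB g := hr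
      refine ⟨r, ?_⟩
      rw [← cancel_mono z, Category.assoc, hk', ← hb, ← hr']
      exact (Category.assoc _ _ _).symm
  have hKsolv : Red.IsSolvableGrp (sp k QB) := by
    obtain ⟨m, hm⟩ := hsB
    haveI : Group.IsSolvable (pk ⟶ B) := ⟨⟨m, hm _⟩⟩
    haveI : Mono zB := Over.mono_of_mono_left zB
    let Φ : (pk ⟶ sp k QB) →* (pk ⟶ B) := MonoidHom.mk' (fun r => r ≫ zB) fun r s => MonObj.mul_comp r s zB
    haveI : Group.IsSolvable (pk ⟶ sp k QB) :=
      solvable_of_solvable_injective (f := Φ) fun r s h => (cancel_mono zB).1 h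
    exact BorelConj.isSolvableGrp_of_pts _
  -- the orbit of the base point
  haveI : Algebra.FiniteType k A := inferInstance
  obtain ⟨X, a, o, hX, hXp, -⟩ := BorelOps.exists_quotient_borel G iB hB
  haveI := hXp
  obtain ⟨hXl, hXf, hXs, -⟩ := id hX
  haveI := hXl
  haveI : Surjective (a.orbitMap o).left := hXs
  haveI : Flat (a.orbitMap o).left := hXf
  let aC := restrict a z
  have horb : aC.orbitMap o = z ≫ a.orbitMap o := restrict_orbitMap a z o
  have hA' : HopfRep.IsTrigonalizable k A' := by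
    obtain ⟨m, hm⟩ := hsB
    haveI : Group.IsSolvable (pk ⟶ B) := ⟨⟨m, hm _⟩⟩
    haveI : Group.IsSolvable (Conn.Pt k A') :=
      solvable_of_solvable_injective (f := ToriConj.ev ψB) (ToriConj.ev_injective ψB)
    haveI : IsReduced B.left := isReduced_of_smooth B.hom
    haveI : IrreducibleSpace B.left := by
      have hirr := (Grp57.connectedComponent_unit B).1
      rw [PreconnectedSpace.connectedComponent_eq_univ] at hirr
      exact { isPreirreducible_univ := hirr.2, toNonempty := inferInstance }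
    haveI : IsIntegral B.left := isIntegral_of_irreducibleSpace_of_isReduced _
    haveI : IsDomain A' := (fn ψB).toMulEquiv.isDomain _
    exact Groth.Agent.S3266.result k A' fun x hx => IsIdempotentElem.iff_eq_zero_or_one.1 hx
  obtain ⟨C₀, _, _, ψ₀, hC₀, hmain⟩ := exists_mul_centralizes hD φ τ' hA' hφ
  let σ : Conn.Pt k D → (pk ⟶ G) := fun s => ToriConj.ev ψB (HopfFlat.restrPts τ' s) ≫ iB
  let cj : Conn.Pt k D → (G ⟶ G) := fun s => (𝟙 G)⁻¹ * (toUnit G ≫ σ s) * 𝟙 G
  haveI : LocallyOfFiniteType (VecGrp.pt k (Polynomial k)).hom := by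
    show LocallyOfFiniteType (Spec.map (CommRingCat.ofHom (algebraMap k (Polynomial k))))
    rw [HasRingHomProperty.Spec_iff (P := @LocallyOfFiniteType)]
    exact RingHom.finiteType_algebraMap.2 inferInstance
  haveI : IsSeparated (VecGrp.pt k (Polynomial k)).hom :=
    haveI : IsAffine (VecGrp.pt k (Polynomial k)).left := inferInstanceAs (IsAffine (Spec (CommRingCat.of (Polynomial k))))
    inferInstance
  let Ks : Conn.Pt k D → Set B.left := fun s => ⋂ c : C₀, (CentralTorus.funMap ψB (ψ₀ c)).left ⁻¹'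
    {(ToriConj.ev ψB (HopfFlat.restrPts τ' s) ≫ CentralTorus.funMap ψB (ψ₀ c)).left (IsLocalRing.closedPoint k)}
  let Y₀ : Set G.left := ⋂ s, (cj s).left ⁻¹' (iB.left '' Ks s)
  have hY₀c : IsClosed Y₀ := isClosed_iInter fun s =>
    (iB.left.isClosedEmbedding.isClosedMap _ (isClosed_iInter fun c =>
      (rat_isClosed _).preimage (CentralTorus.funMap ψB (ψ₀ c)).left.continuous)).preimage (cj s).left.continuous
  have hcj : ∀ s (g : pk ⟶ G), g ≫ cj s = g⁻¹ * σ s * g := fun s g => by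
    simp only [cj, MonObj.comp_mul, GrpObj.comp_inv, Category.comp_id, ← Category.assoc,
      toUnit_unique (g ≫ toUnit G) (𝟙 _), Category.id_comp]
  haveI : LocallyOfFiniteType B.hom := inferInstance
  have hY₀ : ∀ g : pk ⟶ G, g.left (IsLocalRing.closedPoint k) ∈ Y₀ ↔ ∀ s, ∃ b : Conn.Pt k A',
      ToriConj.ev ψB b ≫ iB = g⁻¹ * σ s * g ∧
        HopfFlat.restrPts ψ₀ b = HopfFlat.restrPts ψ₀ (HopfFlat.restrPts τ' s) := by
    intro g
    simp only [Y₀, Set.mem_iInter, Set.mem_preimage]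
    refine forall_congr' fun s => ?_
    rw [← Scheme.Hom.comp_apply, ← Over.comp_left, hcj]
    constructor
    · rintro ⟨w, hw, hwe⟩
      have hwc : IsClosed ({w} : Set B.left) := by
        rw [show ({w} : Set B.left) = iB.left ⁻¹' {(g⁻¹ * σ s * g).left (IsLocalRing.closedPoint k)} from ?_]
        · exact (rat_isClosed _).preimage iB.left.continuous
        · ext x
          rw [Set.mem_preimage, Set.mem_singleton_iff, Set.mem_singleton_iff, ← hwe]
          exact ⟨fun h => h ▸ rfl, fun h => iB.left.isClosedEmbedding.injective h⟩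
      obtain ⟨p, hp⟩ := ptVal_eq w hwc
      obtain ⟨b, rfl⟩ := ToriConj.ev_surjective ψB p
      refine ⟨b, pt_ext _ _ (by rw [Over.comp_left, Scheme.Hom.comp_apply, hp]; exact hwe), ?_⟩
      refine WithConv.ofConv_injective (AlgHom.ext fun c => ?_)
      refine CentralTorus.eq_of_ev_funMap ψB (f := ψ₀ c) (a := b) (b := HopfFlat.restrPts τ' s) (pt_ext _ _ ?_)
      rw [Over.comp_left, Scheme.Hom.comp_apply, hp]
      exact Set.mem_iInter.1 hw c
    · rintro ⟨b, hb, he⟩
      refine ⟨(ToriConj.ev ψB b).left (IsLocalRing.closedPoint k), Set.mem_iInter.2 fun c => ?_, ?_⟩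
      · rw [Set.mem_preimage, Set.mem_singleton_iff, ← Scheme.Hom.comp_apply, ← Over.comp_left]
        have hc : b.ofConv (ψ₀ c) = (HopfFlat.restrPts τ' s).ofConv (ψ₀ c) :=
          DFunLike.congr_fun (congrArg WithConv.ofConv he) c
        rw [CentralTorus.ev_funMap, CentralTorus.ev_funMap, hc]
      · show iB.left _ = _
        rw [← Scheme.Hom.comp_apply, ← Over.comp_left, hb]
  -- points over the orbit lie in Y₀, and conversely
  have hsub : ∀ (q : pk ⟶ sp k Q) (b : pk ⟶ B), ((q ≫ z) * (b ≫ iB)).left (IsLocalRing.closedPoint k) ∈ Y₀ := by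
    intro q b
    refine (hY₀ _).2 fun s => ?_
    obtain ⟨β, rfl⟩ := ToriConj.ev_surjective ψB b
    refine ⟨β⁻¹ * HopfFlat.restrPts τ' s * β, ?_, ?_⟩
    · rw [map_mul, map_mul, map_inv, MonObj.mul_comp, MonObj.mul_comp, GrpObj.inv_comp]
      have hq : σ s * (q ≫ z) = (q ≫ z) * σ s := (hC _).1 ⟨q, rfl⟩ s
      calc (ToriConj.ev ψB β ≫ iB)⁻¹ * σ s * (ToriConj.ev ψB β ≫ iB)
          = (ToriConj.ev ψB β ≫ iB)⁻¹ * ((q ≫ z)⁻¹ * ((q ≫ z) * σ s)) * (ToriConj.ev ψB β ≫ iB) := by group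
        _ = (ToriConj.ev ψB β ≫ iB)⁻¹ * ((q ≫ z)⁻¹ * (σ s * (q ≫ z))) * (ToriConj.ev ψB β ≫ iB) := by rw [hq]
        _ = _ := by group
    · rw [map_mul, map_mul, map_inv, _root_.mul_assoc,
        TorusPts.comm_pts hC₀ (HopfFlat.restrPts ψ₀ (HopfFlat.restrPts τ' s)), inv_mul_cancel_left]
  have hY₀C : ∀ g : pk ⟶ G, g.left (IsLocalRing.closedPoint k) ∈ Y₀ →
      ∃ q : pk ⟶ sp k Q, q ≫ z ≫ a.orbitMap o = g ≫ a.orbitMap o := by
    intro g hg
    obtain ⟨gm, rfl⟩ := ToriConj.ev_surjective ψ g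
    obtain ⟨u, hu⟩ := hmain gm fun s => by
      obtain ⟨b, hb, he⟩ := (hY₀ _).1 hg s
      refine ⟨b, ToriConj.ev_injective ψ ?_, he⟩
      rw [← hev, hb, map_mul, map_mul, map_inv]
      show (ToriConj.ev ψ gm)⁻¹ * (ToriConj.ev ψB (HopfFlat.restrPts τ' s) ≫ iB) * ToriConj.ev ψ gm = _
      rw [hev]
      rfl
    obtain ⟨q, hq⟩ := (hC (ToriConj.ev ψ gm * (ToriConj.ev ψB u ≫ iB))).2 fun s => by
      rw [hev, hev, ← map_mul, ← map_mul, ← map_mul]
      exact congrArg _ (hu s)
    refine ⟨q, ?_⟩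
    rw [← Category.assoc, hq]
    exact ((QuotTrans.coset_iff hX _ _).2 ⟨ToriConj.ev ψB u, rfl⟩).symm
  have hclosed : IsClosed (Set.range (aC.orbitMap o).left) := by
    haveI : QuasiCompact (sp k Q).hom := inferInstance
    haveI : JacobsonSpace G.left := LocallyOfFiniteType.jacobsonSpace G.hom
    haveI : JacobsonSpace X.left := LocallyOfFiniteType.jacobsonSpace X.hom
    haveI : JacobsonSpace (sp k Q).left := LocallyOfFiniteType.jacobsonSpace (sp k Q).hom
    set R := Set.range (aC.orbitMap o).left with hR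
    have hlc : IsLocallyClosed R := isLocallyClosed_range_equivariant aC _ (orbitMap_equivariant aC o)
    have hopen : IsOpenMap (a.orbitMap o).left := by
      haveI : IsLocallyNoetherian X.left := LocallyOfFiniteType.isLocallyNoetherian X.hom
      haveI : LocallyOfFiniteType (a.orbitMap o).left := by
        haveI : LocallyOfFiniteType ((a.orbitMap o).left ≫ X.hom) := by rw [Over.w]; infer_instance
        exact locallyOfFiniteType_of_comp (a.orbitMap o).left X.hom
      haveI : LocallyOfFinitePresentation (a.orbitMap o).left :=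
        E4O.locallyOfFinitePresentation_of_isLocallyNoetherian _
      exact (a.orbitMap o).left.isOpenMap
    have hpre : (a.orbitMap o).left ⁻¹' R ⊆ Y₀ := by
      intro w hw
      by_contra hwY
      obtain ⟨w', ⟨hw'R, hw'Y⟩, hw'c⟩ := nonempty_inter_closedPoints (Z := (a.orbitMap o).left ⁻¹' R ∩ Y₀ᶜ)
        ⟨w, hw, hwY⟩ ((hlc.preimage (a.orbitMap o).left.continuous).inter hY₀c.isOpen_compl.isLocallyClosed)
      obtain ⟨p, hp⟩ := ptVal_eq w' hw'c
      haveI : LocallyOfFiniteType (aC.orbitMap o).left := by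
        haveI : LocallyOfFiniteType ((aC.orbitMap o).left ≫ X.hom) := by rw [Over.w]; infer_instance
        exact locallyOfFiniteType_of_comp (aC.orbitMap o).left X.hom
      have hpr : (p ≫ a.orbitMap o).left (IsLocalRing.closedPoint k) ∈ R := by
        rw [Over.comp_left, Scheme.Hom.comp_apply, hp]; exact hw'R
      obtain ⟨w₂, hw₂⟩ := hpr
      obtain ⟨w₃, hw₃, hw₃c⟩ := nonempty_inter_closedPoints
        (Z := (aC.orbitMap o).left ⁻¹' {(p ≫ a.orbitMap o).left (IsLocalRing.closedPoint k)}) ⟨w₂, hw₂⟩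
        ((rat_isClosed _).preimage (aC.orbitMap o).left.continuous).isLocallyClosed
      obtain ⟨q, hq⟩ := ptVal_eq w₃ hw₃c
      have hqe : q ≫ z ≫ a.orbitMap o = p ≫ a.orbitMap o := pt_ext _ _ (by
        rw [← horb, Over.comp_left, Scheme.Hom.comp_apply, hq]; exact hw₃)
      rw [← Category.assoc] at hqe
      obtain ⟨b, hb⟩ := (QuotTrans.coset_iff hX _ _).1 hqe
      exact hw'Y (hp ▸ hb ▸ hsub q b)
    refine closure_subset_iff_isClosed.1 fun y hy => ?_
    by_contra hyR
    obtain ⟨y', ⟨hy', hy'R⟩, hy'c⟩ := nonempty_inter_closedPoints (Z := closure R ∩ Rᶜ) ⟨y, hy, hyR⟩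
      (by
        have h := hlc.isOpen_coborder
        rw [coborder, isOpen_compl_iff] at h
        exact h.isLocallyClosed)
    obtain ⟨py, hpy⟩ := ptVal_eq y' hy'c
    obtain ⟨g, hg⟩ := BorelImage.exists_pt_lift (a.orbitMap o) py
    have hgY : g.left (IsLocalRing.closedPoint k) ∈ Y₀ := by
      refine hY₀c.closure_subset_iff.2 hpre (hopen.preimage_closure_subset_closure_preimage ?_)
      show (a.orbitMap o).left (g.left (IsLocalRing.closedPoint k)) ∈ closure R
      rw [← Scheme.Hom.comp_apply, ← Over.comp_left, hg, hpy]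
      exact hy'
    obtain ⟨q, hq⟩ := hY₀C g hgY
    refine hy'R ⟨q.left (IsLocalRing.closedPoint k), ?_⟩
    rw [← Scheme.Hom.comp_apply, ← Over.comp_left, horb, hq, hg, hpy]
  -- the Borel subgroup of the centraliser
  obtain ⟨H, _, iH, _, _, sqH⟩ := BorelFixed.exists_isotropy aC o
  obtain ⟨Y, b', y, hY, hYp⟩ := BorelQuot.exists_proper_quotient_isotropy aC o hclosed iH sqH
  haveI := hYp
  refine ⟨sp k Q, inferInstance, z, inferInstance, inferInstance, inferInstance, inferInstance, hC,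
    sp k QB, inferInstance, k', ⟨inferInstance, inferInstance, inferInstance, inferInstance, hKsolv, ?_⟩, hK⟩
  intro B' _ i' _ f hci' hs' hc' hsolv' hf
  haveI := hci'; haveI := hs'; haveI := hc'
  haveI : IsAffine B'.left := isAffine_of_isAffineHom i'.left
  haveI : IsReduced B'.left := isReduced_of_smooth B'.hom
  haveI : Mono k' := Over.mono_of_mono_left k'
  obtain ⟨c, φ', hφ'⟩ := BorelConj.exists_conj_into iH hY hsolv' i'
  -- a conjugate of B' lies in the Borel subgroup
  have hB'K : Set.range (AGF.conjBy c⁻¹ i').left ⊆ Set.range k'.left := by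
    refine range_subset_of_pts _ k'.left.isClosedEmbedding.isClosed_range fun r => ?_
    have he : r ≫ AGF.conjBy c⁻¹ i' = (r ≫ φ') ≫ iH := by
      rw [← hφ', BorelConj.comp_conjBy, BorelConj.comp_conjBy, BorelConj.comp_conjBy, BorelConj.conjBy_conjBy, inv_mul_cancel,
        BorelConj.conjBy_one, ← Category.assoc]
    rw [he]
    have hfix : (((r ≫ φ') ≫ iH) ≫ z) ≫ a.orbitMap o = (1 : pk ⟶ G) ≫ a.orbitMap o := by
      have h1 := (r ≫ φ') ≫= sqH.w
      rw [horb, ← Category.assoc, ← Category.assoc (r ≫ φ') (toUnit H) o,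
        toUnit_unique ((r ≫ φ') ≫ toUnit H) (𝟙 _), Category.id_comp, ← Category.assoc] at h1
      rw [h1, AGF80.Orbit.comp_orbitMap, AlgGrp79.one_act', toUnit_unique (toUnit pk) (𝟙 _), Category.id_comp]
    obtain ⟨b, hb⟩ := (QuotTrans.coset_iff hX _ _).1 hfix.symm
    rw [_root_.one_mul] at hb
    obtain ⟨r', hr'⟩ := (hK ((r ≫ φ') ≫ iH)).2 ⟨b, hb⟩
    rw [← hr', Over.comp_left]
    exact ⟨_, rfl⟩
  obtain ⟨m, hm⟩ := exists_lift_of_range_subset k' (AGF.conjBy c⁻¹ i') hB'K
  haveI : IsClosedImmersion m.left := by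
    haveI := BorelConj.isClosedImmersion_conjBy c⁻¹ i'
    haveI : IsClosedImmersion (m.left ≫ k'.left) := by rw [← Over.comp_left, hm]; infer_instance
    exact IsClosedImmersion.of_comp m.left k'.left
  haveI : IsClosedImmersion f.left := by
    haveI : IsClosedImmersion (f.left ≫ i'.left) := by rw [← Over.comp_left, hf]; infer_instance
    exact IsClosedImmersion.of_comp f.left i'.left
  haveI := Var76.FibreBound.noetherianSpace (sp k QB).hom
  haveI : Surjective f.left := by
    haveI := BorelConj.surjective_endo (f.left ≫ m.left)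
    refine ⟨fun w => ?_⟩
    obtain ⟨w', hw'⟩ := (f.left ≫ m.left).surjective (m.left w)
    exact ⟨w', m.left.isClosedEmbedding.injective hw'⟩
  haveI : IsIso f.left := isIso_of_isClosedImmersion_of_surjective f.left
  haveI : IsIso ((Over.forget _).map f) := ‹IsIso f.left›
  exact isIso_of_reflects_iso f (Over.forget _)

end Groth.Agent.AlgGrp79.CentOrbit
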