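import Mathlib

set_option autoImplicit false
universe u v w

open CategoryTheory MonoidalCategory CartesianMonoidalCategory MonObj AlgebraicGeometry CategoryTheory.Limits

namespace Groth.Agent.AlgGrp79

variable {C : Type u} [Category.{v} C] [CartesianMonoidalCategory C] {G X : C} [GrpObj G]

lemma hom_ext_points {Y Z : C} (f g : Y ⊗ Z ⟶ X)
    (h : ∀ (T : C) (y : T ⟶ Y) (z : T ⟶ Z), lift y z ≫ f = lift y z ≫ g) : f = g := by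
  simpa using h (Y ⊗ Z) (fst Y Z) (snd Y Z)

section
variable {Γ : Type w} [Group Γ] {ρ : Γ → (X ⟶ X)}

lemma cocycle_one (hρ₁ : ρ 1 = 𝟙 X) {φ : Γ → (X ⟶ G)}
    (hφ : ∀ σ τ : Γ, φ (σ * τ) = φ σ * (ρ σ ≫ φ τ)) : φ 1 = 1 := by
  have := hφ 1 1
  rw [_root_.mul_one, hρ₁, Category.id_comp] at this
  exact left_eq_mul.1 this

theorem linearization_of_cocycle (hρ₁ : ρ 1 = 𝟙 X) (hρ : ∀ σ τ : Γ, ρ (σ * τ) = ρ σ ≫ ρ τ)
    (φ : Γ → (X ⟶ G)) (hφ : ∀ σ τ : Γ, φ (σ * τ) = φ σ * (ρ σ ≫ φ τ))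
    (lam : Γ → (X ⊗ G ⟶ X ⊗ G))
    (hlam : ∀ (σ : Γ) (T : C) (x : T ⟶ X) (g : T ⟶ G),
      lift x g ≫ lam σ = lift (x ≫ ρ σ) ((x ≫ φ σ)⁻¹ * g)) :
    lam 1 = 𝟙 (X ⊗ G) ∧ (∀ σ τ : Γ, lam (σ * τ) = lam σ ≫ lam τ) ∧
      (∀ σ : Γ, lam σ ≫ fst X G = fst X G ≫ ρ σ) ∧
      ∀ (σ : Γ) (T : C) (x : T ⟶ X) (g h : T ⟶ G),
        lift x (g * h) ≫ lam σ ≫ snd X G = (lift x g ≫ lam σ ≫ snd X G) * h := by
  refine ⟨hom_ext_points _ _ fun T x g => ?_, fun σ τ => hom_ext_points _ _ fun T x g => ?_,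
    fun σ => hom_ext_points _ _ fun T x g => ?_, fun σ T x g h => ?_⟩
  · simp [hlam, hρ₁, cocycle_one hρ₁ hφ]
  · rw [hlam, ← Category.assoc, hlam, hlam, hρ, hφ, MonObj.comp_mul, mul_inv_rev, _root_.mul_assoc,
      Category.assoc, Category.assoc]
  · rw [← Category.assoc, hlam, lift_fst, lift_fst_assoc]
  · rw [← Category.assoc, ← Category.assoc, hlam, hlam, lift_snd, lift_snd, _root_.mul_assoc]

theorem cocycle_of_linearization (lam : Γ → (X ⊗ G ⟶ X ⊗ G))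
    (hlam : ∀ σ τ : Γ, lam (σ * τ) = lam σ ≫ lam τ)
    (hfst : ∀ σ : Γ, lam σ ≫ fst X G = fst X G ≫ ρ σ)
    (hG : ∀ (σ : Γ) (T : C) (x : T ⟶ X) (g h : T ⟶ G),
      lift x (g * h) ≫ lam σ ≫ snd X G = (lift x g ≫ lam σ ≫ snd X G) * h) :
    ∃! φ : Γ → (X ⟶ G), (∀ σ τ : Γ, φ (σ * τ) = φ σ * (ρ σ ≫ φ τ)) ∧
      ∀ (σ : Γ) (T : C) (x : T ⟶ X) (g : T ⟶ G),
        lift x g ≫ lam σ = lift (x ≫ ρ σ) ((x ≫ φ σ)⁻¹ * g) := by
  let φ : Γ → (X ⟶ G) := fun σ => (lift (𝟙 X) (1 : X ⟶ G) ≫ lam σ ≫ snd X G)⁻¹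
  have h2 : ∀ (σ : Γ) (T : C) (x : T ⟶ X) (g : T ⟶ G),
        lift x g ≫ lam σ = lift (x ≫ ρ σ) ((x ≫ φ σ)⁻¹ * g) := by
    intro σ T x g
    ext : 1
    · simp [hfst]
    · have := hG σ T x 1 g
      rw [_root_.one_mul] at this
      simp only [Category.assoc, lift_snd, this, φ, GrpObj.comp_inv, inv_inv, comp_lift_assoc,
        MonObj.comp_one, Category.comp_id]
  refine ⟨φ, ⟨fun σ τ => ?_, h2⟩, ?_⟩
  · apply inv_injective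
    simp only [φ, inv_inv, mul_inv_rev, hlam, GrpObj.comp_inv, Category.assoc]
    rw [← Category.assoc (lift (𝟙 X) 1) (lam σ), h2, ← Category.assoc (lift _ _) (lam τ), h2, lift_snd]
    simp [φ, GrpObj.comp_inv]
  · rintro ψ ⟨-, hψ⟩
    funext σ
    have := (hψ σ X (𝟙 X) 1).symm.trans (h2 σ X (𝟙 X) 1)
    simpa using congrArg (· ≫ snd X G) this

theorem linearizations_iso_iff 
    (φ φ' : Γ → (X ⟶ G))
    (lam lam' : Γ → (X ⊗ G ⟶ X ⊗ G))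
    (hlam : ∀ (σ : Γ) (T : C) (x : T ⟶ X) (g : T ⟶ G),
      lift x g ≫ lam σ = lift (x ≫ ρ σ) ((x ≫ φ σ)⁻¹ * g))
    (hlam' : ∀ (σ : Γ) (T : C) (x : T ⟶ X) (g : T ⟶ G),
      lift x g ≫ lam' σ = lift (x ≫ ρ σ) ((x ≫ φ' σ)⁻¹ * g)) :
    (∃ Φ : X ⊗ G ⟶ X ⊗ G, IsIso Φ ∧ Φ ≫ fst X G = fst X G ∧
      (∀ (T : C) (x : T ⟶ X) (g h : T ⟶ G),
        lift x (g * h) ≫ Φ ≫ snd X G = (lift x g ≫ Φ ≫ snd X G) * h) ∧
      ∀ σ : Γ, lam σ ≫ Φ = Φ ≫ lam' σ) ↔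
    ∃ ψ : X ⟶ G, ∀ σ : Γ, φ σ = ψ⁻¹ * φ' σ * (ρ σ ≫ ψ) := by
  constructor
  · rintro ⟨Φ, -, h1, h2, h3⟩
    let ψ : X ⟶ G := lift (𝟙 X) (1 : X ⟶ G) ≫ Φ ≫ snd X G
    have hΦ : ∀ (T : C) (x : T ⟶ X) (g : T ⟶ G), lift x g ≫ Φ = lift x ((x ≫ ψ) * g) := by
      intro T x g
      ext : 1
      · simp [h1]
      · have := h2 T x 1 g
        rw [_root_.one_mul] at this
        simp only [Category.assoc, lift_snd, this, ψ, comp_lift_assoc, MonObj.comp_one, Category.comp_id]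
    refine ⟨ψ, fun σ => ?_⟩
    have := congrArg (fun q => lift (𝟙 X) (1 : X ⟶ G) ≫ q ≫ snd X G) (h3 σ)
    simp only [← Category.assoc, hlam, hΦ, hlam', lift_snd] at this
    simp only [Category.id_comp, _root_.mul_one] at this
    calc φ σ = ψ⁻¹ * φ' σ * (φ' σ)⁻¹ * ψ * φ σ := by group
      _ = ψ⁻¹ * φ' σ * (ρ σ ≫ ψ) := by rw [_root_.mul_assoc (ψ⁻¹ * φ' σ), ← this]; group
  · rintro ⟨ψ, hψ⟩
    refine ⟨lift (fst X G) ((fst X G ≫ ψ) * snd X G), ?_, by simp, ?_, fun σ => ?_⟩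
    · refine ⟨lift (fst X G) ((fst X G ≫ ψ)⁻¹ * snd X G), ?_, ?_⟩
      all_goals
        apply hom_ext_points
        intro T x g
        simp [MonObj.comp_mul, GrpObj.comp_inv]
    · intro T x g h
      simp [MonObj.comp_mul, _root_.mul_assoc]
    · apply hom_ext_points
      intro T x g
      rw [← Category.assoc, hlam, comp_lift, ← Category.assoc _ _ (lam' σ), comp_lift]
      simp only [MonObj.comp_mul, lift_fst, lift_fst_assoc, lift_snd]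
      rw [hlam']
      congr 1
      simp only [hψ, MonObj.comp_mul, GrpObj.comp_inv, Category.assoc]
      group

end


end Groth.Agent.AlgGrp79
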