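import Mathlib

/-!
Morphisms along which sections do not change on small affine opens: factorization and cancellation.
-/

set_option autoImplicit false
set_option backward.isDefEq.respectTransparency.types false
universe u

open CategoryTheory CategoryTheory.Limits AlgebraicGeometry TopologicalSpace

noncomputable section

namespace Groth.Agent.AlgGrp79

variable {W V Y : Scheme.{u}}

/-- small affine opens have the same sections as their preimages -/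
def SameSections (p : W ⟶ V) : Prop :=
  ∀ (q : V) (O : V.Opens), q ∈ O → ∃ Ω : V.Opens, q ∈ Ω ∧ Ω ≤ O ∧ IsAffineOpen Ω ∧ IsIso (p.app Ω)

lemma isIso_appTop_morphismRestrict (p : W ⟶ V) (Ω : V.Opens) (h : IsIso (p.app Ω)) : IsIso (p ∣_ Ω).appTop := by
  rw [morphismRestrict_appTop]
  have : IsIso (p.app (Ω.ι ''ᵁ ⊤)) := by
    have e : Ω.ι ''ᵁ ⊤ = Ω := Ω.ι_image_top
    rw [e]; exact h
  exact IsIso.comp_isIso' this (Functor.map_isIso W.presheaf (eqToHom _).op)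

/-- over an affine open with the same sections, maps into affines factor -/
lemma exists_local_factor {p : W ⟶ V} (Ω : V.Opens) (hΩ : IsAffineOpen Ω) (hiso : IsIso (p.app Ω))
    (h : W ⟶ Y) (U : Y.Opens) (hU : IsAffineOpen U) (hle : p ⁻¹ᵁ Ω ≤ h ⁻¹ᵁ U) :
    ∃ v : Ω.toScheme ⟶ Y, (p ∣_ Ω) ≫ v = (p ⁻¹ᵁ Ω).ι ≫ h := by
  have := isIso_appTop_morphismRestrict p Ω hiso
  have : IsAffine U.toScheme := hU
  let φ : (p ⁻¹ᵁ Ω).toScheme ⟶ U.toScheme := IsOpenImmersion.lift U.ι ((p ⁻¹ᵁ Ω).ι ≫ h) (by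
    rw [Scheme.Opens.range_ι]
    rintro _ ⟨z, rfl⟩
    exact hle z.2)
  refine ⟨Ω.toScheme.toSpecΓ ≫ Spec.map (φ.appTop ≫ inv (p ∣_ Ω).appTop) ≫ U.toScheme.isoSpec.inv ≫ U.ι, ?_⟩
  rw [Scheme.toSpecΓ_naturality_assoc, ← Spec.map_comp_assoc, Category.assoc, IsIso.inv_hom_id, Category.comp_id,
    ← Scheme.toSpecΓ_naturality_assoc, ← Scheme.isoSpec_hom, Iso.hom_inv_id_assoc]
  exact IsOpenImmersion.lift_fac _ _ _

lemma SameSections.hom_ext {p : W ⟶ V} (hp : SameSections p) (hsurj : Function.Surjective p) (u v : V ⟶ Y)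
    (h : p ≫ u = p ≫ v) : u = v := by
  have hbase : ∀ q, u q = v q := fun q => by
    obtain ⟨z, rfl⟩ := hsurj q
    rw [← Scheme.Hom.comp_apply, h, Scheme.Hom.comp_apply]
  have key : ∀ q : V, ∃ Ω : V.Opens, q ∈ Ω ∧ Ω.ι ≫ u = Ω.ι ≫ v := fun q => by
    obtain ⟨U, hU, hqU, -⟩ := exists_isAffineOpen_mem_and_subset (U := ⊤) (x := u q) trivial
    obtain ⟨Ω, hqΩ, hle, hΩ, hiso⟩ := hp q (u ⁻¹ᵁ U) hqU
    refine ⟨Ω, hqΩ, ?_⟩
    have : IsAffine U.toScheme := hU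
    have hr : ∀ w : V ⟶ Y, (∀ q, u q = w q) → Set.range (Ω.ι ≫ w) ⊆ Set.range U.ι := fun w hw => by
      rw [Scheme.Opens.range_ι]
      rintro _ ⟨z, rfl⟩
      show w (Ω.ι z) ∈ U
      rw [← hw]; exact hle z.2
    have e : IsOpenImmersion.lift U.ι (Ω.ι ≫ u) (hr u fun _ => rfl) = IsOpenImmersion.lift U.ι (Ω.ι ≫ v) (hr v hbase) := by
      apply ext_of_isAffine
      have := isIso_appTop_morphismRestrict p Ω hiso
      rw [← cancel_mono (p ∣_ Ω).appTop, ← Scheme.Hom.comp_appTop, ← Scheme.Hom.comp_appTop]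
      congr 1
      rw [← cancel_mono U.ι, Category.assoc, Category.assoc, IsOpenImmersion.lift_fac, IsOpenImmersion.lift_fac,
        morphismRestrict_ι_assoc, morphismRestrict_ι_assoc, h]
    rw [← IsOpenImmersion.lift_fac U.ι (Ω.ι ≫ u) (hr u fun _ => rfl), e, IsOpenImmersion.lift_fac]
  choose Ω hqΩ hΩ using key
  refine (Scheme.openCoverOfIsOpenCover V Ω ?_).hom_ext _ _ hΩ
  exact IsOpenCover.mk (eq_top_iff.2 fun q _ => Opens.mem_iSup.2 ⟨q, hqΩ q⟩)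

lemma SameSections.hom_ext_open {p : W ⟶ V} (hp : SameSections p) (hsurj : Function.Surjective p)
    (hres : ∀ R : V.Opens, SameSections (p ∣_ R))
    {U₀ : Scheme.{u}} (j : U₀ ⟶ V) [IsOpenImmersion j] (a b : U₀ ⟶ Y)
    (h : pullback.snd p j ≫ a = pullback.snd p j ≫ b) : a = b := by
  rw [← cancel_epi j.isoOpensRange.inv]
  refine (hres j.opensRange).hom_ext (fun r => ?_) _ _ ?_
  · obtain ⟨z, hz⟩ := hsurj (j.opensRange.ι r)
    have hzR : z ∈ p ⁻¹ᵁ j.opensRange := by rw [Scheme.Hom.mem_preimage, hz]; exact r.2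
    refine ⟨⟨z, hzR⟩, j.opensRange.ι.isOpenEmbedding.injective ?_⟩
    rw [← Scheme.Hom.comp_apply, morphismRestrict_ι, Scheme.Hom.comp_apply]
    exact hz
  · have hc : (p ⁻¹ᵁ j.opensRange).ι ≫ p = ((p ∣_ j.opensRange) ≫ j.isoOpensRange.inv) ≫ j := by
      rw [Category.assoc, Scheme.Hom.isoOpensRange_inv_comp, morphismRestrict_ι]
    rw [← Category.assoc, ← Category.assoc, ← pullback.lift_snd _ _ hc, Category.assoc, Category.assoc, h]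

lemma SameSections.restrict {p : W ⟶ V} (hp : SameSections p) (O : V.Opens) : SameSections (p ∣_ O) := by
  intro q O' hq
  obtain ⟨Ω, hqΩ, hle, hΩ, hiso⟩ := hp (O.ι q) (O.ι ''ᵁ O') ⟨q, hq, rfl⟩
  have hΩO : Ω ≤ O := fun y hy => by
    obtain ⟨y', -, rfl⟩ := hle hy
    exact y'.2
  refine ⟨O.ι ⁻¹ᵁ Ω, hqΩ, fun y hy => ?_, ?_, ?_⟩
  · obtain ⟨y', hy', e⟩ := hle hy
    rwa [← O.ι.isOpenEmbedding.injective e]
  · exact hΩ.preimage_of_isOpenImmersion O.ι (by rwa [Scheme.Opens.opensRange_ι])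
  · have e : O.ι ''ᵁ (O.ι ⁻¹ᵁ Ω) = Ω := by
      rw [Scheme.Hom.image_preimage_eq_opensRange_inf, Scheme.Opens.opensRange_ι, inf_eq_right]; exact hΩO
    rw [morphismRestrict_app]
    have : IsIso (p.app (O.ι ''ᵁ (O.ι ⁻¹ᵁ Ω))) := by rw [e]; exact hiso
    exact IsIso.comp_isIso' this (Functor.map_isIso W.presheaf (eqToHom _).op)

/-- factorization of a morphism constant on the fibres of the points of an open set -/
theorem exists_factor_on {p : W ⟶ V} (hp : SameSections p) (hsurj : Function.Surjective p) (h : W ⟶ Y)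
    (O : V.Opens)
    (hconst : ∀ q ∈ O, ∃ (Ω : V.Opens) (v : Ω.toScheme ⟶ Y), q ∈ Ω ∧ (p ∣_ Ω) ≫ v = (p ⁻¹ᵁ Ω).ι ≫ h) :
    ∃ v : O.toScheme ⟶ Y, (p ∣_ O) ≫ v = (p ⁻¹ᵁ O).ι ≫ h := by
  choose Ω v hqΩ hv using hconst
  let 𝒰 : O.toScheme.OpenCover := Scheme.openCoverOfIsOpenCover _ (fun q : O => O.ι ⁻¹ᵁ Ω q.1 q.2) (by
    exact IsOpenCover.mk (eq_top_iff.2 fun q _ => Opens.mem_iSup.2 ⟨q, hqΩ q.1 q.2⟩))
  let g : ∀ q : O, (O.ι ⁻¹ᵁ Ω q.1 q.2).toScheme ⟶ Y := fun q =>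
    IsOpenImmersion.lift (Ω q.1 q.2).ι ((O.ι ⁻¹ᵁ Ω q.1 q.2).ι ≫ O.ι) (by
      rw [Scheme.Opens.range_ι]; rintro _ ⟨z, rfl⟩; exact z.2) ≫ v q.1 q.2
  have hg : ∀ (q : O) {T : Scheme.{u}} (z : T ⟶ W) (t : T ⟶ (O.ι ⁻¹ᵁ Ω q.1 q.2).toScheme),
      z ≫ p = t ≫ (O.ι ⁻¹ᵁ Ω q.1 q.2).ι ≫ O.ι → t ≫ g q = z ≫ h := fun q T z t ht => by
    have hr : Set.range z ⊆ Set.range (p ⁻¹ᵁ Ω q.1 q.2).ι := by
      rw [Scheme.Opens.range_ι]
      rintro _ ⟨y, rfl⟩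
      show p (z y) ∈ Ω q.1 q.2
      rw [← Scheme.Hom.comp_apply, ht, Scheme.Hom.comp_apply, Scheme.Hom.comp_apply]
      exact (t y).2
    have hz : IsOpenImmersion.lift (p ⁻¹ᵁ Ω q.1 q.2).ι z hr ≫ (p ∣_ Ω q.1 q.2) =
        t ≫ IsOpenImmersion.lift (Ω q.1 q.2).ι ((O.ι ⁻¹ᵁ Ω q.1 q.2).ι ≫ O.ι) (by
          rw [Scheme.Opens.range_ι]; rintro _ ⟨z, rfl⟩; exact z.2) := by
      rw [← cancel_mono (Ω q.1 q.2).ι, Category.assoc, Category.assoc, morphismRestrict_ι,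
        IsOpenImmersion.lift_fac_assoc, IsOpenImmersion.lift_fac, ht]
    simp only [g]
    rw [← reassoc_of% hz, hv, IsOpenImmersion.lift_fac_assoc]
  have hcompat : ∀ q q' : O, pullback.fst (𝒰.f q) (𝒰.f q') ≫ g q = pullback.snd (𝒰.f q) (𝒰.f q') ≫ g q' := by
    intro q q'
    refine hp.hom_ext_open hsurj (fun R => hp.restrict R) (pullback.fst (𝒰.f q) (𝒰.f q') ≫ 𝒰.f q ≫ O.ι) _ _ ?_
    rw [← Category.assoc, ← Category.assoc]
    refine (hg q (pullback.fst p _) _ ?_).trans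
      (((Category.assoc _ _ _).symm.trans (hg q' (pullback.fst p _) _ ?_)).symm)
    · exact pullback.condition.trans (Category.assoc _ _ _).symm
    · exact pullback.condition.trans ((congrArg (pullback.snd p _ ≫ ·)
        (pullback.condition_assoc (f := 𝒰.f q) (g := 𝒰.f q') O.ι)).trans (Category.assoc _ _ _).symm)
  refine ⟨𝒰.glueMorphisms g hcompat, ?_⟩
  refine (Scheme.openCoverOfIsOpenCover _ (fun q : O => (p ∣_ O) ⁻¹ᵁ (O.ι ⁻¹ᵁ Ω q.1 q.2)) ?_).hom_ext _ _ fun q => ?_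
  · exact IsOpenCover.mk (eq_top_iff.2 fun z _ => Opens.mem_iSup.2 ⟨(p ∣_ O) z, hqΩ _ _⟩)
  show ((p ∣_ O) ⁻¹ᵁ (O.ι ⁻¹ᵁ Ω q.1 q.2)).ι ≫ _ = ((p ∣_ O) ⁻¹ᵁ (O.ι ⁻¹ᵁ Ω q.1 q.2)).ι ≫ _
  have hf : (O.ι ⁻¹ᵁ Ω q.1 q.2).ι ≫ 𝒰.glueMorphisms g hcompat = g q := 𝒰.ι_glueMorphisms g hcompat q
  rw [← morphismRestrict_ι_assoc, hf, hg q (((p ∣_ O) ⁻¹ᵁ (O.ι ⁻¹ᵁ Ω q.1 q.2)).ι ≫ (p ⁻¹ᵁ O).ι), Category.assoc]
  rw [Category.assoc, ← morphismRestrict_ι, morphismRestrict_ι_assoc]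

end Groth.Agent.AlgGrp79
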