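import Mathlib
import Groth.Prelude.Def_AlgGrp
import Groth.Prelude.Def_Red2
import Groth.Agent.AlgGrp79.Act
import Groth.Agent.AlgGrp79.Pullback
import Groth.Agent.AlgGrp79.Cover

set_option autoImplicit false
universe u v w

open CategoryTheory MonoidalCategory CartesianMonoidalCategory MonObj AlgebraicGeometry CategoryTheory.Limits
open scoped commutatorElement

namespace Groth.Agent.AlgGrp79

lemma hom_ext_pts3 {C : Type u} [Category.{v} C] [CartesianMonoidalCategory C] {A B D Z : C}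
    (f g : (A ⊗ B) ⊗ D ⟶ Z)
    (h : ∀ (T : C) (a : T ⟶ A) (b : T ⟶ B) (d : T ⟶ D), lift (lift a b) d ≫ f = lift (lift a b) d ≫ g) : f = g := by
  have := h ((A ⊗ B) ⊗ D) (fst _ _ ≫ fst A B) (fst _ _ ≫ snd A B) (snd _ _)
  simpa [← comp_lift] using this

section Solv
variable {S : Scheme.{u}} {G Q : Over S} [GrpObj G] [GrpObj Q] {q : G ⟶ Q} [IsMonHom q]

noncomputable def pre {X X' : Over S} (c : X' ⟶ X) (G : Over S) [GrpObj G] : (X ⟶ G) →* (X' ⟶ G) :=
  MonoidHom.mk' (fun x => c ≫ x) fun x y => MonObj.comp_mul c x y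

lemma pre_derived {X X' : Over S} (c : X' ⟶ X) {n : ℕ} {x : X ⟶ G} (hx : x ∈ derivedSeries (X ⟶ G) n) :
    c ≫ x ∈ derivedSeries (X' ⟶ G) n :=
  map_derivedSeries_le_derivedSeries (pre c G) n (Subgroup.mem_map_of_mem _ hx)

lemma cover_derived_lift (hq : IsCov q) : ∀ (n : ℕ) (X : Over S) (x : X ⟶ Q), x ∈ derivedSeries (X ⟶ Q) n →
    ∃ (X' : Over S) (c : X' ⟶ X) (y : X' ⟶ G), IsCov c ∧ y ∈ derivedSeries (X' ⟶ G) n ∧ y ≫ q = c ≫ x := by
  intro n
  induction n with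
  | zero =>
    intro X x _
    obtain ⟨X', c, y, hc, hy⟩ := hq.exists_lift x
    exact ⟨X', c, y, hc, by simp, hy⟩
  | succ n ih =>
    intro X x hx
    rw [derivedSeries_succ, Subgroup.commutator_def] at hx
    induction hx using Subgroup.closure_induction with
    | mem z hz =>
      obtain ⟨g, hg, h, hh, rfl⟩ := hz
      obtain ⟨X₁, c₁, g', hc₁, hg', eg⟩ := ih X g hg
      obtain ⟨X₂, c₂, h', hc₂, hh', eh⟩ := ih X₁ (c₁ ≫ h) (pre_derived c₁ hh)
      refine ⟨X₂, c₂ ≫ c₁, ⁅c₂ ≫ g', h'⁆, hc₂.comp hc₁, ?_, ?_⟩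
      · rw [derivedSeries_succ]
        exact Subgroup.commutator_mem_commutator (pre_derived c₂ hg') hh'
      · simp only [commutatorElement_def, MonObj.comp_mul, GrpObj.comp_inv, mul_comp', GrpObj.inv_comp,
          Category.assoc, eg, eh]
    | one => exact ⟨X, 𝟙 X, 1, IsCov.id X, Subgroup.one_mem _, by simp [MonObj.one_comp]⟩
    | mul a b _ _ iha ihb =>
      obtain ⟨X₁, c₁, a', hc₁, ha', ea⟩ := iha
      obtain ⟨X₂, c₂, b', hc₂, hb', eb⟩ := ihb
      refine ⟨pullback c₁ c₂, pullback.fst c₁ c₂ ≫ c₁, (pullback.fst c₁ c₂ ≫ a') * (pullback.snd c₁ c₂ ≫ b'),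
        (IsCov.of_isPullback (IsPullback.of_hasPullback c₁ c₂).flip hc₂).comp hc₁,
        Subgroup.mul_mem _ (pre_derived _ ha') (pre_derived _ hb'), ?_⟩
      rw [mul_comp', Category.assoc, Category.assoc, ea, eb, MonObj.comp_mul, Category.assoc, Category.assoc]
      simp only [pullback.condition_assoc]
    | inv a _ iha =>
      obtain ⟨X₁, c₁, a', hc₁, ha', ea⟩ := iha
      exact ⟨X₁, c₁, a'⁻¹, hc₁, Subgroup.inv_mem _ ha', by rw [GrpObj.inv_comp, ea, GrpObj.comp_inv]⟩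

end Solv

end Groth.Agent.AlgGrp79
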