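import Groth.Agent.AlgGrp79.JetAffine
import Groth.Agent.AlgGrp79.GenSubgroup

/-!
Representations with kernel having one rational point.
-/

set_option autoImplicit false
set_option backward.isDefEq.respectTransparency.types false
universe u

open CategoryTheory CategoryTheory.Limits MonoidalCategory CartesianMonoidalCategory MonObj AlgebraicGeometry
open Groth.Agent.RedPts82 CoordGrp CoactBr

noncomputable section

namespace Groth.Agent.AlgGrp79

variable {k : Type u} [Field k] [IsAlgClosed k]

lemma isFinite_of_one_pt (K : Over (Spec (CommRingCat.of k))) [LocallyOfFiniteType K.hom] [QuasiCompact K.hom]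
    (h : ∀ p q : 𝟙_ (Over (Spec (CommRingCat.of k))) ⟶ K, p = q) : IsFinite K.hom := by
  have : JacobsonSpace K.left := LocallyOfFiniteType.jacobsonSpace K.hom
  have hsub : (closedPoints K.left).Subsingleton := fun x hx y hy => by
    obtain ⟨p, rfl⟩ := ptVal_eq x hx
    obtain ⟨q, rfl⟩ := ptVal_eq y hy
    rw [h p q]
  have hcl : IsClosed (closedPoints K.left) := by
    rcases hsub.eq_empty_or_singleton with h0 | ⟨x, hx⟩
    · rw [h0]; exact isClosed_empty
    · rw [hx]
      exact mem_closedPoints_iff.1 (hx ▸ Set.mem_singleton x : x ∈ closedPoints K.left)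
  have huniv : closedPoints K.left = Set.univ := by rw [← hcl.closure_eq, closure_closedPoints]
  have : Finite K.left := Set.finite_univ_iff.1 (huniv ▸ hsub.finite)
  have : LocallyQuasiFinite K.hom := .of_finite_preimage_singleton _ fun _ => Set.toFinite _
  exact IsFinite.of_locallyQuasiFinite K.hom

/-- a representation faithful on rational points makes the group affine -/
theorem isAffine_of_rep_pts {G : Over (Spec (CommRingCat.of k))} [GrpObj G] [LocallyOfFiniteType G.hom] [QuasiCompact G.hom]
    {n : ℕ} (ρ : G ⟶ sp k (GLn n k)) [IsMonHom ρ]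
    (h : ∀ g : 𝟙_ (Over (Spec (CommRingCat.of k))) ⟶ G, g ≫ ρ = 1 → g = 1) : IsAffine G.left := by
  haveI := lft_glN (k := k) n
  haveI := isSeparated_grp (sp k (GLn n k))
  let N := pullback ρ η[sp k (GLn n k)]
  let i : N ⟶ G := pullback.fst _ _
  have hker : AlgGrp.IsKernel i ρ :=
    (IsPullback.of_hasPullback ρ η[sp k (GLn n k)]).of_iso (Iso.refl _) (Iso.refl _) (Iso.refl _) (Iso.refl _)
      (by simp [i]) (by simp [N, toUnit_unique (pullback.snd ρ η[sp k (GLn n k)]) (toUnit _)]) (by simp) (by simp)
  haveI : IsClosedImmersion i.left := by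
    haveI : IsClosedImmersion (η[sp k (GLn n k)]).left :=
      RedPts82.isClosedImmersion_section _ (toUnit _) (toUnit_unique _ _)
    exact MorphismProperty.of_isPullback (isPullback_left (IsPullback.of_hasPullback ρ η)).flip inferInstance
  haveI : LocallyOfFiniteType N.hom := by rw [← Over.w i]; infer_instance
  haveI : QuasiCompact N.hom := by rw [← Over.w i]; infer_instance
  haveI : Mono i := mono_of_isKernel hker
  have hN := isFinite_of_one_pt N fun p q => by
    rw [← cancel_mono i, h _ (isKernel_comp_one hker p), h _ (isKernel_comp_one hker q)]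
  haveI := isFinite_hom_of_finite_kernel ρ i hker hN
  haveI : IsAffine (sp k (GLn n k)).left := inferInstanceAs (IsAffine (Spec (CommRingCat.of (GLn n k))))
  exact isAffine_of_isAffineHom ρ.left

end Groth.Agent.AlgGrp79
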