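import Groth.Agent.AlgGrp79.AffineCriterion
import Groth.Agent.AlgGrp79.AntiAffine
import Groth.Prelude.Def_FrameBundle

/-!
Representations valued in `FrB.GLn` and anti-affine groups.
-/

set_option autoImplicit false
set_option backward.isDefEq.respectTransparency.types false
universe u

open CategoryTheory CategoryTheory.Limits MonoidalCategory CartesianMonoidalCategory MonObj AlgebraicGeometry
open Groth.Agent.RedPts82 CoordGrp CoactBr

noncomputable section

namespace Groth.Agent.AlgGrp79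

variable {k : Type u} [Field k]

/-- the comparison map to the general linear group obtained by base change from `ℤ` -/
lemma exists_toFrame (n : ℕ) : ∃ Ψ : sp k (GLn n k) ⟶ FrB.GLn n (Spec (CommRingCat.of k)), IsMonHom Ψ ∧ Mono Ψ := by
  let f := IsTerminal.from specULiftZIsTerminal (Spec (CommRingCat.of k))
  obtain ⟨y, hy⟩ := GLnDiag.glFn_surjective (k := ULift.{u} ℤ) (X := (Over.map f).obj (sp k (GLn n k)))
    (GLnDiag.glFn (𝟙 (sp k (GLn n k))) :) (GLnDiag.glFn_isUnit (𝟙 (sp k (GLn n k))))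
  let Ψ : sp k (GLn n k) ⟶ FrB.GLn n (Spec (CommRingCat.of k)) := ofBase f y
  have hΨ : ∀ (T : Over (Spec (CommRingCat.of k))) (g : T ⟶ sp k (GLn n k)),
      GLnDiag.glFn (toBase f (g ≫ Ψ)) = GLnDiag.glFn g := fun T g => by
    rw [toBase_comp, toBase_ofBase, GLnDiag.glFn_comp, hy]
    exact (GLnDiag.glFn_comp g (𝟙 _)).symm.trans (by rw [Category.comp_id])
  refine ⟨Ψ, isMonHom_of_points Ψ fun T g h => toBase_injective f (GLnDiag.glFn_injective ?_),
    ⟨fun {T} g h hgh => GLnDiag.glFn_injective (by rw [← hΨ T g, hgh, hΨ])⟩⟩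
  rw [toBase_mul, GLnDiag.glFn_mul, hΨ, hΨ, hΨ, GLnDiag.glFn_mul]

theorem antiAff_iff_hom_GLn (G : Over (Spec (CommRingCat.of k))) [GrpObj G] [LocallyOfFiniteType G.hom] [QuasiCompact G.hom] :
    AntiAff G ↔ ∀ (n : ℕ) (ρ : G ⟶ FrB.GLn n (Spec (CommRingCat.of k))), IsMonHom ρ → ρ = 1 := by
  have := isSeparated_grp G
  constructor
  · intro hG n ρ hρ
    have : IsAffine (FrB.GLn n (Spec (CommRingCat.of k))).left := by
      have : IsAffine (FrB.GLZ.{u} n).left := inferInstanceAs (IsAffine (Spec _))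
      show IsAffine (pullback (FrB.GLZ n).hom _)
      infer_instance
    rw [eq_const_of_isAffine hG η[G] ρ, IsMonHom.one_hom, one_def']
  · intro h
    letI := GLnDiag.gAlg G
    let a := NonAbH1.trivialAction G
    refine ⟨const_injective η[G], fun f => ?_⟩
    obtain ⟨V, hfV, _, hV⟩ := ActRep.exists_stable a {f}
    obtain ⟨n, ρ, _, hfix⟩ := ActRep.exists_rep a V hV
    obtain ⟨Ψ, _, _⟩ := exists_toFrame (k := k) n
    have hρ : ρ = 1 := by
      rw [← cancel_mono Ψ, h n (ρ ≫ Ψ) inferInstance, MonObj.one_comp]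
    have h1 := ActRep.act_trivial_of_fix a (𝟙 G) f
      ((hfix G (𝟙 G)).1 (by rw [Category.id_comp, hρ]) f (hfV f (Finset.mem_singleton_self f))) (𝟙 G) (1 : G ⟶ G)
    have h2 : lift (𝟙 G ≫ 𝟙 G) (1 : G ⟶ G) ≫ a.act = 𝟙 G := by
      show lift (𝟙 G ≫ 𝟙 G) (1 : G ⟶ G) ≫ μ[G] = 𝟙 G
      rw [← Hom.mul_def, Category.id_comp, _root_.mul_one]
    rw [h2, ProdSections.pb_id] at h1
    obtain ⟨r, hr⟩ := ActRep.exists_scalar_one (G := G) (P := G) f
    exact ⟨r, (h1.trans hr).symm⟩

end Groth.Agent.AlgGrp79
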