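import Groth.Agent.AlgGrp79.GLnDiag

/-!
Rationality of conjugacy of diagonalisable subgroups of `GL_m`.
-/

set_option autoImplicit false
set_option backward.isDefEq.respectTransparency.types false
universe u

open CategoryTheory CategoryTheory.Limits MonoidalCategory CartesianMonoidalCategory MonObj AlgebraicGeometry
open Groth.Agent.RedPts82 CoordGrp CoactBr

noncomputable section

namespace Groth.Agent.AlgGrp79.GLnDiag

variable {k : Type u} [Field k] {m : ℕ} {M : Type} [AddCommGroup M] [Fintype M] [DecidableEq M]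
variable {K : Type u} [Field K] [Algebra k K]

omit [Fintype M] [DecidableEq M] in
lemma exists_chiEquiv (α : Red.DS (Spec (CommRingCat.of K)) M ⟶ Red.DS (Spec (CommRingCat.of K)) M) [IsMonHom α] [IsIso α] :
    ∃ c : M ≃+ M, ∀ (X : Over (Spec (CommRingCat.of K))) (t : X ⟶ Red.DS (Spec (CommRingCat.of K)) M) a,
      dsFn (t ≫ α) a = dsFn t (c a) := by
  obtain ⟨c, rfl⟩ := exists_eq_DSmap α
  haveI : IsMonHom (asIso (Red.DSmap (Spec (CommRingCat.of K)) c)).hom := inferInstanceAs (IsMonHom (Red.DSmap _ c))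
  haveI : IsMonHom (inv (Red.DSmap (Spec (CommRingCat.of K)) c)) := inferInstanceAs (IsMonHom (asIso (Red.DSmap (Spec (CommRingCat.of K)) c)).inv)
  obtain ⟨c', hc'⟩ := exists_eq_DSmap (inv (Red.DSmap (Spec (CommRingCat.of K)) c))
  obtain ⟨t, ht⟩ := exists_taut (k := K) M
  have h1 : ∀ a, c (c' a) = a := fun a => ht (by
    have := congrArg (dsFn · a) (show (t ≫ Red.DSmap _ c) ≫ Red.DSmap _ c' = t by rw [← hc', Category.assoc, IsIso.hom_inv_id, Category.comp_id])
    simpa only [dsFn_DSmap] using this)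
  have h2 : ∀ a, c' (c a) = a := fun a => ht (by
    have := congrArg (dsFn · a) (show (t ≫ Red.DSmap _ c') ≫ Red.DSmap _ c = t by rw [← hc', Category.assoc, IsIso.inv_hom_id, Category.comp_id])
    simpa only [dsFn_DSmap] using this)
  exact ⟨{ c with invFun := c', left_inv := h2, right_inv := h1 }, fun X t a => dsFn_DSmap c t a⟩

omit [Fintype M] [DecidableEq M] in
lemma isMonHom_bcDS (χ : Red.DS (Spec (CommRingCat.of K)) M ≅ Red.bc (fm k K) (Red.DS (Spec (CommRingCat.of k)) M))
    (hχ : ∀ (X : Over (Spec (CommRingCat.of K))) (t : X ⟶ Red.DS (Spec (CommRingCat.of K)) M) a,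
      dsFn (toBase (fm k K) (t ≫ χ.hom)) a = dsFn t a) : IsMonHom χ.hom := by
  refine isMonHom_of_points χ.hom fun X x y => toBase_injective _ (dsFn_injective fun a => ?_)
  rw [toBase_mul, hχ, dsFn_mul, dsFn_mul, hχ, hχ]

lemma exists_perm (d e : Fin m → M) (h : ∀ a, Fintype.card {i // d i = a} = Fintype.card {i // e i = a}) :
    ∃ (A B : Matrix (Fin m) (Fin m) k), A * B = 1 ∧ B * A = 1 ∧ ∀ a, A * dP d a * B = dP e a := by
  classical
  let σ : Fin m ≃ Fin m := (Equiv.ofFiberEquiv (fun a => Classical.choice (Fintype.card_eq.1 (h a)))).symm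
  have hσ : ∀ i, d (σ i) = e i := fun i => by
    have := Equiv.ofFiberEquiv_map (fun a => Classical.choice (Fintype.card_eq.1 (h a))) (σ i)
    simp only [σ, Equiv.apply_symm_apply] at this
    exact this.symm
  refine ⟨(1 : Matrix (Fin m) (Fin m) k).submatrix σ id, (1 : Matrix (Fin m) (Fin m) k).submatrix id σ, ?_, ?_, fun a => ?_⟩
  · ext i j
    simp [Matrix.mul_apply, Matrix.one_apply]
  · ext i j
    rw [Matrix.mul_apply, Finset.sum_eq_single (σ.symm i)]
    · simp [Matrix.one_apply]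
    · intro b _ hb
      simp [Matrix.one_apply, show i ≠ σ b from fun hh => hb (by simp [hh])]
    · simp
  · ext i j
    simp [Matrix.mul_apply, Matrix.one_apply, Matrix.diagonal_apply, hσ]
    split_ifs <;> aesop

lemma glFn_conjBy {T X : Over (Spec (CommRingCat.of k))} (x : 𝟙_ (Over (Spec (CommRingCat.of k))) ⟶ sp k (GLn m k))
    (G G' : Matrix (Fin m) (Fin m) k) (hx : glFn x = G.map (cst _)) (hG : G * G' = 1)
    (i : T ⟶ sp k (GLn m k)) (t : X ⟶ T) :
    glFn (t ≫ AGF.conjBy x i) = G.map (cst X) * glFn (t ≫ i) * G'.map (cst X) := by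
  rw [MonObj.comp_mul, MonObj.comp_mul, GrpObj.comp_inv, ← Category.assoc, toUnit_unique (t ≫ toUnit T) (toUnit X)]
  refine (glFn_conj _ _ (G'.map (cst X)) ?_).trans (by rw [glFn_toUnit x G hx])
  rw [glFn_toUnit x G hx, ← Matrix.map_mul, hG, Matrix.map_one _ (map_zero _) (map_one _)]

lemma exists_matrix_pt (g : 𝟙_ (Over (Spec (CommRingCat.of K))) ⟶ Red.bc (fm k K) (sp k (GLn m k))) :
    ∃ f f' : Matrix (Fin m) (Fin m) K, f * f' = 1 ∧ f' * f = 1 ∧
      ∀ X : Over (Spec (CommRingCat.of K)), glFn (toBase (fm k K) (toUnit X ≫ g)) = f.map (cst X) := by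
  let U := 𝟙_ (Over (Spec (CommRingCat.of K)))
  have hb : Function.Bijective (cst U) := by
    have h : ∀ r, cst U r = (Scheme.ΓSpecIso (CommRingCat.of K)).inv r := fun r => by
      show Scheme.Hom.appTop (𝟙 (Spec (CommRingCat.of K))) ((Scheme.ΓSpecIso (CommRingCat.of K)).inv r) = _
      simp
    exact (funext h : ⇑(cst U) = _) ▸ ConcreteCategory.bijective_of_isIso (Scheme.ΓSpecIso (CommRingCat.of K)).inv
  let e : K ≃+* Γ(U.left, ⊤) := RingEquiv.ofBijective _ hb
  let A : Matrix (Fin m) (Fin m) Γ(U.left, ⊤) := (glFn (toBase (fm k K) g) :)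
  have hA : IsUnit A.det := glFn_isUnit _
  refine ⟨A.map e.symm, (A⁻¹).map e.symm, ?_, ?_, fun X => ?_⟩
  · rw [← Matrix.map_mul, Matrix.mul_nonsing_inv A hA, Matrix.map_one _ (map_zero _) (map_one _)]
  · rw [← Matrix.map_mul, Matrix.nonsing_inv_mul A hA, Matrix.map_one _ (map_zero _) (map_one _)]
  · rw [toBase_comp, glFn_comp]
    ext a b
    show (toUnit X).left.appTop (A a b) = cst X (e.symm (A a b))
    rw [← comp_cst (toUnit X)]
    exact congrArg _ (e.apply_symm_apply (A a b)).symm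

/-- rationality of conjugacy -/
theorem exists_conjBy_of_bc {σ τ : Over (Spec (CommRingCat.of k))} [GrpObj σ] [GrpObj τ]
    (i : σ ⟶ sp k (GLn m k)) (j : τ ⟶ sp k (GLn m k)) [IsMonHom i] [IsMonHom j] [Mono j]
    (e1 : Grp.mk σ ≅ Grp.mk (Red.DS (Spec (CommRingCat.of k)) M)) (e2 : Grp.mk τ ≅ Grp.mk (Red.DS (Spec (CommRingCat.of k)) M))
    (g : 𝟙_ (Over (Spec (CommRingCat.of K))) ⟶ Red.bc (fm k K) (sp k (GLn m k)))
    (φ : Red.bc (fm k K) σ ≅ Red.bc (fm k K) τ)
    (h : AGF.conjBy g ((Over.pullback (fm k K)).map i) = φ.hom ≫ (Over.pullback (fm k K)).map j) :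
    ∃ (x : 𝟙_ (Over (Spec (CommRingCat.of k))) ⟶ sp k (GLn m k)) (ψ : σ ≅ τ), AGF.conjBy x i = ψ.hom ≫ j := by
  classical
  let a1 : σ ≅ Red.DS (Spec (CommRingCat.of k)) M := (Grp.forget _).mapIso e1
  let a2 : τ ≅ Red.DS (Spec (CommRingCat.of k)) M := (Grp.forget _).mapIso e2
  have : IsMonHom a1.inv := e1.inv.hom.isMonHom_hom
  have : IsMonHom a2.inv := e2.inv.hom.isMonHom_hom
  obtain ⟨P, hP, hPt⟩ := exists_grading_hom' (a1.inv ≫ i)
  obtain ⟨Q, hQ, hQt⟩ := exists_grading_hom' (a2.inv ≫ j)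
  obtain ⟨χ, hχ⟩ := exists_bcDS (k := k) (K := K) (M := M)
  have hχm : IsMonHom χ.hom := isMonHom_bcDS χ fun X t a => (hχ X).1 t a
  let F := Over.pullback (fm k K)
  let I := χ.hom ≫ F.map (a1.inv ≫ i)
  let J := χ.hom ≫ F.map (a2.inv ≫ j)
  let α : Red.DS (Spec (CommRingCat.of K)) M ⟶ Red.DS (Spec (CommRingCat.of K)) M :=
    χ.hom ≫ F.map a1.inv ≫ φ.hom ≫ F.map a2.hom ≫ χ.inv
  haveI : IsIso α := inferInstance
  have hαJ : α ≫ J = AGF.conjBy g I := by
    have e' : α ≫ J = (χ.hom ≫ F.map a1.inv) ≫ φ.hom ≫ F.map j := by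
      simp [α, J, ← Functor.map_comp_assoc]
    rw [e', ← h]
    simp [I, AGF.conjBy, MonObj.comp_mul, GrpObj.comp_inv, ← Category.assoc]
    rw [toUnit_unique ((χ.hom ≫ F.map a1.inv) ≫ toUnit _) (toUnit (Red.DS (Spec (CommRingCat.of K)) M))]
  let em : k →+* K := algebraMap k K
  have hfn : ∀ (R : M → Matrix (Fin m) (Fin m) k) (u : Red.DS (Spec (CommRingCat.of k)) M ⟶ sp k (GLn m k)),
      (∀ (X : Over (Spec (CommRingCat.of k))) (t : X ⟶ Red.DS (Spec (CommRingCat.of k)) M), glFn (t ≫ u) = gradMat R t) →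
      ∀ (X : Over (Spec (CommRingCat.of K))) (t : X ⟶ Red.DS (Spec (CommRingCat.of K)) M),
      glFn (toBase (fm k K) (t ≫ χ.hom ≫ F.map u)) = gradMat (fun a => (R a).map em) t := by
    intro R u hu X t
    rw [← Category.assoc, toBase_comp_map, hu]
    ext p q
    simp only [gradMat, Matrix.sum_apply, Matrix.smul_apply, Matrix.map_apply]
    refine Finset.sum_congr rfl fun a _ => ?_
    rw [(hχ X).1 t a, cst_map]
  have hI := hfn P _ hPt
  have hJ := hfn Q _ hQt
  obtain ⟨f, f', hff', hf'f, hf⟩ := exists_matrix_pt g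
  have hconj : ∀ (X : Over (Spec (CommRingCat.of K))) (t : X ⟶ Red.DS (Spec (CommRingCat.of K)) M),
      gradMat (fun a => (Q a).map em) (t ≫ α) = gradMat (fun a => f * (P a).map em * f') t := by
    intro X t
    rw [← hJ, gradMat_conj]
    erw [Category.assoc, hαJ]
    rw [glFn_toBase_conjBy g f f' hf hff', ← hI]
    rfl
  haveI : IsMonHom I := inferInstance
  haveI : IsMonHom J := inferInstance
  haveI : Mono (F.map (a2.inv ≫ j)) := by
    haveI : F.IsRightAdjoint := (Over.mapPullbackAdj (fm k K)).isRightAdjoint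
    infer_instance
  haveI : Mono J := inferInstance
  haveI : IsMonHom α := isMonHom_of_points α fun X x y => by
    rw [← cancel_mono J, mul_comp' (x ≫ α) (y ≫ α) J]
    apply toBase_injective
    apply glFn_injective
    simp only [Category.assoc, hαJ]
    rw [toBase_mul, glFn_mul, glFn_toBase_conjBy g f f' hf hff', glFn_toBase_conjBy g f f' hf hff',
      glFn_toBase_conjBy g f f' hf hff', mul_comp', toBase_mul, glFn_mul]
    have h1 : f'.map (cst X) * f.map (cst X) = 1 := by
      rw [← Matrix.map_mul, hf'f, Matrix.map_one _ (map_zero _) (map_one _)]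
    simp only [id_eq]
    simp only [← _root_.mul_assoc]
    rw [_root_.mul_assoc _ (f'.map (cst X)) (f.map (cst X))]
    erw [h1, _root_.mul_one]
  obtain ⟨c, hc⟩ := exists_chiEquiv α
  have key : ∀ a, f * (P (c a)).map em * f' = (Q a).map em := by
    have e : (fun b => (Q (c.symm b)).map em) = fun b => f * (P b).map em * f' :=
      gradMat_injective fun X t => by
        rw [← hconj]
        simp only [gradMat, hc]
        exact (Fintype.sum_equiv c.toEquiv _ _ fun a => by simp).symm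
    intro a
    simpa using (congrFun e (c a)).symm
  obtain ⟨d, A, A', hAA', hA'A, hd⟩ := hP.exists_diagonal
  obtain ⟨e, B, B', hBB', hB'B, he⟩ := hQ.exists_diagonal
  have hcard : ∀ a, Fintype.card {l // (c.symm ∘ d) l = a} = Fintype.card {l // e l = a} := by
    intro a
    have hu : ∀ {X Y : Matrix (Fin m) (Fin m) K}, X * Y = 1 → IsUnit X.det := fun h => Matrix.isUnit_det_of_right_inverse h
    have hu' : ∀ {X Y : Matrix (Fin m) (Fin m) k}, X * Y = 1 → IsUnit (X.map em).det := fun {X Y} h => by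
      rw [← RingHom.mapMatrix_apply, ← RingHom.map_det]; exact (Matrix.isUnit_det_of_right_inverse h).map em
    have r1 : ((P (c a)).map em).rank = Fintype.card {l // d l = c a} := by
      rw [← dP_mul d (F := K)]
      have := congrArg (Matrix.map · em) (hd (c a))
      simp only [Matrix.map_mul] at this
      rw [← Matrix.rank_mul_eq_right_of_isUnit_det _ ((P (c a)).map em) (hu' hAA'),
        ← Matrix.rank_mul_eq_left_of_isUnit_det _ (A.map em * (P (c a)).map em) (hu' hA'A), this]
      simp [Matrix.diagonal_map, apply_ite em]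
    have r2 : ((Q a).map em).rank = Fintype.card {l // e l = a} := by
      rw [← dP_mul e (F := K)]
      have := congrArg (Matrix.map · em) (he a)
      simp only [Matrix.map_mul] at this
      rw [← Matrix.rank_mul_eq_right_of_isUnit_det _ ((Q a).map em) (hu' hBB'),
        ← Matrix.rank_mul_eq_left_of_isUnit_det _ (B.map em * (Q a).map em) (hu' hB'B), this]
      simp [Matrix.diagonal_map, apply_ite em]
    rw [← r2, ← key a, Matrix.rank_mul_eq_left_of_isUnit_det _ _ (hu hf'f), Matrix.rank_mul_eq_right_of_isUnit_det _ _ (hu hff'),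
      r1]
    exact Fintype.card_congr (Equiv.subtypeEquivRight fun l => by simp [AddEquiv.symm_apply_eq])
  obtain ⟨C, C', hCC', hC'C, hC⟩ := exists_perm (k := k) _ e hcard
  let G := B' * C * A
  let G' := A' * C' * B
  have hGG' : G * G' = 1 := by
    simp only [G, G', _root_.mul_assoc]
    rw [← _root_.mul_assoc A A', hAA', _root_.one_mul, ← _root_.mul_assoc C C', hCC', _root_.one_mul, hB'B]
  have hG : ∀ a, G * P (c a) * G' = Q a := fun a => by
    have e2 : dP (c.symm ∘ d) a = dP (F := k) d (c a) := by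
      simp only [dP]
      congr 1
      funext l
      simp [AddEquiv.symm_apply_eq]
    calc G * P (c a) * G' = B' * (C * (A * P (c a) * A') * C') * B := by simp only [G, G', _root_.mul_assoc]
      _ = B' * (B * Q a * B') * B := by rw [hd, show Matrix.diagonal (fun l => if d l = c a then (1 : k) else 0) = dP (c.symm ∘ d) a from e2.symm, hC, he]
      _ = Q a := by
        rw [← _root_.mul_assoc, ← _root_.mul_assoc, hB'B, _root_.one_mul, _root_.mul_assoc, hB'B, _root_.mul_one]
  obtain ⟨x, hx⟩ := exists_ratPt G (Matrix.isUnit_det_of_right_inverse hGG')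
  let D : Red.DS (Spec (CommRingCat.of k)) M ≅ Red.DS (Spec (CommRingCat.of k)) M :=
    { hom := Red.DSmap _ c.toAddMonoidHom
      inv := Red.DSmap _ c.symm.toAddMonoidHom
      hom_inv_id := dsFn_injective fun a => by
        rw [← Category.id_comp (_ ≫ _), ← Category.assoc, dsFn_DSmap, dsFn_DSmap]; simp
      inv_hom_id := dsFn_injective fun a => by
        rw [← Category.id_comp (_ ≫ _), ← Category.assoc, dsFn_DSmap, dsFn_DSmap]; simp }
  refine ⟨x, a1 ≪≫ D ≪≫ a2.symm, ?_⟩
  rw [← cancel_epi a1.inv]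
  apply glFn_injective
  rw [glFn_conjBy x G G' hx hGG']
  have e1' : a1.inv ≫ (a1 ≪≫ D ≪≫ a2.symm).hom ≫ j = (𝟙 _ ≫ D.hom) ≫ a2.inv ≫ j := by simp
  rw [e1', hQt, ← Category.id_comp (a1.inv ≫ i), hPt, ← gradMat_conj]
  simp only [gradMat]
  refine (Fintype.sum_equiv c.toEquiv _ _ fun a => ?_).symm
  simp only [D, dsFn_DSmap]
  simp [hG]

end Groth.Agent.AlgGrp79.GLnDiag
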