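import Groth.Agent.AlgGrp79.GModRep
import Mathlib.LinearAlgebra.Matrix.ToLin

/-!
The module structure on `kⁿ` given by a representation.
-/

set_option autoImplicit false
set_option backward.isDefEq.respectTransparency.types false
universe u

open CategoryTheory CategoryTheory.Limits MonoidalCategory CartesianMonoidalCategory MonObj AlgebraicGeometry
open Groth.Agent.RedPts82 CoordGrp CoactBr
open scoped TensorProduct

noncomputable section

namespace Groth.Agent.AlgGrp79.GModRep

open GLnDiag

variable {k : Type u} [Field k] {n : ℕ}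

/-- the matrix of a point with values in an algebra -/
def glVal {B : Type u} [CommRing B] [Algebra k B] (x : VecGrp.pt k B ⟶ sp k (GLn n k)) : Matrix (Fin n) (Fin n) B :=
  (glFn x).map (Scheme.ΓSpecIso (CommRingCat.of B)).hom

lemma glVal_mul {B : Type u} [CommRing B] [Algebra k B] (x y : VecGrp.pt k B ⟶ sp k (GLn n k)) :
    glVal (x * y) = glVal x * glVal y := by
  rw [glVal, glFn_mul, Matrix.map_mul]; rfl

lemma glVal_one {B : Type u} [CommRing B] [Algebra k B] : glVal (1 : VecGrp.pt k B ⟶ sp k (GLn n k)) = 1 := by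
  rw [glVal, glFn_one, Matrix.map_one _ (map_zero _) (map_one _)]

lemma glVal_natural {B B' : Type u} [CommRing B] [Algebra k B] [CommRing B'] [Algebra k B'] (f : B →ₐ[k] B')
    (x : VecGrp.pt k B ⟶ sp k (GLn n k)) : glVal (VecGrp.ptMap f ≫ x) = (glVal x).map f := by
  rw [glVal, glVal, glFn_comp]
  ext i j
  exact congr($(Scheme.ΓSpecIso_naturality (CommRingCat.ofHom f.toRingHom)) (glFn x i j))

/-- the linear action of a matrix on `B ⊗ kⁿ` -/
def matEnd (B : Type u) [CommRing B] [Algebra k B] :
    Matrix (Fin n) (Fin n) B ≃ₐ[B] Module.End B (B ⊗[k] (Fin n → k)) :=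
  Matrix.toLinAlgEquiv (Algebra.TensorProduct.basis B (Pi.basisFun k (Fin n)))

lemma repr_Wmap {B B' : Type u} [CommRing B] [Algebra k B] [CommRing B'] [Algebra k B'] (f : B →ₐ[k] B')
    (x : B ⊗[k] (Fin n → k)) (i : Fin n) :
    (Algebra.TensorProduct.basis B' (Pi.basisFun k (Fin n))).repr (VecGrp.Wmap f x) i =
      f ((Algebra.TensorProduct.basis B (Pi.basisFun k (Fin n))).repr x i) := by
  induction x using TensorProduct.induction_on with
  | zero => simp
  | tmul b m => simp [Algebra.TensorProduct.basis_repr_tmul]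
  | add x y hx hy => simp [hx, hy]

lemma repr_matEnd {B : Type u} [CommRing B] [Algebra k B] (A : Matrix (Fin n) (Fin n) B) (x : B ⊗[k] (Fin n → k)) (i : Fin n) :
    (Algebra.TensorProduct.basis B (Pi.basisFun k (Fin n))).repr (matEnd B A x) i =
      ∑ j, A i j * (Algebra.TensorProduct.basis B (Pi.basisFun k (Fin n))).repr x j := by
  rw [matEnd, Matrix.toLinAlgEquiv_apply]
  simp [Matrix.mulVec, dotProduct, Pi.single_apply, apply_ite]

/-- the module structure of a representation -/
def gmodOfRep {G : Over (Spec (CommRingCat.of k))} [GrpObj G] (r : G ⟶ sp k (GLn n k)) [IsMonHom r] :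
    VecGrp.GMod G (Fin n → k) where
  ρ B _ _ := (LinearMap.GeneralLinearGroup.generalLinearEquiv B (B ⊗[k] (Fin n → k))).toMonoidHom.comp
    (MonoidHom.toHomUnits
      { toFun := fun g => matEnd B (glVal (g ≫ r))
        map_one' := by rw [MonObj.one_comp, glVal_one, map_one]
        map_mul' := fun g h => by rw [mul_comp', glVal_mul, map_mul] })
  naturality {B B'} _ _ _ _ f g x := by
    refine (Algebra.TensorProduct.basis B' (Pi.basisFun k (Fin n))).ext_elem fun i => ?_
    show (Algebra.TensorProduct.basis B' (Pi.basisFun k (Fin n))).repr (VecGrp.Wmap f (matEnd B (glVal (g ≫ r)) x)) i =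
      (Algebra.TensorProduct.basis B' (Pi.basisFun k (Fin n))).repr
        (matEnd B' (glVal ((VecGrp.ptMap f ≫ g) ≫ r)) (VecGrp.Wmap f x)) i
    rw [repr_Wmap, repr_matEnd, repr_matEnd, Category.assoc, glVal_natural, map_sum]
    simp [repr_Wmap]

lemma eq_one_of_gmodOfRep {G : Over (Spec (CommRingCat.of k))} [GrpObj G] (r : G ⟶ sp k (GLn n k)) [IsMonHom r]
    (h : ∀ (B : Type u) [CommRing B] [Algebra k B] (g : VecGrp.pt k B ⟶ G), (gmodOfRep r).ρ B g = 1) : r = 1 := by
  letI := GLnDiag.gAlg (k := k)
  refine hom_ext_affine fun T _ t => ?_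
  have e : glVal ((affInv T ≫ t) ≫ r) = 1 := by
    apply (matEnd (k := k) (n := n) Γ(T.left, ⊤)).injective
    rw [map_one]
    refine LinearMap.ext fun x => ?_
    exact LinearEquiv.congr_fun (h Γ(T.left, ⊤) (affInv T ≫ t)) x
  have e2 : (affInv T ≫ t) ≫ r = 1 := by
    refine glFn_injective (Matrix.map_injective
      (ConcreteCategory.bijective_of_isIso (Scheme.ΓSpecIso (CommRingCat.of Γ(T.left, ⊤))).hom).1 ?_)
    show glVal _ = glVal _
    rw [e, glVal_one]
  have e3 := congr(affP T ≫ $e2)
  rw [← Category.assoc, ← Category.assoc, affP_affInv, Category.id_comp, MonObj.comp_one] at e3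
  rw [MonObj.comp_one]
  exact e3

end Groth.Agent.AlgGrp79.GModRep
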