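import Groth.Agent.RedPts82.CommTools
import Groth.Agent.RedPts82.RelDim
import Groth.Agent.AlgGrp79.Cover
import Groth.Agent.AlgGrp79.PtsLemmas
import Groth.Agent.AlgGrp79.KernelPts

set_option autoImplicit false
universe u v w

open CategoryTheory MonoidalCategory CartesianMonoidalCategory MonObj AlgebraicGeometry CategoryTheory.Limits
open scoped commutatorElement TensorProduct nonZeroDivisors

namespace Groth.Agent.AlgGrp79

section GaTorus
open Groth.Agent.RedPts82
variable {k : Type u} [Field k]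
local notation "Sk" => Spec (CommRingCat.of k)

lemma ga_to_torus_eq_one {T : Over Sk} [GrpObj T] (hT : Red.IsTorus T) (v : Red.Ga Sk ⟶ T) (h0 : η[Red.Ga Sk] ≫ v = η[T]) :
    v = 1 := by
  let W : Over Sk := 𝟙_ (Over Sk)
  have : IsAffine W.left := inferInstanceAs (IsAffine (Spec (CommRingCat.of k)))
  let e : k ≃+* Γ(W.left, ⊤) := (Scheme.ΓSpecIso (CommRingCat.of k)).symm.commRingCatIsoToRingEquiv
  obtain ⟨o, ho₁, ho₂, -⟩ := exists_gaLift (𝟙 W) (1 : W ⟶ Red.Ga Sk)
  have h := torus_const hT W e (gaTu W ≫ v) o ho₁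
  have hzero : gaTu W ≫ v = 1 := by
    rw [h, reassoc_of% ho₂, Hom.one_def]
    simp only [Category.assoc, h0]
    rw [← Category.assoc, toUnit_unique (gaProj W ≫ toUnit W) (toUnit _), ← Hom.one_def]
  obtain ⟨l, -, hl, -⟩ := exists_gaLift (toUnit (Red.Ga Sk)) (𝟙 (Red.Ga Sk))
  calc v = (l ≫ gaTu W) ≫ v := by rw [hl, Category.id_comp]
    _ = 1 := by rw [Category.assoc, hzero, MonObj.comp_one]

end GaTorus

end Groth.Agent.AlgGrp79
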