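import Groth.Agent.AlgGrp79.NormalImage
import Groth.Prelude.Def_Frob
import Groth.Prelude.Def_Red
import Mathlib.FieldTheory.PurelyInseparable.Basic

/-!
Subgroups of a base change along a purely inseparable extension are contained in descended subgroups.
-/

set_option autoImplicit false
set_option linter.unusedSectionVars false
set_option backward.isDefEq.respectTransparency.types false

universe u

open CategoryTheory MonoidalCategory CartesianMonoidalCategory MonObj GrpObj AlgebraicGeometry

noncomputable section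

namespace Groth.Agent.AlgGrp79.InsepImage

section Power

/-- The iterated Frobenius of a scheme of characteristic `p`. -/
def frobN (p : ℕ) [Fact p.Prime] (X : Scheme.{u}) [FrobSch.IsCharP X p] : ℕ → (X ⟶ X)
  | 0 => 𝟙 X
  | n + 1 => frobN p X n ≫ FrobSch.frob X p

theorem frobN_comp (p : ℕ) [Fact p.Prime] {X Y : Scheme.{u}} [FrobSch.IsCharP X p] [FrobSch.IsCharP Y p]
    (f : X ⟶ Y) : ∀ n, frobN p X n ≫ f = f ≫ frobN p Y n
  | 0 => by simp [frobN]
  | n + 1 => by
    rw [frobN, frobN, Category.assoc, FrobSch.frob_comp p f, ← Category.assoc, frobN_comp p f n, Category.assoc]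

theorem frobN_apply (p : ℕ) [Fact p.Prime] (X : Scheme.{u}) [FrobSch.IsCharP X p] (x : X) :
    ∀ n, frobN p X n x = x
  | 0 => rfl
  | n + 1 => by
    rw [frobN, Scheme.Hom.comp_apply, frobN_apply p X x n, FrobSch.frob_apply]

theorem frobN_appTop (p : ℕ) [Fact p.Prime] (X : Scheme.{u}) [FrobSch.IsCharP X p] (s : Γ(X, ⊤)) :
    ∀ n, (frobN p X n).appTop s = s ^ p ^ n
  | 0 => by simp [frobN]
  | n + 1 => by
    rw [frobN, Scheme.Hom.comp_appTop, CommRingCat.comp_apply, FrobSch.frob_appTop, map_pow, frobN_appTop p X s n,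
      ← pow_mul, pow_succ]

theorem frobN_spec (p : ℕ) [Fact p.Prime] (R : CommRingCat.{u}) [FrobSch.IsCharP (Spec R) p] (n : ℕ)
    (ψ : R ⟶ R) (hψ : ∀ x, ψ x = x ^ p ^ n) : frobN p (Spec R) n = Spec.map ψ := by
  refine ext_of_isAffine ?_
  ext s
  rw [frobN_appTop]
  obtain ⟨r, rfl⟩ := (Scheme.ΓSpecIso R).commRingCatIsoToRingEquiv.symm.surjective s
  refine Eq.trans ?_ (congrArg (fun g : R ⟶ Γ(Spec R, ⊤) => g r) (Scheme.ΓSpecIso_inv_naturality ψ))
  show ((Scheme.ΓSpecIso R).inv r) ^ p ^ n = (Scheme.ΓSpecIso R).inv (ψ r)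
  rw [hψ, map_pow]

/-- A power map of schemes over `k` whose restriction to `K` factors through `k`. -/
theorem exists_power (k K : Type u) [Field k] [Field K] [Algebra k K] [Module.Finite k K] [IsPurelyInseparable k K] :
    ∃ (c : Spec (CommRingCat.of k) ⟶ Spec (CommRingCat.of K))
      (F : ∀ (X : Scheme.{u}), (X ⟶ Spec (CommRingCat.of k)) → (X ⟶ X)),
      (∀ (X Y : Scheme.{u}) (x : X ⟶ Spec (CommRingCat.of k)) (y : Y ⟶ Spec (CommRingCat.of k)) (f : Y ⟶ X),
        f ≫ x = y → F Y y ≫ f = f ≫ F X x) ∧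
      (∀ (X : Scheme.{u}) (x : X ⟶ Spec (CommRingCat.of k)) (z : X), F X x z = z) ∧
      (∀ (X : Scheme.{u}) (x : X ⟶ Spec (CommRingCat.of k)),
        F X x ≫ x = x ≫ c ≫ Spec.map (CommRingCat.ofHom (algebraMap k K))) ∧
      (∀ (X : Scheme.{u}) (x' : X ⟶ Spec (CommRingCat.of K)),
        F X (x' ≫ Spec.map (CommRingCat.ofHom (algebraMap k K))) ≫ x' =
          x' ≫ Spec.map (CommRingCat.ofHom (algebraMap k K)) ≫ c) := by
  obtain ⟨p, hp⟩ := CharP.exists k
  rcases CharP.char_is_prime_or_zero k p with hprime | rfl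
  · haveI : Fact p.Prime := ⟨hprime⟩
    haveI : ExpChar k p := ExpChar.prime hprime
    haveI : CharP K p := charP_of_injective_algebraMap (algebraMap k K).injective p
    haveI : ExpChar K p := ExpChar.prime hprime
    obtain ⟨n, hn⟩ : ∃ n, ∀ x : K, x ^ p ^ n ∈ (algebraMap k K).range := by
      let b := Module.Free.chooseBasis k K
      choose e he using fun i => IsPurelyInseparable.pow_mem k p (b i)
      refine ⟨Finset.univ.sup e, fun x => ?_⟩
      rw [← b.sum_repr x, sum_pow_char_pow]
      refine Subring.sum_mem _ fun i _ => ?_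
      rw [Algebra.smul_def, mul_pow]
      refine Subring.mul_mem _ ⟨(b.repr x i) ^ p ^ Finset.univ.sup e, map_pow _ _ _⟩ ?_
      obtain ⟨d, hd⟩ := Nat.exists_eq_add_of_le (Finset.le_sup (f := e) (Finset.mem_univ i))
      rw [hd, pow_add, pow_mul]
      exact Subring.pow_mem _ (he i) _
    choose φ hφ using hn
    have hinj := (algebraMap k K).injective
    let φ' : K →+* k :=
      { toFun := φ
        map_one' := hinj (by simp [hφ])
        map_mul' := fun x y => hinj (by simp [hφ, mul_pow])
        map_zero' := hinj (by simp [hφ, hprime.ne_zero])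
        map_add' := fun x y => hinj (by simp [hφ, add_pow_char_pow]) }
    refine ⟨Spec.map (CommRingCat.ofHom φ'),
      fun X x => @frobN p _ X (FrobSch.IsCharP.of_hom x p) n, fun X Y x y f _ => ?_, fun X x z => ?_,
      fun X x => ?_, fun X x' => ?_⟩
    · haveI := FrobSch.IsCharP.of_hom x p
      haveI := FrobSch.IsCharP.of_hom y p
      exact frobN_comp p f n
    · haveI := FrobSch.IsCharP.of_hom x p
      exact frobN_apply p X z n
    · haveI := FrobSch.IsCharP.of_hom x p
      rw [frobN_comp p x n, frobN_spec p (CommRingCat.of k) n (CommRingCat.ofHom (φ'.comp (algebraMap k K)))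
        (fun a => hinj ((hφ _).trans (map_pow (algebraMap k K) a _).symm)), ← Spec.map_comp]
      rfl
    · haveI := FrobSch.IsCharP.of_hom x' p
      show frobN p X n ≫ x' = _
      rw [frobN_comp p x' n, frobN_spec p (CommRingCat.of K) n (CommRingCat.ofHom ((algebraMap k K).comp φ'))
        (fun a => hφ a), ← Spec.map_comp]
      rfl
  · haveI := CharP.charP_to_charZero k
    haveI : Algebra.IsAlgebraic k K := Algebra.IsAlgebraic.of_finite k K
    haveI : IsIso (CommRingCat.ofHom (algebraMap k K)) :=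
      (RingEquiv.ofBijective (algebraMap k K)
        ⟨(algebraMap k K).injective, IsPurelyInseparable.surjective_algebraMap_of_isSeparable k K⟩).toCommRingCatIso.isIso_hom
    exact ⟨inv (Spec.map (CommRingCat.ofHom (algebraMap k K))), fun X _ => 𝟙 X, fun X Y _ _ f _ => by simp,
      fun X _ z => rfl, fun X x => by simp, fun X x' => by simp⟩

end Power

theorem main_aux (k K : Type u) [Field k] [Field K]
    (a : Spec (CommRingCat.of K) ⟶ Spec (CommRingCat.of k)) (c : Spec (CommRingCat.of k) ⟶ Spec (CommRingCat.of K))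
    (F : ∀ (X : Scheme.{u}), (X ⟶ Spec (CommRingCat.of k)) → (X ⟶ X))
    (hnat : ∀ (X Y : Scheme.{u}) (x : X ⟶ Spec (CommRingCat.of k)) (y : Y ⟶ Spec (CommRingCat.of k)) (f : Y ⟶ X),
      f ≫ x = y → F Y y ≫ f = f ≫ F X x)
    (hF : ∀ (X : Scheme.{u}) (x : X ⟶ Spec (CommRingCat.of k)) (z : X), F X x z = z)
    (hk : ∀ (X : Scheme.{u}) (x : X ⟶ Spec (CommRingCat.of k)), F X x ≫ x = x ≫ c ≫ a)
    (hK : ∀ (X : Scheme.{u}) (x' : X ⟶ Spec (CommRingCat.of K)), F X (x' ≫ a) ≫ x' = x' ≫ a ≫ c)
    (G : Over (Spec (CommRingCat.of k))) [GrpObj G]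
    (H' : Over (Spec (CommRingCat.of K))) [GrpObj H'] (h' : H' ⟶ Red.bc a G) [IsMonHom h'] [IsClosedImmersion h'.left] :
    ∃ (H : Over (Spec (CommRingCat.of k))) (_ : GrpObj H) (h : H ⟶ G), IsMonHom h ∧ IsClosedImmersion h.left ∧
      ∃ g : H' ⟶ Red.bc a H, g ≫ (Over.pullback a).map h = h' ∧ Surjective g.left := by
  let Φ : G.left ⟶ (Red.bc a G).left :=
    Limits.pullback.lift (F G.left G.hom) (G.hom ≫ c) (by rw [hk, Category.assoc])
  let H : Over (Spec (CommRingCat.of k)) := Over.mk (Limits.pullback.fst Φ h'.left ≫ G.hom)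
  let h : H ⟶ G := Over.homMk (Limits.pullback.fst Φ h'.left) rfl
  haveI : IsClosedImmersion h.left := inferInstanceAs (IsClosedImmersion (Limits.pullback.fst Φ h'.left))
  haveI : Mono h := Over.mono_of_mono_left h
  haveI : Mono h' := Over.mono_of_mono_left h'
  -- the twisting operation on points
  let tT : Over (Spec (CommRingCat.of k)) → Over (Spec (CommRingCat.of K)) := fun T => Over.mk (T.hom ≫ c)
  let tw : ∀ T, tT T ⟶ Red.bc a T := fun T =>
    Over.homMk (Limits.pullback.lift (F T.left T.hom) (T.hom ≫ c) ((hk _ T.hom).trans (Category.assoc _ _ _).symm))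
      (Limits.pullback.lift_snd _ _ _)
  have htw : ∀ (T : Over (Spec (CommRingCat.of k))) (g : T ⟶ G),
      (tw T ≫ (Over.pullback a).map g).left = g.left ≫ Φ := by
    intro T g
    apply Limits.pullback.hom_ext
    · simp only [Φ, Category.assoc, Over.comp_left, tw, Over.homMk_left, Over.pullback_map_left,
        Limits.pullback.lift_fst, Limits.pullback.lift_fst_assoc, hnat _ _ G.hom T.hom g.left (Over.w g)]
    · simp only [Φ, Category.assoc, Over.comp_left, tw, Over.homMk_left, Over.pullback_map_left,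
        Limits.pullback.lift_snd, Over.w_assoc]
  have hmem : ∀ (T : Over (Spec (CommRingCat.of k))) (g : T ⟶ G),
      (∃ z : T ⟶ H, z ≫ h = g) ↔ ∃ m : tT T ⟶ H', m ≫ h' = tw T ≫ (Over.pullback a).map g := by
    intro T g
    constructor
    · rintro ⟨z, rfl⟩
      have e : (z.left ≫ Limits.pullback.snd Φ h'.left) ≫ h'.left = (z ≫ h).left ≫ Φ := by
        rw [Category.assoc, ← Limits.pullback.condition]; exact (Category.assoc _ _ _).symm
      exact ⟨Over.homMk (z.left ≫ Limits.pullback.snd Φ h'.left) (by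
          rw [← Over.w h', ← Category.assoc, e, ← htw, Over.w]),
        Over.OverMorphism.ext (e.trans (htw T (z ≫ h)).symm)⟩
    · rintro ⟨m, hm⟩
      refine ⟨Over.homMk (Limits.pullback.lift g.left m.left ((htw T g).symm.trans
        ((congrArg CommaMorphism.left hm).symm.trans rfl))) ?_, Over.OverMorphism.ext (Limits.pullback.lift_fst _ _ _)⟩
      show Limits.pullback.lift g.left m.left _ ≫ Limits.pullback.fst Φ h'.left ≫ G.hom = T.hom
      rw [Limits.pullback.lift_fst_assoc, Over.w g]
  obtain ⟨hg, hm⟩ := exists_grpObj_closed h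
    ((hmem _ η[G]).2 ⟨1, by rw [MonObj.one_comp, show η[G] = (1 : 𝟙_ _ ⟶ G) from
      (by rw [Hom.one_def, toUnit_unique (toUnit (𝟙_ _)) (𝟙 _), Category.id_comp]), Functor.map_one, MonObj.comp_one]⟩)
    fun T x y => (hmem T _).2 (by
      obtain ⟨m, hm⟩ := (hmem T (x ≫ h)).1 ⟨x, rfl⟩
      obtain ⟨m', hm'⟩ := (hmem T (y ≫ h)).1 ⟨y, rfl⟩
      exact ⟨m⁻¹ * m', by
        rw [Functor.map_mul, Functor.map_inv', MonObj.comp_mul, GrpObj.comp_inv, MonObj.mul_comp, GrpObj.inv_comp,
          hm, hm']⟩)
  -- `H'` maps to the base change of `H`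
  have e₁ : F H'.left (H'.hom ≫ a) ≫ h'.left = (h'.left ≫ Limits.pullback.fst G.hom a) ≫ Φ := by
    apply Limits.pullback.hom_ext
    · simp only [Φ, Category.assoc, Limits.pullback.lift_fst]
      rw [← Category.assoc h'.left, ← hnat _ _ G.hom (H'.hom ≫ a) (h'.left ≫ Limits.pullback.fst G.hom a)]
      rw [← Over.w h', Category.assoc, Category.assoc, Limits.pullback.condition]
      rfl
    · have e : (Red.bc a G).hom = Limits.pullback.snd G.hom a := rfl
      simp only [Φ, Category.assoc, Limits.pullback.lift_snd]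
      rw [← e, Over.w h', hK, Limits.pullback.condition_assoc, ← e, ← Category.assoc h'.left (Red.bc a G).hom, Over.w h']
  let z : H'.left ⟶ H.left :=
    Limits.pullback.lift (h'.left ≫ Limits.pullback.fst G.hom a) (F H'.left (H'.hom ≫ a)) e₁.symm
  have hz : z ≫ H.hom = H'.hom ≫ a := by
    show z ≫ Limits.pullback.fst Φ h'.left ≫ G.hom = _
    rw [Limits.pullback.lift_fst_assoc, Category.assoc, Limits.pullback.condition, ← Over.w h', Category.assoc]
    rfl
  let g : H' ⟶ Red.bc a H := Over.homMk (Limits.pullback.lift z H'.hom hz) (Limits.pullback.lift_snd _ _ _)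
  have hgh : g ≫ (Over.pullback a).map h = h' := by
    refine Over.OverMorphism.ext (Limits.pullback.hom_ext ?_ ?_)
    · simp only [g, Over.comp_left, Category.assoc, Over.pullback_map_left, Over.homMk_left,
        Limits.pullback.lift_fst, Limits.pullback.lift_fst_assoc]
      exact Limits.pullback.lift_fst _ _ _
    · simp only [g, Over.comp_left, Category.assoc, Over.pullback_map_left, Over.homMk_left,
        Limits.pullback.lift_snd]
      exact (Over.w h').symm
  refine ⟨H, hg, h, hm, inferInstance, g, hgh, ⟨fun y => ?_⟩⟩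
  haveI : IsClosedImmersion ((Over.pullback a).map h).left :=
    MorphismProperty.baseChange_map (P := @IsClosedImmersion) a h inferInstance
  set w := ((Over.pullback a).map h).left y with hwdef
  have hw : Φ ((Limits.pullback.fst G.hom a) w) = w := by
    have e : Limits.pullback.fst G.hom a ≫ Φ = F (Red.bc a G).left ((Red.bc a G).hom ≫ a) := by
      apply Limits.pullback.hom_ext
      · simp only [Φ, Category.assoc, Limits.pullback.lift_fst]
        exact (hnat _ _ G.hom _ _ Limits.pullback.condition).symm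
      · simp only [Φ, Category.assoc, Limits.pullback.lift_snd]
        rw [Limits.pullback.condition_assoc]
        exact (hK _ _).symm
    rw [← Scheme.Hom.comp_apply, e]
    exact hF _ _ _
  have hwf : (Limits.pullback.fst G.hom a) w = h.left ((Limits.pullback.fst H.hom a) y) := by
    rw [hwdef, ← Scheme.Hom.comp_apply, ← Scheme.Hom.comp_apply]
    congr 1
    simp [Limits.pullback.lift_fst]
  refine ⟨(Limits.pullback.snd Φ h'.left) ((Limits.pullback.fst H.hom a) y),
    ((Over.pullback a).map h).left.isClosedEmbedding.injective ?_⟩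
  rw [← Scheme.Hom.comp_apply, ← Over.comp_left, hgh, ← hwdef, ← hw, hwf, ← Scheme.Hom.comp_apply,
    ← Scheme.Hom.comp_apply, ← Scheme.Hom.comp_apply, ← Scheme.Hom.comp_apply]
  show (Limits.pullback.fst H.hom a ≫ Limits.pullback.snd Φ h'.left ≫ h'.left) y = _
  rw [← Limits.pullback.condition]
  rfl

theorem main (k K : Type u) [Field k] [Field K] [Algebra k K]
    [Module.Finite k K] [IsPurelyInseparable k K]
    (G : Over (Spec (CommRingCat.of k))) [GrpObj G]
    (H' : Over (Spec (CommRingCat.of K))) [GrpObj H']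
    (h' : H' ⟶ Red.bc (Spec.map (CommRingCat.ofHom (algebraMap k K))) G) [IsMonHom h'] [IsClosedImmersion h'.left] :
    ∃ (H : Over (Spec (CommRingCat.of k))) (_ : GrpObj H) (h : H ⟶ G), IsMonHom h ∧ IsClosedImmersion h.left ∧
      ∃ g : H' ⟶ Red.bc (Spec.map (CommRingCat.ofHom (algebraMap k K))) H, g ≫ (Over.pullback (Spec.map (CommRingCat.ofHom (algebraMap k K)))).map h = h' ∧ Surjective g.left := by
  obtain ⟨c, F, hnat, hF, hk, hK⟩ := exists_power k K
  exact main_aux k K _ c F hnat hF hk hK G H' h'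

end Groth.Agent.AlgGrp79.InsepImage
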