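import Groth.Agent.AlgGrp79.MaxNormal
import Groth.Agent.AlgGrp79.FinIndex
import Groth.Agent.Grp57.Component
import Groth.Agent.S7520
import Groth.Agent.S5353
import Groth.Prelude.Def_SGA7IX

/-!
An isogeny is an isogeny with connected kernel followed by one with étale kernel.
-/

set_option autoImplicit false
set_option linter.unusedSectionVars false
set_option backward.isDefEq.respectTransparency.types false

universe u

open CategoryTheory MonoidalCategory CartesianMonoidalCategory MonObj GrpObj AlgebraicGeometry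

noncomputable section

namespace Groth.Agent.AlgGrp79.IsogenyFactor

variable {k : Type u} [Field k]

/-- The kernel of a homomorphism to an algebraic group is a closed subgroup. -/
theorem exists_kernel {G H : Over (Spec (CommRingCat.of k))} [GrpObj G] [GrpObj H] [LocallyOfFiniteType G.hom]
    [LocallyOfFiniteType H.hom] (φ : G ⟶ H) [IsMonHom φ] :
    ∃ (N : Over (Spec (CommRingCat.of k))) (_ : GrpObj N) (n : N ⟶ G), IsMonHom n ∧ IsClosedImmersion n.left ∧
      AlgGrp.IsKernel n φ := by
  haveI := isSeparated_grp H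
  haveI : IsClosedImmersion (η[H]).left := by
    haveI : IsClosedImmersion ((η[H]).left ≫ H.hom) := by
      rw [Over.w]; exact inferInstanceAs (IsClosedImmersion (𝟙 _))
    exact IsClosedImmersion.of_comp (η[H]).left H.hom
  let N := Limits.pullback φ η[H]
  let n : N ⟶ G := Limits.pullback.fst φ η[H]
  have hker : AlgGrp.IsKernel n φ := by
    have h := IsPullback.of_hasPullback φ η[H]
    rwa [toUnit_unique (Limits.pullback.snd φ η[H]) (toUnit N)] at h
  haveI : IsClosedImmersion n.left := MorphismProperty.of_isPullback (AlgGrp79.isPullback_left hker).flip inferInstance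
  obtain ⟨hg, hm⟩ := exists_grpObj_closed n
    ⟨hker.lift η[G] (toUnit _) (by rw [IsMonHom.one_hom, toUnit_unique (toUnit (𝟙_ _)) (𝟙 _), Category.id_comp]),
      hker.lift_fst _ _ _⟩
    fun T a b => ⟨hker.lift _ (toUnit T) (by
      rw [MonObj.mul_comp, GrpObj.inv_comp, Category.assoc, Category.assoc, hker.w, ← Category.assoc,
        ← Category.assoc b, toUnit_unique (a ≫ toUnit N) (toUnit T), toUnit_unique (b ≫ toUnit N) (toUnit T),
        inv_mul_cancel, Hom.one_def]), hker.lift_fst _ _ _⟩
  exact ⟨N, hg, n, hm, inferInstance, hker⟩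

theorem main (G H : Over (Spec (CommRingCat.of k))) [GrpObj G] [GrpObj H]
    [QuasiCompact G.hom] [LocallyOfFiniteType G.hom] [QuasiCompact H.hom] [LocallyOfFiniteType H.hom]
    (φ : G ⟶ H) [IsMonHom φ] (hφ : SGA7.IsIsogenyOver φ) :
    ∃ (Q : Over (Spec (CommRingCat.of k))) (_ : GrpObj Q) (ψ : G ⟶ Q) (χ : Q ⟶ H),
      IsMonHom ψ ∧ IsMonHom χ ∧ ψ ≫ χ = φ ∧ SGA7.IsIsogenyOver ψ ∧ SGA7.IsIsogenyOver χ ∧
      (∀ (N : Over (Spec (CommRingCat.of k))) (n : N ⟶ G), AlgGrp.IsKernel n ψ → ConnectedSpace ↥N.left) ∧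
      (∀ (N : Over (Spec (CommRingCat.of k))) (n : N ⟶ Q), AlgGrp.IsKernel n χ → Etale N.hom) := by
  obtain ⟨hsurj, hfin⟩ := hφ
  obtain ⟨N, _, n, hnm, hnc, hker⟩ := exists_kernel φ
  haveI := hnm; haveI := hnc
  haveI : Mono n := Over.mono_of_mono_left n
  haveI : IsFinite N.hom := hfin N n hker
  obtain ⟨N₀, _, i, him, hic, hif, hrange, -, -⟩ := Groth.Agent.S7520.result k N
  haveI := him; haveI := hic; haveI := hif
  haveI : Mono i := Over.mono_of_mono_left i
  haveI : IsLocallyNoetherian N.left := LocallyOfFiniteType.isLocallyNoetherian N.hom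
  haveI : LocallyOfFinitePresentation i.left :=
    LocallyOfFinitePresentation.iff_locallyOfFiniteType.2 inferInstance
  haveI : Mono i.left := inferInstance
  haveI : IsOpenImmersion i.left := IsOpenImmersion.of_flat_of_mono i.left
  haveI : IsFinite N₀.hom := by rw [← Over.w i]; infer_instance
  haveI : Finite N₀.left := FinIndex.finite_left N₀
  haveI : JacobsonSpace N₀.left := LocallyOfFiniteType.jacobsonSpace N₀.hom
  haveI : ConnectedSpace N₀.left :=
    ((i.left.isClosedEmbedding.isEmbedding.toHomeomorph.trans (Homeomorph.setCongr hrange)).connectedSpace_iff).2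
      (isConnected_iff_connectedSpace.1 isConnected_connectedComponent)
  haveI : Subsingleton N₀.left := PreconnectedSpace.trivial_of_discrete
  haveI : Surjective (η[N₀]).left :=
    ⟨fun z => ⟨IsLocalRing.closedPoint k, Subsingleton.elim _ _⟩⟩
  let j : N₀ ⟶ G := i ≫ n
  haveI : IsClosedImmersion j.left := inferInstanceAs (IsClosedImmersion (i.left ≫ n.left))
  haveI : Mono j := Over.mono_of_mono_left j
  -- normality
  have hnorm : AlgGrp.IsNormalHom j := by
    have hx : (fst G N₀ * (snd G N₀ ≫ j) * (fst G N₀)⁻¹) ≫ φ = toUnit (G ⊗ N₀) ≫ η[H] := by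
      simp only [MonObj.mul_comp, GrpObj.inv_comp, Category.assoc, j, hker.w]
      rw [← Category.assoc (i), ← Category.assoc (snd G N₀), toUnit_unique (snd G N₀ ≫ i ≫ toUnit N) (toUnit _),
        ← Hom.one_def, _root_.mul_one, mul_inv_cancel]
    let c : G ⊗ N₀ ⟶ N := hker.lift _ (toUnit _) hx
    have hc : c ≫ n = fst G N₀ * (snd G N₀ ≫ j) * (fst G N₀)⁻¹ := hker.lift_fst _ _ _
    let σ : G ⟶ G ⊗ N₀ := lift (𝟙 G) (toUnit G ≫ η[N₀])
    have hσ : σ ≫ c = toUnit G ≫ η[N] := by
      rw [← cancel_mono n, Category.assoc, hc, Category.assoc, IsMonHom.one_hom n]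
      simp only [σ, MonObj.comp_mul, GrpObj.comp_inv, lift_fst, lift_snd_assoc, Category.assoc, j]
      rw [← Category.assoc η[N₀], IsMonHom.one_hom i, IsMonHom.one_hom n, ← Hom.one_def, _root_.mul_one, mul_inv_cancel]
    have sq : IsPullback σ (toUnit G) (snd G N₀) η[N₀] :=
      IsPullback.mk' (by simp [σ]) (fun T a b h _ => by simpa [σ] using congrArg (· ≫ fst G N₀) h)
        fun T a b h => ⟨a ≫ fst G N₀, by
          ext : 1
          · simp [σ]
          · simp only [σ, Category.assoc, lift_snd]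
            rw [← Category.assoc (fst G N₀), ← Category.assoc a, toUnit_unique (a ≫ fst G N₀ ≫ toUnit G) b, h],
          toUnit_unique _ _⟩
    haveI : Surjective σ.left := MorphismProperty.of_isPullback (AlgGrp79.isPullback_left sq).flip inferInstance
    have hsub : Set.range c.left ⊆ Set.range i.left := by
      rintro _ ⟨z, rfl⟩
      obtain ⟨g, rfl⟩ := σ.left.surjective z
      rw [show c.left (σ.left g) = (σ ≫ c).left g from rfl, hσ, hrange]
      rw [show (toUnit G ≫ η[N]).left g = η[N].left (IsLocalRing.closedPoint k) from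
        congrArg η[N].left (Subsingleton.elim (α := PrimeSpectrum k) _ _)]
      exact mem_connectedComponent
    let w : G ⊗ N₀ ⟶ N₀ := Over.homMk (IsOpenImmersion.lift i.left c.left hsub) (by
      rw [← Over.w i, IsOpenImmersion.lift_fac_assoc, Over.w c])
    have hw : w ≫ i = c := Over.OverMorphism.ext (IsOpenImmersion.lift_fac _ _ _)
    intro T g m
    refine ⟨lift g m ≫ w, ?_⟩
    rw [Category.assoc, show w ≫ j = fst G N₀ * (snd G N₀ ≫ j) * (fst G N₀)⁻¹ by
      rw [← hc, ← hw, Category.assoc]]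
    simp [MonObj.comp_mul, GrpObj.comp_inv]
  haveI : IsMonHom j := inferInstanceAs (IsMonHom (i ≫ n))
  obtain ⟨Q, _, ψ, hψm, hQl, hQq, hψf, hψs, hψc, hkerψ⟩ := MaxNormal.exists_quotient_ft j hnorm
  haveI := hψm; haveI := hQl; haveI := hQq; haveI := hψf; haveI := hψs; haveI := hψc.epi
  obtain ⟨χ, hχ⟩ := hψc.desc φ fun T a b h => by
    obtain ⟨m, hm⟩ := exists_ker_of_comp_eq ψ j hkerψ a b h
    have h1 : (a⁻¹ * b) ≫ φ = 1 := by
      rw [hm, Category.assoc m, show j ≫ φ = toUnit N₀ ≫ η[H] by
        rw [Category.assoc, hker.w, ← Category.assoc, toUnit_unique (i ≫ toUnit N) (toUnit N₀)],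
        ← Category.assoc, toUnit_unique (m ≫ toUnit N₀) (toUnit T), Hom.one_def]
    rw [MonObj.mul_comp, GrpObj.inv_comp, inv_mul_eq_one] at h1
    exact h1
  haveI : IsMonHom χ := AlgGrp79.isMonHom_of_forall _ fun T a b => by
    obtain ⟨T₁, c₁, a', hc₁, ha'⟩ := hψc.exists_lift a
    obtain ⟨T₂, c₂, b', hc₂, hb'⟩ := hψc.exists_lift (c₁ ≫ b)
    haveI := (hc₂.comp hc₁).epi
    rw [← cancel_epi (c₂ ≫ c₁)]
    calc (c₂ ≫ c₁) ≫ (a * b) ≫ χ = ((c₂ ≫ a') * b') ≫ ψ ≫ χ := by
            rw [← Category.assoc, MonObj.comp_mul, ← Category.assoc _ ψ, MonObj.mul_comp _ _ ψ]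
            simp only [Category.assoc, ha', hb']
      _ = _ := by
            rw [hχ, MonObj.mul_comp, MonObj.comp_mul, ← hχ]
            simp only [Category.assoc, reassoc_of% ha', reassoc_of% hb']
  haveI : Surjective χ.left := by
    haveI : Surjective (ψ.left ≫ χ.left) := by rw [← Over.comp_left, hχ]; exact hsurj
    exact Surjective.of_comp ψ.left χ.left
  -- the kernel of `χ`
  obtain ⟨M, _, m, hmm, hmc, hkerχ⟩ := exists_kernel χ
  haveI := hmm; haveI := hmc
  haveI : Mono m := Over.mono_of_mono_left m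
  have hn : (n ≫ ψ) ≫ χ = toUnit N ≫ η[H] := by rw [Category.assoc, hχ, hker.w]
  let ψ' : N ⟶ M := hkerχ.lift (n ≫ ψ) (toUnit N) hn
  have hψ' : ψ' ≫ m = n ≫ ψ := hkerχ.lift_fst _ _ _
  haveI : IsMonHom ψ' := AlgGrp79.isMonHom_of_forall _ fun T a b => by
    rw [← cancel_mono m, MonObj.mul_comp _ _ m, Category.assoc, Category.assoc, Category.assoc, hψ',
      ← Category.assoc (a * b), MonObj.mul_comp, MonObj.mul_comp, Category.assoc, Category.assoc]
  have sqN : IsPullback n ψ' ψ m := IsPullback.mk' hψ'.symm (fun T a b h _ => (cancel_mono n).1 h)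
    fun T a b h => by
      have ha : a ≫ φ = toUnit T ≫ η[H] := by
        rw [← hχ, ← Category.assoc, h, Category.assoc, hkerχ.w, ← Category.assoc,
          toUnit_unique (b ≫ toUnit M) (toUnit T)]
      refine ⟨hker.lift a (toUnit T) ha, hker.lift_fst _ _ _, ?_⟩
      rw [← cancel_mono m, Category.assoc, hψ', hker.lift_fst_assoc, h]
  have hψ'c : IsCov ψ' := IsCov.of_isPullback sqN hψc
  haveI := hψ'c.flat; haveI := hψ'c.surj; haveI := hψ'c.lfp
  have hker' : AlgGrp.IsKernel i ψ' := by
    refine IsPullback.mk' ?_ (fun T a b h _ => (cancel_mono i).1 h) fun T a b h => ?_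
    · rw [← cancel_mono m, Category.assoc, hψ', Category.assoc, IsMonHom.one_hom m]
      exact (Category.assoc i n ψ).symm.trans hkerψ.w
    · have ha : (a ≫ n) ≫ ψ = toUnit T ≫ η[Q] := by
        rw [Category.assoc, ← hψ', ← Category.assoc, h, toUnit_unique b (toUnit T), Category.assoc, IsMonHom.one_hom m]
      exact ⟨hkerψ.lift (a ≫ n) (toUnit T) ha, by rw [← cancel_mono n, Category.assoc, hkerψ.lift_fst],
        toUnit_unique _ _⟩
  haveI : Flat N.hom := inferInstance
  have hM : Etale M.hom := Groth.Agent.S5353.result k N₀ N M i (IsLocalRing.closedPoint k) hrange ψ' hker'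
  haveI : LocallyOfFiniteType M.hom := by rw [← Over.w m]; infer_instance
  haveI : Finite N.left := FinIndex.finite_left N
  haveI : Finite M.left := Finite.of_surjective _ ψ'.left.surjective
  refine ⟨Q, inferInstance, ψ, χ, hψm, inferInstance, hχ, ⟨hψs, fun N' n' h' => ?_⟩, ⟨inferInstance, fun N' n' h' => ?_⟩,
    fun N' n' h' => ?_, fun N' n' h' => ?_⟩
  · let e := h'.isoIsPullback _ _ hkerψ
    rw [← Over.w e.hom]
    haveI : IsIso e.hom.left := (Over.forget _).map_isIso e.hom
    infer_instance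
  · let e := h'.isoIsPullback _ _ hkerχ
    rw [← Over.w e.hom]
    haveI : IsIso e.hom.left := (Over.forget _).map_isIso e.hom
    haveI := FinIndex.isFinite_of_finite M
    infer_instance
  · let e := (Over.forget _).mapIso (h'.isoIsPullback _ _ hkerψ)
    exact (Scheme.homeoOfIso e).connectedSpace_iff.2 (inferInstanceAs (ConnectedSpace N₀.left))
  · let e := h'.isoIsPullback _ _ hkerχ
    rw [← Over.w e.hom]
    haveI : IsIso e.hom.left := (Over.forget _).map_isIso e.hom
    infer_instance

end Groth.Agent.AlgGrp79.IsogenyFactor
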