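import Groth.Agent.AlgGrp79.KernelPts
import Groth.Prelude.Def_W4bk4git07Quot
import Groth.Agent.FlatMor66.FlatDescentSource

/-!
Locally isotrivial quotient maps are torsors.
-/

set_option autoImplicit false
universe u

open CategoryTheory CategoryTheory.Limits MonoidalCategory CartesianMonoidalCategory MonObj AlgebraicGeometry

namespace Groth.Agent.AlgGrp79

variable {S : Scheme.{u}} {G P X : Over S} [GrpObj G] (a : AlgGrp.Action G P) (π : P ⟶ X)

/-- the trivialisation datum over an open subscheme -/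
structure Triv where
  U : X.left.Opens
  U' : Scheme.{u}
  φ : U' ⟶ (U : Scheme.{u})
  flat : Flat φ
  surj : Surjective φ
  lfp : LocallyOfFinitePresentation φ
  s : Over.mk (φ ≫ U.ι ≫ X.hom) ⟶ P
  sq : IsPullback (fst (Over.mk (φ ≫ U.ι ≫ X.hom)) G).left
    (lift (snd (Over.mk (φ ≫ U.ι ≫ X.hom)) G) (fst (Over.mk (φ ≫ U.ι ≫ X.hom)) G ≫ s) ≫ a.act).left
    (φ ≫ U.ι) π.left

variable {a π}

lemma Triv.exists_solution (t : Triv a π) {T : Over S} (u : T ⟶ Over.mk (t.φ ≫ t.U.ι ≫ X.hom)) (q : T ⟶ P)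
    (h : u.left ≫ t.φ ≫ t.U.ι = q.left ≫ π.left) : ∃ e : T ⟶ G, lift e (u ≫ t.s) ≫ a.act = q := by
  let Uo : Over S := Over.mk (t.φ ≫ t.U.ι ≫ X.hom)
  let w : T ⟶ Uo ⊗ G := Over.homMk (t.sq.lift u.left q.left h) (by
    rw [← Over.w (fst Uo G), reassoc_of% (t.sq.lift_fst u.left q.left h)]
    exact Over.w u)
  have h1 : w ≫ fst Uo G = u := Over.OverMorphism.ext (t.sq.lift_fst u.left q.left h)
  have h2 : w ≫ lift (snd Uo G) (fst Uo G ≫ t.s) ≫ a.act = q :=
    Over.OverMorphism.ext (t.sq.lift_snd u.left q.left h)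
  refine ⟨w ≫ snd Uo G, ?_⟩
  rw [← h2, ← Category.assoc w, comp_lift, ← Category.assoc w, h1]

lemma Triv.solution_unique (t : Triv a π) {T : Over S} (u : T ⟶ Over.mk (t.φ ≫ t.U.ι ≫ X.hom))
    (e e' : T ⟶ G) (h : lift e (u ≫ t.s) ≫ a.act = lift e' (u ≫ t.s) ≫ a.act) : e = e' := by
  let Uo : Over S := Over.mk (t.φ ≫ t.U.ι ≫ X.hom)
  have key : (lift u e : T ⟶ Uo ⊗ G) = lift u e' := by
    apply Over.OverMorphism.ext
    apply t.sq.hom_ext
    · rw [← Over.comp_left, ← Over.comp_left, lift_fst, lift_fst]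
    · rw [← Over.comp_left, ← Over.comp_left]
      congr 1
      rw [comp_lift_assoc, comp_lift_assoc, lift_snd, lift_snd, lift_fst_assoc, lift_fst_assoc]
      exact h
  rw [← lift_snd u e, key, lift_snd]

lemma Triv.exists_cover (t : Triv a π) {T : Over S} (q : T ⟶ X) (f : T.left ⟶ (t.U : Scheme.{u}))
    (hf : f ≫ t.U.ι = q.left) :
    ∃ (T' : Over S) (c : T' ⟶ T) (u : T' ⟶ Over.mk (t.φ ≫ t.U.ι ≫ X.hom)),
      IsCov c ∧ u.left ≫ t.φ ≫ t.U.ι = c.left ≫ q.left := by
  have := t.flat; have := t.surj; have := t.lfp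
  let T' : Over S := Over.mk (pullback.fst f t.φ ≫ T.hom)
  let c : T' ⟶ T := Over.homMk (pullback.fst f t.φ) rfl
  let u : T' ⟶ Over.mk (t.φ ≫ t.U.ι ≫ X.hom) := Over.homMk (pullback.snd f t.φ) (by
    show pullback.snd f t.φ ≫ t.φ ≫ t.U.ι ≫ X.hom = pullback.fst f t.φ ≫ T.hom
    rw [← pullback.condition_assoc, reassoc_of% hf, Over.w q])
  refine ⟨T', c, u, ⟨inferInstanceAs (Flat (pullback.fst f t.φ)),
    inferInstanceAs (Surjective (pullback.fst f t.φ)),
    inferInstanceAs (LocallyOfFinitePresentation (pullback.fst f t.φ))⟩, ?_⟩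
  show pullback.snd f t.φ ≫ t.φ ≫ t.U.ι = pullback.fst f t.φ ≫ q.left
  rw [← pullback.condition_assoc, hf]

variable (hinv : GIT.IsInvariant a π)
include hinv

omit hinv in
/-- uniqueness of the translating element, locally -/
lemma Triv.unique (t : Triv a π) {T : Over S} (p : T ⟶ P) (f : T.left ⟶ (t.U : Scheme.{u}))
    (hf : f ≫ t.U.ι = (p ≫ π).left) (h h' : T ⟶ G) (heq : lift h p ≫ a.act = lift h' p ≫ a.act) : h = h' := by
  obtain ⟨T', c, u, hc, hu⟩ := t.exists_cover (p ≫ π) f hf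
  have := hc.epi
  rw [← cancel_epi c]
  obtain ⟨e, he⟩ := t.exists_solution u (c ≫ p) (by rw [hu]; simp)
  have h1 : ∀ g : T ⟶ G, lift ((c ≫ g) * e) (u ≫ t.s) ≫ a.act = c ≫ lift g p ≫ a.act := by
    intro g
    rw [mul_act', he, ← Category.assoc c, comp_lift]
  have := t.solution_unique u ((c ≫ h) * e) ((c ≫ h') * e) (by rw [h1, h1, heq])
  exact mul_right_cancel this

/-- existence of the translating element, locally -/
lemma Triv.exists_trans (t : Triv a π) {T : Over S} (p p' : T ⟶ P) (hpp : p ≫ π = p' ≫ π)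
    (f : T.left ⟶ (t.U : Scheme.{u})) (hf : f ≫ t.U.ι = (p ≫ π).left) :
    ∃ h : T ⟶ G, lift h p ≫ a.act = p' := by
  obtain ⟨T', c, u, hc, hu⟩ := t.exists_cover (p ≫ π) f hf
  obtain ⟨e, he⟩ := t.exists_solution u (c ≫ p) (by rw [hu]; simp)
  obtain ⟨e', he'⟩ := t.exists_solution u (c ≫ p') (by rw [hu, hpp]; simp)
  have hsol : lift (e' * e⁻¹) (c ≫ p) ≫ a.act = c ≫ p' := by
    rw [← he, ← mul_act', inv_mul_cancel_right, he']
  obtain ⟨h, hh⟩ := hc.desc (e' * e⁻¹) fun Z x y hxy => by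
    refine t.unique (x ≫ c ≫ p) ((x ≫ c).left ≫ f) ?_ _ _ ?_
    · rw [Category.assoc, hf]; simp
    · rw [← comp_lift_assoc, hsol, reassoc_of% hxy, reassoc_of% hxy, ← comp_lift_assoc, hsol]
  have := hc.epi
  refine ⟨h, ?_⟩
  rw [← cancel_epi c, ← Category.assoc, comp_lift, hh, hsol]

variable (hcov : ∀ x : X.left, ∃ t : Triv a π, x ∈ t.U)
include hcov

omit hinv in
lemma unique_trans {T : Over S} (p : T ⟶ P) (h h' : T ⟶ G)
    (heq : lift h p ≫ a.act = lift h' p ≫ a.act) : h = h' := by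
  choose t ht using hcov
  have hc : TopologicalSpace.IsOpenCover (fun z : T.left => (p ≫ π).left ⁻¹ᵁ (t ((p ≫ π).left z)).U) := by
    rw [TopologicalSpace.IsOpenCover, eq_top_iff]
    exact fun z _ => TopologicalSpace.Opens.mem_iSup.mpr ⟨z, ht _⟩
  apply Over.OverMorphism.ext
  refine Scheme.Cover.hom_ext (T.left.openCoverOfIsOpenCover _ hc) _ _ fun z => ?_
  let W := (p ≫ π).left ⁻¹ᵁ (t ((p ≫ π).left z)).U
  let Wo : Over S := Over.mk (W.ι ≫ T.hom)
  let i : Wo ⟶ T := Over.homMk W.ι rfl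
  have := (t ((p ≫ π).left z)).unique (i ≫ p) ((p ≫ π).left ∣_ (t ((p ≫ π).left z)).U) (by
    rw [morphismRestrict_ι, Category.assoc]; simp [i, W]; rfl) (i ≫ h) (i ≫ h') (by
    rw [← comp_lift_assoc, heq, comp_lift_assoc])
  exact congrArg Over.Hom.left this

lemma exists_trans {T : Over S} (p p' : T ⟶ P) (hpp : p ≫ π = p' ≫ π) :
    ∃ h : T ⟶ G, lift h p ≫ a.act = p' := by
  have hu := @unique_trans _ _ _ _ _ a π hcov
  choose t ht using hcov
  let W : T.left → T.left.Opens := fun z => (p ≫ π).left ⁻¹ᵁ (t ((p ≫ π).left z)).U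
  have hc : TopologicalSpace.IsOpenCover W := by
    rw [TopologicalSpace.IsOpenCover, eq_top_iff]
    exact fun z _ => TopologicalSpace.Opens.mem_iSup.mpr ⟨z, ht _⟩
  let i : ∀ z, Over.mk ((W z).ι ≫ T.hom) ⟶ T := fun z => Over.homMk (W z).ι rfl
  have hex : ∀ z, ∃ h : Over.mk ((W z).ι ≫ T.hom) ⟶ G, lift h (i z ≫ p) ≫ a.act = i z ≫ p' := fun z =>
    (t ((p ≫ π).left z)).exists_trans hinv (i z ≫ p) (i z ≫ p') (by rw [Category.assoc, hpp, Category.assoc])
      ((p ≫ π).left ∣_ (t ((p ≫ π).left z)).U) (by rw [morphismRestrict_ι, Category.assoc]; simp [i, W])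
  choose h hh using hex
  let 𝒰 := T.left.openCoverOfIsOpenCover W hc
  have hcompat : ∀ x y : T.left, pullback.fst (W x).ι (W y).ι ≫ (h x).left =
      pullback.snd (W x).ι (W y).ι ≫ (h y).left := by
    intro x y
    let Z : Over S := Over.mk (pullback.fst (W x).ι (W y).ι ≫ (W x).ι ≫ T.hom)
    let px : Z ⟶ Over.mk ((W x).ι ≫ T.hom) := Over.homMk (pullback.fst (W x).ι (W y).ι) rfl
    let py : Z ⟶ Over.mk ((W y).ι ≫ T.hom) := Over.homMk (pullback.snd (W x).ι (W y).ι) (by
      show pullback.snd _ _ ≫ (W y).ι ≫ T.hom = _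
      rw [← pullback.condition_assoc]; rfl)
    have hpxy : px ≫ i x = py ≫ i y := Over.OverMorphism.ext pullback.condition
    have := hu (px ≫ i x ≫ p) (px ≫ h x) (py ≫ h y) (by
      rw [← comp_lift_assoc, hh x, reassoc_of% hpxy, reassoc_of% hpxy, ← comp_lift_assoc, hh y])
    exact congrArg Over.Hom.left this
  let g : T ⟶ G := Over.homMk (𝒰.glueMorphisms (fun z => (h z).left) hcompat) (by
    refine 𝒰.hom_ext _ _ fun z => ?_
    rw [← Category.assoc, Scheme.Cover.ι_glueMorphisms]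
    exact Over.w (h z))
  refine ⟨g, ?_⟩
  apply Over.OverMorphism.ext
  refine 𝒰.hom_ext _ _ fun z => ?_
  have hg : i z ≫ g = h z := Over.OverMorphism.ext (𝒰.ι_glueMorphisms _ hcompat z)
  have := congrArg Over.Hom.left (show i z ≫ lift g p ≫ a.act = i z ≫ p' by
    rw [← Category.assoc, comp_lift, hg, hh])
  exact this

lemma isIso_psiY : IsIso (GIT.PsiY a π hinv) := by
  let T : Over S := Over.mk (pullback.fst π.left π.left ≫ P.hom)
  let p' : T ⟶ P := Over.homMk (pullback.fst π.left π.left) rfl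
  let p : T ⟶ P := Over.homMk (pullback.snd π.left π.left) (by
    show pullback.snd π.left π.left ≫ P.hom = pullback.fst π.left π.left ≫ P.hom
    rw [← Over.w π, ← pullback.condition_assoc])
  have hpp : p ≫ π = p' ≫ π := Over.OverMorphism.ext pullback.condition.symm
  obtain ⟨h, hh⟩ := exists_trans hinv hcov p p' hpp
  refine ⟨(lift h p).left, ?_, ?_⟩
  · let ψ : G ⊗ P ⟶ T := Over.homMk (GIT.PsiY a π hinv) (by
      show GIT.PsiY a π hinv ≫ pullback.fst π.left π.left ≫ P.hom = _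
      rw [GIT.PsiY, pullback.lift_fst_assoc]; exact Over.w a.act)
    have hψp : ψ ≫ p = snd G P := Over.OverMorphism.ext (pullback.lift_snd _ _ _)
    have hψp' : ψ ≫ p' = a.act := Over.OverMorphism.ext (pullback.lift_fst _ _ _)
    have hmain : ψ ≫ lift h p = 𝟙 _ := by
      have hu : ψ ≫ h = fst G P := by
        refine unique_trans hcov (snd G P) _ _ ?_
        rw [lift_fst_snd, Category.id_comp, ← hψp, ← comp_lift_assoc, hh, hψp']
      rw [comp_lift, hu, hψp, lift_fst_snd]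
    exact congrArg Over.Hom.left hmain
  · apply pullback.hom_ext
    · rw [Category.assoc, GIT.PsiY, pullback.lift_fst, Category.id_comp]
      exact congrArg Over.Hom.left hh
    · rw [Category.assoc, GIT.PsiY, pullback.lift_snd, Category.id_comp]
      exact congrArg Over.Hom.left (lift_snd h p)

omit hinv in
lemma flat_of_triv [Flat G.hom] : Flat π.left := by
  choose t ht using hcov
  have hc : TopologicalSpace.IsOpenCover (fun x : X.left => (t x).U) := by
    rw [TopologicalSpace.IsOpenCover, eq_top_iff]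
    exact fun x _ => TopologicalSpace.Opens.mem_iSup.mpr ⟨x, ht x⟩
  refine (IsZariskiLocalAtTarget.iff_of_iSup_eq_top (P := @Flat) _ hc).2 fun x => ?_
  have := (t x).flat; have := (t x).surj
  let Uo : Over S := Over.mk ((t x).φ ≫ (t x).U.ι ≫ X.hom)
  let Ψ := (lift (snd Uo G) (fst Uo G ≫ (t x).s) ≫ a.act).left
  have hflat : Flat (fst Uo G).left := by
    show Flat (pullback.fst Uo.hom G.hom); infer_instance
  let q : (Uo ⊗ G).left ⟶ (π.left ⁻¹ᵁ (t x).U : Scheme.{u}) :=
    IsOpenImmersion.lift (π.left ⁻¹ᵁ (t x).U).ι Ψ (by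
      rintro _ ⟨z, rfl⟩
      rw [Scheme.Opens.range_ι]
      show π.left (Ψ z) ∈ (t x).U
      rw [← Scheme.Hom.comp_apply, ← (t x).sq.w, Scheme.Hom.comp_apply, Scheme.Hom.comp_apply]
      exact ((t x).φ _).2)
  have hsq : IsPullback (fst Uo G).left q (t x).φ (π.left ∣_ (t x).U) := by
    refine IsPullback.of_bot ?_ ?_ (isPullback_morphismRestrict π.left (t x).U)
    · rw [IsOpenImmersion.lift_fac]; exact (t x).sq
    · rw [← cancel_mono (t x).U.ι, Category.assoc, Category.assoc, morphismRestrict_ι,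
        IsOpenImmersion.lift_fac_assoc]
      exact (t x).sq.w
  have : Flat q := MorphismProperty.of_isPullback hsq ‹Flat (t x).φ›
  have : Surjective q := MorphismProperty.of_isPullback hsq ‹Surjective (t x).φ›
  have : Flat (q ≫ π.left ∣_ (t x).U) := by rw [← hsq.w]; infer_instance
  exact FlatMor66.flat_of_comp_surjective q _

end Groth.Agent.AlgGrp79
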