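import Groth.Agent.AlgGrp79.Jets
import Groth.Agent.AlgGrp79.Cover

/-!
Groups acting with a fixed point: the quotient by the kernel of the action is affine.
-/

set_option autoImplicit false
set_option backward.isDefEq.respectTransparency.types false
universe u

open CategoryTheory CategoryTheory.Limits MonoidalCategory CartesianMonoidalCategory MonObj AlgebraicGeometry
open Groth.Agent.RedPts82 CoordGrp CoactBr

noncomputable section

namespace Groth.Agent.AlgGrp79

variable {k : Type u} [Field k]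

lemma krull_affine {V : Over (Spec (CommRingCat.of k))} [IsAffine V.left] [IsIntegral V.left] [IsLocallyNoetherian V.left]
    (x' : 𝟙_ (Over (Spec (CommRingCat.of k))) ⟶ V) :
    letI := GLnDiag.gAlg V; ∀ b, (∀ m : ℕ, b ∈ Jets.ptIdeal x' ^ (m + 1)) → b = 0 := by
  letI := GLnDiag.gAlg V
  intro b hb
  haveI : IsNoetherianRing Γ(V.left, ⊤) := IsLocallyNoetherian.component_noetherian ⟨⊤, isAffineOpen_top _⟩
  haveI : Nonempty V.left := ⟨x'.left (IsLocalRing.closedPoint k)⟩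
  haveI : Nonempty (⊤ : V.left.Opens) := ⟨⟨Classical.arbitrary _, trivial⟩⟩
  haveI : IsDomain Γ(V.left, ⊤) := inferInstance
  have h := Ideal.iInf_pow_eq_bot_of_isDomain (I := Jets.ptIdeal x') (Jets.ptIdeal_isMaximal x').ne_top
  refine (Submodule.mem_bot _).1 (h ▸ Ideal.mem_iInf.2 fun i => ?_)
  exact Ideal.pow_le_pow_right (Nat.le_succ i) (hb i)

/-- a representation whose kernel is the kernel of an action with a fixed point -/
theorem exists_rep_fixedPt {G X : Over (Spec (CommRingCat.of k))} [GrpObj G] [LocallyOfFiniteType G.hom] [QuasiCompact G.hom]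
    [IsSeparated X.hom] [IsIntegral X.left] [IsLocallyNoetherian X.left]
    (a : AlgGrp.Action G X) (x : 𝟙_ (Over (Spec (CommRingCat.of k))) ⟶ X) (hx : a.IsFixedPt x) :
    ∃ (n : ℕ) (ρ : G ⟶ sp k (GLn n k)), IsMonHom ρ ∧
      (∀ (T : Over (Spec (CommRingCat.of k))) (g : T ⟶ G), g ≫ ρ = 1 →
        ∀ (T' : Over (Spec (CommRingCat.of k))) (t : T' ⟶ T) (y : T' ⟶ X), lift (t ≫ g) y ≫ a.act = y) ∧
      ∀ (T : Over (Spec (CommRingCat.of k))) (g : T ⟶ G) [QuasiCompact T.hom] [QuasiSeparated T.hom],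
        (∀ (T' : Over (Spec (CommRingCat.of k))) (t : T' ⟶ T) (y : T' ⟶ X), lift (t ≫ g) y ≫ a.act = y) → g ≫ ρ = 1 := by
  obtain ⟨U, hU, hxU, -⟩ := exists_isAffineOpen_mem_and_subset (U := (⊤ : X.left.Opens))
    (show x.left (IsLocalRing.closedPoint k) ∈ (⊤ : X.left.Opens) from trivial)
  let V : Over (Spec (CommRingCat.of k)) := ProdSections.Uov U
  let jV : V ⟶ X := ProdSections.Uin U
  haveI : IsAffine V.left := hU
  haveI : IsOpenImmersion jV.left := inferInstanceAs (IsOpenImmersion U.ι)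
  haveI : Nonempty U := ⟨⟨_, hxU⟩⟩
  haveI : IsIntegral V.left := inferInstanceAs (IsIntegral U.toScheme)
  haveI : IsLocallyNoetherian V.left := isLocallyNoetherian_of_isOpenImmersion U.ι
  let x' : 𝟙_ (Over (Spec (CommRingCat.of k))) ⟶ V := Over.homMk (IsOpenImmersion.lift U.ι x.left (by
      rintro _ ⟨p, rfl⟩
      rw [Scheme.Opens.range_ι, Subsingleton.elim (α := PrimeSpectrum k) p (IsLocalRing.closedPoint k)]
      exact hxU)) (by
    show _ ≫ U.ι ≫ X.hom = _
    rw [IsOpenImmersion.lift_fac_assoc, Over.w])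
  have hx' : x' ≫ jV = x := by ext : 1; exact IsOpenImmersion.lift_fac _ _ _
  obtain ⟨n, ρ, hρ, hfwd, hback⟩ := Jets.exists_rep_jets a x' jV (hx'.symm ▸ hx) (krull_affine x')
  refine ⟨n, ρ, hρ, fun T g hg T' t y => ?_, fun T g _ _ h => hback T g (h _ (fst T X) (snd T X))⟩
  haveI : IsDominant jV.left := ⟨show DenseRange U.ι by
    rw [DenseRange, Scheme.Opens.range_ι]; exact U.2.dense ⟨_, hxU⟩⟩
  haveI : IsSchemeTheoreticallyDominant jV.left := .of_isDominant _
  haveI : IsIso (𝟙 T : T ⟶ T).left := inferInstanceAs (IsIso (𝟙 T.left))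
  haveI : QuasiCompact jV.left := inferInstance
  haveI := (schDominant_tensor (𝟙 T) jV).1
  haveI := (schDominant_tensor (𝟙 T) jV).2
  haveI : IsClosedImmersion (lift (𝟙 X) (𝟙 X) : X ⟶ X ⊗ X).left := SGA3a.isClosedImmersion_diag X
  obtain ⟨φ, hφ⟩ := exists_lift_of_dominant (𝟙 T ⊗ₘ jV) (lift (lift (fst T X ≫ g) (snd T X) ≫ a.act) (snd T X))
    (lift (𝟙 X) (𝟙 X)) (snd T V ≫ jV) (by
      rw [comp_lift, comp_lift, Category.comp_id, ← Category.assoc, comp_lift, tensorHom_fst_assoc, tensorHom_snd,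
        Category.id_comp, hfwd T g hg])
  have e1 := congr($hφ ≫ fst X X)
  have e2 := congr($hφ ≫ snd X X)
  simp only [Category.assoc, lift_fst, lift_snd, Category.comp_id] at e1 e2
  have e := congr(lift t y ≫ $(e1.symm.trans e2))
  rwa [← Category.assoc, comp_lift, lift_fst_assoc, lift_snd] at e

/-- quotient by the kernel of a representation is affine -/
theorem isAffine_quotient_of_rep {G N Q : Over (Spec (CommRingCat.of k))} [GrpObj G] [GrpObj Q]
    [LocallyOfFiniteType G.hom] [LocallyOfFiniteType Q.hom] [QuasiCompact Q.hom]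
    (i : N ⟶ G) (q : G ⟶ Q) [IsMonHom q] [Surjective q.left] [Flat q.left] (hK : AlgGrp.IsKernel i q)
    {n : ℕ} (ρ : G ⟶ sp k (GLn n k)) [IsMonHom ρ] (h0 : i ≫ ρ = 1)
    (h : ∀ (T : Over (Spec (CommRingCat.of k))) (g : T ⟶ G), g ≫ ρ = 1 → g ≫ q = 1) : IsAffine Q.left := by
  have hc := isCov_of_flat_surjective q
  obtain ⟨ψ, hψ⟩ := hc.desc ρ fun T a b hab => by
    obtain ⟨m, hm⟩ := exists_ker_of_comp_eq q i hK a b hab
    have : (a⁻¹ * b) ≫ ρ = 1 := by rw [hm, Category.assoc, h0, MonObj.comp_one]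
    rw [mul_comp', GrpObj.inv_comp] at this
    exact inv_mul_eq_one.1 this
  have : IsMonHom ψ := RedPts82.isMonHom_of_points ψ fun T u v => by
    obtain ⟨T₁, c₁, u', hc₁, hu⟩ := hc.exists_lift u
    obtain ⟨T₂, c₂, v', hc₂, hv⟩ := hc.exists_lift (c₁ ≫ v)
    haveI := (hc₂.comp hc₁).epi
    rw [← cancel_epi (c₂ ≫ c₁)]
    have e1 : (c₂ ≫ c₁) ≫ u = (c₂ ≫ u') ≫ q := by rw [Category.assoc, Category.assoc, hu]
    have e2 : (c₂ ≫ c₁) ≫ v = v' ≫ q := by rw [Category.assoc, hv]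
    rw [← Category.assoc _ (u * v) ψ, MonObj.comp_mul, MonObj.comp_mul, ← Category.assoc _ u ψ, ← Category.assoc _ v ψ, e1, e2,
      ← mul_comp' (c₂ ≫ u') v' q, Category.assoc, hψ, mul_comp', Category.assoc (c₂ ≫ u') q ψ, hψ, Category.assoc v' q ψ, hψ]
  refine isAffine_of_rep ψ fun T g hg => ?_
  obtain ⟨T', c, g', hc', hg'⟩ := hc.exists_lift g
  haveI := hc'.epi
  rw [← cancel_epi c, MonObj.comp_one, ← hg']
  refine h _ _ ?_
  rw [← hψ, ← Category.assoc, hg', Category.assoc, hg, MonObj.comp_one]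

end Groth.Agent.AlgGrp79
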