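import Groth.Agent.AlgGrp79.GLFrame
import Groth.Agent.AlgGrp79.Image
import Groth.Agent.SGA3a.Transporter
import Groth.Agent.RedPts82.ClosedBorel

/-!
The representations on the infinitesimal neighbourhoods of a fixed point.
-/

set_option autoImplicit false
set_option backward.isDefEq.respectTransparency.types false
universe u

open CategoryTheory CategoryTheory.Limits MonoidalCategory CartesianMonoidalCategory MonObj AlgebraicGeometry
open Groth.Agent.RedPts82 CoordGrp CoactBr
open scoped TensorProduct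

noncomputable section

namespace Groth.Agent.AlgGrp79.Jets

open GLnDiag ProdSections

attribute [local instance] GLnDiag.gAlg

variable {k : Type u} [Field k]

lemma comp_affPt {P V : Over (Spec (CommRingCat.of k))} (f : P ⟶ V) : f ≫ affPt V = affPt P ≫ pt (pb f) := by
  ext : 1
  show f.left ≫ V.left.toSpecΓ = P.left.toSpecΓ ≫ Spec.map f.left.appTop
  exact Scheme.toSpecΓ_naturality f.left

lemma isIso_affPt (V : Over (Spec (CommRingCat.of k))) [IsAffine V.left] : IsIso (affPt V) := by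
  have : IsIso ((Over.forget _).map (affPt V)) := inferInstanceAs (IsIso V.left.toSpecΓ)
  exact isIso_of_reflects_iso _ (Over.forget _)

lemma pb_affPt {V : Over (Spec (CommRingCat.of k))} (b : Γ(V.left, ⊤)) :
    pb (affPt V) ((Scheme.ΓSpecIso (CommRingCat.of Γ(V.left, ⊤))).inv b) = b := by
  show V.left.toSpecΓ.appTop ((Scheme.ΓSpecIso (CommRingCat.of Γ(V.left, ⊤))).inv b) = b
  rw [Scheme.toSpecΓ_appTop]
  exact congr($((Scheme.ΓSpecIso (CommRingCat.of Γ(V.left, ⊤))).inv_hom_id) b)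

/-- the infinitesimal neighbourhood cut out by the power of an ideal -/
def jetObj {V : Over (Spec (CommRingCat.of k))} (I : Ideal Γ(V.left, ⊤)) (m : ℕ) : Over (Spec (CommRingCat.of k)) :=
  sp k (Γ(V.left, ⊤) ⧸ I ^ (m + 1))

/-- its inclusion -/
def jetMap {V : Over (Spec (CommRingCat.of k))} [IsAffine V.left] (I : Ideal Γ(V.left, ⊤)) (m : ℕ) : jetObj I m ⟶ V :=
  haveI := isIso_affPt V
  pt (Ideal.Quotient.mkₐ k (I ^ (m + 1))) ≫ inv (affPt V)

instance {V : Over (Spec (CommRingCat.of k))} (I : Ideal Γ(V.left, ⊤)) (m : ℕ) : IsAffine (jetObj I m).left :=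
  inferInstanceAs (IsAffine (Spec _))

variable {V : Over (Spec (CommRingCat.of k))} [IsAffine V.left] (I : Ideal Γ(V.left, ⊤))

lemma pb_jetMap (m : ℕ) (b : Γ(V.left, ⊤)) : pb (jetMap I m) b =
    (Scheme.ΓSpecIso (CommRingCat.of (Γ(V.left, ⊤) ⧸ I ^ (m + 1)))).inv (Ideal.Quotient.mk _ b) := by
  haveI := isIso_affPt V
  conv_lhs => rw [← pb_affPt b]
  rw [← pb_comp_apply, jetMap, Category.assoc, IsIso.inv_hom_id, Category.comp_id]
  have h := congr($(Scheme.ΓSpecIso_inv_naturality (CommRingCat.ofHom (Ideal.Quotient.mk (I ^ (m + 1))))) b)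
  exact h.symm

lemma pb_jetMap_eq_zero (m : ℕ) (b : Γ(V.left, ⊤)) : pb (jetMap I m) b = 0 ↔ b ∈ I ^ (m + 1) := by
  rw [pb_jetMap, ← Ideal.Quotient.eq_zero_iff_mem]
  exact map_eq_zero_iff _ (ConcreteCategory.bijective_of_isIso (Scheme.ΓSpecIso (CommRingCat.of (Γ(V.left, ⊤) ⧸ I ^ (m + 1)))).inv).1

lemma pb_jetMap_surjective (m : ℕ) : Function.Surjective (pb (jetMap I m)) := fun z => by
  obtain ⟨q, rfl⟩ := (ConcreteCategory.bijective_of_isIso (Scheme.ΓSpecIso (CommRingCat.of (Γ(V.left, ⊤) ⧸ I ^ (m + 1)))).inv).2 z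
  obtain ⟨b, rfl⟩ := Ideal.Quotient.mk_surjective q
  exact ⟨b, pb_jetMap I m b⟩

lemma mono_jetMap (m : ℕ) : Mono (jetMap I m) := by
  haveI := isIso_affPt V
  have : IsClosedImmersion (pt (Ideal.Quotient.mkₐ k (I ^ (m + 1)))).left :=
    IsClosedImmersion.spec_of_surjective _ Ideal.Quotient.mk_surjective
  have h : Mono (pt (Ideal.Quotient.mkₐ k (I ^ (m + 1)))) := Over.mono_of_mono_left _
  exact mono_comp' h inferInstance

lemma exists_factor_jet {P : Over (Spec (CommRingCat.of k))} (f : P ⟶ V) (m : ℕ) (h : ∀ b ∈ I ^ (m + 1), pb f b = 0) :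
    ∃ f' : P ⟶ jetObj I m, f' ≫ jetMap I m = f := by
  haveI := isIso_affPt V
  refine ⟨affPt P ≫ pt (Ideal.Quotient.liftₐ (I ^ (m + 1)) (pb f) h), ?_⟩
  have e : pt (Ideal.Quotient.liftₐ (I ^ (m + 1)) (pb f) h) ≫ pt (Ideal.Quotient.mkₐ k (I ^ (m + 1))) = pt (pb f) := by
    rw [← pt_comp, Ideal.Quotient.liftₐ_comp]
  calc (affPt P ≫ pt (Ideal.Quotient.liftₐ (I ^ (m + 1)) (pb f) h)) ≫ jetMap I m
      = (affPt P ≫ pt (pb f)) ≫ inv (affPt V) := by
        rw [← e]; simp only [jetMap, Category.assoc]; rfl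
    _ = f := by rw [← comp_affPt, Category.assoc, IsIso.hom_inv_id, Category.comp_id]

lemma exists_jet_le {m m' : ℕ} (h : m ≤ m') : ∃ c : jetObj I m ⟶ jetObj I m', c ≫ jetMap I m' = jetMap I m :=
  exists_factor_jet I (jetMap I m) m' fun _ hb =>
    (pb_jetMap_eq_zero I m _).2 (Ideal.pow_le_pow_right (by omega) hb)

/-- the ideal of a rational point -/
def ptIdeal (x' : 𝟙_ (Over (Spec (CommRingCat.of k))) ⟶ V) : Ideal Γ(V.left, ⊤) := RingHom.ker (pb x').toRingHom

lemma ptIdeal_isMaximal (x' : 𝟙_ (Over (Spec (CommRingCat.of k))) ⟶ V) : (ptIdeal x').IsMaximal := by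
  let e : Γ((𝟙_ (Over (Spec (CommRingCat.of k)))).left, ⊤) ≃+* k :=
    (Scheme.ΓSpecIso (CommRingCat.of k)).commRingCatIsoToRingEquiv
  have hker : ptIdeal x' = RingHom.ker (e.toRingHom.comp (pb x').toRingHom) := by
    ext b
    simp [ptIdeal, RingHom.mem_ker]
  rw [hker]
  refine RingHom.ker_isMaximal_of_surjective _ fun r => ?_
  obtain ⟨r, rfl⟩ := e.surjective r
  obtain ⟨c, rfl⟩ := ActRep.exists_scalar r
  exact ⟨cst V c, congrArg e (comp_cst x' c)⟩

lemma exists_sec (x' : 𝟙_ (Over (Spec (CommRingCat.of k))) ⟶ V) (m : ℕ) :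
    ∃ s : 𝟙_ (Over (Spec (CommRingCat.of k))) ⟶ jetObj (ptIdeal x') m,
      s ≫ jetMap (ptIdeal x') m = x' ∧ Surjective s.left := by
  obtain ⟨s, hs⟩ := exists_factor_jet (ptIdeal x') x' m fun b hb => Ideal.pow_le_self (Nat.succ_ne_zero m) hb
  refine ⟨s, hs, ⟨fun z => ?_⟩⟩
  have hsub : Subsingleton (PrimeSpectrum (Γ(V.left, ⊤) ⧸ ptIdeal x' ^ (m + 1))) := by
    refine ⟨fun p q => PrimeSpectrum.ext ?_⟩
    have key : ∀ p : PrimeSpectrum (Γ(V.left, ⊤) ⧸ ptIdeal x' ^ (m + 1)),
        Ideal.comap (Ideal.Quotient.mk _) p.asIdeal = ptIdeal x' := fun p => by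
      refine ((ptIdeal_isMaximal x').eq_of_le (Ideal.IsPrime.ne_top inferInstance) fun b hb => ?_).symm
      refine (Ideal.IsPrime.comap (Ideal.Quotient.mk _)).mem_of_pow_mem (m + 1) ?_
      rw [Ideal.mem_comap, Ideal.Quotient.eq_zero_iff_mem.2 (Ideal.pow_mem_pow hb _)]
      exact p.asIdeal.zero_mem
    exact Ideal.comap_injective_of_surjective _ Ideal.Quotient.mk_surjective ((key p).trans (key q).symm)
  exact ⟨IsLocalRing.closedPoint k, hsub.elim _ _⟩

/-- kills the augmentation ideal implies nilpotence -/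
lemma pow_eq_zero_of_whisker {G J : Over (Spec (CommRingCat.of k))} [QuasiCompact G.hom] [QuasiSeparated G.hom]
    [QuasiCompact J.hom] (s : 𝟙_ (Over (Spec (CommRingCat.of k))) ⟶ J) {N : ℕ}
    (hs : Function.Surjective (pb s)) (hN : RingHom.ker (pb s).toRingHom ^ N = ⊥) :
    RingHom.ker (pb (G ◁ s)).toRingHom ^ N = ⊥ := by
  let K := RingHom.ker (pb s).toRingHom
  let ι' : Γ(J.left, ⊤) →ₐ[k] Γ((G ⊗ J).left, ⊤) := pb (snd G J)
  have hle : RingHom.ker (pb (G ◁ s)).toRingHom ≤ Ideal.map ι'.toRingHom K := by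
    intro z hz
    obtain ⟨w, rfl⟩ := (ev_bijective G J).2 z
    have hz' : Algebra.TensorProduct.map (AlgHom.id k _) (pb s) w = 0 := by
      apply ev_injective G (𝟙_ (Over (Spec (CommRingCat.of k))))
      rw [← ev_whisker, map_zero]
      exact hz
    have hex := lTensor_exact Γ(G.left, ⊤) (LinearMap.exact_subtype_ker_map (pb s).toLinearMap) hs
    obtain ⟨y, rfl⟩ := (hex w).1 hz'
    clear hz hz'
    induction y using TensorProduct.induction_on with
    | zero => rw [map_zero, map_zero]; exact Ideal.zero_mem _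
    | tmul u v =>
      rw [LinearMap.lTensor_tmul, ev_tmul]
      exact Ideal.mul_mem_left _ _ (Ideal.mem_map_of_mem ι'.toRingHom (show v.1 ∈ K from v.2))
    | add y y' hy hy' => rw [map_add, map_add]; exact Ideal.add_mem _ hy hy'
  refine le_bot_iff.1 ((Ideal.pow_right_mono hle N).trans ?_)
  rw [← Ideal.map_pow, hN, Ideal.map_bot]

section Agreement

lemma eq_of_jets_affine (hI : ∀ b, (∀ m : ℕ, b ∈ I ^ (m + 1)) → b = 0) {T X : Over (Spec (CommRingCat.of k))}
    [IsAffine T.left] [IsSeparated X.hom] (u v : T ⊗ V ⟶ X)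
    (h : ∀ m, (T ◁ jetMap I m) ≫ u = (T ◁ jetMap I m) ≫ v) : u = v := by
  haveI : IsClosedImmersion (lift (𝟙 X) (𝟙 X) : X ⟶ X ⊗ X).left := SGA3a.isClosedImmersion_diag X
  let e := pullback.fst (lift u v) (lift (𝟙 X) (𝟙 X))
  have hcond : e ≫ u = e ≫ v := by
    have h1 := congr($(pullback.condition (f := lift u v) (g := lift (𝟙 X) (𝟙 X))) ≫ fst X X)
    have h2 := congr($(pullback.condition (f := lift u v) (g := lift (𝟙 X) (𝟙 X))) ≫ snd X X)
    simp only [Category.assoc, lift_fst, lift_snd, Category.comp_id] at h1 h2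
    exact h1.trans h2.symm
  haveI hci : IsClosedImmersion e.left :=
    MorphismProperty.of_isPullback (isPullback_left (IsPullback.of_hasPullback (lift u v) (lift (𝟙 X) (𝟙 X)))).flip ‹_›
  haveI : IsAffine (T ⊗ V).left := inferInstanceAs (IsAffine (pullback T.hom V.hom))
  haveI : IsIso e.left := by
    obtain ⟨haff, hsurj⟩ := IsClosedImmersion.isAffine_surjective_of_isAffine e.left
    refine IsClosedImmersion.isIso_of_injective_of_isAffine (f := e.left) ?_
    refine (injective_iff_map_eq_zero _).2 fun z hz => ?_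
    obtain ⟨w, rfl⟩ := (ev_bijective T V).2 z
    classical
    let c := Module.Free.chooseBasis k Γ(T.left, ⊤)
    suffices coords c w = 0 by
      have := (TensorProduct.equivFinsuppOfBasisLeft c).injective (this.trans (map_zero _).symm)
      rw [this, map_zero]
    refine Finsupp.ext fun l => hI _ fun m => ?_
    rw [← pb_jetMap_eq_zero, ← coords_map]
    have hw : Algebra.TensorProduct.map (AlgHom.id k _) (pb (jetMap I m)) w = 0 := by
      apply ev_injective T (jetObj I m)
      rw [← ev_whisker, map_zero, show T ◁ jetMap I m = pullback.lift (T ◁ jetMap I m) ((T ◁ jetMap I m) ≫ u) (by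
        ext : 1
        · simp
        · simp [h m]) ≫ e from (pullback.lift_fst _ _ _).symm, pb_comp_apply]
      show pb _ (e.left.appTop _) = 0
      rw [hz, map_zero]
    rw [hw]
    simp [coords]
  haveI : IsIso ((Over.forget _).map e) := ‹IsIso e.left›
  haveI : IsIso e := isIso_of_reflects_iso e (Over.forget _)
  rwa [cancel_epi] at hcond

lemma eq_of_jets (hI : ∀ b, (∀ m : ℕ, b ∈ I ^ (m + 1)) → b = 0) {T X : Over (Spec (CommRingCat.of k))}
    [IsSeparated X.hom] (u v : T ⊗ V ⟶ X)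
    (h : ∀ m, (T ◁ jetMap I m) ≫ u = (T ◁ jetMap I m) ≫ v) : u = v := by
  ext : 1
  refine (Scheme.Pullback.openCoverOfLeft T.left.affineCover T.hom V.hom).hom_ext _ _ fun i => ?_
  let Ti : Over (Spec (CommRingCat.of k)) := Over.mk (T.left.affineCover.f i ≫ T.hom)
  let ti : Ti ⟶ T := Over.homMk (T.left.affineCover.f i) rfl
  haveI : IsAffine Ti.left := inferInstanceAs (IsAffine (T.left.affineCover.X i))
  have h1 : (ti ▷ V) ≫ u = (ti ▷ V) ≫ v := eq_of_jets_affine I hI _ _ fun m => by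
    rw [← Category.assoc, ← Category.assoc, whisker_exchange, Category.assoc, Category.assoc, h m]
  exact congr(($h1).left)

end Agreement

section Rep

variable {G X : Over (Spec (CommRingCat.of k))} [GrpObj G] (a : AlgGrp.Action G X)
variable (x' : 𝟙_ (Over (Spec (CommRingCat.of k))) ⟶ V) (jV : V ⟶ X)

lemma exists_act_jet [QuasiCompact G.hom] [QuasiSeparated G.hom] [IsOpenImmersion jV.left] (hx : a.IsFixedPt (x' ≫ jV)) (m : ℕ) :
    ∃ am : AlgGrp.Action G (jetObj (ptIdeal x') m),
      am.act ≫ jetMap (ptIdeal x') m ≫ jV = (G ◁ (jetMap (ptIdeal x') m ≫ jV)) ≫ a.act := by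
  let j := jetMap (ptIdeal x') m ≫ jV
  obtain ⟨s, hs, hsurj⟩ := exists_sec x' m
  have hGs : Surjective (G ◁ s).left :=
    MorphismProperty.of_isPullback (P := @Surjective) (isPullback_left (whiskerLeft_isPullback G s)).flip hsurj
  have hconst : (G ◁ s) ≫ (G ◁ j) ≫ a.act = toUnit _ ≫ x' ≫ jV := by
    rw [← Category.assoc, ← whiskerLeft_comp, show s ≫ j = x' ≫ jV by rw [← Category.assoc, hs]]
    have h1 : G ◁ (x' ≫ jV) = lift (fst G (𝟙_ _)) (toUnit _ ≫ x' ≫ jV) := by
      ext : 1
      · simp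
      · simp only [whiskerLeft_snd, lift_snd]; rw [toUnit_unique (snd G (𝟙_ _)) (toUnit _)]
    rw [h1, hx]
  have hrange : Set.range ((G ◁ j) ≫ a.act).left ⊆ Set.range jV.left := by
    rintro _ ⟨z, rfl⟩
    obtain ⟨z', rfl⟩ := hGs.surj z
    have h := congr(($hconst).left z')
    simp only [Over.comp_left, Scheme.Hom.comp_apply] at h ⊢
    rw [h]
    exact ⟨_, rfl⟩
  let α : G ⊗ jetObj (ptIdeal x') m ⟶ V :=
    Over.homMk (IsOpenImmersion.lift jV.left ((G ◁ j) ≫ a.act).left hrange)
      (by rw [← Over.w jV, IsOpenImmersion.lift_fac_assoc, Over.w])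
  have hα : α ≫ jV = (G ◁ j) ≫ a.act := by ext : 1; exact IsOpenImmersion.lift_fac _ _ _
  haveI : Mono jV := Over.mono_of_mono_left jV
  have hαs : (G ◁ s) ≫ α = toUnit _ ≫ x' := by
    rw [← cancel_mono jV, Category.assoc, hα, hconst, Category.assoc]
  have hsj : ∀ q, pb s q = 0 → q ∈ Ideal.map (pb (jetMap (ptIdeal x') m)).toRingHom (ptIdeal x') := fun q hq => by
    obtain ⟨b, rfl⟩ := pb_jetMap_surjective (ptIdeal x') m q
    refine Ideal.mem_map_of_mem _ (show pb x' b = 0 from ?_)
    rw [← hs, pb_comp_apply, hq]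
  have hnil : RingHom.ker (pb s).toRingHom ^ (m + 1) = ⊥ := by
    refine le_bot_iff.1 ((Ideal.pow_right_mono hsj (m + 1)).trans ?_)
    rw [← Ideal.map_pow, Ideal.map_le_iff_le_comap]
    exact fun b hb => (pb_jetMap_eq_zero (ptIdeal x') m b).2 hb
  have hsS : Function.Surjective (pb s) := fun r => by
    obtain ⟨c, rfl⟩ := ActRep.exists_scalar r
    exact ⟨cst _ c, comp_cst s c⟩
  have hnil2 := pow_eq_zero_of_whisker (G := G) s hsS hnil
  obtain ⟨am, ham⟩ := exists_factor_jet (ptIdeal x') α m fun b hb => by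
    have h1 : ptIdeal x' ≤ Ideal.comap (pb α).toRingHom (RingHom.ker (pb (G ◁ s)).toRingHom) := fun b hb => by
      show pb (G ◁ s) (pb α b) = 0
      rw [← pb_comp_apply, hαs, pb_comp_apply, show pb x' b = 0 from hb, map_zero]
    have h2 := (Ideal.pow_right_mono h1 (m + 1)).trans (Ideal.le_comap_pow _ _) hb
    rw [hnil2] at h2
    exact h2
  have hact : am ≫ j = (G ◁ j) ≫ a.act := by rw [← Category.assoc, ham, hα]
  haveI := mono_jetMap (ptIdeal x') m
  haveI : Mono j := mono_comp _ _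
  refine ⟨{ act := am, one_act := ?_, mul_act := ?_ }, hact⟩
  · rw [← cancel_mono j, Category.assoc, hact, ← Category.assoc, ← whisker_exchange, Category.assoc, a.one_act, leftUnitor_naturality]
  · rw [← cancel_mono j]
    simp only [Category.assoc, hact]
    rw [← Category.assoc, ← whisker_exchange, Category.assoc, a.mul_act, ← Category.assoc (G ◁ am), ← whiskerLeft_comp, hact,
      whiskerLeft_comp]
    simp only [Category.assoc]
    simp only [j, whiskerLeft_comp, Category.assoc, associator_naturality_right_assoc]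

/-- representation with kernel the stabiliser of the formal neighbourhood -/
theorem exists_rep_jets [LocallyOfFiniteType G.hom] [QuasiCompact G.hom] [IsOpenImmersion jV.left] [IsSeparated X.hom]
    (hx : a.IsFixedPt (x' ≫ jV)) (hI : ∀ b, (∀ m : ℕ, b ∈ ptIdeal x' ^ (m + 1)) → b = 0) :
    ∃ (n : ℕ) (ρ : G ⟶ sp k (GLn n k)), IsMonHom ρ ∧
      (∀ (T : Over (Spec (CommRingCat.of k))) (g : T ⟶ G), g ≫ ρ = 1 →
        lift (fst T V ≫ g) (snd T V ≫ jV) ≫ a.act = snd T V ≫ jV) ∧
      ∀ (T : Over (Spec (CommRingCat.of k))) (g : T ⟶ G) [QuasiCompact T.hom] [QuasiSeparated T.hom],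
        lift (fst T X ≫ g) (snd T X) ≫ a.act = snd T X → g ≫ ρ = 1 := by
  haveI := isSeparated_grp G
  choose am ham using exists_act_jet a x' jV hx
  choose n ρ hρ hfix hback using fun m => ActRep.exists_rep_kernel (am m)
  let j := fun m => jetMap (ptIdeal x') m ≫ jV
  haveI : Mono jV := Over.mono_of_mono_left jV
  have hjmono : ∀ m, Mono (j m) := fun m => by haveI := mono_jetMap (ptIdeal x') m; exact mono_comp _ _
  have hfwd : ∀ m (T : Over (Spec (CommRingCat.of k))) (g : T ⟶ G), g ≫ ρ m = 1 →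
      lift (fst T (jetObj (ptIdeal x') m) ≫ g) (snd T _) ≫ (am m).act = snd T _ := fun m T g hg => by
    ext : 1
    exact ext_of_isAffine (CommRingCat.hom_ext (RingHom.ext fun f =>
      hfix m T g hg _ (fst T _) (snd T _) f))
  have hmove : ∀ m (T : Over (Spec (CommRingCat.of k))) (g : T ⟶ G),
      lift (fst T (jetObj (ptIdeal x') m) ≫ g) (snd T _) ≫ (am m).act ≫ j m =
        (T ◁ j m) ≫ lift (fst T X ≫ g) (snd T X) ≫ a.act := fun m T g => by
    rw [ham, lift_whiskerLeft_assoc, ← Category.assoc (T ◁ j m), comp_lift, whiskerLeft_fst_assoc, whiskerLeft_snd]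
  -- the kernels decrease
  let K := fun m => pullback (ρ m) η[sp k (GLn (n m) k)]
  let κ : ∀ m, K m ⟶ G := fun m => pullback.fst _ _
  have hK : ∀ m (T : Over (Spec (CommRingCat.of k))) (g : T ⟶ G), g ≫ ρ m = 1 → ∃ z : T ⟶ K m, z ≫ κ m = g :=
    fun m T g hg => ⟨pullback.lift g (toUnit T) (by rw [hg, one_def']), pullback.lift_fst _ _ _⟩
  have hK1 : ∀ m, κ m ≫ ρ m = 1 := fun m => by
    show pullback.fst _ _ ≫ ρ m = 1
    rw [pullback.condition, one_def', toUnit_unique (pullback.snd _ _) (toUnit _)]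
  have hci : ∀ m, IsClosedImmersion (κ m).left := fun m => by
    haveI := lft_glN (k := k) (n m)
    haveI := isSeparated_grp (sp k (GLn (n m) k))
    haveI : IsClosedImmersion (η[sp k (GLn (n m) k)]).left :=
      RedPts82.isClosedImmersion_section _ (toUnit _) (toUnit_unique _ _)
    exact MorphismProperty.of_isPullback (isPullback_left (IsPullback.of_hasPullback (ρ m) η)).flip inferInstance
  have hle : ∀ m m', m ≤ m' → ∃ c : K m' ⟶ K m, c ≫ κ m = κ m' := fun m m' hmm => by
    haveI := hci m'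
    haveI : QuasiCompact (K m').hom := by rw [← Over.w (κ m')]; infer_instance
    haveI : QuasiSeparated (K m').hom := by rw [← Over.w (κ m')]; infer_instance
    obtain ⟨c, hc⟩ := exists_jet_le (ptIdeal x') hmm
    refine hK m _ _ (hback m _ _ ?_)
    haveI := hjmono m
    have hcj : c ≫ j m' = j m := by show c ≫ jetMap _ _ ≫ jV = _; rw [reassoc_of% hc]
    rw [← cancel_mono (j m), Category.assoc, hmove, ← hcj, whiskerLeft_comp, Category.assoc, ← hmove m',
      ← Category.assoc (lift _ _), hfwd m' _ _ (hK1 m'), ← Category.assoc, whiskerLeft_snd]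
    simp only [Category.assoc]
  obtain ⟨M, hM⟩ : ∃ M, ∀ m, M ≤ m → (κ m).left.ker = (κ M).left.ker := by
    have : IsLocallyNoetherian G.left := LocallyOfFiniteType.isLocallyNoetherian G.hom
    have : CompactSpace G.left := QuasiCompact.compactSpace_of_compactSpace G.hom
    obtain ⟨S, hSfin, hS⟩ := isCompact_iff_finite_and_eq_biUnion_affineOpens.mp
      (show IsCompact ((⊤ : G.left.Opens) : Set G.left) from isCompact_univ)
    have hmono : Monotone fun m => (κ m).left.ker := fun m m' hmm => by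
      obtain ⟨c, hc⟩ := hle m m' hmm
      show (κ m).left.ker ≤ (κ m').left.ker
      rw [← hc, Over.comp_left]
      exact Scheme.Hom.le_ker_comp _ _
    have hst : ∀ U : G.left.affineOpens, ∃ M, ∀ m, M ≤ m → (κ M).left.ker.ideal U = (κ m).left.ker.ideal U := fun U => by
      haveI : IsNoetherianRing Γ(G.left, U.1) := IsLocallyNoetherian.component_noetherian U
      exact monotone_stabilizes_iff_noetherian.2 inferInstance ⟨fun m => (κ m).left.ker.ideal U, fun a b hab => hmono hab U⟩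
    choose Mf hMf using hst
    refine ⟨hSfin.toFinset.sup Mf, fun m hm => ?_⟩
    refine Scheme.IdealSheafData.ext_of_iSup_eq_top (fun U : S => U.1) ?_ fun U => ?_
    · refine top_le_iff.1 (hS.le.trans (iSup₂_le fun U hU => ?_))
      exact le_iSup (fun U : S => U.1.1) ⟨U, hU⟩
    · have hUle : Mf U.1 ≤ hSfin.toFinset.sup Mf := Finset.le_sup (hSfin.mem_toFinset.2 U.2)
      exact (hMf U.1 m (hUle.trans hm)).symm.trans (hMf U.1 _ hUle)
  refine ⟨n M, ρ M, hρ M, fun T g hg => eq_of_jets (ptIdeal x') hI _ _ fun m => ?_, fun T g _ _ h => hback M T g ?_⟩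
  · have hm : g ≫ ρ m = 1 := by
      obtain ⟨z, rfl⟩ := hK M T g hg
      rcases le_total m M with hmM | hMm
      · obtain ⟨c, hc⟩ := hle m M hmM
        rw [Category.assoc, ← hc, Category.assoc, hK1, MonObj.comp_one, MonObj.comp_one]
      · haveI := hci m
        haveI := hci M
        let c := IsClosedImmersion.lift (κ m).left (κ M).left (hM m hMm).le
        have hc : c ≫ (κ m).left = (κ M).left := IsClosedImmersion.lift_fac _ _ _
        let c' : K M ⟶ K m := Over.homMk c (by rw [← Over.w (κ m), reassoc_of% hc, Over.w])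
        rw [Category.assoc, show κ M = c' ≫ κ m from (Over.OverMorphism.ext hc).symm, Category.assoc, hK1, MonObj.comp_one,
          MonObj.comp_one]
    rw [← Category.assoc, comp_lift, whiskerLeft_fst_assoc, whiskerLeft_snd_assoc]
    have h1 := congr($(hfwd m T g hm) ≫ j m)
    simp only [Category.assoc] at h1
    rw [← lift_whiskerLeft_assoc, ← ham, h1]
  · haveI := hjmono M
    rw [← cancel_mono (j M), Category.assoc, hmove, h, whiskerLeft_snd]

end Rep

end Groth.Agent.AlgGrp79.Jets
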