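import Groth.Agent.AlgGrp79.Batch
import Groth.Agent.AlgGrp79.Act
import Groth.Agent.AlgGrp79.Pullback
import Groth.Prelude.Def_AlgGrp
import Mathlib

set_option autoImplicit false
universe u v w

open CategoryTheory MonoidalCategory CartesianMonoidalCategory MonObj AlgebraicGeometry CategoryTheory.Limits
open scoped commutatorElement TensorProduct nonZeroDivisors

namespace Groth.Agent.AlgGrp79

section LargestOpen

lemma exists_restrict_square {A B C D : Scheme.{u}} {p : A ⟶ B} {f' : A ⟶ C} {f : B ⟶ D} {q : C ⟶ D}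
    (h : IsPullback p f' f q) (O : C.Opens) (W : D.Opens) (hle : O ≤ q ⁻¹ᵁ W) :
    ∃ (l : (f' ⁻¹ᵁ O : Scheme.{u}) ⟶ (f ⁻¹ᵁ W : Scheme.{u})) (r : (O : Scheme.{u}) ⟶ (W : Scheme.{u})),
      IsPullback l (f' ∣_ O) (f ∣_ W) r ∧ r ≫ W.ι = O.ι ≫ q := by
  have e2 : IsPullback (f ⁻¹ᵁ W).ι (f ∣_ W) f W.ι := (isPullback_morphismRestrict f W).flip
  have hw : ((f' ⁻¹ᵁ O).ι ≫ p) ≫ f = ((f' ∣_ O) ≫ q.resLE W O hle) ≫ W.ι := by
    rw [Category.assoc, h.w, Category.assoc, Scheme.Hom.resLE_comp_ι, morphismRestrict_ι_assoc]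
  have hl := e2.lift_snd ((f' ⁻¹ᵁ O).ι ≫ p) ((f' ∣_ O) ≫ q.resLE W O hle) hw
  refine ⟨e2.lift _ _ hw, q.resLE W O hle, ?_, Scheme.Hom.resLE_comp_ι _ _⟩
  refine IsPullback.of_right ?_ hl e2
  rw [e2.lift_fst, Scheme.Hom.resLE_comp_ι]
  exact (isPullback_morphismRestrict f' O).flip.paste_horiz h

variable {S : Scheme.{u}} {G X Y : Over S} [GrpObj G]

lemma isPullback_act (aX : AlgGrp.Action G X) (aY : AlgGrp.Action G Y) (f : X ⟶ Y) (hf : (G ◁ f) ≫ aY.act = aX.act ≫ f) :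
    IsPullback aX.act (G ◁ f) f aY.act := by
  have heq : ∀ {T : Over S} (g : T ⟶ G) (x : T ⟶ X), lift g x ≫ aX.act ≫ f = lift g (x ≫ f) ≫ aY.act := by
    intro T g x
    rw [← hf, lift_whiskerLeft_assoc]
  refine ⟨⟨hf.symm⟩, ⟨PullbackCone.IsLimit.mk _
    (fun s => lift (s.snd ≫ fst G Y) (lift (s.snd ≫ fst G Y)⁻¹ s.fst ≫ aX.act)) ?_ ?_ ?_⟩⟩
  · intro s
    exact act_inv_act aX _ _
  · intro s
    rw [lift_whiskerLeft, Category.assoc, heq, s.condition,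
      show s.snd ≫ aY.act = lift (s.snd ≫ fst G Y) (s.snd ≫ snd G Y) ≫ aY.act by
        rw [← comp_lift, lift_fst_snd, Category.comp_id]]
    rw [inv_act_act]
    ext : 1 <;> simp
  · intro s m hm1 hm2
    have e1 : m ≫ fst G X = s.snd ≫ fst G Y := by rw [← hm2, Category.assoc, whiskerLeft_fst]
    ext : 1
    · rw [lift_fst]; exact e1
    · rw [lift_snd, ← hm1, ← e1, show m ≫ aX.act = lift (m ≫ fst G X) (m ≫ snd G X) ≫ aX.act by
        rw [← comp_lift, lift_fst_snd, Category.comp_id], inv_act_act]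

end LargestOpen

end Groth.Agent.AlgGrp79
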