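import Groth.Agent.AlgGrp79.GmGaLaws
import Groth.Agent.AlgGrp79.OrbitDim
import Groth.Agent.Crv77.Extend

set_option autoImplicit false
universe u

open CategoryTheory CategoryTheory.Limits MonoidalCategory CartesianMonoidalCategory MonObj AlgebraicGeometry
open Polynomial (toLaurentAlg)
open Groth.Agent.RedPts82

noncomputable section

namespace Groth.Agent.AlgGrp79

variable {k : Type u} [Field k]

local notation "Sk" => Spec (CommRingCat.of k)

lemma isOpenImmersion_toLaurent :
    IsOpenImmersion (Spec.map (CommRingCat.ofHom (algebraMap (Polynomial k) (LaurentPolynomial k)))) :=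
  IsOpenImmersion.of_isLocalization (Polynomial.X : Polynomial k)

/-- morphisms from the punctured line to a proper scheme extend to the line -/
theorem exists_extend_line {Z : Over Sk} [IsProper Z.hom] (f : specO k (LaurentPolynomial k) ⟶ Z) :
    ∃ g : specO k (Polynomial k) ⟶ Z, specPt (Polynomial.toLaurentAlg (R := k)) ≫ g = f := by
  let X0 : Scheme.{u} := Spec (CommRingCat.of (Polynomial k))
  let sX : X0 ⟶ Sk := Spec.map (CommRingCat.ofHom (algebraMap k (Polynomial k)))
  let j : (specO k (LaurentPolynomial k)).left ⟶ X0 :=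
    (specPt (Polynomial.toLaurentAlg (R := k))).left
  have hj : IsOpenImmersion j := isOpenImmersion_toLaurent
  let U : X0.Opens := j.opensRange
  have hint : IsIntegral X0 := inferInstanceAs (IsIntegral (Spec (CommRingCat.of (Polynomial k))))
  let P : PrimeSpectrum (Polynomial k) :=
    ⟨Ideal.span {Polynomial.X}, (Ideal.span_singleton_prime Polynomial.X_ne_zero).2 Polynomial.prime_X⟩
  have : P.asIdeal.IsPrime := P.isPrime
  have hP : P.asIdeal ≠ ⊥ := by
    simp [P, Ideal.span_singleton_eq_bot]
  let x : X0 := P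
  have hv : ValuationRing (X0.presheaf.stalk x) := by
    have : IsDiscreteValuationRing (Localization.AtPrime P.asIdeal) :=
      IsLocalization.AtPrime.isDiscreteValuationRing_of_dedekind_domain _ hP _
    have e := (Spec.stalkIso (CommRingCat.of (Polynomial k)) P).symm.commRingCatIsoToRingEquiv
    exact Function.Surjective.valuationRing e.toRingHom e.surjective
  let e : (U : Scheme.{u}) ≅ (specO k (LaurentPolynomial k)).left :=
    IsOpenImmersion.isoOfRangeEq U.ι j (by rw [Scheme.Opens.range_ι]; rfl)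
  have hne : (U : Set X0).Nonempty := by
    have : Nonempty (specO k (LaurentPolynomial k)).left :=
      inferInstanceAs (Nonempty (Spec (CommRingCat.of (LaurentPolynomial k))))
    exact ⟨j this.some, ⟨_, rfl⟩⟩
  have he : e.hom ≫ j = U.ι := IsOpenImmersion.isoOfRangeEq_hom_fac _ _ _
  have hf : (e.hom ≫ f.left) ≫ Z.hom = U.ι ≫ sX := by
    rw [Category.assoc, Over.w f, ← he, Category.assoc]
    congr 1
    exact (Over.w (specPt (Polynomial.toLaurentAlg (R := k)))).symm
  obtain ⟨U', hUU', f', hxU', hf', hres⟩ :=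
    Crv77.exists_extend sX Z.hom U hne (e.hom ≫ f.left) hf x
  have htop : U' = ⊤ := by
    refine eq_top_iff.2 fun q _ => ?_
    by_cases hq : Polynomial.X ∈ (q : PrimeSpectrum (Polynomial k)).asIdeal
    · have : q = x := by
        refine PrimeSpectrum.ext ?_
        exact ((P.isPrime.isMaximal hP).eq_of_le (q : PrimeSpectrum (Polynomial k)).isPrime.ne_top
          ((Ideal.span_singleton_le_iff_mem _).2 hq)).symm
      exact this ▸ hxU'
    · refine hUU' ?_
      show q ∈ Set.range (PrimeSpectrum.comap (algebraMap (Polynomial k) (LaurentPolynomial k)))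
      rw [PrimeSpectrum.localization_away_comap_range (LaurentPolynomial k) (Polynomial.X : Polynomial k)]
      exact hq
  subst htop
  have hg : ((Scheme.topIso X0).inv ≫ f') ≫ Z.hom = sX := by
    rw [Category.assoc, hf', ← Category.assoc]; simp
  refine ⟨Over.homMk (U := specO k (Polynomial k)) ((Scheme.topIso X0).inv ≫ f') hg, ?_⟩
  apply Over.OverMorphism.ext
  show j ≫ (Scheme.topIso X0).inv ≫ f' = f.left
  rw [← cancel_epi e.hom, ← Category.assoc, he, ← hres, ← Category.assoc]
  congr 1
  rw [← cancel_mono (⊤ : X0.Opens).ι, Category.assoc]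
  simp

lemma hom_ext_of_injective {A B : Type u} [CommRing A] [Algebra k A] [IsReduced A] [CommRing B] [Algebra k B]
    (φ : A →ₐ[k] B) (hφ : Function.Injective φ) {Z : Over Sk} [IsSeparated Z.hom]
    (f g : specO k A ⟶ Z) (h : specPt φ ≫ f = specPt φ ≫ g) : f = g := by
  have : IsDominant (specPt φ).left := by
    refine ⟨?_⟩
    show DenseRange (PrimeSpectrum.comap φ.toRingHom)
    rw [PrimeSpectrum.denseRange_comap_iff_ker_le_nilRadical, (RingHom.injective_iff_ker_eq_bot φ.toRingHom).1 hφ]
    exact bot_le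
  have : AlgebraicGeometry.IsReduced (specO k A).left :=
    inferInstanceAs (AlgebraicGeometry.IsReduced (Spec (CommRingCat.of A)))
  apply Over.OverMorphism.ext
  exact ext_of_isDominant_of_isSeparated Z.hom ((Over.w f).trans (Over.w g).symm) (specPt φ).left
    (congrArg Over.Hom.left h)

/-- the point of the line with coordinate `b` -/
def lineP {A : Type u} [CommRing A] [Algebra k A] (b : A) : specO k A ⟶ specO k (Polynomial k) :=
  specPt (Polynomial.aeval b)

lemma lineP_natural {A B : Type u} [CommRing A] [Algebra k A] [CommRing B] [Algebra k B] (φ : A →ₐ[k] B) (b : A) :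
    specPt φ ≫ lineP b = lineP (φ b) := by
  rw [lineP, specPt_comp, lineP, Polynomial.aeval_algHom]

/-- evaluation of Laurent polynomials at a unit -/
def laurentEv {A : Type u} [CommRing A] [Algebra k A] (b : Aˣ) : LaurentPolynomial k →ₐ[k] A :=
  AddMonoidAlgebra.lift k A ℤ ((Units.coeHom A).comp (zpowersHom Aˣ b))

lemma laurentEv_T {A : Type u} [CommRing A] [Algebra k A] (b : Aˣ) (n : ℤ) :
    laurentEv (k := k) b (LaurentPolynomial.T n) = ((b ^ n : Aˣ) : A) := by
  rw [laurentEv, LaurentPolynomial.T, AddMonoidAlgebra.lift_single]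
  simp

lemma laurentEv_comp_toLaurent {A : Type u} [CommRing A] [Algebra k A] (b : Aˣ) :
    (laurentEv (k := k) b).comp Polynomial.toLaurentAlg = Polynomial.aeval (b : A) := by
  refine Polynomial.algHom_ext ?_
  rw [AlgHom.comp_apply, Polynomial.toLaurentAlg_apply, Polynomial.toLaurent_X, laurentEv_T,
    Polynomial.aeval_X]
  simp

/-- the tautological unit -/
def unitT (k : Type u) [Field k] : (LaurentPolynomial k)ˣ := (LaurentPolynomial.isUnit_T (R := k) 1).unit

lemma laurentEv_unitT {A : Type u} [CommRing A] [Algebra k A] (b : Aˣ) :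
    Units.map (laurentEv (k := k) b : LaurentPolynomial k →* A) (unitT k) = b := by
  ext
  simp [unitT, laurentEv_T]

lemma gaP_add {A : Type u} [CommRing A] [Algebra k A] (a b : A) :
    gaP (k := k) (a + b) = gaP a * gaP b := by
  apply gaFn_injective
  simp [gaP, gaFn_mul, gaFn_gaPt]

lemma gmP_mul {A : Type u} [CommRing A] [Algebra k A] (a b : Aˣ) :
    gmP (k := k) (a * b) = gmP a * gmP b := by
  apply gmFn_injective
  simp [gmP, gmFn_mul, gmFn_gmPt]

/-- the `k`-point of coordinate zero, as a point over any algebra -/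
lemma lineP_zero_comp {A : Type u} [CommRing A] [Algebra k A] {Z : Over Sk}
    (g : specO k (Polynomial k) ⟶ Z) :
    ∃ e : 𝟙_ (Over Sk) ⟶ specO k k, lineP (0 : A) ≫ g = toUnit _ ≫ (e ≫ lineP (0 : k) ≫ g) := by
  let e : 𝟙_ (Over Sk) ⟶ specO k k := Over.homMk (𝟙 _) (by simp [Algebra.algebraMap_self])
  refine ⟨e, ?_⟩
  rw [← map_zero (Algebra.ofId k A), ← lineP_natural, Category.assoc]
  have he : ∀ e : 𝟙_ (Over Sk) ⟶ specO k k, e.left = 𝟙 _ →
      specPt (Algebra.ofId k A) = toUnit (specO k A) ≫ e := fun e he => by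
    apply Over.OverMorphism.ext
    show Spec.map _ = (toUnit (specO k A)).left ≫ e.left
    rw [he, Category.comp_id]
    rfl
  rw [he e rfl, Category.assoc]

lemma isAffine_Ga : IsAffine (Red.Ga Sk).left :=
  haveI : IsAffine (Red.GaZ.{u}).left := inferInstanceAs (IsAffine (Spec _))
  isAffine_bc_terminal k Red.GaZ

lemma isAffine_Gm : IsAffine (Red.Gm Sk).left :=
  haveI : IsAffine (Red.diag (ULift.{u} ℤ) ℤ).left := inferInstanceAs (IsAffine (Spec _))
  isAffine_bc_terminal k (Red.diag (ULift.{u} ℤ) ℤ)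

/-- the multiplicative group fixes a point of every proper scheme with a rational point -/
theorem exists_fixedPt_Gm {X : Over Sk} [IsProper X.hom] (x₀ : 𝟙_ (Over Sk) ⟶ X)
    (a : AlgGrp.Action (Red.Gm Sk) X) : ∃ x : 𝟙_ (Over Sk) ⟶ X, a.IsFixedPt x := by
  obtain ⟨g, hg⟩ := exists_extend_line (gmP (k := k) (unitT k) ≫ a.orbitMap x₀)
  have hunit : ∀ {A : Type u} [CommRing A] [Algebra k A] (b : Aˣ),
      lineP (b : A) ≫ g = gmP (k := k) b ≫ a.orbitMap x₀ := by
    intro A _ _ b
    rw [lineP, ← laurentEv_comp_toLaurent, ← specPt_comp, Category.assoc, hg, ← Category.assoc,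
      gmP_natural, laurentEv_unitT]
  let L := LaurentPolynomial k
  let R := Polynomial L
  let K := FractionRing R
  let incl : L →ₐ[k] R := IsScalarTower.toAlgHom k L R
  let ja : R →ₐ[k] K := IsScalarTower.toAlgHom k R K
  let u : Rˣ := Units.map (incl : L →* R) (unitT k)
  let y : R := Polynomial.X
  have hR : lineP ((u : R) * y) ≫ g = lift (gmP u) (lineP y ≫ g) ≫ a.act := by
    refine hom_ext_of_injective ja (IsFractionRing.injective R K) _ _ ?_
    rw [← Category.assoc, lineP_natural, ← Category.assoc, comp_lift, gmP_natural,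
      ← Category.assoc (specPt ja), lineP_natural]
    have hy : IsUnit (ja y) := isUnit_iff_ne_zero.2 fun h =>
      Polynomial.X_ne_zero ((map_eq_zero_iff ja (IsFractionRing.injective R K)).1 h)
    obtain ⟨w, hw⟩ := hy
    rw [map_mul, ← hw, show ja (u : R) = ((Units.map (ja : R →* K) u : Kˣ) : K) from rfl, ← Units.val_mul,
      hunit, hunit, gmP_mul, orbit_mul]
  let ε : R →ₐ[k] L := (Polynomial.aeval (0 : L)).restrictScalars k
  have hεy : ε y = 0 := Polynomial.aeval_X (0 : L)
  have hεu : Units.map (ε : R →* L) u = unitT k := by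
    ext : 1
    exact Polynomial.aeval_C (0 : L) _
  have hL : lineP (0 : L) ≫ g = lift (gmP (unitT k)) (lineP (0 : L) ≫ g) ≫ a.act := by
    have := congrArg (specPt ε ≫ ·) hR
    rw [← Category.assoc, lineP_natural, ← Category.assoc (specPt ε), comp_lift, gmP_natural,
      ← Category.assoc (specPt ε), lineP_natural, map_mul, hεy, mul_zero, hεu] at this
    exact this
  obtain ⟨e, he⟩ := lineP_zero_comp (A := L) g
  refine ⟨e ≫ lineP (0 : k) ≫ g, fun T t => ?_⟩
  set p := e ≫ lineP (0 : k) ≫ g
  have key : lift (𝟙 (Red.Gm Sk)) (toUnit _ ≫ p) ≫ a.act = toUnit _ ≫ p := by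
    have := isAffine_Gm (k := k)
    refine ext_of_affine_pts _ _ fun A _ _ x => ?_
    have hx : specPt (laurentEv (k := k) (gmC x)) ≫ gmP (unitT k) = x := by
      rw [gmP_natural, laurentEv_unitT, gmP_gmC]
    have := congrArg (specPt (laurentEv (k := k) (gmC x)) ≫ ·) hL
    rw [he, ← Category.assoc, comp_toUnit, ← Category.assoc (specPt _) (lift _ _), comp_lift, hx,
      ← Category.assoc (specPt _) (toUnit _), comp_toUnit] at this
    rw [← Category.assoc, comp_lift, Category.comp_id, ← Category.assoc x, comp_toUnit]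
    exact this.symm
  have := congrArg (t ≫ ·) key
  simpa [comp_lift_act] using this

/-- the additive group fixes a point of every proper scheme with a rational point -/
theorem exists_fixedPt_Ga {X : Over Sk} [IsProper X.hom] (x₀ : 𝟙_ (Over Sk) ⟶ X)
    (a : AlgGrp.Action (Red.Ga Sk) X) : ∃ x : 𝟙_ (Over Sk) ⟶ X, a.IsFixedPt x := by
  obtain ⟨g, hg⟩ := exists_extend_line
    (gaP (k := k) (((unitT k)⁻¹ : (LaurentPolynomial k)ˣ) : LaurentPolynomial k) ≫ a.orbitMap x₀)
  have hunit : ∀ {A : Type u} [CommRing A] [Algebra k A] (b : Aˣ),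
      lineP (b : A) ≫ g = gaP (k := k) ((b⁻¹ : Aˣ) : A) ≫ a.orbitMap x₀ := by
    intro A _ _ b
    rw [lineP, ← laurentEv_comp_toLaurent, ← specPt_comp, Category.assoc, hg, ← Category.assoc,
      gaP_natural]
    congr 2
    have h1 : laurentEv (k := k) b (((unitT k)⁻¹ : (LaurentPolynomial k)ˣ) : LaurentPolynomial k) =
        ((Units.map (laurentEv (k := k) b : LaurentPolynomial k →* A) (unitT k)⁻¹ : Aˣ) : A) := rfl
    rw [h1, map_inv, laurentEv_unitT]
  let L := LaurentPolynomial k
  let R₀ := Polynomial L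
  let s : R₀ := Polynomial.C (unitT k : L) + Polynomial.X
  have hs : s ≠ 0 := (Polynomial.monic_X_add_C (unitT k : L)).ne_zero ∘ (add_comm _ _).trans
  let R := Localization.Away s
  have : IsDomain R :=
    IsLocalization.isDomain_localization (powers_le_nonZeroDivisors_of_noZeroDivisors hs)
  let K := FractionRing R
  let incl : L →ₐ[k] R := IsScalarTower.toAlgHom k L R
  let ja : R →ₐ[k] K := IsScalarTower.toAlgHom k R K
  let u : Rˣ := Units.map (incl : L →* R) (unitT k)
  let y : R := algebraMap R₀ R Polynomial.X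
  have hsum : algebraMap R₀ R s = (u : R) + y := by
    simp [s, y, u, incl, IsScalarTower.algebraMap_apply L R₀ R, R₀]
  obtain ⟨σ, hσ⟩ : IsUnit ((u : R) + y) :=
    hsum ▸ IsLocalization.Away.algebraMap_isUnit s
  let w : R := (u : R) * y * (σ⁻¹ : Rˣ)
  have hR : lineP w ≫ g = lift (gaP ((u⁻¹ : Rˣ) : R)) (lineP y ≫ g) ≫ a.act := by
    refine hom_ext_of_injective ja (IsFractionRing.injective R K) _ _ ?_
    rw [← Category.assoc, lineP_natural, ← Category.assoc, comp_lift, gaP_natural,
      ← Category.assoc (specPt ja), lineP_natural]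
    have hinj := IsFractionRing.injective R K
    have hy0 : y ≠ 0 := by
      intro h
      exact Polynomial.X_ne_zero (IsLocalization.injective R
        (powers_le_nonZeroDivisors_of_noZeroDivisors hs) (h.trans (map_zero _).symm))
    have hy : ja y ≠ 0 := fun h => hy0 ((map_eq_zero_iff ja hinj).1 h)
    have hu : ja (u : R) ≠ 0 := (u.isUnit.map ja).ne_zero
    have hσ' : ja (σ : R) ≠ 0 := (σ.isUnit.map ja).ne_zero
    have hw : ja w = ja (u : R) * ja y * (ja (σ : R))⁻¹ := by
      rw [map_mul, map_mul, map_units_inv]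
    obtain ⟨wK, hwK⟩ : IsUnit (ja w) := by
      rw [hw]; exact isUnit_iff_ne_zero.2 (mul_ne_zero (mul_ne_zero hu hy) (inv_ne_zero hσ'))
    obtain ⟨yK, hyK⟩ : IsUnit (ja y) := isUnit_iff_ne_zero.2 hy
    have hkey : ((wK⁻¹ : Kˣ) : K) = ja ((u⁻¹ : Rˣ) : R) + ((yK⁻¹ : Kˣ) : K) := by
      rw [map_units_inv, Units.val_inv_eq_inv_val, Units.val_inv_eq_inv_val, hwK, hyK, hw]
      have hσe : ja (σ : R) = ja (u : R) + ja y := by rw [hσ, map_add]
      rw [hσe, mul_inv, mul_inv, inv_inv, mul_add, mul_right_comm, inv_mul_cancel₀ hu, _root_.one_mul,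
        _root_.mul_assoc, inv_mul_cancel₀ hy, _root_.mul_one, add_comm]
    rw [← hwK, ← hyK, hunit, hunit, hkey, gaP_add, orbit_mul]
  let ε₀ : R₀ →ₐ[k] L := (Polynomial.aeval (0 : L)).restrictScalars k
  let ε : R →ₐ[k] L := IsLocalization.liftAlgHom (M := Submonoid.powers s) (f := ε₀) (by
    rintro ⟨_, n, rfl⟩
    have : ε₀ s = (unitT k : L) := by
      show Polynomial.aeval (0 : L) (Polynomial.C (unitT k : L) + Polynomial.X) = _
      rw [map_add, Polynomial.aeval_C, Polynomial.aeval_X, add_zero]; rfl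
    show IsUnit (ε₀ (s ^ n))
    rw [map_pow, this]
    exact (Units.isUnit _).pow n)
  have hεc : ∀ r : R₀, ε (algebraMap R₀ R r) = ε₀ r := fun r => by
    simp [ε]
  have hεy : ε y = 0 := (hεc _).trans (Polynomial.aeval_X (0 : L))
  have hεu : Units.map (ε : R →* L) u = unitT k := by
    ext : 1
    show ε (algebraMap L R (unitT k : L)) = _
    rw [IsScalarTower.algebraMap_apply L R₀ R, hεc]
    exact Polynomial.aeval_C (0 : L) _
  have hL : lineP (0 : L) ≫ g =
      lift (gaP (((unitT k)⁻¹ : Lˣ) : L)) (lineP (0 : L) ≫ g) ≫ a.act := by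
    have := congrArg (specPt ε ≫ ·) hR
    have hwε : ε w = 0 := by simp [w, hεy]
    have huε : ε ((u⁻¹ : Rˣ) : R) = (((unitT k)⁻¹ : Lˣ) : L) := by
      rw [← hεu, ← map_inv]; rfl
    rw [← Category.assoc, lineP_natural, ← Category.assoc (specPt ε), comp_lift, gaP_natural,
      ← Category.assoc (specPt ε), lineP_natural, hwε, hεy, huε] at this
    exact this
  obtain ⟨e, he⟩ := lineP_zero_comp (A := L) g
  refine ⟨e ≫ lineP (0 : k) ≫ g, fun T t => ?_⟩
  set p := e ≫ lineP (0 : k) ≫ g
  have hT : lift (gaP (k := k) (unitT k : L)) (toUnit _ ≫ p) ≫ a.act = toUnit _ ≫ p := by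
    have := congrArg (specPt (laurentEv (k := k) (unitT k)⁻¹) ≫ ·) hL
    have h1 : laurentEv (k := k) (unitT k)⁻¹ (((unitT k)⁻¹ : Lˣ) : L) = (unitT k : L) := by
      have h : laurentEv (k := k) (unitT k)⁻¹ (((unitT k)⁻¹ : Lˣ) : L) =
          ((Units.map (laurentEv (k := k) (unitT k)⁻¹ : L →* L) (unitT k)⁻¹ : Lˣ) : L) := rfl
      rw [h, map_inv, laurentEv_unitT, inv_inv]
    rw [he, ← Category.assoc, comp_toUnit, ← Category.assoc (specPt _) (lift _ _), comp_lift,
      gaP_natural, h1, ← Category.assoc (specPt _) (toUnit _), comp_toUnit] at this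
    exact this.symm
  have hX : lift (gaP (k := k) (Polynomial.X : Polynomial k)) (toUnit _ ≫ p) ≫ a.act = toUnit _ ≫ p := by
    refine hom_ext_of_injective (Polynomial.toLaurentAlg (R := k)) Polynomial.toLaurent_injective _ _ ?_
    rw [← Category.assoc, comp_lift, gaP_natural, ← Category.assoc (specPt _) (toUnit _), comp_toUnit,
      Polynomial.toLaurentAlg_apply, Polynomial.toLaurent_X]
    exact hT
  have key : lift (𝟙 (Red.Ga Sk)) (toUnit _ ≫ p) ≫ a.act = toUnit _ ≫ p := by
    have := isAffine_Ga (k := k)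
    refine ext_of_affine_pts _ _ fun A _ _ x => ?_
    have hx : specPt (Polynomial.aeval (R := k) (gaC x)) ≫ gaP (k := k) (Polynomial.X : Polynomial k) = x := by
      rw [gaP_natural, Polynomial.aeval_X, gaP_gaC]
    have := congrArg (specPt (Polynomial.aeval (R := k) (gaC x)) ≫ ·) hX
    rw [← Category.assoc, comp_lift, hx, ← Category.assoc (specPt _) (toUnit _), comp_toUnit] at this
    rw [← Category.assoc, comp_lift, Category.comp_id, ← Category.assoc x, comp_toUnit]
    exact this
  have := congrArg (t ≫ ·) key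
  simpa [comp_lift_act] using this

end Groth.Agent.AlgGrp79
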