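import Groth.Agent.PnConst7.Point
import Mathlib.AlgebraicGeometry.Cover.Open
import Mathlib.RingTheory.Spectrum.Prime.Basic

/-!
The morphism from an affine scheme to projective space given by a unimodular row, and when two points have the
same image.
-/

set_option autoImplicit false
set_option backward.isDefEq.respectTransparency.types false

universe u

open CategoryTheory CategoryTheory.Limits AlgebraicGeometry HomogeneousLocalization

noncomputable section

namespace Groth.Agent.AlgGrp79.LineMap

open Approx60.ProjCharts PnConst7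
open scoped TensorProduct

variable {k : Type u} [Field k] {N : ℕ} {A : Type u} [CommRing A] [Algebra k A]

variable (k) in
/-- The ring map on forms given by coordinates. -/
abbrev coord {R : Type u} [CommRing R] [Algebra k R] (a : Fin (N + 1) → R) :
    MvPolynomial (Fin (N + 1)) k →+* R := MvPolynomial.eval₂Hom (algebraMap k R) a

variable (k) in
/-- The point with coordinates `a` in the `j`-th chart. -/
def pt {R : Type u} [CommRing R] [Algebra k R] (a : Fin (N + 1) → R) (j : Fin (N + 1)) (h : IsUnit (a j)) :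
    Spec (CommRingCat.of R) ⟶ CohB1.ProjSpace N k :=
  point (coord k a) (MvPolynomial.X j) (X₁ k N j).2 one_pos (isUnit_eval_X _ a j h)

theorem coord_comp {R R' : Type u} [CommRing R] [Algebra k R] [CommRing R'] [Algebra k R'] (ψ : R →ₐ[k] R')
    (a : Fin (N + 1) → R) : (ψ : R →+* R').comp (coord k a) = coord k (fun i => ψ (a i)) :=
  MvPolynomial.ringHom_ext (fun r => by simp) fun i => by simp

theorem pt_comp {R R' : Type u} [CommRing R] [Algebra k R] [CommRing R'] [Algebra k R'] (ψ : R →ₐ[k] R')
    (a : Fin (N + 1) → R) (j : Fin (N + 1)) (h : IsUnit (a j)) :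
    Spec.map (CommRingCat.ofHom ψ.toRingHom) ≫ pt k a j h = pt k (fun i => ψ (a i)) j (h.map ψ) := by
  rw [pt, pt, specMap_point]
  exact point_congr (coord_comp ψ a) _ _ _ _

theorem pt_indep {R : Type u} [CommRing R] [Algebra k R] (a : Fin (N + 1) → R) (j l : Fin (N + 1))
    (h : IsUnit (a j)) (h' : IsUnit (a l)) : pt k a j h = pt k a l h' :=
  point_indep _ _ _ _ _ _ _ _ _

theorem pt_toSpec {R : Type u} [CommRing R] [Algebra k R] (a : Fin (N + 1) → R) (j : Fin (N + 1)) (h : IsUnit (a j)) :
    pt k a j h ≫ CohB1.ProjSpace.toSpec N k = Spec.map (CommRingCat.ofHom (algebraMap k R)) := by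
  rw [pt, point_toSpec]
  congr 2
  ext r
  simp

theorem pt_smul {R : Type u} [CommRing R] [Algebra k R] (a : Fin (N + 1) → R) (c : R) (hc : IsUnit c)
    (j : Fin (N + 1)) (h : IsUnit (a j)) (h' : IsUnit (c * a j)) :
    pt k (fun i => c * a i) j h' = pt k a j h := by
  simp only [pt, point]
  rw [awayEval_smul (algebraMap k R) c hc a]

/-- Equal points in the charts of `j` and of `l`: the coordinates are proportional. -/
theorem cross_of_eq {R : Type u} [CommRing R] [Algebra k R] (a b : Fin (N + 1) → R) (j l : Fin (N + 1))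
    (ha : IsUnit (a j)) (hb : IsUnit (b l)) (h : pt k a j ha = pt k b l hb) :
    ∀ i, a i * b j = a j * b i := by
  have hbj : IsUnit (b j) := by
    by_contra hn
    obtain ⟨q, hq, hqb⟩ := exists_max_ideal_of_mem_nonunits (a := b j) hn
    let q' : PrimeSpectrum R := ⟨q, hq.isPrime⟩
    have h1 : pt k a j ha q' ∈ Proj.basicOpen (CohB1.polyGrading N k) (MvPolynomial.X j) := by
      rw [pt, point, Scheme.Hom.comp_apply]
      have e := Proj.opensRange_awayι (CohB1.polyGrading N k) (MvPolynomial.X j) (X₁ k N j).2 one_pos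
      erw [← e]
      exact ⟨_, rfl⟩
    rw [h, pt, point, Scheme.Hom.comp_apply] at h1
    have h2 : Spec.map (CommRingCat.ofHom (awayEval (coord k b) _ (isUnit_eval_X _ b l hb))) q' ∈
        Proj.awayι (CohB1.polyGrading N k) (MvPolynomial.X l) (X₁ k N l).2 one_pos ⁻¹ᵁ
          Proj.basicOpen (CohB1.polyGrading N k) (MvPolynomial.X j) := h1
    rw [Proj.awayι_preimage_basicOpen (CohB1.polyGrading N k) (f := (MvPolynomial.X l : MvPolynomial (Fin (N + 1)) k))
      (X₁ k N l).2 one_pos (g := (MvPolynomial.X j : MvPolynomial (Fin (N + 1)) k)) (X₁ k N j).2] at h2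
    on_goal 2 => exact one_pos
    have h3 : awayEval (coord k b) _ (isUnit_eval_X _ b l hb)
        (Away.isLocalizationElem (X₁ k N l).2 (X₁ k N j).2) ∉ q := h2
    have h4 := awayEval_spec (coord k b) (MvPolynomial.X l) (isUnit_eval_X _ b l hb)
      ⟨1, X₁ k N j, X₁ k N l, by exact ⟨1, pow_one _⟩⟩
    have e : Away.isLocalizationElem (X₁ k N l).2 (X₁ k N j).2 =
        HomogeneousLocalization.mk ⟨1, X₁ k N j, X₁ k N l, by exact ⟨1, pow_one _⟩⟩ := by
      apply HomogeneousLocalization.val_injective
      simp [Away.isLocalizationElem, Away.val_mk, HomogeneousLocalization.val_mk, X₁]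
    erw [← e] at h4
    simp only [X₁, MvPolynomial.eval₂Hom_X'] at h4
    refine h3 ?_
    have h5 : awayEval (coord k b) _ (isUnit_eval_X _ b l hb)
        (Away.isLocalizationElem (X₁ k N l).2 (X₁ k N j).2) * b l ∈ q := h4.symm ▸ hqb
    exact (hq.isPrime.mem_or_mem h5).resolve_right fun hl => hq.ne_top (q.eq_top_of_isUnit_mem hl hb)
  rw [pt_indep b l j hb hbj] at h
  simp only [pt, point] at h
  haveI : Mono (Proj.awayι (CohB1.polyGrading N k) (MvPolynomial.X j) (X₁ k N j).2 one_pos) := inferInstance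
  have h' := congrArg CommRingCat.Hom.hom (Spec.map_injective
    ((cancel_mono (Proj.awayι (CohB1.polyGrading N k) (MvPolynomial.X j) (X₁ k N j).2 one_pos)).1 h))
  intro i
  have e1 := awayEval_spec (coord k a) (MvPolynomial.X j) (isUnit_eval_X _ a j ha) ⟨1, X₁ k N i, X₁ k N j, by exact ⟨1, pow_one _⟩⟩
  have e2 := awayEval_spec (coord k b) (MvPolynomial.X j) (isUnit_eval_X _ b j hbj) ⟨1, X₁ k N i, X₁ k N j, by exact ⟨1, pow_one _⟩⟩
  have e3 := RingHom.congr_fun h' (HomogeneousLocalization.mk ⟨1, X₁ k N i, X₁ k N j, by exact ⟨1, pow_one _⟩⟩)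
  simp only [CommRingCat.hom_ofHom] at e3
  rw [e3] at e1
  simp only [X₁, MvPolynomial.eval₂Hom_X'] at e1 e2
  rw [← e1, ← e2]
  ring

/-- The localisation at the `j`-th coordinate. -/
abbrev locA (a : Fin (N + 1) → A) (j : Fin (N + 1)) : Type u := Localization.Away (a j)

theorem exists_lineMap (a : Fin (N + 1) → A) (ha : Ideal.span (Set.range a) = ⊤) :
    ∃ φ : Spec (CommRingCat.of A) ⟶ CohB1.ProjSpace N k,
      φ ≫ CohB1.ProjSpace.toSpec N k = Spec.map (CommRingCat.ofHom (algebraMap k A)) ∧
      ∀ (R : Type u) [CommRing R] [Algebra k R] (x : A →ₐ[k] R) (j : Fin (N + 1)) (h : IsUnit (x (a j))),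
        Spec.map (CommRingCat.ofHom x.toRingHom) ≫ φ = pt k (fun i => x (a i)) j h := by
  let 𝒰 := (Scheme.affineOpenCoverOfSpanRangeEqTop (R := CommRingCat.of A) a ha).openCover
  let m : ∀ j : Fin (N + 1), Spec (CommRingCat.of (locA a j)) ⟶ CohB1.ProjSpace N k := fun j =>
    pt k (fun i => algebraMap A (locA a j) (a i)) j (IsLocalization.Away.algebraMap_isUnit (a j))
  have hcompat : ∀ j l : Fin (N + 1),
      pullback.fst (Spec.map (CommRingCat.ofHom (algebraMap A (locA a j)))) (Spec.map (CommRingCat.ofHom (algebraMap A (locA a l)))) ≫ m j =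
        pullback.snd (Spec.map (CommRingCat.ofHom (algebraMap A (locA a j)))) (Spec.map (CommRingCat.ofHom (algebraMap A (locA a l)))) ≫ m l := by
    intro j l
    let P := locA a j ⊗[A] locA a l
    let ι₁ : locA a j →ₐ[k] P :=
      (Algebra.TensorProduct.includeLeft (R := A) (S := A) (A := locA a j) (B := locA a l)).restrictScalars k
    let ι₂ : locA a l →ₐ[k] P :=
      (Algebra.TensorProduct.includeRight (R := A) (A := locA a j) (B := locA a l)).restrictScalars k
    rw [← cancel_epi (pullbackSpecIso A (locA a j) (locA a l)).inv]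
    rw [pullbackSpecIso_inv_fst_assoc A (locA a j) (locA a l), pullbackSpecIso_inv_snd_assoc A (locA a j) (locA a l)]
    show Spec.map (CommRingCat.ofHom ι₁.toRingHom) ≫ m j = Spec.map (CommRingCat.ofHom ι₂.toRingHom) ≫ m l
    have e : (fun i => ι₁ (algebraMap A (locA a j) (a i))) = fun i => ι₂ (algebraMap A (locA a l) (a i)) :=
      funext fun i => by
        show (algebraMap A (locA a j) (a i)) ⊗ₜ[A] (1 : locA a l) = (1 : locA a j) ⊗ₜ[A] (algebraMap A (locA a l) (a i))
        rw [Algebra.algebraMap_eq_smul_one, Algebra.algebraMap_eq_smul_one, TensorProduct.smul_tmul]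
    have hu : IsUnit (ι₁ (algebraMap A (locA a j) (a l))) := by
      rw [congrFun e l]
      exact (IsLocalization.Away.algebraMap_isUnit (a l)).map ι₂
    rw [pt_comp, pt_comp, pt_indep _ j l _ hu]
    simp only [e]
  let φ : Spec (CommRingCat.of A) ⟶ CohB1.ProjSpace N k := 𝒰.glueMorphisms m hcompat
  have hφ : ∀ j : Fin (N + 1), Spec.map (CommRingCat.ofHom (algebraMap A (locA a j))) ≫ φ = m j := fun j =>
    Scheme.Cover.ι_glueMorphisms 𝒰 m hcompat j
  refine ⟨φ, 𝒰.hom_ext _ _ fun j => ?_, fun R _ _ x j h => ?_⟩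
  · rw [← Category.assoc]
    erw [hφ j]
    show m j ≫ _ = Spec.map _ ≫ Spec.map _
    rw [pt_toSpec, ← Spec.map_comp]
    congr 2
  · let y : locA a j →ₐ[k] R :=
      { IsLocalization.Away.lift (a j) (g := x.toRingHom) h with
        commutes' := fun r => by
          show IsLocalization.Away.lift (a j) (g := x.toRingHom) h (algebraMap k (locA a j) r) = _
          rw [IsScalarTower.algebraMap_apply k A (locA a j), IsLocalization.Away.lift_eq]
          exact x.commutes r }
    have hy : ∀ t, y (algebraMap A (locA a j) t) = x t := fun t => IsLocalization.Away.lift_eq (a j) h t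
    have hxy : Spec.map (CommRingCat.ofHom x.toRingHom) =
        Spec.map (CommRingCat.ofHom y.toRingHom) ≫ Spec.map (CommRingCat.ofHom (algebraMap A (locA a j))) := by
      rw [← Spec.map_comp]
      congr 1
      ext t
      exact (hy t).symm
    rw [hxy, Category.assoc, hφ, pt_comp]
    simp only [hy]

variable (k) in
/-- The morphism given by a unimodular row. -/
def lineMap (a : Fin (N + 1) → A) (ha : Ideal.span (Set.range a) = ⊤) :
    Spec (CommRingCat.of A) ⟶ CohB1.ProjSpace N k := (exists_lineMap (k := k) a ha).choose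

theorem lineMap_toSpec (a : Fin (N + 1) → A) (ha : Ideal.span (Set.range a) = ⊤) :
    lineMap k a ha ≫ CohB1.ProjSpace.toSpec N k = Spec.map (CommRingCat.ofHom (algebraMap k A)) :=
  (exists_lineMap (k := k) a ha).choose_spec.1

theorem lineMap_pt (a : Fin (N + 1) → A) (ha : Ideal.span (Set.range a) = ⊤) {R : Type u} [CommRing R] [Algebra k R]
    (x : A →ₐ[k] R) (j : Fin (N + 1)) (h : IsUnit (x (a j))) :
    Spec.map (CommRingCat.ofHom x.toRingHom) ≫ lineMap k a ha = pt k (fun i => x (a i)) j h :=
  (exists_lineMap (k := k) a ha).choose_spec.2 R x j h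

theorem exists_comb (a : Fin (N + 1) → A) (ha : Ideal.span (Set.range a) = ⊤) {R : Type u} [CommRing R] [Algebra k R]
    (x : A →ₐ[k] R) : ∃ s : Fin (N + 1) → R, ∑ i, s i * x (a i) = 1 := by
  have h1 : (1 : A) ∈ Ideal.span (Set.range a) := by rw [ha]; trivial
  obtain ⟨s, hs⟩ := Ideal.mem_span_range_iff_exists_fun.1 h1
  refine ⟨fun i => x (s i), ?_⟩
  simp only [← map_mul]
  rw [← map_sum, hs, map_one]

/-- Proportional rows differ by a unit. -/
theorem exists_unit_of_cross (a : Fin (N + 1) → A) (ha : Ideal.span (Set.range a) = ⊤) {R : Type u} [CommRing R]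
    [Algebra k R] (x y : A →ₐ[k] R) (h : ∀ i l, x (a i) * y (a l) = x (a l) * y (a i)) :
    ∃ c : R, IsUnit c ∧ ∀ i, y (a i) = c * x (a i) := by
  obtain ⟨s, hs⟩ := exists_comb a ha x
  obtain ⟨t, ht⟩ := exists_comb a ha y
  have hc : ∀ i, y (a i) = (∑ l, s l * y (a l)) * x (a i) := fun i => by
    rw [Finset.sum_mul, ← one_mul (y (a i)), ← hs, Finset.sum_mul]
    exact Finset.sum_congr rfl fun l _ => by linear_combination (s l) * h l i
  refine ⟨_, IsUnit.of_mul_eq_one (∑ i, t i * x (a i)) ?_, hc⟩
  rw [← ht, Finset.mul_sum]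
  exact Finset.sum_congr rfl fun i _ => by rw [hc i]; ring

/-- Two points have the same image exactly when their rows are proportional. -/
theorem lineMap_eq_iff (a : Fin (N + 1) → A) (ha : Ideal.span (Set.range a) = ⊤) {R : Type u} [CommRing R]
    [Algebra k R] (x y : A →ₐ[k] R) :
    Spec.map (CommRingCat.ofHom x.toRingHom) ≫ lineMap k a ha = Spec.map (CommRingCat.ofHom y.toRingHom) ≫ lineMap k a ha ↔
      ∀ i l, x (a i) * y (a l) = x (a l) * y (a i) := by
  constructor
  · intro h
    let e : Fin (N + 1) × Fin (N + 1) → R := fun p => x (a p.1) * y (a p.2)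
    have hcov : Ideal.span (Set.range e) = ⊤ := by
      rw [Ideal.eq_top_iff_one]
      obtain ⟨s, hs⟩ := exists_comb a ha x
      obtain ⟨t, ht⟩ := exists_comb a ha y
      have h1 : (1 : R) = (∑ i, s i * x (a i)) * ∑ l, t l * y (a l) := by rw [hs, ht, one_mul]
      rw [h1, Finset.sum_mul_sum]
      refine Ideal.sum_mem _ fun i _ => Ideal.sum_mem _ fun l _ => ?_
      rw [show s i * x (a i) * (t l * y (a l)) = s i * t l * (x (a i) * y (a l)) by ring]
      exact Ideal.mul_mem_left _ _ (Ideal.subset_span ⟨(i, l), rfl⟩)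
    have key : ∀ (p : Fin (N + 1) × Fin (N + 1)) (i l : Fin (N + 1)),
        algebraMap R (Localization.Away (e p)) (x (a i) * y (a l)) =
          algebraMap R (Localization.Away (e p)) (x (a l) * y (a i)) := by
      intro p i l
      let R' := Localization.Away (e p)
      let ρ : R →ₐ[k] R' := IsScalarTower.toAlgHom k R R'
      have hu := IsLocalization.Away.algebraMap_isUnit (S := R') (e p)
      simp only [e, map_mul] at hu
      have hx : IsUnit ((ρ.comp x) (a p.1)) := isUnit_of_mul_isUnit_left hu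
      have hy : IsUnit ((ρ.comp y) (a p.2)) := isUnit_of_mul_isUnit_right hu
      have h' := congrArg (Spec.map (CommRingCat.ofHom ρ.toRingHom) ≫ ·) h
      simp only [← Category.assoc, ← Spec.map_comp, ← CommRingCat.ofHom_comp] at h'
      change Spec.map (CommRingCat.ofHom (ρ.comp x).toRingHom) ≫ lineMap k a ha =
        Spec.map (CommRingCat.ofHom (ρ.comp y).toRingHom) ≫ lineMap k a ha at h'
      rw [lineMap_pt a ha (ρ.comp x) p.1 hx, lineMap_pt a ha (ρ.comp y) p.2 hy] at h'
      have hc := cross_of_eq _ _ p.1 p.2 hx hy h'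
      have h1 := hc i
      have h2 := hc l
      show ρ (x (a i) * y (a l)) = ρ (x (a l) * y (a i))
      simp only [map_mul]
      simp only [AlgHom.comp_apply] at h1 h2 hx
      refine hx.mul_left_cancel ?_
      linear_combination (-ρ (x (a i))) * h2 + ρ (x (a l)) * h1
    intro i l
    rw [← sub_eq_zero]
    have hall : ∀ p, ∃ n : ℕ, e p ^ n * (x (a i) * y (a l) - x (a l) * y (a i)) = 0 := by
      intro p
      obtain ⟨⟨_, n, rfl⟩, hn⟩ := (IsLocalization.eq_iff_exists (Submonoid.powers (e p))
        (Localization.Away (e p))).1 (key p i l)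
      exact ⟨n, by linear_combination hn⟩
    choose n hn using hall
    have htop : Ideal.span (Set.range fun p => e p ^ (∑ q, n q)) = ⊤ := by
      have := Ideal.span_pow_eq_top _ hcov (∑ q, n q)
      rwa [← Set.range_comp] at this
    obtain ⟨s, hs⟩ := Ideal.mem_span_range_iff_exists_fun.1
      (show (1 : R) ∈ Ideal.span (Set.range fun p => e p ^ (∑ q, n q)) by rw [htop]; trivial)
    rw [← one_mul (x (a i) * y (a l) - x (a l) * y (a i)), ← hs, Finset.sum_mul]
    refine Finset.sum_eq_zero fun p _ => ?_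
    rw [← Nat.sub_add_cancel (Finset.single_le_sum (fun q _ => Nat.zero_le (n q)) (Finset.mem_univ p)), pow_add,
      mul_assoc, mul_assoc, hn p, mul_zero, mul_zero]
  · intro h
    obtain ⟨c, hc, hcy⟩ := exists_unit_of_cross a ha x y h
    have hspan : Ideal.span (Set.range fun j => x (a j)) = ⊤ := by
      obtain ⟨s, hs⟩ := exists_comb a ha x
      rw [Ideal.eq_top_iff_one, Ideal.mem_span_range_iff_exists_fun]
      exact ⟨s, hs⟩
    refine (Scheme.affineOpenCoverOfSpanRangeEqTop (R := CommRingCat.of R) _ hspan).openCover.hom_ext _ _ fun j => ?_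
    let R' := Localization.Away (x (a j))
    let ρ : R →ₐ[k] R' := IsScalarTower.toAlgHom k R R'
    have hx : IsUnit ((ρ.comp x) (a j)) := IsLocalization.Away.algebraMap_isUnit (x (a j))
    have hy : IsUnit ((ρ.comp y) (a j)) := by
      show IsUnit (ρ (y (a j)))
      rw [hcy, map_mul]
      exact (hc.map ρ).mul hx
    show Spec.map (CommRingCat.ofHom ρ.toRingHom) ≫ _ = Spec.map (CommRingCat.ofHom ρ.toRingHom) ≫ _
    simp only [← Category.assoc, ← Spec.map_comp, ← CommRingCat.ofHom_comp]
    show Spec.map (CommRingCat.ofHom (ρ.comp x).toRingHom) ≫ _ = Spec.map (CommRingCat.ofHom (ρ.comp y).toRingHom) ≫ _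
    rw [lineMap_pt a ha (ρ.comp x) j hx, lineMap_pt a ha (ρ.comp y) j hy]
    have e : (fun i => (ρ.comp y) (a i)) = fun i => ρ c * (ρ.comp x) (a i) := funext fun i => by
      show ρ (y (a i)) = ρ c * ρ (x (a i))
      rw [hcy, map_mul]
    simp only [e]
    exact (pt_smul _ (ρ c) (hc.map ρ) j hx _).symm

end Groth.Agent.AlgGrp79.LineMap
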