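import Groth.Agent.Grp57.Component
import Groth.Prelude.Def_Red

set_option autoImplicit false
universe u
open CategoryTheory CategoryTheory.Limits MonoidalCategory CartesianMonoidalCategory MonObj GrpObj AlgebraicGeometry

namespace Groth.Agent.AlgGrp79

variable {k : Type u} [Field k] {G G₀ : Over (Spec (CommRingCat.of k))} [GrpObj G] [GrpObj G₀]

/-- a point whose residue field point factors through an open immersion lies in its range -/
lemma mem_range_openSub_of_mul {T : Over (Spec (CommRingCat.of k))} (i₀ : G₀ ⟶ G) [IsMonHom i₀]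
    [IsOpenImmersion i₀.left] (a : T ⟶ G ⊗ G)
    (h1 : Set.range (a ≫ fst G G).left ⊆ Set.range i₀.left)
    (h2 : Set.range (a ≫ μ[G]).left ⊆ Set.range i₀.left) :
    Set.range (a ≫ snd G G).left ⊆ Set.range i₀.left := by
  have key : ∀ f : T ⟶ G, Set.range f.left ⊆ Set.range i₀.left → ∃ u : T ⟶ G₀, u ≫ i₀ = f := by
    intro f hf
    refine ⟨Over.homMk (IsOpenImmersion.lift i₀.left f.left hf) ?_,
      Over.OverMorphism.ext (IsOpenImmersion.lift_fac _ _ _)⟩
    rw [← Over.w i₀, ← Category.assoc, IsOpenImmersion.lift_fac, Over.w]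
  obtain ⟨u, hu⟩ := key _ h1
  obtain ⟨v, hv⟩ := key _ h2
  have : a ≫ snd G G = (u⁻¹ * v) ≫ i₀ := by
    have hm : a ≫ μ[G] = (a ≫ fst G G) * (a ≫ snd G G) := by
      simp [Hom.mul_def]
    rw [mul_comp, GrpObj.inv_comp, hu, hv, hm, inv_mul_cancel_left]
  rw [this, Over.comp_left, Scheme.Hom.comp_base, TopCat.coe_comp]
  exact Set.range_comp_subset_range _ _

/-- a connected open subgroup is the identity component -/
theorem range_eq_connectedComponent (i₀ : G₀ ⟶ G) [IsMonHom i₀] [IsOpenImmersion i₀.left]
    [ConnectedSpace G₀.left] :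
    Set.range i₀.left = connectedComponent (Grp57.unitPt G) := by
  set C := connectedComponent (Grp57.unitPt G) with hC
  have he0 : Grp57.unitPt G ∈ Set.range i₀.left := by
    refine ⟨Grp57.unitPt G₀, ?_⟩
    have h := congr($(congrArg Over.Hom.left (IsMonHom.one_hom i₀)) (IsLocalRing.closedPoint k))
    exact h
  have hsub : Set.range i₀.left ⊆ C :=
    (isPreconnected_range i₀.left.continuous).subset_connectedComponent he0
  refine hsub.antisymm fun y hy => ?_
  set L := G.left.residueField y
  obtain ⟨τ, hτ⟩ := Grp57.exists_specMap (L := L) G.hom (G.left.fromSpecResidueField y)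
  let T : Over (Spec (CommRingCat.of k)) := Over.mk (Spec.map (CommRingCat.ofHom τ))
  let ay : T ⟶ G := Over.homMk (G.left.fromSpecResidueField y) hτ
  let P : Over (Spec (CommRingCat.of k)) :=
    Over.mk (Grp57.proj G τ ≫ G.hom)
  let p1 : P ⟶ G := Over.homMk (Grp57.proj G τ) rfl
  let q : P ⟶ T := Over.homMk (pullback.snd G.hom (Spec.map (CommRingCat.ofHom τ))) pullback.condition.symm
  let h : P ⟶ G ⊗ G := lift p1 (q ≫ ay)
  have hay : ∀ z, ay.left z = y := fun z => by
    have : ay.left z ∈ Set.range (G.left.fromSpecResidueField y) := ⟨z, rfl⟩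
    rwa [G.left.range_fromSpecResidueField] at this
  have hirr := Grp57.isIrreducible_preimage_connectedComponent_unit G τ
  -- a point over the inverse of `y`
  let s : T ⟶ P := Over.homMk (pullback.lift (ay⁻¹).left (𝟙 _) (by rw [Category.id_comp]; exact Over.w _))
    (by
      show pullback.lift _ _ _ ≫ pullback.fst _ _ ≫ G.hom = _
      rw [pullback.lift_fst_assoc]; exact Over.w _)
  have hs1 : s ≫ p1 = ay⁻¹ := Over.OverMorphism.ext (pullback.lift_fst _ _ _)
  have hs2 : s ≫ q = 𝟙 T := Over.OverMorphism.ext (pullback.lift_snd _ _ _)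
  have hsh : s ≫ h ≫ μ[G] = (1 : T ⟶ G) := by
    rw [show h ≫ μ[G] = p1 * (q ≫ ay) from rfl, comp_mul, hs1, reassoc_of% hs2, inv_mul_cancel]
  let z0 : T.left := IsLocalRing.closedPoint L
  have hinvC : (ay⁻¹).left z0 ∈ C := by
    have hi : ay⁻¹ = ay ≫ ι[G] := rfl
    rw [hi, Over.comp_left, Scheme.Hom.comp_apply, hay]
    have hu : ι[G].left (Grp57.unitPt G) = Grp57.unitPt G := by
      have := congr($(congrArg Over.Hom.left (GrpObj.inv_comp (η[G]) (𝟙 G))) (IsLocalRing.closedPoint k))
      have h1 : η[G] ≫ ι[G] = η[G] := by simp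
      exact congr($(congrArg Over.Hom.left h1) (IsLocalRing.closedPoint k))
    have := ι[G].left.continuous.mapsTo_connectedComponent (Grp57.unitPt G) hy
    rwa [hu] at this
  obtain ⟨w, hwC, hw1, hw2⟩ := hirr.isPreirreducible ((p1.left) ⁻¹' Set.range i₀.left)
    ((h ≫ μ[G]).left ⁻¹' Set.range i₀.left)
    (i₀.left.isOpenEmbedding.isOpen_range.preimage p1.left.continuous)
    (i₀.left.isOpenEmbedding.isOpen_range.preimage (h ≫ μ[G]).left.continuous)
    (by
      obtain ⟨e', he'⟩ := Grp57.proj_surjective (G := G) τ (Grp57.unitPt G)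
      exact ⟨e', by rw [Set.mem_preimage, he']; exact mem_connectedComponent,
        by show Grp57.proj G τ e' ∈ Set.range i₀.left; rw [he']; exact he0⟩)
    ⟨s.left z0, by
      rw [Set.mem_preimage]
      show p1.left (s.left z0) ∈ C
      rw [← Scheme.Hom.comp_apply, ← Over.comp_left, hs1]
      exact hinvC, by
      rw [Set.mem_preimage, ← Scheme.Hom.comp_apply, ← Over.comp_left, hsh]
      have h1 : (1 : T ⟶ G).left z0 = Grp57.unitPt G :=
        congrArg η[G].left (Subsingleton.elim (α := PrimeSpectrum k) _ _)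
      rw [h1]
      exact he0⟩
  let W : Over (Spec (CommRingCat.of k)) := Over.mk (P.left.fromSpecResidueField w ≫ P.hom)
  let aw : W ⟶ P := Over.homMk (P.left.fromSpecResidueField w) rfl
  have haw : ∀ z, aw.left z = w := fun z => by
    have : aw.left z ∈ Set.range (P.left.fromSpecResidueField w) := ⟨z, rfl⟩
    rwa [P.left.range_fromSpecResidueField] at this
  have := mem_range_openSub_of_mul i₀ (aw ≫ h)
    (by
      rintro _ ⟨z, rfl⟩
      rw [Category.assoc, lift_fst, Over.comp_left, Scheme.Hom.comp_apply, haw]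
      exact hw1)
    (by
      rintro _ ⟨z, rfl⟩
      rw [Category.assoc, Over.comp_left, Scheme.Hom.comp_apply, haw]
      exact hw2)
  have := this ⟨(IsLocalRing.closedPoint (P.left.residueField w) : W.left), rfl⟩
  rwa [Category.assoc, lift_snd, ← Category.assoc, Over.comp_left, Scheme.Hom.comp_apply, hay] at this

/-- the identity component is geometrically connected inside any base change: stability under automorphisms -/
theorem exists_neutral_baseChange_lift (i₀ : G₀ ⟶ G) [IsMonHom i₀] [IsOpenImmersion i₀.left]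
    [ConnectedSpace G₀.left] {R : Type u} [CommRing R]
    (strR : Spec (CommRingCat.of R) ⟶ Spec (CommRingCat.of k))
    (α : Red.bc strR G ⟶ Red.bc strR G) [IsMonHom α] :
    ∃ β : Red.bc strR G₀ ⟶ Red.bc strR G₀,
      β ≫ (Over.pullback strR).map i₀ = (Over.pullback strR).map i₀ ≫ α := by
  set j := (Over.pullback strR).map i₀
  have hV := range_eq_connectedComponent i₀
  have hclopen : IsClopen (Set.range i₀.left) :=
    ⟨hV ▸ isClosed_connectedComponent, i₀.left.isOpenEmbedding.isOpen_range⟩
  set V := (pullback.fst G.hom strR) ⁻¹' Set.range i₀.left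
  have hj : j.left = pullback.map G₀.hom strR G.hom strR i₀.left (𝟙 _) (𝟙 _) (by simp) (by simp) := by
    apply pullback.hom_ext <;> simp [j, pullback.map]
  have hrange : Set.range j.left = V := by
    rw [hj]
    refine (Scheme.Pullback.range_map _ _ _ _ _ _ _ _ _).trans ?_
    simp [V]
  have hsub : Set.range (j ≫ α).left ⊆ Set.range j.left := by
    rw [hrange, Over.comp_left, Scheme.Hom.comp_base, TopCat.coe_comp, Set.range_comp, hrange]
    rintro _ ⟨z, hz, rfl⟩
    set p := (pullback.snd G.hom strR) z
    set t := (Spec (CommRingCat.of R)).fromSpecResidueField p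
    obtain ⟨τ, hτ⟩ := Grp57.exists_specMap (L := (Spec (CommRingCat.of R)).residueField p) strR t
    let φ : (Grp57.bc G τ).left ⟶ pullback G.hom strR :=
      pullback.map _ _ _ _ (𝟙 _) t (𝟙 _) (by simp) (by rw [hτ, Category.comp_id])
    set T : Set (pullback G.hom strR : Scheme.{u}) := φ '' (Grp57.proj G τ ⁻¹' connectedComponent (Grp57.unitPt G))
    have hT : _root_.IsPreconnected T :=
      ((Grp57.isIrreducible_preimage_connectedComponent_unit G τ).image _
        φ.continuous.continuousOn).isConnected.isPreconnected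
    have hfst : ∀ x, (pullback.fst G.hom strR) (φ x) = Grp57.proj G τ x := fun x => by
      rw [← Scheme.Hom.comp_apply, pullback.lift_fst, Category.comp_id]
    have hzT : z ∈ T := by
      obtain ⟨x, hx⟩ : z ∈ Set.range φ := by
        rw [Scheme.Pullback.range_map]
        refine ⟨by simp, ?_⟩
        rw [Set.mem_preimage, Scheme.range_fromSpecResidueField]
        rfl
      refine ⟨x, ?_, hx⟩
      rw [Set.mem_preimage, ← hfst, hx, ← hV]
      exact hz
    -- the unit section at `p`
    set e := (η[Red.bc strR G]).left p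
    have heV : e ∈ V := by
      refine (?_ : (pullback.fst G.hom strR) e ∈ Set.range i₀.left)
      rw [hV]
      convert mem_connectedComponent
      have : (η[Red.bc strR G]).left ≫ pullback.fst G.hom strR = strR ≫ η[G].left := by
        simp [Functor.grpObjObj]
        rw [pullback.lift_fst, ← Category.assoc (pullback.snd _ _), ← pullback.condition,
          Category.assoc, Category.id_comp]
      rw [show (pullback.fst G.hom strR) e = _ from congr($this p)]
      exact congrArg η[G].left (Subsingleton.elim (α := PrimeSpectrum k) _ _)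
    have hsnd : (pullback.snd G.hom strR) e = p := congr($(Over.w (η[Red.bc strR G])) p)
    have heT : e ∈ T := by
      obtain ⟨x, hx⟩ : e ∈ Set.range φ := by
        rw [Scheme.Pullback.range_map]
        refine ⟨by simp, ?_⟩
        rw [Set.mem_preimage, Scheme.range_fromSpecResidueField]
        exact hsnd
      refine ⟨x, ?_, hx⟩
      rw [Set.mem_preimage, ← hfst, hx, ← hV]
      exact heV
    have hαe : α.left e = e := congr($(congrArg Over.Hom.left (IsMonHom.one_hom α)) p)
    exact (hT.image _ α.left.continuous.continuousOn).subset_isClopen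
      (hclopen.preimage (pullback.fst G.hom strR).continuous)
      ⟨e, ⟨e, heT, hαe⟩, heV⟩ ⟨z, hzT, rfl⟩
  have : IsOpenImmersion j.left := by
    rw [hj]; infer_instance
  have hfac := IsOpenImmersion.lift_fac j.left (j ≫ α).left hsub
  refine ⟨Over.homMk (IsOpenImmersion.lift j.left (j ≫ α).left hsub) ?_, ?_⟩
  · rw [← Over.w j, reassoc_of% hfac, Over.w (j ≫ α)]; exact (Over.w j).symm
  · apply Over.OverMorphism.ext
    rw [Over.comp_left]; exact hfac

end Groth.Agent.AlgGrp79
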