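import Groth.Agent.AVRig94.Descent
import Groth.Agent.AVRig94.Curve
import Groth.Agent.NearGen2.MultiSection
import Groth.Agent.Alb96.MaxAbelian
import Groth.Agent.AlgGrp79.NormalImage
import Groth.Agent.SGA3a.SubQuot

/-!
Maps from a product of pointed varieties to an abelian variety.
-/

set_option autoImplicit false
set_option linter.unusedSectionVars false
set_option backward.isDefEq.respectTransparency.types false

universe u

open CategoryTheory MonoidalCategory CartesianMonoidalCategory MonObj GrpObj AlgebraicGeometry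

noncomputable section

namespace Groth.Agent.AlgGrp79.ProdToAbVar

variable {k : Type u} [Field k]

theorem cg1 {M : Type*} [CommGroup M] (a b c d : M) : a * b = a * d * (c * d)⁻¹ * (c * b) := by
  have h : ∀ {N : Type _} [AddCommGroup N] (a b c d : N), a + b = a + d + -(c + d) + (c + b) := by intros; abel
  exact @h (Additive M) _ a b c d

theorem cg2 {M : Type*} [CommGroup M] (a b c d e : M) :
    a * c⁻¹ * d = (b * c⁻¹ * e)⁻¹ * (b * c⁻¹ * d) * (a * c⁻¹ * e) := by
  have h : ∀ {N : Type _} [AddCommGroup N] (a b c d e : N),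
      a + -c + d = -(b + -c + e) + (b + -c + d) + (a + -c + e) := by intros; abel
  exact @h (Additive M) _ a b c d e

theorem whiskerRight_isPullback' {X Y : Over (Spec (CommRingCat.of k))} (f : X ⟶ Y) (M : Over (Spec (CommRingCat.of k))) :
    IsPullback (f ▷ M) (fst X M) (fst Y M) f := by
  refine ⟨⟨by simp⟩, ⟨Limits.PullbackCone.IsLimit.mk _ (fun s => lift s.snd (s.fst ≫ snd Y M)) ?_ ?_ ?_⟩⟩
  · intro s
    ext : 1
    · simp [s.condition]
    · simp
  · intro s; simp
  · intro s m h1 h2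
    ext : 1
    · simp [← h2]
    · simp [← h1]

/-- A smooth open subscheme with a rational point. -/
theorem exists_smooth_pointed [IsAlgClosed k] (X : Over (Spec (CommRingCat.of k))) [LocallyOfFiniteType X.hom]
    [QuasiCompact X.hom] [IsSeparated X.hom] [GeometricallyIntegral X.hom] :
    ∃ (U : Over (Spec (CommRingCat.of k))) (jU : U ⟶ X) (_ : 𝟙_ (Over (Spec (CommRingCat.of k))) ⟶ U),
      IsOpenImmersion jU.left ∧ Smooth U.hom ∧ IsSeparated U.hom ∧ QuasiCompact U.hom ∧ GeometricallyIntegral U.hom := by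
  haveI : IsIntegral X.left := GeometricallyIntegral.isIntegral_of_subsingleton X.hom
  obtain ⟨O, hne, hsm⟩ := NearGen2.exists_smooth_open (Field.toIsField k) X.hom
  haveI := hsm
  haveI : Nonempty ↥(O : Scheme.{u}) := hne.to_subtype
  haveI : IrreducibleSpace ↥(O : Scheme.{u}) := by
    haveI : PreirreducibleSpace ↥(O : Scheme.{u}) := Subtype.preirreducibleSpace
      ((IrreducibleSpace.isIrreducible_univ X.left).isPreirreducible.open_subset O.isOpen (Set.subset_univ _))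
    exact ⟨inferInstance⟩
  haveI := AVRig94.geometricallyIntegral_of_smooth (O.ι ≫ X.hom)
  haveI : IsLocallyNoetherian X.left := LocallyOfFiniteType.isLocallyNoetherian X.hom
  haveI : JacobsonSpace ↥(O : Scheme.{u}) := LocallyOfFiniteType.jacobsonSpace (O.ι ≫ X.hom)
  obtain ⟨x, -, hx⟩ := nonempty_inter_closedPoints (Z := (Set.univ : Set ↥(O : Scheme.{u})))
    Set.univ_nonempty isClosed_univ.isLocallyClosed
  haveI : CompactSpace X.left := QuasiCompact.compactSpace_of_compactSpace X.hom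
  haveI : QuasiCompact O.ι := inferInstance
  exact ⟨Over.mk (O.ι ≫ X.hom), Over.homMk O.ι rfl,
    Over.homMk (pointOfClosedPoint (O.ι ≫ X.hom) x hx) (pointOfClosedPoint_comp _ _ _),
    inferInstanceAs (IsOpenImmersion O.ι), inferInstanceAs (Smooth (O.ι ≫ X.hom)), inferInstanceAs (IsSeparated (O.ι ≫ X.hom)),
    inferInstanceAs (QuasiCompact (O.ι ≫ X.hom)), inferInstanceAs (GeometricallyIntegral (O.ι ≫ X.hom))⟩

/-- The identity over an algebraically closed field. -/
theorem eq_of_isAlgClosed [IsAlgClosed k] (X Y A : Over (Spec (CommRingCat.of k)))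
    [LocallyOfFiniteType X.hom] [QuasiCompact X.hom] [IsSeparated X.hom] [GeometricallyIntegral X.hom]
    [LocallyOfFiniteType Y.hom] [QuasiCompact Y.hom] [IsSeparated Y.hom] [GeometricallyIntegral Y.hom]
    [GrpObj A] [IsProper A.hom] [GeometricallyIntegral A.hom]
    (x₀ : 𝟙_ (Over (Spec (CommRingCat.of k))) ⟶ X) (y₀ : 𝟙_ (Over (Spec (CommRingCat.of k))) ⟶ Y) (f : X ⊗ Y ⟶ A) :
    f = (toUnit (X ⊗ Y) ≫ lift x₀ y₀ ≫ f)⁻¹ * (snd X Y ≫ lift (toUnit Y ≫ x₀) (𝟙 Y) ≫ f) *
      (fst X Y ≫ lift (𝟙 X) (toUnit X ≫ y₀) ≫ f) := by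
  haveI : IsCommMonObj A := AVRig94.isCommMonObj_of_proper A
  obtain ⟨U, jU, u, _, _, _, _, _⟩ := exists_smooth_pointed X
  obtain ⟨V, jV, v, _, _, _, _, _⟩ := exists_smooth_pointed Y
  obtain ⟨g, hg⟩ := AVRig94.exists_hom_prod_eq_mul u ((jU ⊗ₘ jV) ≫ f)
  let h : V ⟶ A := lift (toUnit V ≫ u) (𝟙 V) ≫ (jU ⊗ₘ jV) ≫ f
  have hUV : ∀ (T : Over (Spec (CommRingCat.of k))) (a : T ⟶ U) (b : T ⟶ V),
      lift (a ≫ jU) (b ≫ jV) ≫ f = (a ≫ g) * (b ≫ h) := by
    intro T a b
    rw [← lift_map, Category.assoc, hg, MonObj.comp_mul, lift_fst_assoc, lift_snd_assoc]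
  let u' := u ≫ jU
  let v' := v ≫ jV
  let R : X ⊗ Y ⟶ A := (fst X Y ≫ lift (𝟙 X) (toUnit X ≫ v') ≫ f) * (toUnit (X ⊗ Y) ≫ lift u' v' ≫ f)⁻¹ *
    (snd X Y ≫ lift (toUnit Y ≫ u') (𝟙 Y) ≫ f)
  have hpts : ∀ (T : Over (Spec (CommRingCat.of k))) (a : T ⟶ X) (b : T ⟶ Y), lift a b ≫ R =
      (lift a (toUnit T ≫ v') ≫ f) * (lift (toUnit T ≫ u') (toUnit T ≫ v') ≫ f)⁻¹ *
        (lift (toUnit T ≫ u') b ≫ f) := by
    intro T a b
    simp only [R, MonObj.comp_mul, GrpObj.comp_inv, lift_fst_assoc, lift_snd_assoc, ← Category.assoc, comp_lift,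
      Category.comp_id, toUnit_unique (a ≫ toUnit X) (toUnit T), toUnit_unique (b ≫ toUnit Y) (toUnit T),
      toUnit_unique (lift a b ≫ toUnit (X ⊗ Y)) (toUnit T), lift_fst, lift_snd]
  have hR : f = R := by
    haveI := Alb96.geometricallyIntegral_tensor X Y
    haveI : IsIntegral (X ⊗ Y).left := GeometricallyIntegral.isIntegral_of_subsingleton (X ⊗ Y).hom
    haveI : IsOpenImmersion (jU ⊗ₘ jV).left := by
      rw [MonoidalCategory.tensorHom_def, Over.comp_left]
      haveI : IsOpenImmersion (jU ▷ V).left :=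
        MorphismProperty.of_isPullback (AlgGrp79.isPullback_left (whiskerRight_isPullback' jU V)).flip
          ‹IsOpenImmersion jU.left›
      haveI : IsOpenImmersion (X ◁ jV).left :=
        MorphismProperty.of_isPullback (AlgGrp79.isPullback_left (whiskerLeft_isPullback X jV)).flip
          ‹IsOpenImmersion jV.left›
      infer_instance
    haveI : IsDominant (jU ⊗ₘ jV).left := by
      refine ⟨IsOpen.dense (jU ⊗ₘ jV).left.isOpenEmbedding.isOpen_range ⟨_, Set.mem_range_self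
        ((lift u v).left (IsLocalRing.closedPoint k))⟩⟩
    refine Over.OverMorphism.ext (ext_of_isDominant_of_isSeparated A.hom
      ((Over.w f).trans (Over.w R).symm) (jU ⊗ₘ jV).left ?_)
    rw [← Over.comp_left, ← Over.comp_left]
    refine congrArg CommaMorphism.left ?_
    have e : (jU ⊗ₘ jV) = lift (fst U V ≫ jU) (snd U V ≫ jV) := by ext : 1 <;> simp
    rw [e, hpts]
    have h1 : toUnit (U ⊗ V) ≫ v' = (toUnit (U ⊗ V) ≫ v) ≫ jV := (Category.assoc _ _ _).symm
    have h2 : toUnit (U ⊗ V) ≫ u' = (toUnit (U ⊗ V) ≫ u) ≫ jU := (Category.assoc _ _ _).symm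
    rw [h1, h2, hUV, hUV, hUV, hUV]
    exact cg1 (M := (U ⊗ V ⟶ A)) _ _ _ _
  have key : ∀ (T : Over (Spec (CommRingCat.of k))) (a : T ⟶ X) (b : T ⟶ Y), lift a b ≫ f =
      (lift a (toUnit T ≫ v') ≫ f) * (lift (toUnit T ≫ u') (toUnit T ≫ v') ≫ f)⁻¹ *
        (lift (toUnit T ≫ u') b ≫ f) := fun T a b => by
    conv_lhs => rw [hR]
    exact hpts T a b
  have e1 : toUnit (X ⊗ Y) ≫ lift x₀ y₀ = lift (toUnit (X ⊗ Y) ≫ x₀) (toUnit (X ⊗ Y) ≫ y₀) := comp_lift _ _ _
  have e2 : snd X Y ≫ lift (toUnit Y ≫ x₀) (𝟙 Y) = lift (toUnit (X ⊗ Y) ≫ x₀) (snd X Y) := by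
    rw [comp_lift, ← Category.assoc, toUnit_unique (snd X Y ≫ toUnit Y) (toUnit _), Category.comp_id]
  have e3 : fst X Y ≫ lift (𝟙 X) (toUnit X ≫ y₀) = lift (fst X Y) (toUnit (X ⊗ Y) ≫ y₀) := by
    rw [comp_lift, ← Category.assoc, toUnit_unique (fst X Y ≫ toUnit X) (toUnit _), Category.comp_id]
  rw [← Category.assoc, ← Category.assoc, ← Category.assoc, e1, e2, e3, key _ (toUnit (X ⊗ Y) ≫ x₀) (toUnit (X ⊗ Y) ≫ y₀), key _ (toUnit (X ⊗ Y) ≫ x₀) (snd X Y),
    key _ (fst X Y) (toUnit (X ⊗ Y) ≫ y₀)]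
  conv_lhs => rw [← Category.id_comp f, ← lift_fst_snd, key]
  generalize lift (fst X Y) (toUnit (X ⊗ Y) ≫ v') ≫ f = a
  generalize lift (toUnit (X ⊗ Y) ≫ x₀) (toUnit (X ⊗ Y) ≫ v') ≫ f = b
  generalize lift (toUnit (X ⊗ Y) ≫ u') (toUnit (X ⊗ Y) ≫ v') ≫ f = c
  generalize lift (toUnit (X ⊗ Y) ≫ u') (snd X Y) ≫ f = d
  generalize lift (toUnit (X ⊗ Y) ≫ u') (toUnit (X ⊗ Y) ≫ y₀) ≫ f = e
  exact cg2 (M := (X ⊗ Y ⟶ A)) a b c d e

/-- The identity over any field. -/
theorem main (X Y A : Over (Spec (CommRingCat.of k)))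
    [LocallyOfFiniteType X.hom] [QuasiCompact X.hom] [IsSeparated X.hom] [GeometricallyIntegral X.hom]
    [LocallyOfFiniteType Y.hom] [QuasiCompact Y.hom] [IsSeparated Y.hom] [GeometricallyIntegral Y.hom]
    [GrpObj A] [IsProper A.hom] [Smooth A.hom] [ConnectedSpace ↥A.left]
    (x₀ : 𝟙_ (Over (Spec (CommRingCat.of k))) ⟶ X) (y₀ : 𝟙_ (Over (Spec (CommRingCat.of k))) ⟶ Y) (f : X ⊗ Y ⟶ A) :
    f = (toUnit (X ⊗ Y) ≫ lift x₀ y₀ ≫ f)⁻¹ * (snd X Y ≫ lift (toUnit Y ≫ x₀) (𝟙 Y) ≫ f) *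
      (fst X Y ≫ lift (𝟙 X) (toUnit X ≫ y₀) ≫ f) := by
  haveI : GeometricallyReduced A.hom := AVRig94.geometricallyReduced_of_smooth A.hom
  haveI := Alb96.geometricallyIntegral_of_connectedSpace A
  let σ : Spec (CommRingCat.of (AlgebraicClosure k)) ⟶ Spec (CommRingCat.of k) :=
    Spec.map (CommRingCat.ofHom (algebraMap k (AlgebraicClosure k)))
  let B := Over.pullback σ
  haveI : Epi (Limits.pullback.fst (X ⊗ Y).hom σ) := Flat.epi_of_flat_of_surjective _
  suffices h : B.map f = B.map ((toUnit (X ⊗ Y) ≫ lift x₀ y₀ ≫ f)⁻¹ * (snd X Y ≫ lift (toUnit Y ≫ x₀) (𝟙 Y) ≫ f) *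
      (fst X Y ≫ lift (𝟙 X) (toUnit X ≫ y₀) ≫ f)) by
    refine Over.OverMorphism.ext ?_
    have h' := congrArg (fun φ => φ.left ≫ Limits.pullback.fst A.hom σ) h
    simp only [B, Over.pullback_map_left, Limits.pullback.lift_fst] at h'
    exact (cancel_epi _).1 h'
  haveI : IsProper (B.obj A).hom := MorphismProperty.pullback_snd (P := @IsProper) A.hom σ inferInstance
  haveI : GeometricallyIntegral (B.obj A).hom :=
    MorphismProperty.pullback_snd (P := @GeometricallyIntegral) A.hom σ inferInstance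
  haveI : LocallyOfFiniteType (B.obj X).hom := MorphismProperty.pullback_snd (P := @LocallyOfFiniteType) X.hom σ inferInstance
  haveI : QuasiCompact (B.obj X).hom := MorphismProperty.pullback_snd (P := @QuasiCompact) X.hom σ inferInstance
  haveI : IsSeparated (B.obj X).hom := MorphismProperty.pullback_snd (P := @IsSeparated) X.hom σ inferInstance
  haveI : GeometricallyIntegral (B.obj X).hom :=
    MorphismProperty.pullback_snd (P := @GeometricallyIntegral) X.hom σ inferInstance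
  haveI : LocallyOfFiniteType (B.obj Y).hom := MorphismProperty.pullback_snd (P := @LocallyOfFiniteType) Y.hom σ inferInstance
  haveI : QuasiCompact (B.obj Y).hom := MorphismProperty.pullback_snd (P := @QuasiCompact) Y.hom σ inferInstance
  haveI : IsSeparated (B.obj Y).hom := MorphismProperty.pullback_snd (P := @IsSeparated) Y.hom σ inferInstance
  haveI : GeometricallyIntegral (B.obj Y).hom :=
    MorphismProperty.pullback_snd (P := @GeometricallyIntegral) Y.hom σ inferInstance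
  have h := eq_of_isAlgClosed (B.obj X) (B.obj Y) (B.obj A) (Functor.LaxMonoidal.ε B ≫ B.map x₀) (Functor.LaxMonoidal.ε B ≫ B.map y₀)
    (Functor.LaxMonoidal.μ B X Y ≫ B.map f)
  rw [← cancel_epi (Functor.LaxMonoidal.μ B X Y), h]
  simp only [Functor.map_mul, Functor.map_inv', MonObj.comp_mul, GrpObj.comp_inv, Functor.map_comp]
  have e1 : Functor.LaxMonoidal.μ B X Y ≫ B.map (toUnit (X ⊗ Y)) =
      toUnit (B.obj X ⊗ B.obj Y) ≫ Functor.LaxMonoidal.ε B := by
    rw [← cancel_mono (Functor.OplaxMonoidal.η B)]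
    exact toUnit_unique _ _
  have e2 : ∀ T : Over (Spec (CommRingCat.of k)), toUnit (B.obj T) ≫ Functor.LaxMonoidal.ε B = B.map (toUnit T) := by
    intro T
    rw [← cancel_mono (Functor.OplaxMonoidal.η B)]
    exact toUnit_unique _ _
  simp only [← Functor.Monoidal.lift_μ, Functor.map_comp, Functor.map_id, Category.assoc,
    reassoc_of% e2, ← Category.assoc (Functor.LaxMonoidal.μ B X Y), e1, Functor.Monoidal.μ_fst,
    Functor.Monoidal.μ_snd, comp_lift, comp_lift_assoc, Category.comp_id]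
  simp only [CategoryTheory.Functor.map_id, Category.comp_id]

end Groth.Agent.AlgGrp79.ProdToAbVar
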