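import Groth.Agent.AlgGrp79.LineFixed2
import Groth.Agent.RedPts82.GaNoTorus
import Groth.Agent.RedPts82.DSChar

set_option autoImplicit false
universe u

open CategoryTheory CategoryTheory.Limits MonoidalCategory CartesianMonoidalCategory MonObj AlgebraicGeometry
open Groth.Agent.RedPts82

noncomputable section

namespace Groth.Agent.AlgGrp79

lemma DSmap_mul {S : Scheme.{u}} {M N : Type} [AddCommGroup M] [AddCommGroup N] (φ : M →+ N)
    {X : Over S} (t t' : X ⟶ Red.DS S N) :
    (t * t') ≫ Red.DSmap S φ = (t ≫ Red.DSmap S φ) * (t' ≫ Red.DSmap S φ) :=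
  dsFn_injective fun m => by rw [dsFn_DSmap, dsFn_mul, dsFn_mul, dsFn_DSmap, dsFn_DSmap]

lemma DSmap_isMonHom {S : Scheme.{u}} {M N : Type} [AddCommGroup M] [AddCommGroup N] (φ : M →+ N) :
    IsMonHom (Red.DSmap S φ) :=
  isMonHom_of_points _ fun X x y => DSmap_mul φ x y

/-- no homomorphisms from a split torus to a proper group over a field -/
theorem hom_DS_eq_one {L : Type u} [Field L] (r : ℕ) {A : Over (Spec (CommRingCat.of L))} [GrpObj A]
    [IsProper A.hom] (φ : Red.DS (Spec (CommRingCat.of L)) (Fin r → ℤ) ⟶ A) [IsMonHom φ] : φ = 1 := by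
  classical
  set S := Spec (CommRingCat.of L)
  let X : Over S := Red.DS S (Fin r → ℤ)
  let p : Fin r → ((Fin r → ℤ) →+ ℤ) := fun i => Pi.evalAddMonoidHom (fun _ => ℤ) i
  let term : Fin r → (X ⟶ Red.DS S (Fin r → ℤ)) := fun i =>
    Red.chi S (Pi.single i (1 : ℤ)) ≫ Red.DSmap S (p i)
  letI : CommGroup (X ⟶ Red.DS S (Fin r → ℤ)) :=
    { (inferInstance : Group (X ⟶ Red.DS S (Fin r → ℤ))) with mul_comm := ds_comm }
  have hprod : ∏ i, term i = 𝟙 X := by
    refine dsFn_injective fun m => ?_
    let c : Multiplicative (Fin r → ℤ) →* Γ(X.left, ⊤) :=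
      { toFun := fun n => dsFn (𝟙 X) (Multiplicative.toAdd n)
        map_one' := dsFn_zero _
        map_mul' := fun a b => dsFn_add _ _ _ }
    have h1 : ∀ (s : Finset (Fin r)),
        dsFn (∏ i ∈ s, term i) m = dsFn (𝟙 X) (∑ i ∈ s, Pi.single i (m i)) := by
      intro s
      induction s using Finset.induction_on with
      | empty => rw [Finset.prod_empty, Finset.sum_empty, dsFn_zero]; exact dsFn_one m
      | insert a s ha ih =>
        rw [Finset.prod_insert ha, Finset.sum_insert ha, dsFn_add, ← ih]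
        refine (dsFn_mul _ _ _).trans ?_
        congr 1
        simp only [term, Red.chi]
        rw [← Category.id_comp (Red.DSmap S (zmultiplesHom (Fin r → ℤ) (Pi.single a (1 : ℤ)))),
          dsFn_DSmap, dsFn_DSmap]
        congr 1
        simp [p, ← Pi.single_smul]
    rw [h1, Finset.univ_sum_single]
  have hker : ∀ i, term i ≫ φ = 1 := fun i => by
    have : IsMonHom (Red.DSmap S (p i)) := DSmap_isMonHom _
    have := hom_Gm_eq_one (Red.DSmap S (p i) ≫ φ)
    simp only [term, Category.assoc]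
    rw [this, MonObj.comp_one]
  have : (∏ i, term i) ≫ φ = 1 := by
    refine Finset.prod_induction term (fun t => t ≫ φ = 1) (fun a b ha hb => ?_) ?_ (fun i _ => hker i)
    · show (a * b) ≫ φ = 1
      rw [MonObj.mul_comp, ha, hb, _root_.one_mul]
    · exact MonObj.one_comp φ
  rwa [hprod, Category.id_comp] at this

/-- base change of a diagonalisable group -/
theorem exists_ds_iso' {S U : Scheme.{u}} (g : U ⟶ S) (M : Type) [AddCommGroup M] :
    ∃ (δ : Red.DS U M ⟶ Red.bc g (Red.DS S M)) (_ : IsMonHom δ), IsIso δ := by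
  let c : Multiplicative M →* Γ((Red.bc g (Red.DS S M)).left, ⊤) :=
    { toFun := fun n => dsFn (X := (Over.map g).obj (Red.bc g (Red.DS S M)))
        (toBase g (𝟙 (Red.bc g (Red.DS S M)))) (Multiplicative.toAdd n)
      map_one' := dsFn_zero _
      map_mul' := fun a b => dsFn_add _ _ _ }
  obtain ⟨cf, hcf⟩ := dsFn_surjective (S := U) (X := Red.bc g (Red.DS S M)) c
  have key : ∀ (X : Over U) (x : X ⟶ Red.bc g (Red.DS S M)) (m : M),
      (dsFn (x ≫ cf) m : Γ(X.left, ⊤)) = dsFn (toBase g x) m := by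
    intro X x m
    rw [dsFn_comp, hcf]
    conv_rhs => rw [show x = x ≫ 𝟙 _ from (Category.comp_id x).symm, toBase_comp, dsFn_comp]
    rfl
  let c' : Multiplicative M →* Γ(((Over.map g).obj (Red.DS U M)).left, ⊤) :=
    { toFun := fun n => dsFn (X := Red.DS U M) (𝟙 (Red.DS U M)) (Multiplicative.toAdd n)
      map_one' := dsFn_zero _
      map_mul' := fun a b => dsFn_add _ _ _ }
  obtain ⟨δ₀, hδ₀⟩ := dsFn_surjective (S := S) (X := (Over.map g).obj (Red.DS U M)) c'
  have h1 : ofBase g δ₀ ≫ cf = 𝟙 _ := by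
    refine dsFn_injective fun m => ?_
    rw [key, toBase_ofBase, hδ₀]
    rfl
  have h2 : Mono cf := ⟨fun {X} x y h => toBase_injective g (dsFn_injective fun m => by
    rw [← key, ← key, h])⟩
  have hm : IsMonHom cf := isMonHom_of_points cf fun X x y => dsFn_injective fun m => by
    rw [dsFn_mul, key, key, key, toBase_mul, dsFn_mul]
  refine ⟨ofBase g δ₀, isMonHom_of_points _ fun X x y => ?_,
    ⟨cf, h1, by rw [← cancel_mono cf, Category.assoc, h1, Category.comp_id, Category.id_comp]⟩⟩
  rw [← cancel_mono cf, Category.assoc, h1, Category.comp_id]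
  refine dsFn_injective fun m => ?_
  rw [key, toBase_mul, dsFn_mul, dsFn_mul, ← key, ← key, Category.assoc, Category.assoc, h1,
    Category.comp_id, Category.comp_id]

lemma kills_trans {S U V : Scheme.{u}} {T P : Over S} [GrpObj P] {g : U ⟶ S} {q : V ⟶ U} {α : T ⟶ P}
    (h : Kills q ((Over.pullback g).map α)) : Kills (q ≫ g) α := by
  intro Z m hm t
  let e : (Over.map g).obj (Over.mk (m ≫ q)) ≅ Z :=
    Over.isoMk (Iso.refl _) (by
      show 𝟙 _ ≫ Z.hom = (m ≫ q) ≫ g
      rw [Category.id_comp, Category.assoc, hm])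
  have := toBase_comp_map g (ofBase g (e.hom ≫ t)) α
  rw [h (Over.mk (m ≫ q)) m rfl (ofBase g (e.hom ≫ t)), toBase_ofBase, toBase_one] at this
  rw [← cancel_epi e.hom, MonObj.comp_one, ← Category.assoc]
  exact this.symm

/-- every homomorphism from a torus over a field to a proper group is trivial -/
theorem hom_torus_eq_one {k : Type u} [Field k] {T A : Over (Spec (CommRingCat.of k))} [GrpObj T]
    [GrpObj A] [IsProper A.hom] (hT : Red.IsTorus T) (φ : T ⟶ A) [IsMonHom φ] : φ = 1 := by
  obtain ⟨S', f, hf, hs, -, hloc⟩ := hT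
  have : Surjective f := hs
  obtain ⟨s', -⟩ := f.surjective (IsLocalRing.closedPoint k)
  obtain ⟨U, hU, r, ⟨iso⟩⟩ := hloc s'
  let L : Type u := (U : Scheme.{u}).residueField ⟨s', hU⟩
  let q : Spec (CommRingCat.of L) ⟶ (U : Scheme.{u}) := (U : Scheme.{u}).fromSpecResidueField ⟨s', hU⟩
  let g := q ≫ U.ι ≫ f
  have hk : Kills g φ := by
    refine kills_trans ((pullback_map_eq_one_iff q _).1 ?_)
    -- the split form over the residue field
    let e1 : Red.bc (U.ι ≫ f) T ≅ Red.DS (U : Scheme.{u}) (Fin r → ℤ) := (Grp.forget _).mapIso iso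
    have he1 : IsMonHom e1.inv := iso.inv.hom.isMonHom_hom
    obtain ⟨δ, hδm, hδi⟩ := exists_ds_iso' q (Fin r → ℤ)
    have : IsProper ((Over.pullback q).obj ((Over.pullback (U.ι ≫ f)).obj A)).hom :=
      MorphismProperty.pullback_snd _ _ (MorphismProperty.pullback_snd _ _ ‹IsProper A.hom›)
    have h0 := hom_DS_eq_one r (δ ≫ (Over.pullback q).map e1.inv ≫
      (Over.pullback q).map ((Over.pullback (U.ι ≫ f)).map φ))
    have : IsIso (δ ≫ (Over.pullback q).map e1.inv) := inferInstance
    rw [← cancel_epi (δ ≫ (Over.pullback q).map e1.inv), MonObj.comp_one]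
    simpa only [Category.assoc] using h0
  have hfs : Flat g ∧ Surjective g := by
    obtain ⟨σ, hσ⟩ := Spec.map_surjective g
    rw [← hσ]
    exact specMap_field_flat_surjective (Field.toIsField k) σ
  have := hfs.1
  have := hfs.2
  have h1 : Kills (𝟙 (Spec (CommRingCat.of k))) φ := by
    refine Kills.of_comp (k := g) ?_
    rwa [Category.comp_id]
  simpa using h1 T T.hom (Category.comp_id _) (𝟙 T)

end Groth.Agent.AlgGrp79
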