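import Groth.Agent.AlgGrp79.ProdToAbVar
import Groth.Agent.AlgGrp79.TorusProper
import Groth.Agent.RedPts82.SplitNormal
import Groth.Agent.RedPts82.TorusConn
import Groth.Agent.RedPts82.TorusBasic
import Groth.Agent.Units38.Product
import Groth.Agent.S7982

/-!
Maps from a product of pointed varieties to a semi-abelian variety.
-/

set_option autoImplicit false
set_option linter.unusedSectionVars false
set_option backward.isDefEq.respectTransparency.types false

universe u

open CategoryTheory MonoidalCategory CartesianMonoidalCategory MonObj GrpObj AlgebraicGeometry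
open Groth.Agent.RedPts82

noncomputable section

namespace Groth.Agent.AlgGrp79.ProdToSemiAb

/-- The split case over an algebraically closed field. -/
theorem eq_one_split {K : Type u} [Field K] [IsAlgClosed K] (M : Type) [AddCommGroup M]
    (X Y : Over (Spec (CommRingCat.of K)))
    [LocallyOfFiniteType X.hom] [QuasiCompact X.hom] [GeometricallyIntegral X.hom]
    [LocallyOfFiniteType Y.hom] [QuasiCompact Y.hom] [GeometricallyIntegral Y.hom]
    (x₀ : 𝟙_ (Over (Spec (CommRingCat.of K))) ⟶ X) (y₀ : 𝟙_ (Over (Spec (CommRingCat.of K))) ⟶ Y)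
    (F : X ⊗ Y ⟶ Red.DS (Spec (CommRingCat.of K)) M)
    (hX : lift (𝟙 X) (toUnit X ≫ y₀) ≫ F = 1) (hY : lift (toUnit Y ≫ x₀) (𝟙 Y) ≫ F = 1) : F = 1 := by
  haveI : IsIntegral X.left := GeometricallyIntegral.isIntegral_of_subsingleton X.hom
  haveI : IsIntegral Y.left := GeometricallyIntegral.isIntegral_of_subsingleton Y.hom
  haveI := Alb96.geometricallyIntegral_tensor X Y
  haveI : IsIntegral (X ⊗ Y).left := GeometricallyIntegral.isIntegral_of_subsingleton (X ⊗ Y).hom
  haveI : LocallyOfFiniteType (X ⊗ Y).hom := inferInstanceAs (LocallyOfFiniteType (Limits.pullback.fst X.hom Y.hom ≫ X.hom))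
  obtain ⟨e⟩ := kPt_iso (k := K)
  refine dsFn_injective fun m => ?_
  rw [dsFn_one]
  refine eq_of_gval _ _ fun z => ?_
  rw [gval_one, show z = lift (z ≫ fst X Y) (z ≫ snd X Y) from (lift_comp_fst_snd z).symm]
  refine Units38.gval_eq_const _ (dsFn_isUnit F m) (e.hom ≫ x₀) (e.hom ≫ y₀) 1 (fun p => ?_) (fun p => ?_) _ _
  · rw [show lift p (e.hom ≫ y₀) = p ≫ lift (𝟙 X) (toUnit X ≫ y₀) by
      rw [comp_lift, Category.comp_id, ← Category.assoc, toUnit_unique (p ≫ toUnit X) e.hom], gval_comp, ← dsFn_comp,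
      hX, dsFn_one, gval_one]
  · rw [show lift (e.hom ≫ x₀) p = p ≫ lift (toUnit Y ≫ x₀) (𝟙 Y) by
      rw [comp_lift, Category.comp_id, ← Category.assoc, toUnit_unique (p ≫ toUnit Y) e.hom], gval_comp, ← dsFn_comp,
      hY, dsFn_one, gval_one]

variable {k : Type u} [Field k]

theorem axes_map {C D : Type*} [Category C] [Category D] [CartesianMonoidalCategory C] [CartesianMonoidalCategory D]
    (B : C ⥤ D) [B.Monoidal] {X Y T : C} [MonObj T] (x₀ : 𝟙_ C ⟶ X) (y₀ : 𝟙_ C ⟶ Y) (F : X ⊗ Y ⟶ T)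
    (hX : lift (𝟙 X) (toUnit X ≫ y₀) ≫ F = 1) (hY : lift (toUnit Y ≫ x₀) (𝟙 Y) ≫ F = 1) :
    letI : MonObj (B.obj T) := Functor.monObjObj T
    lift (𝟙 (B.obj X)) (toUnit (B.obj X) ≫ Functor.LaxMonoidal.ε B ≫ B.map y₀) ≫
        Functor.LaxMonoidal.μ B X Y ≫ B.map F = 1 ∧
      lift (toUnit (B.obj Y) ≫ Functor.LaxMonoidal.ε B ≫ B.map x₀) (𝟙 (B.obj Y)) ≫
        Functor.LaxMonoidal.μ B X Y ≫ B.map F = 1 := by
  letI : MonObj (B.obj T) := Functor.monObjObj T
  have e2 : ∀ S : C, toUnit (B.obj S) ≫ Functor.LaxMonoidal.ε B = B.map (toUnit S) := by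
    intro S
    rw [← cancel_mono (Functor.OplaxMonoidal.η B)]
    exact toUnit_unique _ _
  constructor
  · rw [reassoc_of% e2, ← B.map_id, ← B.map_comp, reassoc_of% Functor.Monoidal.lift_μ B (𝟙 X) (toUnit X ≫ y₀),
      ← B.map_comp, hX, Functor.map_one]
  · rw [reassoc_of% e2, ← B.map_id, ← B.map_comp, reassoc_of% Functor.Monoidal.lift_μ B (toUnit Y ≫ x₀) (𝟙 Y),
      ← B.map_comp, hY, Functor.map_one]

/-- A map from a product of varieties to a torus which is trivial on both axes is trivial. -/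
theorem eq_one_torus {X Y T : Over (Spec (CommRingCat.of k))} [GrpObj T] (hT : Red.IsTorus T)
    [LocallyOfFiniteType X.hom] [QuasiCompact X.hom] [GeometricallyIntegral X.hom]
    [LocallyOfFiniteType Y.hom] [QuasiCompact Y.hom] [GeometricallyIntegral Y.hom]
    (x₀ : 𝟙_ (Over (Spec (CommRingCat.of k))) ⟶ X) (y₀ : 𝟙_ (Over (Spec (CommRingCat.of k))) ⟶ Y)
    (F : X ⊗ Y ⟶ T) (hX : lift (𝟙 X) (toUnit X ≫ y₀) ≫ F = 1) (hY : lift (toUnit Y ≫ x₀) (𝟙 Y) ≫ F = 1) :
    F = 1 := by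
  obtain ⟨S', f, hf, hs, -, hloc⟩ := hT
  have : Surjective f := hs
  obtain ⟨s', -⟩ := f.surjective (IsLocalRing.closedPoint k)
  obtain ⟨U, hU, r, ⟨iso⟩⟩ := hloc s'
  let L : Type u := AlgebraicClosure ((U : Scheme.{u}).residueField ⟨s', hU⟩)
  let q : Spec (CommRingCat.of L) ⟶ (U : Scheme.{u}) := Spec.map (CommRingCat.ofHom
    (algebraMap ((U : Scheme.{u}).residueField ⟨s', hU⟩) L)) ≫ (U : Scheme.{u}).fromSpecResidueField ⟨s', hU⟩
  let g := q ≫ U.ι ≫ f
  have hk : Kills g F := by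
    refine kills_trans ((pullback_map_eq_one_iff q _).1 ?_)
    let e1 : Red.bc (U.ι ≫ f) T ≅ Red.DS (U : Scheme.{u}) (Fin r → ℤ) := (Grp.forget _).mapIso iso
    have he1 : IsMonHom e1.inv := iso.inv.hom.isMonHom_hom
    obtain ⟨δ, hδm, hδi⟩ := exists_ds_iso' q (Fin r → ℤ)
    let P₁ := Over.pullback (U.ι ≫ f)
    let P₂ := Over.pullback q
    let d : Red.DS (Spec (CommRingCat.of L)) (Fin r → ℤ) ⟶ P₂.obj (P₁.obj T) := δ ≫ P₂.map e1.inv
    haveI : IsIso d := inferInstanceAs (IsIso (δ ≫ P₂.map e1.inv))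
    haveI : IsMonHom d := inferInstanceAs (IsMonHom (δ ≫ P₂.map e1.inv))
    haveI : IsMonHom (CategoryTheory.inv d) := inferInstanceAs (IsMonHom (asIso d).inv)
    haveI : LocallyOfFiniteType (P₂.obj (P₁.obj X)).hom := MorphismProperty.pullback_snd (P := @LocallyOfFiniteType) _ _
      (MorphismProperty.pullback_snd (P := @LocallyOfFiniteType) X.hom _ inferInstance)
    haveI : QuasiCompact (P₂.obj (P₁.obj X)).hom := MorphismProperty.pullback_snd (P := @QuasiCompact) _ _
      (MorphismProperty.pullback_snd (P := @QuasiCompact) X.hom _ inferInstance)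
    haveI : GeometricallyIntegral (P₂.obj (P₁.obj X)).hom := MorphismProperty.pullback_snd (P := @GeometricallyIntegral) _ _
      (MorphismProperty.pullback_snd (P := @GeometricallyIntegral) X.hom _ inferInstance)
    haveI : LocallyOfFiniteType (P₂.obj (P₁.obj Y)).hom := MorphismProperty.pullback_snd (P := @LocallyOfFiniteType) _ _
      (MorphismProperty.pullback_snd (P := @LocallyOfFiniteType) Y.hom _ inferInstance)
    haveI : QuasiCompact (P₂.obj (P₁.obj Y)).hom := MorphismProperty.pullback_snd (P := @QuasiCompact) _ _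
      (MorphismProperty.pullback_snd (P := @QuasiCompact) Y.hom _ inferInstance)
    haveI : GeometricallyIntegral (P₂.obj (P₁.obj Y)).hom := MorphismProperty.pullback_snd (P := @GeometricallyIntegral) _ _
      (MorphismProperty.pullback_snd (P := @GeometricallyIntegral) Y.hom _ inferInstance)
    obtain ⟨a1, a2⟩ := axes_map P₁ x₀ y₀ F hX hY
    obtain ⟨b1, b2⟩ := axes_map P₂ (Functor.LaxMonoidal.ε P₁ ≫ P₁.map x₀) (Functor.LaxMonoidal.ε P₁ ≫ P₁.map y₀)
      (Functor.LaxMonoidal.μ P₁ X Y ≫ P₁.map F) a1 a2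
    set F₂ := Functor.LaxMonoidal.μ P₂ (P₁.obj X) (P₁.obj Y) ≫ P₂.map (Functor.LaxMonoidal.μ P₁ X Y ≫ P₁.map F)
      with hF₂
    have h0 := eq_one_split (Fin r → ℤ) (P₂.obj (P₁.obj X)) (P₂.obj (P₁.obj Y))
      (Functor.LaxMonoidal.ε P₂ ≫ P₂.map (Functor.LaxMonoidal.ε P₁ ≫ P₁.map x₀))
      (Functor.LaxMonoidal.ε P₂ ≫ P₂.map (Functor.LaxMonoidal.ε P₁ ≫ P₁.map y₀)) (F₂ ≫ CategoryTheory.inv d)
      (by rw [← cancel_mono d, Category.assoc, Category.assoc, IsIso.inv_hom_id, Category.comp_id, b1, MonObj.one_comp])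
      (by rw [← cancel_mono d, Category.assoc, Category.assoc, IsIso.inv_hom_id, Category.comp_id, b2, MonObj.one_comp])
    have h2 : F₂ = 1 := by
      have h3 := congrArg (· ≫ d) h0
      simpa only [Category.assoc, IsIso.inv_hom_id, Category.comp_id, MonObj.one_comp] using h3
    show P₂.map (P₁.map F) = 1
    rw [← cancel_epi (P₂.map (Functor.LaxMonoidal.μ P₁ X Y)), MonObj.comp_one,
      ← cancel_epi (Functor.LaxMonoidal.μ P₂ (P₁.obj X) (P₁.obj Y)), MonObj.comp_one, ← P₂.map_comp]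
    exact h2
  have hfs : Flat g ∧ Surjective g := by
    obtain ⟨σ, hσ⟩ := Spec.map_surjective g
    rw [← hσ]
    exact specMap_field_flat_surjective (Field.toIsField k) σ
  have := hfs.1
  have := hfs.2
  have h1 : Kills (𝟙 (Spec (CommRingCat.of k))) F := by
    refine Kills.of_comp (k := g) ?_
    rwa [Category.comp_id]
  simpa using h1 (X ⊗ Y) (X ⊗ Y).hom (Category.comp_id _) (𝟙 (X ⊗ Y))

theorem cg {M : Type*} [CommGroup M] (a b c d : M) (h : d = a⁻¹ * c * b) :
    d * b⁻¹ * c⁻¹ * a = 1 := by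
  subst h
  have h : ∀ {N : Type _} [AddCommGroup N] (a b c : N), -a + c + b + -b + -c + a = 0 := by intros; abel
  exact @h (Additive M) _ a b c

theorem main (X Y G : Over (Spec (CommRingCat.of k)))
    [LocallyOfFiniteType X.hom] [QuasiCompact X.hom] [IsSeparated X.hom] [GeometricallyIntegral X.hom]
    [LocallyOfFiniteType Y.hom] [QuasiCompact Y.hom] [IsSeparated Y.hom] [GeometricallyIntegral Y.hom]
    [GrpObj G] [LocallyOfFiniteType G.hom] [QuasiCompact G.hom] (hG : (∃ (T : Over (Spec (CommRingCat.of k))) (_ : GrpObj T) (i : T ⟶ G) (A : Over (Spec (CommRingCat.of k))) (_ : GrpObj A) (q : G ⟶ A),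
        IsMonHom i ∧ IsClosedImmersion i.left ∧ Red.IsTorus T ∧ IsMonHom q ∧ Surjective q.left ∧ Flat q.left ∧
        AlgGrp.IsKernel i q ∧ IsProper A.hom ∧ Smooth A.hom ∧ ConnectedSpace ↥A.left))
    (x₀ : 𝟙_ (Over (Spec (CommRingCat.of k))) ⟶ X) (y₀ : 𝟙_ (Over (Spec (CommRingCat.of k))) ⟶ Y) (f : X ⊗ Y ⟶ G) :
    f * (fst X Y ≫ lift (𝟙 X) (toUnit X ≫ y₀) ≫ f)⁻¹ * (snd X Y ≫ lift (toUnit Y ≫ x₀) (𝟙 Y) ≫ f)⁻¹ *
      (toUnit (X ⊗ Y) ≫ lift x₀ y₀ ≫ f) = 1 := by
  obtain ⟨T, _, i, A, _, q, him, hic, hT, hqm, hqs, hqf, hker, hAp, hAs, hAc⟩ := hG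
  haveI := him; haveI := hic; haveI := hqm; haveI := hqs; haveI := hqf; haveI := hAp; haveI := hAs; haveI := hAc
  haveI : Mono i := Over.mono_of_mono_left i
  haveI : LocallyOfFiniteType T.hom := by rw [← Over.w i]; infer_instance
  haveI : QuasiCompact T.hom := by rw [← Over.w i]; infer_instance
  haveI : MorphismProperty.DescendsAlong (@Smooth : MorphismProperty Scheme.{u}) Unr55.fpqc.{u} := by
    unfold Unr55.fpqc; infer_instance
  have hTsm : Smooth T.hom := RedPts82.isTorus_prop (@Smooth) hT RedPts82.smooth_DS_free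
  have hTc : ConnectedSpace T.left := by
    haveI := (RedPts82.irreducible_reduced_of_isTorus hT).1
    infer_instance
  obtain ⟨-, hsm, hco⟩ := Groth.Agent.S7982.result k T G A i q hker
  haveI := hsm hTsm hAs; haveI := hco hTc hAc
  haveI : GeometricallyReduced G.hom := AVRig94.geometricallyReduced_of_smooth G.hom
  haveI := Alb96.geometricallyIntegral_of_connectedSpace G
  haveI : GeometricallyReduced A.hom := AVRig94.geometricallyReduced_of_smooth A.hom
  haveI := Alb96.geometricallyIntegral_of_connectedSpace A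
  haveI : IsCommMonObj A := AVRig94.isCommMonObj_of_proper A
  have hcomm : ∀ {Z : Over (Spec (CommRingCat.of k))} (a b : Z ⟶ G), a * b = b * a := by
    have hw : (fst G G * snd G G * (fst G G)⁻¹ * (snd G G)⁻¹) ≫ q = toUnit (G ⊗ G) ≫ η[A] := by
      rw [← Hom.one_def]
      simp only [MonObj.mul_comp, GrpObj.inv_comp]
      rw [mul_comm (fst G G ≫ q) (snd G G ≫ q), mul_inv_cancel_right, mul_inv_cancel]
    let w : G ⊗ G ⟶ T := hker.lift _ (toUnit _) hw
    have hwi : w ≫ i = fst G G * snd G G * (fst G G)⁻¹ * (snd G G)⁻¹ := hker.lift_fst _ _ _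
    have hw1 : w = 1 := eq_one_torus hT η[G] η[G] w
      (by
        rw [← cancel_mono i, Category.assoc, hwi, MonObj.one_comp]
        simp only [MonObj.comp_mul, GrpObj.comp_inv, lift_fst, lift_snd, ← Hom.one_def, _root_.mul_one, inv_one,
          mul_inv_cancel])
      (by
        rw [← cancel_mono i, Category.assoc, hwi, MonObj.one_comp]
        simp only [MonObj.comp_mul, GrpObj.comp_inv, lift_fst, lift_snd, ← Hom.one_def, _root_.one_mul, inv_one,
          _root_.mul_one, mul_inv_cancel])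
    intro Z a b
    have h := congrArg (fun φ => lift a b ≫ φ) hwi
    simp only [hw1, MonObj.one_comp, MonObj.comp_one, MonObj.comp_mul, GrpObj.comp_inv, lift_fst, lift_snd] at h
    have h' := h.symm
    rwa [mul_inv_eq_one, mul_inv_eq_iff_eq_mul] at h'
  set F := f * (fst X Y ≫ lift (𝟙 X) (toUnit X ≫ y₀) ≫ f)⁻¹ * (snd X Y ≫ lift (toUnit Y ≫ x₀) (𝟙 Y) ≫ f)⁻¹ *
      (toUnit (X ⊗ Y) ≫ lift x₀ y₀ ≫ f) with hFdef
  have hFq : F ≫ q = toUnit (X ⊗ Y) ≫ η[A] := by
    rw [← Hom.one_def, hFdef]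
    simp only [MonObj.mul_comp, GrpObj.inv_comp, Category.assoc]
    exact cg (M := (X ⊗ Y ⟶ A)) _ _ _ _ (ProdToAbVar.main X Y A x₀ y₀ (f ≫ q))
  let t : X ⊗ Y ⟶ T := hker.lift F (toUnit _) hFq
  have ht : t ≫ i = F := hker.lift_fst _ _ _
  have h1 : t = 1 := by
    refine eq_one_torus hT x₀ y₀ t ?_ ?_
    · rw [← cancel_mono i, Category.assoc, ht, MonObj.one_comp, hFdef]
      simp only [MonObj.comp_mul, GrpObj.comp_inv, lift_fst_assoc, lift_snd_assoc, ← Category.assoc, comp_lift,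
        Category.comp_id, Category.id_comp, lift_fst, lift_snd,
        toUnit_unique (lift (𝟙 X) (toUnit X ≫ y₀) ≫ toUnit (X ⊗ Y)) (toUnit X),
        toUnit_unique ((toUnit X ≫ y₀) ≫ toUnit Y) (toUnit X)]
      rw [mul_inv_cancel, _root_.one_mul, inv_mul_cancel]
    · rw [← cancel_mono i, Category.assoc, ht, MonObj.one_comp, hFdef]
      simp only [MonObj.comp_mul, GrpObj.comp_inv, lift_fst_assoc, lift_snd_assoc, ← Category.assoc, comp_lift,
        Category.comp_id, Category.id_comp, lift_fst, lift_snd,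
        toUnit_unique (lift (toUnit Y ≫ x₀) (𝟙 Y) ≫ toUnit (X ⊗ Y)) (toUnit Y),
        toUnit_unique ((toUnit Y ≫ x₀) ≫ toUnit X) (toUnit Y)]
      rw [hcomm (lift (toUnit Y ≫ x₀) (𝟙 Y) ≫ f) _, mul_inv_cancel_right, inv_mul_cancel]
  rw [← ht, h1, MonObj.one_comp]

end Groth.Agent.AlgGrp79.ProdToSemiAb
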