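import Groth.Agent.AlgGrp79.GmGaLaws
import Groth.Agent.AlgGrp79.Chart

set_option autoImplicit false
universe u v w

open CategoryTheory MonoidalCategory CartesianMonoidalCategory MonObj AlgebraicGeometry CategoryTheory.Limits
open scoped commutatorElement TensorProduct nonZeroDivisors

namespace Groth.Agent.AlgGrp79

section PLine
variable {k : Type u} [Field k]

lemma laurent_algHom_ext {A : Type u} [CommRing A] [Algebra k A] {φ ψ : LaurentPolynomial k →ₐ[k] A}
    (h : φ (LaurentPolynomial.T 1) = ψ (LaurentPolynomial.T 1)) : φ = ψ := by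
  have key : ∀ n : ℤ, φ (LaurentPolynomial.T n) = ψ (LaurentPolynomial.T n) := by
    intro n
    induction n using Int.induction_on with
    | zero => rw [LaurentPolynomial.T_zero, map_one, map_one]
    | succ i hi => rw [LaurentPolynomial.T_add, map_mul, map_mul, hi, h]
    | pred i hi =>
      have hu : IsUnit (φ (LaurentPolynomial.T 1)) := (LaurentPolynomial.isUnit_T (R := k) 1).map φ
      apply hu.mul_left_injective
      show φ _ * φ _ = ψ _ * φ _
      conv_rhs => rw [h]
      rw [← map_mul, ← map_mul, ← LaurentPolynomial.T_add]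
      simpa using hi
  exact AddMonoidAlgebra.algHom_ext key (Subsingleton.elim _ _)

/-- The coordinate of a point of a punctured line. -/
noncomputable def plT {S X : Scheme.{u}} (f : S ⟶ X) (e : X ⟶ Spec (CommRingCat.of (LaurentPolynomial k))) : Γ(S, ⊤) :=
  (f ≫ e).appTop.hom ((Scheme.ΓSpecIso (CommRingCat.of (LaurentPolynomial k))).inv.hom (LaurentPolynomial.T 1))

lemma plT_comp {S S' X : Scheme.{u}} (q : S' ⟶ S) (f : S ⟶ X) (e : X ⟶ Spec (CommRingCat.of (LaurentPolynomial k))) :
    plT (k := k) (q ≫ f) e = q.appTop.hom (plT f e) := by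
  simp [plT]

lemma plT_Spec {A : Type u} [CommRing A] [Algebra k A] (φ : LaurentPolynomial k →ₐ[k] A) :
    (Scheme.ΓSpecIso (CommRingCat.of A)).hom
      ((Spec.map (CommRingCat.ofHom φ.toRingHom)).appTop.hom
        ((Scheme.ΓSpecIso (CommRingCat.of (LaurentPolynomial k))).inv.hom (LaurentPolynomial.T 1))) = φ (LaurentPolynomial.T 1) := by
  have h := congr($(Scheme.ΓSpecIso_naturality (CommRingCat.ofHom φ.toRingHom))
    ((Scheme.ΓSpecIso (CommRingCat.of (LaurentPolynomial k))).inv.hom (LaurentPolynomial.T 1)))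
  refine h.trans ?_
  exact congrArg φ ((Scheme.ΓSpecIso (CommRingCat.of (LaurentPolynomial k))).inv_hom_id_apply (LaurentPolynomial.T 1))

theorem pline_law (G : Over (Spec (CommRingCat.of k))) [GrpObj G]
    (e : G.left ≅ Spec (CommRingCat.of (LaurentPolynomial k)))
    (he : e.hom ≫ Spec.map (CommRingCat.ofHom (algebraMap k (LaurentPolynomial k))) = G.hom)
    (hunit : plT (k := k) (η[G]).left e.hom = 1)
    (S : Over (Spec (CommRingCat.of k))) (g h : S ⟶ G) :
    plT (k := k) (g * h).left e.hom = plT g.left e.hom * plT h.left e.hom := by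
  let E : G ≅ specO k (LaurentPolynomial k) := Over.isoMk e he
  let lf : ∀ (A : Type u) [CommRing A] [Algebra k A], Aˣ → (LaurentPolynomial k →ₐ[k] A) := fun A _ _ a =>
    AddMonoidAlgebra.lift k A ℤ ((Units.coeHom A).comp (zpowersHom Aˣ a))
  have hlf : ∀ (A : Type u) [CommRing A] [Algebra k A] (a : Aˣ), lf A a (LaurentPolynomial.T 1) = a := by
    intro A _ _ a
    show AddMonoidAlgebra.lift k A ℤ ((Units.coeHom A).comp (zpowersHom Aˣ a)) (AddMonoidAlgebra.single 1 1) = _
    rw [AddMonoidAlgebra.lift_single, one_smul]; simp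
  let P : ∀ (A : Type u) [CommRing A] [Algebra k A], Aˣ → (specO k A ⟶ G) := fun A _ _ a => specPt (lf A a) ≫ E.inv
  let C : ∀ (A : Type u) [CommRing A] [Algebra k A], (specO k A ⟶ G) → A := fun A _ _ x =>
    (Scheme.ΓSpecIso (CommRingCat.of A)).hom (plT (k := k) x.left e.hom)
  have hC : ∀ (A : Type u) [CommRing A] [Algebra k A] (φ : LaurentPolynomial k →ₐ[k] A),
      C A (specPt φ ≫ E.inv) = φ (LaurentPolynomial.T 1) := by
    intro A _ _ φ
    have : (specPt φ ≫ E.inv).left ≫ e.hom = Spec.map (CommRingCat.ofHom φ.toRingHom) := by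
      simp [E]
    show (Scheme.ΓSpecIso (CommRingCat.of A)).hom (plT (k := k) (specPt φ ≫ E.inv).left e.hom) = _
    rw [plT, this, plT_Spec]
  have hCP : ∀ (A : Type u) [CommRing A] [Algebra k A] (a : Aˣ), C A (P A a) = a := by
    intro A _ _ a
    show C A (specPt (lf A a) ≫ E.inv) = _
    rw [hC, hlf]
  have hCu : ∀ (A : Type u) [CommRing A] [Algebra k A] (x : specO k A ⟶ G), IsUnit (C A x) := by
    intro A _ _ x
    obtain ⟨φ, hφ⟩ := exists_specPt (x ≫ E.hom)
    rw [show x = specPt φ ≫ E.inv by rw [hφ]; simp, hC]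
    exact (LaurentPolynomial.isUnit_T 1).map φ
  have hPC : ∀ (A : Type u) [CommRing A] [Algebra k A] (x : specO k A ⟶ G), P A (hCu A x).unit = x := by
    intro A _ _ x
    obtain ⟨φ, hφ⟩ := exists_specPt (x ≫ E.hom)
    have hx : x = specPt φ ≫ E.inv := by rw [hφ]; simp
    conv_rhs => rw [hx]
    show specPt _ ≫ E.inv = _
    congr 2
    refine laurent_algHom_ext ?_
    rw [hlf, IsUnit.unit_spec, hx, hC]
  have hCnat : ∀ (A B : Type u) [CommRing A] [Algebra k A] [CommRing B] [Algebra k B] (φ : A →ₐ[k] B)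
      (x : specO k A ⟶ G), C B (specPt φ ≫ x) = φ (C A x) := by
    intro A B _ _ _ _ φ x
    show (Scheme.ΓSpecIso (CommRingCat.of B)).hom (plT (k := k) ((specPt φ).left ≫ x.left) e.hom) = _
    rw [plT_comp, specPt_left]
    exact congr($(Scheme.ΓSpecIso_naturality (CommRingCat.ofHom φ.toRingHom)) (plT (k := k) x.left e.hom))
  have hPnat : ∀ (A B : Type u) [CommRing A] [Algebra k A] [CommRing B] [Algebra k B] (φ : A →ₐ[k] B)
      (a : Aˣ), specPt φ ≫ P A a = P B (Units.map (φ : A →* B) a) := by
    intro A B _ _ _ _ φ a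
    show specPt φ ≫ specPt (lf A a) ≫ E.inv = specPt _ ≫ E.inv
    rw [← Category.assoc, specPt_comp]
    congr 2
    refine laurent_algHom_ext ?_
    rw [hlf, AlgHom.comp_apply, hlf]
    rfl
  have h1 : ∀ (A : Type u) [CommRing A] [Algebra k A], C A (1 : specO k A ⟶ G) = 1 := by
    intro A _ _
    show (Scheme.ΓSpecIso (CommRingCat.of A)).hom (plT (k := k) (1 : specO k A ⟶ G).left e.hom) = 1
    rw [Hom.one_def, Over.comp_left, plT_comp, hunit, map_one, map_one]
  have aff : ∀ (A : Type u) [CommRing A] [Algebra k A] (x y : specO k A ⟶ G), C A (x * y) = C A x * C A y := by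
    intro A _ _ x y
    have hlaw := punctured_law_eq (k := k) (fun A _ _ a b => (hCu A (P A a * P A b)).unit)
      (fun A B _ _ _ _ φ a b => Units.ext (by
        show φ (C A _) = C B _
        rw [← hCnat, MonObj.comp_mul, hPnat, hPnat]))
      1 (fun A _ _ a => by
        have hone : P A (Units.map (algebraMap k A : k →* A) 1) = (1 : specO k A ⟶ G) := by
          rw [map_one, ← show (hCu A 1).unit = 1 from Units.ext (h1 A), hPC]
        constructor <;> refine Units.ext ?_
        · rw [IsUnit.unit_spec, hone, _root_.mul_one, hCP]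
        · rw [IsUnit.unit_spec, hone, _root_.one_mul, hCP]) A (hCu A x).unit (hCu A y).unit
    have h2 := congrArg Units.val hlaw
    rw [IsUnit.unit_spec, hPC, hPC, map_one, inv_one, _root_.mul_one, Units.val_mul, IsUnit.unit_spec, IsUnit.unit_spec] at h2
    exact h2
  have : IsAffine G.left := IsAffine.of_isIso e.hom
  have : IsAffine (G ⊗ G).left := inferInstanceAs (IsAffine (pullback _ _))
  letI := secAlg (G ⊗ G) ⊤
  let ch := chart (G ⊗ G) ⊤ (isAffineOpen_top (G ⊗ G).left)
  have hiso : IsIso ch.left := by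
    show IsIso (chart (G ⊗ G) ⊤ (isAffineOpen_top (G ⊗ G).left)).left
    rw [chart_left, IsAffineOpen.fromSpec_top]; infer_instance
  have huniv : plT (k := k) (fst G G * snd G G).left e.hom = plT (fst G G).left e.hom * plT (snd G G).left e.hom := by
    haveI := hiso
    have : IsIso ch.left.appTop := inferInstanceAs (IsIso (Scheme.Γ.map ch.left.op))
    have hinj : Function.Injective ch.left.appTop.hom := (ConcreteCategory.bijective_of_isIso ch.left.appTop).1
    have h3 := aff _ (ch ≫ fst G G) (ch ≫ snd G G)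
    apply hinj
    rw [← MonObj.comp_mul] at h3
    rw [map_mul, ← plT_comp, ← plT_comp, ← plT_comp]
    apply (ConcreteCategory.bijective_of_isIso (Scheme.ΓSpecIso (CommRingCat.of Γ((G ⊗ G).left, ⊤))).hom).1
    rw [map_mul]
    exact h3
  have hgh : g * h = lift g h ≫ (fst G G * snd G G) := by rw [MonObj.comp_mul, lift_fst, lift_snd]
  have hg : g.left = (lift g h).left ≫ (fst G G).left := by rw [← Over.comp_left, lift_fst]
  have hh : h.left = (lift g h).left ≫ (snd G G).left := by rw [← Over.comp_left, lift_snd]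
  rw [hgh, hg, hh, Over.comp_left, plT_comp, plT_comp, plT_comp, huniv, map_mul]

end PLine

end Groth.Agent.AlgGrp79
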