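import Groth.Agent.AlgGrp79.MaxStronglyConn

/-!
The reduced neutral component and subgroups of finite index.
-/

set_option autoImplicit false
set_option linter.unusedSectionVars false
set_option backward.isDefEq.respectTransparency.types false

universe u

open CategoryTheory MonoidalCategory CartesianMonoidalCategory MonObj GrpObj AlgebraicGeometry

noncomputable section

namespace Groth.Agent.AlgGrp79.ReducedFinIndex

open FinIndex

variable {k : Type u} [Field k] {G : Over (Spec (CommRingCat.of k))} [GrpObj G] [LocallyOfFiniteType G.hom]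
  [QuasiCompact G.hom]

/-- All components of an algebraic group have its dimension. -/
theorem dim_connectedComponent (x : G.left) :
    topologicalKrullDim ↥(connectedComponent x) = topologicalKrullDim ↥G.left := by
  haveI := isSeparated_grp G
  haveI : IsClosedImmersion (η[G]).left := by
    haveI : IsClosedImmersion ((η[G]).left ≫ G.hom) := by
      rw [Over.w]; exact inferInstanceAs (IsClosedImmersion (𝟙 _))
    exact IsClosedImmersion.of_comp (η[G]).left G.hom
  haveI : Mono (η[G] : 𝟙_ _ ⟶ G) := Over.mono_of_mono_left _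
  haveI : LocallyOfFiniteType (𝟙_ (Over (Spec (CommRingCat.of k)))).hom :=
    inferInstanceAs (LocallyOfFiniteType (𝟙 _))
  haveI : QuasiCompact (𝟙_ (Over (Spec (CommRingCat.of k)))).hom := inferInstanceAs (QuasiCompact (𝟙 _))
  haveI : IsIso ((η[G] ▷ G) ≫ μ[G]) := by rw [MonObj.one_mul]; infer_instance
  have hsq : IsPullback ((η[G] ▷ G) ≫ μ[G]) (snd (𝟙_ _) G) (𝟙 G) (𝟙 G) :=
    IsPullback.of_horiz_isIso ⟨by rw [MonObj.one_mul, leftUnitor_hom]⟩
  haveI : IsIso (𝟙 G : G ⟶ G).left := inferInstanceAs (IsIso (𝟙 G.left))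
  have h := (SGA3a.QuotHomog.components (η[G]) (𝟙 G) (SGA3a.ArtinQuot.isCov_of_fppf (𝟙 G : G ⟶ G).left) hsq x).2.2
  obtain ⟨d, hd⟩ := MaxStronglyConn.exists_dim_eq (𝟙_ (Over (Spec (CommRingCat.of k))))
  have h0 : topologicalKrullDim ↥(𝟙_ (Over (Spec (CommRingCat.of k)))).left ≤ 0 := by
    haveI : Subsingleton ↥(𝟙_ (Over (Spec (CommRingCat.of k)))).left :=
      inferInstanceAs (Subsingleton (PrimeSpectrum k))
    exact topologicalKrullDim_zero_of_discreteTopology _
  rw [hd] at h0
  have : d = 0 := Nat.le_zero.1 (by exact_mod_cast h0)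
  rwa [hd, this, Nat.cast_zero, add_zero] at h

variable {H : Over (Spec (CommRingCat.of k))} [GrpObj H]

/-- A quotient by a subgroup of full dimension is finite. -/
theorem isFinite_of_dim_le (i : H ⟶ G) [IsMonHom i] [IsClosedImmersion i.left]
    (h : topologicalKrullDim ↥G.left ≤ topologicalKrullDim ↥H.left)
    (X : Over (Spec (CommRingCat.of k))) (a : AlgGrp.Action G X) (o : 𝟙_ (Over (Spec (CommRingCat.of k))) ⟶ X)
    (hX : AGF.IsQuotient i X a o) : IsFinite X.hom := by
  haveI := hX.1
  obtain ⟨Y, b, y, hY, hYl, hYq, hYc, hYcos, hdim⟩ := exists_agfQuot i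
  haveI := hYl; haveI := hYq
  haveI : LocallyOfFiniteType H.hom := by rw [← Over.w i]; infer_instance
  haveI : QuasiCompact H.hom := by rw [← Over.w i]; infer_instance
  obtain ⟨d, hd⟩ := MaxStronglyConn.exists_dim_eq H
  haveI : IsFinite Y.hom := Groth.Agent.S13792.isFinite_of_krullDim_le_zero Y.hom
    (Var76.FibreBound.dim_le_of_forall_univ Y.hom fun x => by
      have h1 := Var76.FibreBound.tdegN_le_dim_of_closure_subset Y.hom (s := connectedComponent x)
        (isClosed_connectedComponent.closure_subset_iff.2 (Set.singleton_subset_iff.2 mem_connectedComponent))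
      have h2 := add_le_add h1 (le_refl (topologicalKrullDim ↥H.left))
      rw [hdim x] at h2
      have h3 := h2.trans h
      rw [hd] at h3
      norm_cast at h3 ⊢
      omega)
  obtain ⟨m, hm⟩ := hYc.desc (a.orbitMap o) fun T g g' e => (QuotTrans.coset_iff hX g g').2 ((hYcos T g g').1 e)
  haveI : Finite Y.left := finite_left Y
  haveI : Surjective (b.orbitMap y).left := hYc.surj
  haveI : Surjective ((b.orbitMap y).left ≫ m.left) := by rw [← Over.comp_left, hm]; exact hX.2.2.1
  haveI : Surjective m.left := Surjective.of_comp (b.orbitMap y).left m.left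
  haveI : Finite X.left := Finite.of_surjective _ m.left.surjective
  exact isFinite_of_finite X

/-- A reduced connected algebraic group is strongly connected. -/
theorem sc_of_reduced_connected [IsReduced G.left] [ConnectedSpace G.left] : SC G := by
  intro H₁ _ j _ _ X a o hX hfin
  haveI : Mono j := Over.mono_of_mono_left j
  haveI := hX.1; haveI := hfin
  haveI : Finite X.left := finite_left X
  haveI : JacobsonSpace X.left := LocallyOfFiniteType.jacobsonSpace X.hom
  let p := a.orbitMap o
  have key : ∀ (T : Over (Spec (CommRingCat.of k))) (g : T ⟶ G),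
      toUnit T ≫ η[G] ≫ p = g ≫ p ↔ ∃ h : T ⟶ H₁, h ≫ j = g := by
    intro T g
    rw [← Category.assoc, ← Hom.one_def, QuotTrans.coset_iff hX]
    simp
  have sq : IsPullback (toUnit H₁) j (η[G] ≫ p) p :=
    IsPullback.mk' ((key H₁ j).2 ⟨𝟙 _, Category.id_comp j⟩) (fun T s t _ h2 => (cancel_mono j).1 h2)
      fun T s g h => by
        rw [toUnit_unique s (toUnit T)] at h ⊢
        obtain ⟨z, hz⟩ := (key T g).1 h
        exact ⟨z, toUnit_unique _ _, hz⟩
  have hsq := AlgGrp79.isPullback_left sq
  haveI : Surjective j.left := by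
    refine ⟨fun z => ?_⟩
    let t : (𝟙_ (Over (Spec (CommRingCat.of k)))).left := IsLocalRing.closedPoint k
    have e : (η[G] ≫ p).left t = p.left z :=
      PreconnectedSpace.constant inferInstance p.left.continuous (x := (η[G]).left t) (y := z)
    obtain ⟨w, -, hw⟩ := Scheme.Pullback.exists_preimage_pullback t z e
    exact ⟨hsq.isoPullback.inv w, by rw [← Scheme.Hom.comp_apply, IsPullback.isoPullback_inv_snd]; exact hw⟩
  haveI : IsIso j.left := isIso_of_isClosedImmersion_of_surjective _
  haveI : IsIso ((Over.forget _).map j) := inferInstanceAs (IsIso j.left)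
  exact isIso_of_reflects_iso j (Over.forget _)

theorem main (G₀ : Over (Spec (CommRingCat.of k))) [GrpObj G₀] [LocallyOfFiniteType G₀.hom] [QuasiCompact G₀.hom]
    (r₀ : G₀ ⟶ G) [IsMonHom r₀] [IsClosedImmersion r₀.left] [IsReduced G₀.left]
    (x : G.left) (hr₀ : Set.range ⇑r₀.left.base = connectedComponent x) :
    (∀ (X : Over (Spec (CommRingCat.of k))) (a : AlgGrp.Action G X) (o : 𝟙_ (Over (Spec (CommRingCat.of k))) ⟶ X),
      AGF.IsQuotient r₀ X a o → IsFinite X.hom) ∧
    ∀ (H : Over (Spec (CommRingCat.of k))) [GrpObj H] (h : H ⟶ G) [IsMonHom h] [IsClosedImmersion h.left]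
      (X : Over (Spec (CommRingCat.of k))) (a : AlgGrp.Action G X) (o : 𝟙_ (Over (Spec (CommRingCat.of k))) ⟶ X),
      AGF.IsQuotient h X a o → IsFinite X.hom → ∃ g : G₀ ⟶ H, g ≫ h = r₀ := by
  let e : G₀.left ≃ₜ ↥(connectedComponent x) :=
    r₀.left.isClosedEmbedding.isEmbedding.toHomeomorph.trans (Homeomorph.setCongr hr₀)
  haveI : ConnectedSpace G₀.left := e.connectedSpace_iff.2 (isConnected_iff_connectedSpace.1 isConnected_connectedComponent)
  have hdim : topologicalKrullDim ↥G.left ≤ topologicalKrullDim ↥G₀.left := by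
    rw [IsHomeomorph.topologicalKrullDim_eq _ e.isHomeomorph, dim_connectedComponent]
  exact ⟨isFinite_of_dim_le r₀ hdim, fun H _ h _ _ X a o hX hfin =>
    sc_of_reduced_connected.factor r₀ h hX hfin⟩

end Groth.Agent.AlgGrp79.ReducedFinIndex
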