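import Mathlib.GroupTheory.Nilpotent
import Mathlib.Algebra.BigOperators.Group.Finset.Basic
import Mathlib.Algebra.BigOperators.GroupWithZero.Finset
import Mathlib.Data.Fintype.BigOperators

/-!
Finite groups acting through an extension by a uniquely divisible nilpotent group: lifts exist and are conjugate.
-/

set_option autoImplicit false
set_option linter.unusedSectionVars false

universe u v

namespace Groth.Agent.AlgGrp79.UDivisible

open Subgroup

local instance centerCommGroup (G : Type u) [Group G] : CommGroup (center G) :=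
  { (inferInstance : Group (center G)) with mul_comm := fun a b => Subtype.ext (mem_center_iff.1 b.2 a) }

variable {F : Type v} [Group F]

theorem mem_center_of_pow {G : Type u} [Group G] {n : ℕ} (hinj : Function.Injective fun g : G => g ^ n) {w : G}
    (hw : w ^ n ∈ center G) : w ∈ center G := by
  rw [mem_center_iff] at hw ⊢
  intro g
  have h : (g * w * g⁻¹) ^ n = w ^ n := by rw [conj_pow, hw g, mul_inv_cancel_right]
  exact mul_inv_eq_iff_eq_mul.1 (hinj h)

theorem bijective_pow_quotient_center {G : Type u} [Group G] {n : ℕ} (hn : Function.Bijective fun g : G => g ^ n) :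
    Function.Bijective fun g : G ⧸ center G => g ^ n := by
  constructor
  · rintro ⟨x⟩ ⟨y⟩ h
    change (x : G ⧸ center G) ^ n = (y : G ⧸ center G) ^ n at h
    rw [← QuotientGroup.mk_pow, ← QuotientGroup.mk_pow, QuotientGroup.eq] at h
    obtain ⟨w, hw⟩ := hn.2 ((x ^ n)⁻¹ * y ^ n)
    have hwc : w ∈ center G := mem_center_of_pow hn.1 (by show w ^ n ∈ _; simp only at hw; rw [hw]; exact h)
    simp only at hw
    have hc : Commute x w := mem_center_iff.1 hwc x
    have e : x * w = y := hn.1 (by show (x * w) ^ n = y ^ n; rw [hc.mul_pow, hw, mul_inv_cancel_left])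
    exact QuotientGroup.eq.2 (by rw [← e, inv_mul_cancel_left]; exact hwc)
  · rintro ⟨x⟩
    obtain ⟨y, hy⟩ := hn.2 x
    exact ⟨y, congrArg QuotientGroup.mk hy⟩

variable {G P : Type u} [Group G] [Group P]

theorem conj_center_mem {i : G →* P} (hi : Function.Injective i) (hr : i.range.Normal) (p : P) {z : G}
    (hz : z ∈ center G) : ∃ z' ∈ center G, i z' = p * i z * p⁻¹ := by
  obtain ⟨z', hz'⟩ := hr.conj_mem (i z) ⟨z, rfl⟩ p
  refine ⟨z', mem_center_iff.2 fun g => hi ?_, hz'⟩
  obtain ⟨g', hg'⟩ := hr.conj_mem (i g) ⟨g, rfl⟩ p⁻¹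
  have h := congrArg i (mem_center_iff.1 hz g')
  simp only [map_mul, hg', inv_inv] at h
  simp only [map_mul, hz']
  calc i g * (p * i z * p⁻¹) = p * (p⁻¹ * i g * p * i z) * p⁻¹ := by group
    _ = p * (i z * (p⁻¹ * i g * p)) * p⁻¹ := by rw [h]
    _ = p * i z * p⁻¹ * i g := by group

theorem normal_map_center {i : G →* P} (hi : Function.Injective i) (hr : i.range.Normal) :
    ((center G).map i).Normal := by
  refine ⟨?_⟩
  rintro _ ⟨z, hz, rfl⟩ p
  obtain ⟨z', hz', e⟩ := conj_center_mem hi hr p hz
  exact ⟨z', hz', e⟩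

/-- The induced inclusion of the quotient by the centre. -/
def quotMap (i : G →* P) [((center G).map i).Normal] : G ⧸ center G →* P ⧸ (center G).map i :=
  QuotientGroup.map _ _ i (le_comap_map _ _)

theorem quotMap_mk (i : G →* P) [((center G).map i).Normal] (g : G) :
    quotMap i (g : G ⧸ center G) = (i g : P ⧸ (center G).map i) := rfl

theorem quotMap_injective {i : G →* P} (hi : Function.Injective i) [((center G).map i).Normal] :
    Function.Injective (quotMap i) := by
  rw [injective_iff_map_eq_one]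
  rintro ⟨g⟩ h
  change (i g : P ⧸ (center G).map i) = 1 at h
  obtain ⟨z, hz, e⟩ := (QuotientGroup.eq_one_iff (i g)).1 h
  exact (QuotientGroup.eq_one_iff g).2 (hi e ▸ hz)

theorem normal_range_quotMap {i : G →* P} (hr : i.range.Normal) [((center G).map i).Normal] :
    (quotMap i).range.Normal := by
  refine ⟨?_⟩
  rintro _ ⟨⟨g⟩, rfl⟩ ⟨p⟩
  obtain ⟨g', hg'⟩ := hr.conj_mem (i g) ⟨g, rfl⟩ p
  exact ⟨(g' : G ⧸ center G), congrArg QuotientGroup.mk hg'⟩

variable [Fintype F]

/-- Lifts of a finite group into an extension by a uniquely divisible nilpotent group exist. -/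
theorem exists_lift_aux (G : Type u) [Group G] [Group.IsNilpotent G] :
    ∀ (P : Type u) [Group P] (i : G →* P), Function.Injective i → i.range.Normal →
      Function.Bijective (fun g : G => g ^ Fintype.card F) → ∀ f : F → P, (∀ a b, f a * f b * (f (a * b))⁻¹ ∈ i.range) →
      ∃ s : F →* P, ∀ a, s a * (f a)⁻¹ ∈ i.range := by
  refine Group.nilpotent_center_quotient_ind (P := fun G _ _ => ∀ (P : Type u) [Group P] (i : G →* P),
      Function.Injective i → i.range.Normal →
      Function.Bijective (fun g : G => g ^ Fintype.card F) → ∀ f : F → P, (∀ a b, f a * f b * (f (a * b))⁻¹ ∈ i.range) →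
      ∃ s : F →* P, ∀ a, s a * (f a)⁻¹ ∈ i.range) G ?_ ?_
  · intro G _ _ P _ i _ _ _ f hf
    refine ⟨MonoidHom.mk' f fun a b => ?_, fun a => ?_⟩
    · obtain ⟨g, hg⟩ := hf a b
      rw [Subsingleton.elim g 1, map_one] at hg
      exact (mul_inv_eq_one.1 hg.symm).symm
    · simp
  · intro G _ _ ih P _ i hi hr hn f hf
    haveI := normal_map_center hi hr
    obtain ⟨s₁, hs₁⟩ := ih _ (quotMap i) (quotMap_injective hi) (normal_range_quotMap hr)
      (bijective_pow_quotient_center hn) (fun a => (f a : P ⧸ (center G).map i)) fun a b => by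
        obtain ⟨g, hg⟩ := hf a b
        exact ⟨(g : G ⧸ center G), by rw [quotMap_mk, hg]; rfl⟩
    choose f' hf' using fun a => QuotientGroup.mk_surjective (s₁ a)
    have hc : ∀ a b, ∃ c : center G, i c = f' a * f' b * (f' (a * b))⁻¹ := fun a b => by
      have h : ((f' a * f' b * (f' (a * b))⁻¹ : P) : P ⧸ (center G).map i) = 1 := by
        rw [QuotientGroup.mk_mul, QuotientGroup.mk_mul, QuotientGroup.mk_inv, hf', hf', hf', ← map_mul, mul_inv_cancel]
      obtain ⟨z, hz, e⟩ := (QuotientGroup.eq_one_iff _).1 h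
      exact ⟨⟨z, hz⟩, e⟩
    choose c hc using hc
    have hφ : ∀ a (z : center G), ∃ z' : center G, i z' = f' a * i z * (f' a)⁻¹ := fun a z => by
      obtain ⟨z', hz', e⟩ := conj_center_mem hi hr (f' a) z.2
      exact ⟨⟨z', hz'⟩, e⟩
    choose φ hφ using hφ
    have hinj : Function.Injective fun z : center G => i z := fun z z' e => Subtype.ext (hi e)
    let φh : F → (center G →* center G) := fun a => MonoidHom.mk' (φ a) fun z z' => hinj (by
      show i (φ a (z * z') : G) = i ((φ a z * φ a z' : center G) : G)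
      rw [hφ, Subgroup.coe_mul, Subgroup.coe_mul, map_mul, map_mul, hφ, hφ]
      group)
    have hcc : ∀ a b x, φ a (c b x) * c a (b * x) = c a b * c (a * b) x := fun a b x => hinj (by
      simp only [Subgroup.coe_mul, map_mul, hφ, hc, _root_.mul_assoc a b x]
      group)
    have hroot : ∀ z : center G, ∃ w : center G, w ^ Fintype.card F = z := fun z => by
      obtain ⟨w, hw⟩ := hn.2 z
      exact ⟨⟨w, mem_center_of_pow hn.1 (by show w ^ _ ∈ _; simp only at hw; rw [hw]; exact z.2)⟩, Subtype.ext hw⟩
    choose b hb using fun a => hroot (∏ x, c a x)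
    have hinjn : Function.Injective fun z : center G => z ^ Fintype.card F := fun z z' e =>
      Subtype.ext (hn.1 (by simpa using congrArg Subtype.val e))
    have hbb : ∀ a a', φh a (b a') * b a = c a a' * b (a * a') := fun a a' => hinjn (by
      simp only [mul_pow, ← map_pow, hb, map_prod]
      rw [← Fintype.prod_equiv (Equiv.mulLeft a') (fun x => c a (a' * x)) (c a) (fun x => rfl),
        ← Finset.prod_mul_distrib, Fintype.card, ← Finset.prod_const, ← Finset.prod_mul_distrib]
      exact Finset.prod_congr rfl fun x _ => hcc a a' x)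
    refine ⟨MonoidHom.mk' (fun a => (i (b a))⁻¹ * f' a) fun a a' => ?_, fun a => ?_⟩
    · have e := congrArg (fun z : center G => i z) (hbb a a')
      simp only [Subgroup.coe_mul, map_mul, φh, MonoidHom.mk'_apply, hφ, hc] at e
      calc (i (b (a * a')))⁻¹ * f' (a * a')
          = (f' a * f' a' * (f' (a * a'))⁻¹ * i (b (a * a')))⁻¹ * (f' a * f' a') := by group
        _ = (f' a * i (b a') * (f' a)⁻¹ * i (b a))⁻¹ * (f' a * f' a') := by rw [e]
        _ = (i (b a))⁻¹ * f' a * ((i (b a'))⁻¹ * f' a') := by group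
    · obtain ⟨⟨g⟩, hg⟩ := hs₁ a
      change quotMap i (g : G ⧸ center G) = s₁ a * (f a : P ⧸ (center G).map i)⁻¹ at hg
      rw [quotMap_mk, ← hf', ← QuotientGroup.mk_inv, ← QuotientGroup.mk_mul, QuotientGroup.eq] at hg
      obtain ⟨z, -, hz⟩ := hg
      refine ⟨((b a : G))⁻¹ * g * z, ?_⟩
      show _ = (i (b a))⁻¹ * f' a * (f a)⁻¹
      rw [map_mul, map_mul, map_inv, hz]
      group

/-- Two lifts of a finite group are conjugate. -/
theorem exists_conj_aux (G : Type u) [Group G] [Group.IsNilpotent G] :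
    ∀ (P : Type u) [Group P] (i : G →* P), Function.Injective i → i.range.Normal →
      Function.Bijective (fun g : G => g ^ Fintype.card F) → ∀ s t : F →* P, (∀ a, t a * (s a)⁻¹ ∈ i.range) →
      ∃ g : G, ∀ a, t a = i g * s a * (i g)⁻¹ := by
  refine Group.nilpotent_center_quotient_ind (P := fun G _ _ => ∀ (P : Type u) [Group P] (i : G →* P),
      Function.Injective i → i.range.Normal →
      Function.Bijective (fun g : G => g ^ Fintype.card F) → ∀ s t : F →* P, (∀ a, t a * (s a)⁻¹ ∈ i.range) →
      ∃ g : G, ∀ a, t a = i g * s a * (i g)⁻¹) G ?_ ?_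
  · intro G _ _ P _ i _ _ _ s t h
    refine ⟨1, fun a => ?_⟩
    obtain ⟨g, hg⟩ := h a
    rw [Subsingleton.elim g 1, map_one] at hg
    simp [mul_inv_eq_one.1 hg.symm]
  · intro G _ _ ih P _ i hi hr hn s t h
    haveI := normal_map_center hi hr
    obtain ⟨⟨v⟩, hv⟩ := ih _ (quotMap i) (quotMap_injective hi) (normal_range_quotMap hr)
      (bijective_pow_quotient_center hn) ((QuotientGroup.mk' _).comp s) ((QuotientGroup.mk' _).comp t) fun a => by
        obtain ⟨g, hg⟩ := h a
        exact ⟨(g : G ⧸ center G), by rw [quotMap_mk, hg]; rfl⟩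
    have hd : ∀ a, ∃ d : center G, i d = (i v)⁻¹ * t a * i v * (s a)⁻¹ := fun a => by
      have h1 := hv a
      change (t a : P ⧸ (center G).map i) = (i v : P ⧸ (center G).map i) * (s a : P ⧸ (center G).map i) * (i v : P ⧸ (center G).map i)⁻¹ at h1
      obtain ⟨z, hz, e⟩ := (QuotientGroup.eq_one_iff (N := (center G).map i) ((i v)⁻¹ * t a * i v * (s a)⁻¹)).1 (by
        simp only [QuotientGroup.mk_mul, QuotientGroup.mk_inv, h1]
        group)
      exact ⟨⟨z, hz⟩, e⟩
    choose d hd using hd
    have hφ : ∀ a (z : center G), ∃ z' : center G, i z' = s a * i z * (s a)⁻¹ := fun a z => by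
      obtain ⟨z', hz', e⟩ := conj_center_mem hi hr (s a) z.2
      exact ⟨⟨z', hz'⟩, e⟩
    choose φ hφ using hφ
    have hinj : Function.Injective fun z : center G => i z := fun z z' e => Subtype.ext (hi e)
    let φh : F → (center G →* center G) := fun a => MonoidHom.mk' (φ a) fun z z' => hinj (by
      show i (φ a (z * z') : G) = i ((φ a z * φ a z' : center G) : G)
      rw [hφ, Subgroup.coe_mul, Subgroup.coe_mul, map_mul, map_mul, hφ, hφ]
      group)
    have hdd : ∀ a x, d a * φh a (d x) = d (a * x) := fun a x => hinj (by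
      simp only [Subgroup.coe_mul, map_mul, φh, MonoidHom.mk'_apply, hφ, hd]
      group)
    obtain ⟨w, hw⟩ := hn.2 ((∏ x, d x : center G) : G)
    simp only at hw
    have hwc : w ∈ center G := mem_center_of_pow hn.1 (by show w ^ _ ∈ _; rw [hw]; exact (∏ x, d x).2)
    have hinjn : Function.Injective fun z : center G => z ^ Fintype.card F := fun z z' e =>
      Subtype.ext (hn.1 (by simpa using congrArg Subtype.val e))
    have hkey : ∀ a, d a * φh a ⟨w, hwc⟩ = ⟨w, hwc⟩ := fun a => hinjn (by
      have hwn : (⟨w, hwc⟩ : center G) ^ Fintype.card F = ∏ x, d x := Subtype.ext hw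
      simp only [mul_pow, ← map_pow, hwn, map_prod]
      rw [Fintype.card, ← Finset.prod_const, ← Finset.prod_mul_distrib]
      exact (Finset.prod_congr rfl fun x _ => hdd a x).trans (Fintype.prod_equiv (Equiv.mulLeft a) _ d fun x => rfl))
    refine ⟨v * w, fun a => ?_⟩
    have e := congrArg (fun z : center G => i z) (hkey a)
    simp only [Subgroup.coe_mul, map_mul, φh, MonoidHom.mk'_apply, hφ, hd] at e
    rw [map_mul]
    calc t a = i v * ((i v)⁻¹ * t a * i v * (s a)⁻¹ * (s a * i w * (s a)⁻¹)) * s a * (i w)⁻¹ * (i v)⁻¹ := by group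
      _ = i v * i w * s a * (i v * i w)⁻¹ := by rw [e]; group

theorem exists_lift {P : Type u} [Group P] (U : Subgroup P) [U.Normal] [Group.IsNilpotent U]
    (hn : Function.Bijective fun u : U => u ^ Fintype.card F) (f : F → P)
    (hf : ∀ a b, f a * f b * (f (a * b))⁻¹ ∈ U) : ∃ s : F →* P, ∀ a, s a * (f a)⁻¹ ∈ U := by
  have h := exists_lift_aux (F := F) U P U.subtype Subtype.val_injective (by rw [U.range_subtype]; infer_instance) hn f
    (by rw [U.range_subtype]; exact hf)
  rwa [U.range_subtype] at h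

theorem exists_conj {P : Type u} [Group P] (U : Subgroup P) [U.Normal] [Group.IsNilpotent U]
    (hn : Function.Bijective fun u : U => u ^ Fintype.card F) (s t : F →* P) (h : ∀ a, t a * (s a)⁻¹ ∈ U) :
    ∃ u ∈ U, ∀ a, t a = u * s a * u⁻¹ := by
  obtain ⟨g, hg⟩ := exists_conj_aux (F := F) U P U.subtype Subtype.val_injective (by rw [U.range_subtype]; infer_instance)
    hn s t (by rw [U.range_subtype]; exact h)
  exact ⟨g, g.2, hg⟩

end Groth.Agent.AlgGrp79.UDivisible
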