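import Groth.Agent.AlgGrp79.TorusPts
import Groth.Agent.AlgGrp79.UDivisible
import Groth.Agent.AlgGrp33.FiniteUnip
import Groth.Agent.Comod33.HopfSurjFG
import Groth.Agent.S7967
import Groth.Agent.S7986
import Groth.Agent.S7957
import Groth.Agent.S7987
import Groth.Agent.Comod33.Push
import Mathlib.GroupTheory.PGroup
import Mathlib.LinearAlgebra.Semisimple

/-!
Maximal tori of trigonalizable groups are conjugate: coordinate form.
-/

set_option autoImplicit false
set_option linter.unusedSectionVars false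

universe u

open TensorProduct WithConv

noncomputable section

namespace Groth.Agent.AlgGrp79.SolvTori

open Comod33

variable {k A : Type u} [Field k] [IsAlgClosed k] [CommRing A] [HopfAlgebra k A] [Algebra.FiniteType k A]

theorem exists_ell : ∃ ℓ : ℕ, ℓ.Prime ∧ (ℓ : k) ≠ 0 := by
  by_cases h : (2 : k) = 0
  · refine ⟨3, Nat.prime_three, fun h3 => one_ne_zero (α := k) ?_⟩
    have : (1 : k) = (3 : ℕ) - 2 := by norm_num
    rw [this, h3, h, sub_zero]
  · exact ⟨2, Nat.prime_two, by exact_mod_cast h⟩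

/-- The projection to the diagonalizable quotient: lifts of torsion exist compatibly. -/
theorem exists_torsion_lifts {Q : Type u} [CommGroup Q] (π : Conn.Pt k A →* Q) (hπ : Function.Surjective π)
    [Group.IsNilpotent π.ker] {ℓ : ℕ} [Fact ℓ.Prime]
    (hdiv : ∀ m : ℕ, Function.Bijective fun u : π.ker => u ^ (ℓ ^ m))
    (hfin : ∀ j, ((powMonoidHom (ℓ ^ j) : Q →* Q).ker : Set Q).Finite) :
    ∃ σ : ∀ j, (powMonoidHom (ℓ ^ j) : Q →* Q).ker →* Conn.Pt k A,
      (∀ j q, π (σ j q) = q.1) ∧ ∀ j q q', q.1 = q'.1 → σ (j + 1) q = σ j q' := by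
  classical
  let F : ℕ → Subgroup Q := fun j => (powMonoidHom (ℓ ^ j) : Q →* Q).ker
  haveI : ∀ j, Finite (F j) := fun j => (hfin j).to_subtype
  letI : ∀ j, Fintype (F j) := fun j => Fintype.ofFinite _
  have hcard : ∀ j, ∃ m, Fintype.card (F j) = ℓ ^ m := fun j => by
    have hp : IsPGroup ℓ (F j) := fun q => ⟨j, Subtype.ext q.2⟩
    obtain ⟨m, hm⟩ := IsPGroup.iff_card.1 hp
    exact ⟨m, by rwa [← Nat.card_eq_fintype_card]⟩
  have hn : ∀ j, Function.Bijective fun u : π.ker => u ^ Fintype.card (F j) := fun j => by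
    obtain ⟨m, hm⟩ := hcard j
    rw [hm]; exact hdiv m
  have hex : ∀ j, ∃ s : F j →* Conn.Pt k A, ∀ q, π (s q) = q.1 := fun j => by
    choose f hf using fun q : F j => hπ q.1
    obtain ⟨s, hs⟩ := UDivisible.exists_lift π.ker (hn j) f fun a b => by
      rw [MonoidHom.mem_ker, map_mul, map_mul, map_inv, hf, hf, hf, Subgroup.coe_mul, mul_inv_cancel]
    exact ⟨s, fun q => by rw [← hf q, ← mul_inv_eq_one, ← map_inv, ← map_mul]; exact MonoidHom.mem_ker.1 (hs q)⟩
  have hstep : ∀ j (s : {s : F j →* Conn.Pt k A // ∀ q, π (s q) = q.1}),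
      ∃ s' : {s : F (j + 1) →* Conn.Pt k A // ∀ q, π (s q) = q.1}, ∀ q q', q.1 = q'.1 → s'.1 q = s.1 q' := by
    intro j s
    obtain ⟨t, ht⟩ := hex (j + 1)
    have hle : F j ≤ F (j + 1) := fun q hq => by
      change q ^ (ℓ ^ j) = 1 at hq
      show q ^ (ℓ ^ (j + 1)) = 1
      rw [pow_succ, pow_mul, hq, one_pow]
    obtain ⟨u, hu, he⟩ := UDivisible.exists_conj π.ker (hn j) (t.comp (Subgroup.inclusion hle)) s.1 fun q => by
      rw [MonoidHom.mem_ker, map_mul, map_inv, s.2, MonoidHom.comp_apply, ht, Subgroup.coe_inclusion, mul_inv_cancel]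
    refine ⟨⟨(MulAut.conj u).toMonoidHom.comp t, fun q => ?_⟩, fun q q' e => ?_⟩
    · show π (u * t q * u⁻¹) = q.1
      rw [map_mul, map_mul, map_inv, ht, MonoidHom.mem_ker.1 hu, _root_.one_mul, inv_one, _root_.mul_one]
    · show u * t q * u⁻¹ = s.1 q'
      rw [he q', show q = Subgroup.inclusion hle q' from Subtype.ext e]
      rfl
  choose nx hnx using hstep
  let S : ∀ j, {s : F j →* Conn.Pt k A // ∀ q, π (s q) = q.1} := fun j =>
    Nat.rec (motive := fun j => {s : F j →* Conn.Pt k A // ∀ q, π (s q) = q.1}) ⟨(hex 0).choose, (hex 0).choose_spec⟩ nx j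
  exact ⟨fun j => (S j).1, fun j => (S j).2, fun j q q' e => hnx j (S j) q q' e⟩

/-- A semisimple action for points of finite order invertible in the field. -/
theorem mem_ssPts_of_pow_eq_one {g : Conn.Pt k A} {n : ℕ} (hn : (n : k) ≠ 0) (hg : g ^ n = 1) :
    g ∈ AlgGrp33.FiniteUnip.ssPts k A := by
  intro V _ _ _ _
  refine Module.End.isSemisimple_of_squarefree_aeval_eq_zero
    (Polynomial.separable_X_pow_sub_C (1 : k) hn one_ne_zero).squarefree ?_
  rw [map_sub, map_pow, Polynomial.aeval_X, Polynomial.aeval_C, map_one,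
    show HopfRep.Comod.act k A V g.ofConv = actHom k A V g from rfl, ← map_pow, hg, map_one, sub_self]

/-- Points of a unipotent group map to unipotent points. -/
theorem restrPts_mem_unipPts {B : Type u} [CommRing B] [HopfAlgebra k B] [Algebra.FiniteType k B] (φ : A →ₐc[k] B)
    (hB : HopfRep.IsUnipotent k B) (g : Conn.Pt k B) : HopfFlat.restrPts φ g ∈ DimOneClass.unipPts k A := by
  intro V _ _ cV _
  have h := @Groth.Agent.S7987.result k B _ _ _ _ hB g.ofConv V _ _ (push φ.toCoalgHom cV) _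
  refine (congrArg (fun T : Module.End k V => IsNilpotent (T - 1)) ?_).mp h
  refine LinearMap.ext fun v => ?_
  exact dact_push φ.toCoalgHom cV g.ofConv.toLinearMap v

/-- A trigonalizable connected group has a split torus into which every torus can be conjugated. -/
theorem exists_maxTorus_ideal [IsDomain A] (hA : HopfRep.IsTrigonalizable k A) :
    ∃ (I : Ideal A) (_ : I.IsHopfIdeal k), IsDomain (A ⧸ I) ∧ HopfRep.IsDiagonalizable k (A ⧸ I) ∧
      (∀ x : Conn.Pt k A, ∃ t : Conn.Pt k A, (∀ a ∈ I, t.ofConv a = 0) ∧ t⁻¹ * x ∈ DimOneClass.unipPts k A) ∧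
      ∀ (C : Type u) [CommRing C] [HopfAlgebra k C] [Algebra.FiniteType k C] [IsDomain C],
        HopfRep.IsDiagonalizable k C → ∀ τ : A →ₐc[k] C,
          ∃ v : Conn.Pt k A, ∀ (g : Conn.Pt k C) (a : A), a ∈ I → (v * HopfFlat.restrPts τ g * v⁻¹).ofConv a = 0 := by
  classical
  obtain ⟨C₀, _, _, ψ, J, hJh, hψ, hC₀, hJ, hUJ⟩ := (Groth.Agent.S7967.result k A).1 hA
  haveI : Group.FG (GroupLike k C₀) := by
    haveI := Hopf35.GL.fg_groupLike (k := k) (B := A)
    let f : GroupLike k C₀ →* GroupLike k A :=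
      { toFun := fun x => ⟨ψ x.val, x.isGroupLikeElem_val.map ψ⟩
        map_one' := GroupLike.ext (by simp)
        map_mul' := fun x y => GroupLike.ext (by simp) }
    exact TorusPts.fg_of_injective f fun x y e => GroupLike.ext (hψ (congrArg GroupLike.val e))
  haveI : Algebra.FiniteType k C₀ := by
    haveI : Algebra.FiniteType k (MonoidAlgebra k (GroupLike k C₀)) :=
      (MonoidAlgebra.finiteType_iff_group_fg (R := k)).2 inferInstance
    exact Algebra.FiniteType.equiv ‹_›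
      (BialgEquiv.ofBijective _ (AlgGrp33.bijective_liftGroupLike hC₀) : MonoidAlgebra k (GroupLike k C₀) ≃ₐ[k] C₀)
  haveI : IsDomain C₀ := Function.Injective.isDomain (ψ : C₀ →+* A) hψ
  letI : CommGroup (Conn.Pt k C₀) :=
    { (inferInstance : Group (Conn.Pt k C₀)) with mul_comm := TorusPts.comm_pts hC₀ }
  let π : Conn.Pt k A →* Conn.Pt k C₀ := HopfFlat.restrPts ψ
  have hπ : Function.Surjective π := fun q => by
    obtain ⟨h, hh⟩ := HopfFlat.exists_point_lift_fg ψ hψ q.ofConv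
    exact ⟨toConv h, WithConv.ofConv_injective hh⟩
  let eJ : Conn.Pt k (A ⧸ J) →* π.ker :=
    (HopfFlat.restrPts (Bialgebra.Quotient.mkBialgHom (R := k) J)).codRestrict _ fun g => by
      rw [MonoidHom.mem_ker]
      apply WithConv.ofConv_injective
      refine AlgHom.ext fun c => ?_
      show g.ofConv (Ideal.Quotient.mk J (ψ c)) = algebraMap k k (CoalgebraStruct.counit (R := k) c)
      have hc : ψ c - algebraMap k A (CoalgebraStruct.counit (R := k) c) ∈ J := by
        rw [hJ]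
        have h0 : c - algebraMap k C₀ (CoalgebraStruct.counit (R := k) c) ∈ RingHom.ker (Bialgebra.counitAlgHom k C₀) := by
          simp [RingHom.mem_ker]
        have := Ideal.mem_map_of_mem (ψ : C₀ →+* A) h0
        simpa [AlgHomClass.commutes] using this
      rw [Ideal.Quotient.eq.2 hc]
      exact g.ofConv.commutes _
  have heJ : Function.Bijective eJ := by
    constructor
    · intro g g' e
      apply WithConv.ofConv_injective
      exact Ideal.Quotient.algHom_ext k (WithConv.toConv_injective (congrArg Subtype.val e))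
    · rintro ⟨u, hu⟩
      have hk : ∀ a ∈ J, u.ofConv a = 0 := by
        intro a ha
        rw [hJ] at ha
        refine Submodule.span_induction (fun x hx => ?_) (map_zero _) (fun x y _ _ hx hy => by rw [map_add, hx, hy, add_zero])
          (fun c x _ hx => by rw [smul_eq_mul, map_mul, hx, mul_zero]) ha
        obtain ⟨c, hc, rfl⟩ := hx
        have := DFunLike.congr_fun (congrArg WithConv.ofConv (MonoidHom.mem_ker.1 hu)) c
        exact this.trans ((congrArg (algebraMap k k) (RingHom.mem_ker.1 hc)).trans (map_zero _))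
      exact ⟨toConv (Ideal.Quotient.liftₐ J u.ofConv hk), Subtype.ext (WithConv.ofConv_injective (AlgHom.ext fun a => rfl))⟩
  haveI : Group.IsNilpotent π.ker := by
    haveI := Groth.Agent.S7986.result k (A ⧸ J) hUJ
    exact nilpotent_of_surjective eJ heJ.2
  obtain ⟨ℓ, hℓ, hℓk⟩ := exists_ell (k := k)
  haveI := Fact.mk hℓ
  have hdiv : ∀ m : ℕ, Function.Bijective fun u : π.ker => u ^ (ℓ ^ m) := fun m => by
    have hb := Groth.Agent.S7957.result k (A ⧸ J) hUJ (ℓ ^ m) fun h => by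
      have : ((ℓ ^ m : ℕ) : k) = 0 := (ringChar.spec k _).2 h
      rw [Nat.cast_pow] at this
      exact pow_ne_zero m hℓk this
    have e : (fun u : π.ker => u ^ (ℓ ^ m)) ∘ eJ = eJ ∘ fun g => g ^ (ℓ ^ m) := funext fun g => (map_pow eJ g _).symm
    refine (Function.Bijective.of_comp_iff _ heJ).1 ?_
    rw [e]
    exact heJ.comp hb
  have hfin : ∀ j, ((powMonoidHom (ℓ ^ j) : Conn.Pt k C₀ →* Conn.Pt k C₀).ker : Set (Conn.Pt k C₀)).Finite := fun j =>
    TorusPts.finite_torsion hC₀ (pow_pos hℓ.pos j)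
  obtain ⟨σ, hσ, hσc⟩ := exists_torsion_lifts π hπ hdiv hfin
  -- the union of the lifts
  have hmono : ∀ (j N : ℕ), j ≤ N → ∀ (q : (powMonoidHom (ℓ ^ N) : Conn.Pt k C₀ →* Conn.Pt k C₀).ker)
      (q' : (powMonoidHom (ℓ ^ j) : Conn.Pt k C₀ →* Conn.Pt k C₀).ker), q.1 = q'.1 → σ N q = σ j q' := by
    intro j N hjN
    induction N, hjN using Nat.le_induction with
    | base => intro q q' e; rw [show q = q' from Subtype.ext e]
    | succ N hjN ih =>
      intro q q' e
      have hq : q.1 ^ (ℓ ^ N) = 1 := by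
        obtain ⟨d, rfl⟩ := Nat.exists_eq_add_of_le hjN
        rw [e, pow_add, pow_mul, show q'.1 ^ (ℓ ^ j) = 1 from q'.2, one_pow]
      rw [hσc N q ⟨q.1, hq⟩ rfl]
      exact ih ⟨q.1, hq⟩ q' e
  have hup : ∀ (j N : ℕ), j ≤ N → ∀ q' : (powMonoidHom (ℓ ^ j) : Conn.Pt k C₀ →* Conn.Pt k C₀).ker,
      ∃ q : (powMonoidHom (ℓ ^ N) : Conn.Pt k C₀ →* Conn.Pt k C₀).ker, σ N q = σ j q' := fun j N hjN q' => by
    refine ⟨⟨q'.1, ?_⟩, hmono j N hjN _ q' rfl⟩
    obtain ⟨d, rfl⟩ := Nat.exists_eq_add_of_le hjN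
    show q'.1 ^ (ℓ ^ (j + d)) = 1
    rw [pow_add, pow_mul, show q'.1 ^ (ℓ ^ j) = 1 from q'.2, one_pow]
  let H : Subgroup (Conn.Pt k A) :=
    { carrier := {x | ∃ j q, σ j q = x}
      one_mem' := ⟨0, 1, map_one _⟩
      inv_mem' := by rintro _ ⟨j, q, rfl⟩; exact ⟨j, q⁻¹, map_inv _ _⟩
      mul_mem' := by
        rintro _ _ ⟨j, q, rfl⟩ ⟨j', q', rfl⟩
        obtain ⟨a, ha⟩ := hup j (j + j') (Nat.le_add_right _ _) q
        obtain ⟨b, hb⟩ := hup j' (j + j') (Nat.le_add_left _ _) q'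
        exact ⟨j + j', a * b, by rw [map_mul, ha, hb]⟩ }
  obtain ⟨I, hIh, hI⟩ := TorusPts.exists_vanishing H
  have hI1 : (1 : A) ∉ I := fun h => one_ne_zero (α := k) ((map_one _).symm.trans ((hI 1).1 h 1 H.one_mem))
  haveI : Nontrivial (A ⧸ I) := Ideal.Quotient.nontrivial_iff.2 (fun h => hI1 (h ▸ Submodule.mem_top))
  haveI hred : _root_.IsReduced (A ⧸ I) := ⟨by
    rintro ⟨a⟩ ⟨n, hn⟩
    refine Ideal.Quotient.eq_zero_iff_mem.2 ((hI a).2 fun h hh => ?_)
    have : a ^ n ∈ I := Ideal.Quotient.eq_zero_iff_mem.1 hn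
    have h2 := (hI _).1 this h hh
    rw [map_pow] at h2
    exact IsNilpotent.eq_zero ⟨n, h2⟩⟩
  let qI : A →ₐc[k] A ⧸ I := Bialgebra.Quotient.mkBialgHom I
  have hHI : ∀ h ∈ H, ∃ h' : Conn.Pt k (A ⧸ I), HopfFlat.restrPts qI h' = h := fun h hh =>
    ⟨toConv (Ideal.Quotient.liftₐ I h.ofConv fun a ha => (hI a).1 ha h hh), rfl⟩
  have hdense : ∀ x : A ⧸ I, (∀ h : Conn.Pt k (A ⧸ I), HopfFlat.restrPts qI h ∈ H → h.ofConv x = 0) → x = 0 := by
    rintro ⟨a⟩ hx
    refine Ideal.Quotient.eq_zero_iff_mem.2 ((hI a).2 fun h hh => ?_)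
    obtain ⟨h', rfl⟩ := hHI h hh
    exact hx h' hh
  have hrinj : Function.Injective (HopfFlat.restrPts qI) := fun g g' e => WithConv.ofConv_injective
    (Ideal.Quotient.algHom_ext k (WithConv.toConv_injective e))
  have hHcomm : ∀ x ∈ H, ∀ y ∈ H, x * y = y * x := by
    rintro _ ⟨j, q, rfl⟩ _ ⟨j', q', rfl⟩
    obtain ⟨a, ha⟩ := hup j (j + j') (Nat.le_add_right _ _) q
    obtain ⟨b, hb⟩ := hup j' (j + j') (Nat.le_add_left _ _) q'
    rw [← ha, ← hb, ← map_mul, ← map_mul, mul_comm]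
  have hcomm : ∀ x y : Conn.Pt k (A ⧸ I), x * y = y * x := by
    have step : ∀ x : Conn.Pt k (A ⧸ I), (∀ h, HopfFlat.restrPts qI h ∈ H → x * h = h * x) → ∀ y, x * y = y * x := by
      intro x hx y
      apply WithConv.ofConv_injective
      refine AlgHom.ext fun a => ?_
      let l := ((Conn.const x * Conn.gen k (A ⧸ I)).ofConv a - (Conn.gen k (A ⧸ I) * Conn.const x).ofConv a)
      have hl : l = 0 := hdense _ fun h hh => by
        rw [map_sub, ← Conn.push_apply, ← Conn.push_apply, map_mul, map_mul, Conn.push_const, Conn.push_gen, hx h hh,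
          sub_self]
      have := congrArg y.ofConv hl
      rw [map_zero, map_sub, ← Conn.push_apply, ← Conn.push_apply, map_mul, map_mul, Conn.push_const, Conn.push_gen,
        sub_eq_zero] at this
      exact this
    intro x y
    refine step x (fun h hh => (step h (fun h' hh' => hrinj ?_) x).symm) y
    rw [map_mul, map_mul]
    exact hHcomm _ hh _ hh'
  haveI : Coalgebra.IsCocomm k (A ⧸ I) := DimOne.isCocomm_of_comm hcomm
  have hdiag : HopfRep.IsDiagonalizable k (A ⧸ I) := CommSS.isDiagonalizable hcomm fun g V _ _ _ hV =>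
    AlgGrp33.FiniteUnip.mem_ssPts_of_forall (y := toConv g) (fun x hx => by
      refine (congrArg g ?_).trans (map_zero g)
      refine hdense x fun h hh => hx h ?_
      obtain ⟨j, q, e⟩ := hh
      refine mem_ssPts_of_pow_eq_one (n := ℓ ^ j) (by rw [Nat.cast_pow]; exact pow_ne_zero _ hℓk) (hrinj ?_)
      rw [map_pow, ← e, ← map_pow, show q ^ (ℓ ^ j) = 1 from Subtype.ext q.2, map_one, map_one]) V hV
  -- connectedness by divisibility
  have hdivH : ∀ h ∈ H, ∀ m : ℕ, 0 < m → ∃ h' ∈ H, ∀ χ : A ⧸ I, IsGroupLikeElem k χ → χ ^ m = 1 →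
      ∀ g : Conn.Pt k (A ⧸ I), HopfFlat.restrPts qI g = h → g.ofConv χ = 1 := by
    rintro _ ⟨j, q, rfl⟩ m hm
    obtain ⟨N, m', hm', rfl⟩ := Nat.exists_eq_pow_mul_and_not_dvd hm.ne' ℓ hℓ.ne_one
    obtain ⟨r, hr⟩ := TorusPts.exists_root hC₀ (pow_pos hℓ.pos N) q.1
    have hr' : r ^ (ℓ ^ (j + N)) = 1 := by
      rw [add_comm, pow_add, pow_mul, hr]; exact q.2
    refine ⟨_, ⟨j + N, ⟨r, hr'⟩, rfl⟩, fun χ hχ hm1 g hg => ?_⟩
    obtain ⟨g', hg'⟩ := hHI (σ (j + N) ⟨r, hr'⟩) ⟨_, _, rfl⟩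
    have hgg : g = g' ^ (ℓ ^ N) := hrinj (by
      rw [hg, map_pow, hg', ← map_pow]
      exact (hmono j (j + N) (Nat.le_add_right _ _) _ q hr).symm)
    have h1 : g.ofConv χ ^ m' = 1 := by
      rw [hgg, TorusPts.pow_apply_groupLike _ _ hχ, ← pow_mul, ← map_pow, hm1, map_one]
    have h2 : g.ofConv χ ^ (ℓ ^ j) = 1 := by
      rw [← TorusPts.pow_apply_groupLike _ _ hχ, show g ^ (ℓ ^ j) = 1 from hrinj (by
        rw [map_pow, hg, ← map_pow, show q ^ (ℓ ^ j) = 1 from Subtype.ext q.2, map_one, map_one]),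
        TorusPts.one_apply_groupLike hχ]
    have hg1 := pow_gcd_eq_one.2 ⟨h2, h1⟩
    rwa [(Nat.Coprime.pow_left j (hℓ.coprime_iff_not_dvd.2 hm')).gcd_eq_one, pow_one] at hg1
  haveI : IsDomain (A ⧸ I) := by
    let e := BialgEquiv.ofBijective _ (AlgGrp33.bijective_liftGroupLike hdiag)
    haveI : IsMulTorsionFree (GroupLike k (A ⧸ I)) := IsMulTorsionFree.of_not_isOfFinOrder fun χ hχ1 hχ => by
      obtain ⟨m, hm, hχm⟩ := isOfFinOrder_iff_pow_eq_one.1 hχ
      refine hχ1 (GroupLike.ext ?_)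
      rw [GroupLike.val_one, ← sub_eq_zero]
      refine hdense _ fun g hg => ?_
      obtain ⟨_, _, h⟩ := hdivH _ hg m hm
      rw [map_sub, map_one, h χ.val χ.isGroupLikeElem_val (by rw [← GroupLike.val_pow, hχm, GroupLike.val_one]) g rfl,
        sub_self]
    haveI : Algebra.FiniteType k (MonoidAlgebra k (GroupLike k (A ⧸ I))) :=
      Algebra.FiniteType.equiv inferInstance (e.symm : (A ⧸ I) ≃ₐ[k] MonoidAlgebra k (GroupLike k (A ⧸ I)))
    haveI : Group.FG (GroupLike k (A ⧸ I)) := (MonoidAlgebra.finiteType_iff_group_fg (R := k)).1 inferInstance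
    haveI : AddGroup.FG (Additive (GroupLike k (A ⧸ I))) := inferInstance
    haveI : Module.Finite ℤ (Additive (GroupLike k (A ⧸ I))) := Module.Finite.iff_addGroup_fg.2 inferInstance
    haveI : Module.IsTorsionFree ℤ (Additive (GroupLike k (A ⧸ I))) := inferInstance
    let bb := Module.finBasis ℤ (Additive (GroupLike k (A ⧸ I)))
    let E' : GroupLike k (A ⧸ I) ≃* Multiplicative (Fin (Module.finrank ℤ (Additive (GroupLike k (A ⧸ I)))) → ℤ) :=
      AddEquiv.toMultiplicativeRight bb.equivFun.toAddEquiv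
    exact (e.symm.trans (MonoidAlgebra.domCongrBialgEquiv k k E') :
      (A ⧸ I) ≃ₐ[k] MonoidAlgebra k (Multiplicative (Fin (Module.finrank ℤ (Additive (GroupLike k (A ⧸ I)))) → ℤ))).toMulEquiv.isDomain _
  have hinj : Function.Injective (((Bialgebra.Quotient.mkBialgHom (R := k) I : A →ₐc[k] A ⧸ I).comp ψ : C₀ →ₐc[k] A ⧸ I)) := by
    refine (injective_iff_map_eq_zero _).2 fun c hc => ?_
    refine TorusPts.eq_zero_of_torsion hC₀ hℓ.one_lt hℓk fun g hg => ?_
    obtain ⟨j, hj⟩ := hg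
    have h0 : (σ j ⟨g, hj⟩).ofConv (ψ c) = 0 :=
      (hI _).1 (Ideal.Quotient.eq_zero_iff_mem.1 hc) _ ⟨j, _, rfl⟩
    exact (DFunLike.congr_fun (congrArg WithConv.ofConv (hσ j ⟨g, hj⟩)) c).symm.trans h0
  have hdec : ∀ x : Conn.Pt k A, ∃ t : Conn.Pt k A, (∀ a ∈ I, t.ofConv a = 0) ∧ t⁻¹ * x ∈ DimOneClass.unipPts k A := by
    intro x
    obtain ⟨h, hh⟩ := HopfFlat.exists_point_lift_fg _ hinj (π x).ofConv
    refine ⟨HopfFlat.restrPts qI (toConv h), fun a ha => ?_, ?_⟩
    · show h (Ideal.Quotient.mk I a) = 0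
      rw [Ideal.Quotient.eq_zero_iff_mem.2 ha, map_zero]
    have hker : (HopfFlat.restrPts qI (toConv h))⁻¹ * x ∈ π.ker := by
      rw [MonoidHom.mem_ker, map_mul, map_inv, show π (HopfFlat.restrPts qI (toConv h)) = π x from
        WithConv.ofConv_injective hh, inv_mul_cancel]
    obtain ⟨g, hg⟩ := heJ.2 ⟨_, hker⟩
    have hg' : HopfFlat.restrPts (Bialgebra.Quotient.mkBialgHom (R := k) J) g = (HopfFlat.restrPts qI (toConv h))⁻¹ * x := congrArg Subtype.val hg
    rw [← hg']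
    exact restrPts_mem_unipPts _ hUJ g
  refine ⟨I, hIh, inferInstance, hdiag, hdec, fun C _ _ _ _ hC τ => ?_⟩
  let τ' := HopfFlat.restrPts τ
  letI : CommGroup (Conn.Pt k C) :=
    { (inferInstance : Group (Conn.Pt k C)) with mul_comm := TorusPts.comm_pts hC }
  let ct : Conn.Pt k A → A → A := fun t a =>
    (Conn.gen k A * Conn.const t * (Conn.gen k A)⁻¹).ofConv a
  have hct : ∀ (u t : Conn.Pt k A) a, u.ofConv (ct t a) = (u * t * u⁻¹).ofConv a := fun u t a => by
    rw [← Conn.push_apply, map_mul, map_mul, map_inv, Conn.push_const, Conn.push_gen]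
  let E : ℕ →o Ideal A :=
    { toFun := fun j => J ⊔ Ideal.span {x | ∃ g : Conn.Pt k C, g ^ (ℓ ^ j) = 1 ∧ ∃ a ∈ I, ct (τ' g) a = x}
      monotone' := monotone_nat_of_le_succ fun j => sup_le_sup_left (Ideal.span_mono (by
        rintro x ⟨g, hg, hx⟩
        exact ⟨g, by rw [pow_succ, pow_mul, hg, one_pow], hx⟩)) _ }
  haveI : IsNoetherianRing A := Algebra.FiniteType.isNoetherianRing k A
  obtain ⟨N, hN⟩ := monotone_stabilizes_iff_noetherian.2 ‹IsNoetherianRing A› E
  have hkey : ∀ j, ∃ u : Conn.Pt k A, u ∈ π.ker ∧ ∀ g : Conn.Pt k C, g ^ (ℓ ^ j) = 1 → u * τ' g * u⁻¹ ∈ H := by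
    intro j
    haveI : Group.FG (GroupLike k C) := Hopf35.GL.fg_groupLike
    let F : Subgroup (Conn.Pt k C) := (powMonoidHom (ℓ ^ j) : Conn.Pt k C →* Conn.Pt k C).ker
    haveI : Finite F := (TorusPts.finite_torsion hC (pow_pos hℓ.pos j)).to_subtype
    letI := Fintype.ofFinite F
    have hbij : Function.Bijective fun u : π.ker => u ^ Fintype.card F := by
      have hp : IsPGroup ℓ F := fun q => ⟨j, Subtype.ext q.2⟩
      obtain ⟨m, hm⟩ := IsPGroup.iff_card.1 hp
      rw [← Nat.card_eq_fintype_card, hm]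
      exact hdiv m
    let p : F →* (powMonoidHom (ℓ ^ j) : Conn.Pt k C₀ →* Conn.Pt k C₀).ker :=
      ((π.comp τ').comp F.subtype).codRestrict _ fun g => by
        show π (τ' g.1) ^ (ℓ ^ j) = 1
        rw [← map_pow, ← map_pow, show g.1 ^ (ℓ ^ j) = 1 from g.2, map_one, map_one]
    obtain ⟨u, hu, he⟩ := UDivisible.exists_conj π.ker hbij (τ'.comp F.subtype) ((σ j).comp p) fun g => by
      rw [MonoidHom.mem_ker, map_mul, map_inv, MonoidHom.comp_apply, hσ]
      exact mul_inv_cancel _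
    exact ⟨u, hu, fun g hg => ⟨j, p ⟨g, hg⟩, he ⟨g, hg⟩⟩⟩
  obtain ⟨u, hu, huH⟩ := hkey N
  have hvan : ∀ x ∈ E N, u.ofConv x = 0 := by
    intro x hx
    have hle : E N ≤ RingHom.ker (u.ofConv : A →+* k) := sup_le
      (fun a ha => by
        obtain ⟨g, hg⟩ := heJ.2 ⟨u, hu⟩
        have := DFunLike.congr_fun (congrArg WithConv.ofConv (congrArg Subtype.val hg)) a
        refine this.symm.trans ?_
        show g.ofConv (Ideal.Quotient.mk J a) = 0
        rw [Ideal.Quotient.eq_zero_iff_mem.2 ha, map_zero])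
      (Ideal.span_le.2 (by
        rintro _ ⟨g, hg, a, ha, rfl⟩
        show u.ofConv (ct (τ' g) a) = 0
        rw [hct]
        exact (hI a).1 ha _ (huH g hg)))
    exact hle hx
  refine ⟨u, fun g a ha => ?_⟩
  have htors : ∀ g : Conn.Pt k C, (∃ j, g ^ (ℓ ^ j) = 1) → (u * τ' g * u⁻¹).ofConv a = 0 := by
    rintro g ⟨j, hj⟩
    rw [← hct]
    refine hvan _ (hN (max N j) (le_max_left _ _) ▸ E.monotone (le_max_right N j) ?_)
    exact Ideal.mem_sup_right (Ideal.subset_span ⟨g, hj, a, ha, rfl⟩)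
  let b : C := ((toConv ((Algebra.ofId k C).comp u.ofConv) : WithConv (A →ₐ[k] C)) * toConv (τ : A →ₐ[k] C) *
    (toConv ((Algebra.ofId k C).comp u.ofConv))⁻¹).ofConv a
  have hb : ∀ g : Conn.Pt k C, g.ofConv b = (u * τ' g * u⁻¹).ofConv a := by
    intro g
    let pg : WithConv (A →ₐ[k] C) →* Conn.Pt k A :=
      { toFun := fun w => toConv (g.ofConv.comp w.ofConv)
        map_one' := by
          apply WithConv.ofConv_injective
          refine AlgHom.ext fun c => ?_
          show g.ofConv (algebraMap k C (CoalgebraStruct.counit (R := k) c)) = _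
          rw [AlgHom.commutes]
          rfl
        map_mul' := fun w w' => WithConv.ofConv_injective (AlgHom.comp_convMul_distrib g.ofConv w w') }
    have hc : pg (toConv ((Algebra.ofId k C).comp u.ofConv)) = u := WithConv.ofConv_injective
      (AlgHom.ext fun c => g.ofConv.commutes _)
    refine Eq.trans (show g.ofConv b = (pg (_ * _ * _)).ofConv a from rfl) ?_
    rw [map_mul, map_mul, map_inv, hc]
    rfl
  have hb0 : b = 0 := TorusPts.eq_zero_of_torsion hC hℓ.one_lt hℓk fun g hg => (hb g).trans (htors g hg)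
  rw [← hb, hb0, map_zero]

end Groth.Agent.AlgGrp79.SolvTori
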