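import Groth.Agent.AlgGrp79.BorelTori

/-!
Torsion points of a torus detect centralization, for points with values in any algebra.
-/

set_option autoImplicit false
set_option linter.unusedSectionVars false
set_option backward.isDefEq.respectTransparency.types false

universe u

open CategoryTheory MonoidalCategory CartesianMonoidalCategory MonObj GrpObj AlgebraicGeometry
open scoped TensorProduct
open WithConv Groth.Agent.GMod80

noncomputable section

namespace Groth.Agent.AlgGrp79.TorsionDetect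

open Comod33

variable {k : Type u} [Field k] {A : Type u} [CommRing A] [HopfAlgebra k A]

/-- Functoriality of points in the algebra. -/
def pushHom {B B' : Type u} [CommRing B] [Algebra k B] [CommRing B'] [Algebra k B'] (φ : B →ₐ[k] B') :
    WithConv (A →ₐ[k] B) →* WithConv (A →ₐ[k] B') where
  toFun w := toConv (φ.comp w.ofConv)
  map_one' := by
    apply WithConv.ofConv_injective
    refine AlgHom.ext fun c => ?_
    show φ (algebraMap k B (CoalgebraStruct.counit (R := k) c)) = _
    rw [AlgHom.commutes]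
    rfl
  map_mul' w w' := WithConv.ofConv_injective (AlgHom.comp_convMul_distrib φ w w')

/-- A constant point. -/
def cst (R : Type u) [CommRing R] [Algebra k R] : Conn.Pt k A →* WithConv (A →ₐ[k] R) := pushHom (Algebra.ofId k R)

theorem exists_detect_alg [IsAlgClosed k] [Algebra.FiniteType k A] {C : Type u} [CommRing C] [HopfAlgebra k C]
    [Algebra.FiniteType k C] [IsDomain C] (hC : HopfRep.IsDiagonalizable k C) (τ : A →ₐc[k] C) :
    ∃ ℓ N : ℕ, ℓ.Prime ∧ (ℓ : k) ≠ 0 ∧ {s : Conn.Pt k C | s ^ (ℓ ^ N) = 1}.Finite ∧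
      ∀ (R : Type u) [CommRing R] [Algebra k R] (g : WithConv (A →ₐ[k] R)),
        (∀ s : Conn.Pt k C, s ^ (ℓ ^ N) = 1 → cst R (HopfFlat.restrPts τ s) * g = g * cst R (HopfFlat.restrPts τ s)) →
        toConv ((Algebra.TensorProduct.includeLeft : C →ₐ[k] C ⊗[k] R).comp (τ : A →ₐ[k] C)) *
            pushHom (Algebra.TensorProduct.includeRight : R →ₐ[k] C ⊗[k] R) g =
          pushHom (Algebra.TensorProduct.includeRight : R →ₐ[k] C ⊗[k] R) g *
            toConv ((Algebra.TensorProduct.includeLeft : C →ₐ[k] C ⊗[k] R).comp (τ : A →ₐ[k] C)) := by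
  classical
  obtain ⟨ℓ, hℓ, hℓk⟩ := SolvTori.exists_ell (k := k)
  let w : Conn.Pt k C → A → A := fun s a =>
    (Conn.const (HopfFlat.restrPts τ s) * Conn.gen k A).ofConv a - (Conn.gen k A * Conn.const (HopfFlat.restrPts τ s)).ofConv a
  have hw : ∀ {R : Type u} [CommRing R] [Algebra k R] (g : WithConv (A →ₐ[k] R)) s a, g.ofConv (w s a) =
      (cst R (HopfFlat.restrPts τ s) * g).ofConv a - (g * cst R (HopfFlat.restrPts τ s)).ofConv a := by
    intro R _ _ g s a
    have h1 : pushHom g.ofConv (Conn.const (HopfFlat.restrPts τ s)) = cst R (HopfFlat.restrPts τ s) :=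
      WithConv.ofConv_injective (AlgHom.ext fun c => g.ofConv.commutes _)
    have h2 : pushHom g.ofConv (Conn.gen k A) = g := rfl
    rw [map_sub]
    show (pushHom g.ofConv (Conn.const (HopfFlat.restrPts τ s) * Conn.gen k A)).ofConv a -
      (pushHom g.ofConv (Conn.gen k A * Conn.const (HopfFlat.restrPts τ s))).ofConv a = _
    rw [map_mul, map_mul, h1, h2]
  let E : ℕ →o Ideal A :=
    { toFun := fun j => Ideal.span {x | ∃ s : Conn.Pt k C, s ^ (ℓ ^ j) = 1 ∧ ∃ a, w s a = x}
      monotone' := monotone_nat_of_le_succ fun j => Ideal.span_mono (by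
        rintro x ⟨s, hs, hx⟩
        exact ⟨s, by rw [pow_succ, pow_mul, hs, one_pow], hx⟩) }
  haveI : IsNoetherianRing A := Algebra.FiniteType.isNoetherianRing k A
  obtain ⟨N, hN⟩ := monotone_stabilizes_iff_noetherian.2 ‹IsNoetherianRing A› E
  haveI : Group.FG (GroupLike k C) := Hopf35.GL.fg_groupLike
  refine ⟨ℓ, N, hℓ, hℓk, TorusPts.finite_torsion hC (pow_pos hℓ.pos N), fun R _ _ g hg => ?_⟩
  have htors : ∀ s : Conn.Pt k C, (∃ j, s ^ (ℓ ^ j) = 1) → ∀ a,
      (cst R (HopfFlat.restrPts τ s) * g).ofConv a = (g * cst R (HopfFlat.restrPts τ s)).ofConv a := by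
    rintro s ⟨j, hj⟩ a
    have hle : E N ≤ RingHom.ker (g.ofConv : A →+* R) := Ideal.span_le.2 (by
      rintro _ ⟨s, hs, a, rfl⟩
      show g.ofConv (w s a) = 0
      rw [hw, hg s hs, sub_self])
    refine sub_eq_zero.1 ((hw g s a).symm.trans (hle ?_))
    rw [hN (max N j) (le_max_left _ _)]
    exact E.monotone (le_max_right N j) (Ideal.subset_span ⟨s, hj, a, rfl⟩)
  refine WithConv.ofConv_injective (AlgHom.ext fun a => sub_eq_zero.1 ?_)
  let t : WithConv (A →ₐ[k] C ⊗[k] R) := toConv ((Algebra.TensorProduct.includeLeft : C →ₐ[k] C ⊗[k] R).comp (τ : A →ₐ[k] C))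
  let gR := pushHom (Algebra.TensorProduct.includeRight : R →ₐ[k] C ⊗[k] R) g
  show (t * gR).ofConv a - (gR * t).ofConv a = 0
  generalize hz : (t * gR).ofConv a - (gR * t).ofConv a = z
  have hzero : ∀ s : Conn.Pt k C, (∃ j, s ^ (ℓ ^ j) = 1) →
      Algebra.TensorProduct.lift ((Algebra.ofId k R).comp s.ofConv) (AlgHom.id k R) (fun _ _ => Commute.all _ _) z = 0 := by
    intro s hs
    let φ : C ⊗[k] R →ₐ[k] R :=
      Algebra.TensorProduct.lift ((Algebra.ofId k R).comp s.ofConv) (AlgHom.id k R) (fun _ _ => Commute.all _ _)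
    have h1 : pushHom φ t = cst R (HopfFlat.restrPts τ s) := WithConv.ofConv_injective (AlgHom.ext fun c => by
      show φ (τ c ⊗ₜ[k] (1 : R)) = _
      rw [Algebra.TensorProduct.lift_tmul, map_one, _root_.mul_one]
      rfl)
    have h2 : pushHom φ gR = g := WithConv.ofConv_injective (AlgHom.ext fun c => by
      show φ ((1 : C) ⊗ₜ[k] g.ofConv c) = _
      rw [Algebra.TensorProduct.lift_tmul, map_one, _root_.one_mul]
      rfl)
    show φ z = 0
    rw [← hz, map_sub]
    show (pushHom φ (t * gR)).ofConv a - (pushHom φ (gR * t)).ofConv a = 0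
    rw [map_mul, map_mul, h1, h2, htors s hs a, sub_self]
  let bR := Module.Free.chooseBasis k R
  refine ((TensorProduct.comm k C R).trans (TensorProduct.equivFinsuppOfBasisLeft bR)).injective ?_
  rw [map_zero]
  refine Finsupp.ext fun i => ?_
  refine TorusPts.eq_zero_of_torsion hC hℓ.one_lt hℓk fun s hs => ?_
  have key : ∀ y : C ⊗[k] R,
      s.ofConv (((TensorProduct.comm k C R).trans (TensorProduct.equivFinsuppOfBasisLeft bR)) y i) =
        bR.repr (Algebra.TensorProduct.lift ((Algebra.ofId k R).comp s.ofConv) (AlgHom.id k R) (fun _ _ => Commute.all _ _) y) i := by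
    intro y
    induction y using TensorProduct.induction_on with
    | zero => simp
    | add p q hp hq => simp only [map_add, Finsupp.add_apply, hp, hq]
    | tmul c r =>
      rw [Algebra.TensorProduct.lift_tmul, LinearEquiv.trans_apply, TensorProduct.comm_tmul,
        TensorProduct.equivFinsuppOfBasisLeft_apply_tmul_apply, map_smul, AlgHom.comp_apply, Algebra.ofId_apply,
        AlgHom.id_apply, ← Algebra.smul_def, map_smul, Finsupp.smul_apply, smul_eq_mul, smul_eq_mul, _root_.mul_comm]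
  rw [key, hzero s hs, map_zero, Finsupp.zero_apply]

/-- The left unit isomorphism of a test scheme. -/
theorem toUnit_pt0 (R : Type u) [CommRing R] [Algebra k R] :
    VecGrp.ptMap (Algebra.ofId k R) = toUnit (VecGrp.pt k R) ≫ (ToriConj.pt0 : _ ⟶ VecGrp.pt k k) := by
  apply Over.OverMorphism.ext
  show Spec.map _ = Spec.map (CommRingCat.ofHom (algebraMap k R)) ≫ 𝟙 _
  rw [Category.comp_id]
  rfl

theorem isIso_pairIso {G : Over (Spec (CommRingCat.of k))} [GrpObj G] (ψ : sp k A ≅ G) [IsMonHom ψ.hom]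
    (B : Type u) [CommRing B] [Algebra k B] : IsIso (pairIso ψ B) := by
  let w : G ⊗ VecGrp.pt k B ≅ sp k A ⊗ VecGrp.pt k B := whiskerRightIso ψ.symm (VecGrp.pt k B)
  have : IsIso w.hom.left := ((Over.forget _).mapIso w).isIso_hom
  have hpw : (pairIso ψ B).left ≫ w.hom.left = (pullbackSpecIso k A B).inv := by
    apply Limits.pullback.hom_ext
    · refine Eq.trans ?_ (pullbackSpecIso_inv_fst k A B).symm
      change ((pairIso ψ B).left ≫ w.hom.left) ≫ (fst (sp k A) (VecGrp.pt k B)).left = _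
      have : pairIso ψ B ≫ w.hom ≫ fst (sp k A) (VecGrp.pt k B) =
          e ψ _ (toConv Algebra.TensorProduct.includeLeft) ≫ ψ.inv := by
        simp [w, pairIso]
      rw [Category.assoc, ← Over.comp_left, ← Over.comp_left, this, Over.comp_left, e_left,
        Category.assoc]
      change _ ≫ (sch ψ).hom ≫ (sch ψ).inv = _
      rw [Iso.hom_inv_id]
      exact Category.comp_id _
    · refine Eq.trans ?_ (pullbackSpecIso_inv_snd k A B).symm
      change ((pairIso ψ B).left ≫ w.hom.left) ≫ (snd (sp k A) (VecGrp.pt k B)).left = _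
      have : pairIso ψ B ≫ w.hom ≫ snd (sp k A) (VecGrp.pt k B) =
          VecGrp.ptMap Algebra.TensorProduct.includeRight := by
        simp [w, pairIso]
      rw [Category.assoc, ← Over.comp_left, ← Over.comp_left, this]
      rfl
  have : IsIso ((pairIso ψ B).left ≫ w.hom.left) := by rw [hpw]; infer_instance
  haveI : IsIso (pairIso ψ B).left := IsIso.of_isIso_comp_right _ w.hom.left
  haveI : IsIso ((Over.forget _).map (pairIso ψ B)) := ‹IsIso (pairIso ψ B).left›
  exact isIso_of_reflects_iso _ (Over.forget _)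

local notation "pk" => 𝟙_ (Over (Spec (CommRingCat.of k)))

/-- Finitely many torsion points detect centralization by points with values in any algebra. -/
theorem exists_detect [IsAlgClosed k] {G T : Over (Spec (CommRingCat.of k))} [GrpObj G] [GrpObj T] [IsAffine G.left]
    [Smooth G.hom] (iT : T ⟶ G) [IsMonHom iT] (hT : Red.IsTorus T) :
    ∃ ℓ N : ℕ, ℓ.Prime ∧ (ℓ : k) ≠ 0 ∧ {s : pk ⟶ T | s ^ (ℓ ^ N) = 1}.Finite ∧
      ∀ (R : Type u) [CommRing R] [Algebra k R] (g : VecGrp.pt k R ⟶ G),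
        (∀ s : pk ⟶ T, s ^ (ℓ ^ N) = 1 → g * (toUnit _ ≫ s ≫ iT) = (toUnit _ ≫ s ≫ iT) * g) →
        ∀ (X' : Over (Spec (CommRingCat.of k))) (x : X' ⟶ VecGrp.pt k R) (h : X' ⟶ T),
          (x ≫ g) * (h ≫ iT) = (h ≫ iT) * (x ≫ g) := by
  obtain ⟨hTs, _, hTa, _, hTc⟩ := AlgGrp33.IsogSub.torus_props hT
  haveI := hTa
  haveI := hTs
  obtain ⟨A, _, _, ψ, _⟩ := exists_coord G
  obtain ⟨D, _, _, ψT, _⟩ := exists_coord T
  haveI : Algebra.FiniteType k A := GMod80.finiteType ψ
  haveI : Algebra.FiniteType k D := GMod80.finiteType ψT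
  haveI : IsDomain D := by
    haveI := Hopf35.TorDom.isDomain_tensor ψT hT k
    exact (Algebra.TensorProduct.lid k D).symm.toMulEquiv.isDomain _
  have hD : HopfRep.IsDiagonalizable k D := by
    obtain ⟨hco, hprim⟩ := (Groth.Agent.S7979.result k D).1 (AlgGrp33.isDiagonalizable_of_isTorus ψT hT)
    haveI := hco
    exact Comod33.Diag.isDiagonalizable_of_no_prim fun x hx => hprim x hx
  obtain ⟨ℓ, N, hℓp, hℓ, hfin, hdet⟩ := exists_detect_alg hD (pullBialg ψ ψT iT)
  refine ⟨ℓ, N, hℓp, hℓ, (hfin.image (ToriConj.ev ψT)).subset fun s hs => ?_, fun R _ _ g hg X' x h => ?_⟩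
  · obtain ⟨s', rfl⟩ := ToriConj.ev_surjective ψT s
    exact ⟨s', ToriConj.ev_injective ψT (show ToriConj.ev ψT (s' ^ (ℓ ^ N)) = ToriConj.ev ψT 1 by
      rw [map_pow, map_one]; exact hs), rfl⟩
  obtain ⟨f, rfl⟩ := (e ψ R).surjective g
  have hc : ∀ s, toUnit (VecGrp.pt k R) ≫ ToriConj.ev ψT s ≫ iT =
      e ψ R (cst R (HopfFlat.restrPts (pullBialg ψ ψT iT) s)) := fun s => by
    rw [CentTorus.ev_comp ψ ψT iT]
    show toUnit _ ≫ ToriConj.pt0 ≫ e ψ k _ = _
    rw [← Category.assoc, ← toUnit_pt0, e_natural]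
    rfl
  have hU := congrArg (e ψ (D ⊗[k] R)) (hdet R f fun s hs => (e ψ R).injective (by
    rw [map_mul, map_mul, ← hc]
    exact (hg _ (by rw [← map_pow, hs, map_one])).symm))
  have h1 : pairIso ψT R ≫ fst T (VecGrp.pt k R) ≫ iT = e ψ (D ⊗[k] R)
      (toConv ((Algebra.TensorProduct.includeLeft : D →ₐ[k] D ⊗[k] R).comp (pullBialg ψ ψT iT : A →ₐ[k] D))) := by
    rw [← Category.assoc, pairIso, lift_fst, e_comp ψ ψT iT]
    rfl
  have h2 : pairIso ψT R ≫ snd T (VecGrp.pt k R) ≫ e ψ R f =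
      e ψ (D ⊗[k] R) (pushHom (Algebra.TensorProduct.includeRight : R →ₐ[k] D ⊗[k] R) f) := by
    rw [← Category.assoc, pairIso, lift_snd, e_natural]
    rfl
  rw [map_mul, map_mul, ← h1, ← h2, ← MonObj.comp_mul, ← MonObj.comp_mul] at hU
  haveI := isIso_pairIso ψT R
  have := lift h x ≫= (cancel_epi (pairIso ψT R)).1 hU
  simp only [MonObj.comp_mul, lift_fst_assoc, lift_snd_assoc] at this
  exact this.symm

end Groth.Agent.AlgGrp79.TorsionDetect
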