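import Mathlib

set_option autoImplicit false
universe u
open Polynomial

namespace Groth.Agent.AlgGrp79

variable {k : Type u} [Field k] [CharZero k]

/-- subalgebras of `k[u]/(u^(N+1))` stable under `u ↦ u/(1+au)` -/
theorem truncPoly_stable (N : ℕ) (A : Subalgebra k (AdjoinRoot ((X : k[X]) ^ (N + 1))))
    (hA : ∀ (a : k) (σ : AdjoinRoot ((X : k[X]) ^ (N + 1)) →ₐ[k] AdjoinRoot ((X : k[X]) ^ (N + 1))),
      σ (AdjoinRoot.root ((X : k[X]) ^ (N + 1))) *
          (1 + algebraMap k (AdjoinRoot ((X : k[X]) ^ (N + 1))) a * AdjoinRoot.root ((X : k[X]) ^ (N + 1))) =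
        AdjoinRoot.root ((X : k[X]) ^ (N + 1)) → A.map σ ≤ A) :
    ∃ n : ℕ, 1 ≤ n ∧ n ≤ N + 1 ∧
      Subalgebra.toSubmodule A =
        Submodule.span k {1} ⊔ (Ideal.span {AdjoinRoot.root ((X : k[X]) ^ (N + 1)) ^ n}).restrictScalars k := by
  set R := AdjoinRoot ((X : k[X]) ^ (N + 1))
  set u : R := AdjoinRoot.root ((X : k[X]) ^ (N + 1))
  have hu : u ^ (N + 1) = 0 := by
    have := AdjoinRoot.eval₂_root ((X : k[X]) ^ (N + 1))
    simpa using this
  -- the inverse of `1 + u`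
  obtain ⟨w, hw⟩ : ∃ w : R, w * (1 + u) = 1 := by
    have : IsNilpotent u := ⟨N + 1, hu⟩
    exact this.isUnit_one_add.exists_left_inv
  let σ : R →ₐ[k] R := AdjoinRoot.liftAlgHom _ (Algebra.ofId k R) (u * w) (by
    simp [mul_pow, hu])
  have hσu : σ u = u * w := AdjoinRoot.liftAlgHom_root _ _ _ _
  have hσA : ∀ f ∈ A, σ f ∈ A := by
    intro f hf
    refine hA 1 σ ?_ ⟨f, hf, rfl⟩
    rw [hσu, map_one, one_mul, mul_assoc, hw, mul_one]
  have hw1 : w = 1 - u * w := by linear_combination hw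
  -- powers of `w`
  have hwpow : ∀ n : ℕ, ∃ r : R, w ^ n = 1 - (n : R) * u + u ^ 2 * r := by
    intro n
    induction n with
    | zero => exact ⟨0, by simp⟩
    | succ n ih =>
      obtain ⟨r, hr⟩ := ih
      refine ⟨(n : R) * w + r * w + w, ?_⟩
      push_cast
      rw [pow_succ, hr]
      linear_combination (1 - (n : R) * u - u) * hw1
  -- `σ r ≡ r` modulo `u`
  have hσr : ∀ r : R, ∃ s : R, σ r = r + u * s := by
    intro r
    obtain ⟨p, rfl⟩ := AdjoinRoot.mk_surjective r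
    have e : σ (AdjoinRoot.mk _ p) = Polynomial.aeval (u * w) p := by
      rw [← AdjoinRoot.aeval_eq, ← Polynomial.aeval_algHom_apply, hσu]
    have e2 : AdjoinRoot.mk _ p = Polynomial.aeval u p := (AdjoinRoot.aeval_eq _).symm
    obtain ⟨t, ht⟩ := Polynomial.sub_dvd_eval_sub (u * w) u (p.map (algebraMap k R))
    refine ⟨(w - 1) * t, ?_⟩
    rw [e, e2]
    simp only [Polynomial.eval_map, ← Polynomial.aeval_def] at ht
    linear_combination ht
  -- every element decomposes along the order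
  have hdec : ∀ m : ℕ, ∀ f : R, (∃ r, f = u ^ m * r) → ∃ (c : k) (r : R), f = algebraMap k R c * u ^ m + u ^ (m + 1) * r := by
    rintro m f ⟨r, rfl⟩
    obtain ⟨p, rfl⟩ := AdjoinRoot.mk_surjective r
    refine ⟨p.coeff 0, AdjoinRoot.mk _ p.divX, ?_⟩
    conv_lhs => rw [← Polynomial.X_mul_divX_add p, map_add, map_mul, AdjoinRoot.mk_X, AdjoinRoot.mk_C]
    show u ^ m * (u * _ + AdjoinRoot.of _ (p.coeff 0)) = algebraMap k R (p.coeff 0) * _ + _
    rw [AdjoinRoot.algebraMap_eq]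
    ring
  -- the key step
  have step : ∀ (m : ℕ) (c : k) (r : R), algebraMap k R c * u ^ m + u ^ (m + 1) * r ∈ A →
      ∃ r', algebraMap k R (-(m : k) * c) * u ^ (m + 1) + u ^ (m + 2) * r' ∈ A := by
    intro m c r hf
    have hd := A.sub_mem (hσA _ hf) hf
    obtain ⟨s, hs⟩ := hσr r
    obtain ⟨a, ha⟩ := hwpow m
    obtain ⟨b, hb⟩ := hwpow (m + 1)
    refine ⟨algebraMap k R c * a + (s + (u * b - ((m : R) + 1)) * (r + u * s)), ?_⟩
    convert hd using 1
    push_cast at hb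
    simp only [map_add, map_mul, map_pow, AlgHom.commutes, hσu, hs, mul_pow, ha, hb, map_neg, map_natCast]
    ring
  classical
  let n : ℕ := Nat.find (p := fun n => 1 ≤ n ∧ (n = N + 1 ∨ ∃ (c : k) (r : R), c ≠ 0 ∧
    algebraMap k R c * u ^ n + u ^ (n + 1) * r ∈ A)) ⟨N + 1, by omega, Or.inl rfl⟩
  obtain ⟨hn1, hn⟩ : 1 ≤ n ∧ (n = N + 1 ∨ ∃ (c : k) (r : R), c ≠ 0 ∧
      algebraMap k R c * u ^ n + u ^ (n + 1) * r ∈ A) := Nat.find_spec (p := fun n => 1 ≤ n ∧ (n = N + 1 ∨
    ∃ (c : k) (r : R), c ≠ 0 ∧ algebraMap k R c * u ^ n + u ^ (n + 1) * r ∈ A)) _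
  have hle : n ≤ N + 1 := Nat.find_min' _ ⟨by omega, Or.inl rfl⟩
  have hup : ∀ m, n ≤ m → m = N + 1 ∨ N + 1 < m ∨ ∃ (c : k) (r : R), c ≠ 0 ∧
      algebraMap k R c * u ^ m + u ^ (m + 1) * r ∈ A := by
    intro m hm
    induction m, hm using Nat.le_induction with
    | base => rcases hn with h | h
              · exact Or.inl h
              · exact Or.inr (Or.inr h)
    | succ m hm ih =>
      rcases ih with rfl | h | ⟨c, r, hc, h⟩
      · exact Or.inr (Or.inl (by omega))
      · exact Or.inr (Or.inl (by omega))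
      · obtain ⟨r', hr'⟩ := step m c r h
        exact Or.inr (Or.inr ⟨_, r', mul_ne_zero (neg_ne_zero.2 (Nat.cast_ne_zero.2 (by omega))) hc, hr'⟩)
  have hpow : ∀ m, N + 1 ≤ m → u ^ m = 0 := fun m hm => by
    obtain ⟨d, rfl⟩ := Nat.exists_eq_add_of_le hm
    rw [pow_add, hu, zero_mul]
  -- `(u^m) ⊆ A` for `m ≥ n`, downward induction
  have hideal : ∀ j m, n ≤ m → N + 1 ≤ m + j → ∀ r : R, u ^ m * r ∈ A := by
    intro j
    induction j with
    | zero => intro m _ hm r; rw [hpow m (by omega), zero_mul]; exact A.zero_mem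
    | succ j ih =>
      intro m hm hmj r
      rcases Nat.lt_or_ge m (N + 1) with hlt | hge
      swap
      · rw [hpow m hge, zero_mul]; exact A.zero_mem
      obtain ⟨c, t, hc, ht⟩ : ∃ (c : k) (t : R), c ≠ 0 ∧ algebraMap k R c * u ^ m + u ^ (m + 1) * t ∈ A := by
        rcases hup m hm with h | h | h
        · omega
        · omega
        · exact h
      have hum : u ^ m ∈ A := by
        have h1 := A.sub_mem ht (ih (m + 1) (by omega) (by omega) t)
        rw [add_sub_cancel_right] at h1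
        have h2 := A.smul_mem h1 c⁻¹
        rwa [Algebra.smul_def, ← mul_assoc, ← map_mul, inv_mul_cancel₀ hc, map_one, one_mul] at h2
      obtain ⟨d, t', hd⟩ := hdec m (u ^ m * r) ⟨r, rfl⟩
      rw [hd, ← Algebra.smul_def]
      exact A.add_mem (A.smul_mem hum d) (ih (m + 1) (by omega) (by omega) t')
  refine ⟨n, hn1, hle, le_antisymm (fun f hf => ?_) ?_⟩
  · obtain ⟨c0, r0, hf0⟩ := hdec 0 f ⟨f, by simp⟩
    simp only [pow_zero, mul_one, zero_add, pow_one] at hf0
    have hrest : ∀ m, 1 ≤ m → m ≤ n → ∃ r, f - algebraMap k R c0 = u ^ m * r := by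
      intro m hm hmn
      induction m, hm using Nat.le_induction with
      | base => exact ⟨r0, by rw [hf0]; ring⟩
      | succ m hm ih =>
        obtain ⟨r, hr⟩ := ih (by omega)
        obtain ⟨c, t, hct⟩ := hdec m _ ⟨r, hr⟩
        rcases eq_or_ne c 0 with rfl | hc
        · exact ⟨t, by simpa using hct⟩
        · exact absurd (show 1 ≤ m ∧ (m = N + 1 ∨ _) from ⟨hm, Or.inr ⟨c, t, hc,
            hct ▸ A.sub_mem hf (A.algebraMap_mem c0)⟩⟩) (Nat.find_min _ (show m < n by omega))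
    obtain ⟨r, hr⟩ := hrest n hn1 le_rfl
    rw [show f = algebraMap k R c0 + (f - algebraMap k R c0) by ring, hr]
    refine Submodule.add_mem_sup ?_ ?_
    · rw [Algebra.algebraMap_eq_smul_one]; exact Submodule.smul_mem _ _ (Submodule.mem_span_singleton_self 1)
    · exact Ideal.mul_mem_right _ _ (Ideal.mem_span_singleton_self _)
  · refine sup_le ((Submodule.span_singleton_le_iff_mem _ _).2 A.one_mem) fun f hf => ?_
    obtain ⟨r, rfl⟩ := Ideal.mem_span_singleton'.1 hf
    rw [mul_comm]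
    exact hideal (N + 1) n le_rfl (by omega) r

end Groth.Agent.AlgGrp79
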