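import Mathlib

set_option autoImplicit false
universe u v w

open CategoryTheory MonoidalCategory CartesianMonoidalCategory MonObj AlgebraicGeometry CategoryTheory.Limits

namespace Groth.Agent.AlgGrp79

variable {C : Type u} [Category.{v} C] [CartesianMonoidalCategory C]

section Units
variable [HasPullbacks C] {M : C} [MonObj M]

noncomputable abbrev unitsPair (M : C) [MonObj M] : M ⊗ M ⟶ M ⊗ M :=
  lift (fst M M * snd M M) (snd M M * fst M M)

noncomputable abbrev unitsObj (M : C) [MonObj M] : C :=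
  pullback (unitsPair M) (lift (η[M]) (η[M]))

noncomputable abbrev unitsι (M : C) [MonObj M] : unitsObj M ⟶ M :=
  pullback.fst (unitsPair M) (lift (η[M]) (η[M])) ≫ fst M M

lemma units_cond {T : C} (p : T ⟶ unitsObj M) :
    ((p ≫ pullback.fst _ _ ≫ fst M M) * (p ≫ pullback.fst _ _ ≫ snd M M) = 1) ∧
    ((p ≫ pullback.fst _ _ ≫ snd M M) * (p ≫ pullback.fst _ _ ≫ fst M M) = 1) := by
  have h := congrArg (p ≫ ·) (pullback.condition (f := unitsPair M) (g := lift (η[M]) (η[M])))
  constructor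
  · have := congrArg (· ≫ fst M M) h
    simpa [MonObj.comp_mul, Hom.one_def, ← toUnit_unique (p ≫ pullback.snd (unitsPair M) (lift (η[M]) (η[M]))) (toUnit T)] using this
  · have := congrArg (· ≫ snd M M) h
    simpa [MonObj.comp_mul, Hom.one_def, ← toUnit_unique (p ≫ pullback.snd (unitsPair M) (lift (η[M]) (η[M]))) (toUnit T)] using this

instance unitsι_mono : Mono (unitsι M) := by
  constructor
  intro T p q h
  obtain ⟨hp1, hp2⟩ := units_cond p
  obtain ⟨hq1, hq2⟩ := units_cond q
  rw [show p ≫ pullback.fst _ _ ≫ fst M M = q ≫ pullback.fst _ _ ≫ fst M M from h] at hp1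
  have := left_inv_eq_right_inv hq2 hp1
  apply pullback.hom_ext
  · ext : 1
    · simpa using h
    · simpa using this.symm
  · exact toUnit_unique _ _

lemma units_iff {T : C} (m : T ⟶ M) : (∃ g : T ⟶ unitsObj M, g ≫ unitsι M = m) ↔ IsUnit m := by
  constructor
  · rintro ⟨g, rfl⟩
    exact ⟨⟨_, g ≫ pullback.fst _ _ ≫ snd M M, (units_cond g).1, (units_cond g).2⟩, rfl⟩
  · rintro ⟨a, rfl⟩
    refine ⟨pullback.lift (lift (a : T ⟶ M) (↑a⁻¹ : T ⟶ M)) (toUnit T) ?_, (pullback.lift_fst_assoc _ _ _ _).trans (lift_fst _ _)⟩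
    ext : 1
    · simp [MonObj.comp_mul, ← Hom.one_def]
    · simp [MonObj.comp_mul, ← Hom.one_def]

end Units


end Groth.Agent.AlgGrp79
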