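import Groth.Agent.AlgGrp79.RosUnits

set_option autoImplicit false
universe u v w

open CategoryTheory MonoidalCategory CartesianMonoidalCategory MonObj AlgebraicGeometry CategoryTheory.Limits
open scoped commutatorElement TensorProduct nonZeroDivisors

namespace Groth.Agent.AlgGrp79

section UnitsFinite
open IsDedekindDomain Multiplicative
variable (k : Type u) [Field k]

open scoped Classical in
/-- The valuation by the total degree. -/
noncomputable def degVal (d : ℕ) : Valuation (MvPolynomial (Fin d) k) (WithZero (Multiplicative ℤ)) where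
  toFun p := if p = 0 then 0 else ((ofAdd (p.totalDegree : ℤ) : Multiplicative ℤ) : WithZero (Multiplicative ℤ))
  map_zero' := if_pos rfl
  map_one' := by rw [if_neg _root_.one_ne_zero, MvPolynomial.totalDegree_one]; rfl
  map_mul' p q := by
    by_cases hp : p = 0
    · simp [hp]
    by_cases hq : q = 0
    · simp [hq]
    rw [if_neg (mul_ne_zero hp hq), if_neg hp, if_neg hq, MvPolynomial.totalDegree_mul_of_isDomain hp hq,
      ← WithZero.coe_mul, ← ofAdd_add, Nat.cast_add]
  map_add_le_max' p q := by
    by_cases hp : p = 0
    · simp [hp]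
    by_cases hq : q = 0
    · simp [hq]
    by_cases hpq : p + q = 0
    · simp [hpq]
    rw [if_neg hpq, if_neg hp, if_neg hq]
    rcases le_max_iff.1 (MvPolynomial.totalDegree_add p q) with h | h
    · refine le_max_of_le_left (WithZero.coe_le_coe.2 ?_)
      exact ofAdd_le.2 (by exact_mod_cast h)
    · refine le_max_of_le_right (WithZero.coe_le_coe.2 ?_)
      exact ofAdd_le.2 (by exact_mod_cast h)

/-- Units of a finitely generated domain modulo constants embed into a free module of finite rank. -/
theorem exists_units_val [IsAlgClosed k] (A : Type u) [CommRing A] [IsDomain A] [Algebra k A] [Algebra.FiniteType k A] :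
    ∃ (n : ℕ) (v : Aˣ →* Multiplicative (Fin n → ℤ)), ∀ a : Aˣ, v a = 1 → ∃ c : k, algebraMap k A c = a := by
  classical
  obtain ⟨d, g, hg, hfin⟩ := exists_finite_inj_algHom_of_fg (k := k) (R := A)
  algebraize [g.toRingHom]
  have : Module.Finite (MvPolynomial (Fin d) k) A := hfin
  have : IsScalarTower k (MvPolynomial (Fin d) k) A := IsScalarTower.of_algHom g
  have hconst : ∀ a : A, IsIntegral k a → ∃ c : k, algebraMap k A c = a := fun a ha => by
    obtain ⟨c, hc⟩ := minpoly.mem_range_of_degree_eq_one k a
      (IsAlgClosed.degree_eq_one_of_irreducible k (minpoly.irreducible ha))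
    exact ⟨c, hc⟩
  rcases Nat.eq_zero_or_pos d with hd | hd
  · subst hd
    refine ⟨0, 1, fun a _ => hconst _ ?_⟩
    have hb : IsIntegral (MvPolynomial (Fin 0) k) (a : A) := IsIntegral.of_finite _ _
    have : Algebra.IsIntegral k (MvPolynomial (Fin 0) k) := ⟨fun p => by
      obtain ⟨c, rfl⟩ := MvPolynomial.C_surjective (Fin 0) p
      exact isIntegral_algebraMap⟩
    exact isIntegral_trans _ hb
  let P := MvPolynomial (Fin d) k
  let K := FractionRing P
  let L := FractionRing A
  have : FaithfulSMul P A := (faithfulSMul_iff_algebraMap_injective P A).2 hg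
  let : Algebra K L := FractionRing.liftAlgebra P L
  have : IsScalarTower P K L := FractionRing.isScalarTower_liftAlgebra P L
  have : FiniteDimensional K L := by
    obtain ⟨t, ht⟩ := (Module.Finite.fg_top : (⊤ : Submodule P A).FG)
    let F := IntermediateField.adjoin K ((algebraMap A L) '' (t : Set A))
    have : Finite ((algebraMap A L) '' (t : Set A)) := (t.finite_toSet.image _).to_subtype
    have hF : FiniteDimensional K F := IntermediateField.finiteDimensional_adjoin fun x hx => by
      obtain ⟨a, -, rfl⟩ := hx
      exact ((IsIntegral.of_finite P a).map (IsScalarTower.toAlgHom P A L)).tower_top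
    have hA : ∀ a : A, algebraMap A L a ∈ F := fun a => by
      have ha : a ∈ Submodule.span P (t : Set A) := ht ▸ trivial
      induction ha using Submodule.span_induction with
      | mem x hx => exact IntermediateField.subset_adjoin _ _ ⟨x, hx, rfl⟩
      | zero => rw [map_zero]; exact zero_mem _
      | add x y _ _ hx hy => rw [map_add]; exact add_mem hx hy
      | smul c x _ hx =>
        rw [Algebra.smul_def, map_mul, ← IsScalarTower.algebraMap_apply P A L, IsScalarTower.algebraMap_apply P K L]
        exact mul_mem (F.algebraMap_mem _) hx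
    have htop : F = ⊤ := eq_top_iff.2 fun x _ => by
      obtain ⟨a, b, -, rfl⟩ := IsFractionRing.div_surjective (A := A) x
      exact div_mem (hA a) (hA b)
    exact Module.Finite.equiv ((IntermediateField.equivOfEq htop).trans IntermediateField.topEquiv).toLinearEquiv
  let Ls : IntermediateField K L := separableClosure K L
  -- the valuation at infinity
  have hS : P⁰ ≤ (degVal k d).supp.primeCompl := by
    intro p hp h
    have h' : degVal k d p = 0 := h
    have hp0 : p ≠ 0 := nonZeroDivisors.ne_zero hp
    simp [degVal, hp0] at h'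
  let vI : Valuation K (WithZero (Multiplicative ℤ)) := (degVal k d).extendToLocalization hS K
  have hvI : ∀ p : P, vI (algebraMap P K p) = degVal k d p := fun p =>
    Valuation.extendToLocalization_apply_map_apply _ hS K p
  let O := vI.valuationSubring
  have : Nontrivial (MonoidWithZeroHom.valueGroup (MonoidWithZeroHom.ofClass vI)) := by
    rw [Subgroup.nontrivial_iff_ne_bot]
    intro hbot
    have hX : (MvPolynomial.X ⟨0, hd⟩ : P) ≠ 0 := MvPolynomial.X_ne_zero _
    have hx : vI (algebraMap P K (MvPolynomial.X ⟨0, hd⟩)) = ((ofAdd (1 : ℤ) : Multiplicative ℤ) : WithZero (Multiplicative ℤ)) := by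
      rw [hvI]; simp [degVal, hX]
    have hmem : (Units.mk0 _ (show ((ofAdd (1 : ℤ) : Multiplicative ℤ) : WithZero (Multiplicative ℤ)) ≠ 0 from WithZero.coe_ne_zero)) ∈
        MonoidWithZeroHom.valueGroup (MonoidWithZeroHom.ofClass vI) :=
      MonoidWithZeroHom.mem_valueGroup _ ⟨_, hx⟩
    rw [hbot, Subgroup.mem_bot, Units.ext_iff, Units.val_mk0, Units.val_one, ← WithZero.coe_one, WithZero.coe_inj] at hmem
    exact absurd (congrArg toAdd hmem) (by simp)
  have hdvr : IsDiscreteValuationRing O := inferInstance
  let C := integralClosure O Ls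
  have : IsScalarTower O K Ls := IsScalarTower.of_algebraMap_eq fun x => rfl
  have hded : IsDedekindDomain C := IsIntegralClosure.isDedekindDomain O K Ls C
  have : IsFractionRing C Ls := IsIntegralClosure.isFractionRing_of_finite_extension O K Ls C
  have : Module.Finite O C := IsIntegralClosure.finite O K Ls C
  have hfinH : Finite (HeightOneSpectrum C) := by
    have hfinP : Finite (Ideal.primesOver (IsLocalRing.maximalIdeal O) C) := (IsDedekindDomain.primesOver_finite _ _).to_subtype
    refine Finite.of_injective (fun P : HeightOneSpectrum C => (⟨P.asIdeal, P.isPrime, ⟨?_⟩⟩ :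
      Ideal.primesOver (IsLocalRing.maximalIdeal O) C)) fun P Q h => HeightOneSpectrum.ext (congrArg Subtype.val h)
    have := P.isMaximal
    exact (IsLocalRing.eq_maximalIdeal (Ideal.IsMaximal.under O P.asIdeal)).symm
  have := Fintype.ofFinite (HeightOneSpectrum C)
  let σ := (Fintype.equivFin (HeightOneSpectrum C)).symm
  let q := ringExpChar Ls ^ IsPurelyInseparable.exponent Ls L
  have hq : q ≠ 0 := pow_ne_zero _ (expChar_pos Ls _).ne'
  let pw : Aˣ →* Lsˣ := MonoidHom.toHomUnits
    { toFun := fun a => Classical.choose (IsPurelyInseparable.exponent_def Ls (algebraMap A L (a : A)))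
      map_one' := by
        apply (algebraMap Ls L).injective
        rw [Classical.choose_spec (IsPurelyInseparable.exponent_def Ls (algebraMap A L ((1 : Aˣ) : A))), Units.val_one, map_one, one_pow, map_one]
      map_mul' := fun a b => by
        apply (algebraMap Ls L).injective
        rw [map_mul, Classical.choose_spec (IsPurelyInseparable.exponent_def Ls (algebraMap A L ((a * b : Aˣ) : A))),
          Classical.choose_spec (IsPurelyInseparable.exponent_def Ls (algebraMap A L (a : A))),
          Classical.choose_spec (IsPurelyInseparable.exponent_def Ls (algebraMap A L (b : A))),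
          Units.val_mul, map_mul, mul_pow] }
  have hpw : ∀ a : Aˣ, algebraMap Ls L (pw a : Ls) = algebraMap A L (a : A) ^ q := fun a =>
    Classical.choose_spec (IsPurelyInseparable.exponent_def Ls (algebraMap A L (a : A)))
  let ev (P : HeightOneSpectrum C) : Lsˣ →* Multiplicative ℤ :=
    WithZero.unitsWithZeroEquiv.toMonoidHom.comp (Units.map (P.valuation Ls).toMonoidWithZeroHom.toMonoidHom)
  let v : Aˣ →* Multiplicative (Fin (Fintype.card (HeightOneSpectrum C)) → ℤ) :=
    { toFun := fun a => ofAdd fun i => toAdd (ev (σ i) (pw a))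
      map_one' := by simp only [map_one, toAdd_one]; rfl
      map_mul' := fun a b => by simp only [map_mul, toAdd_mul]; rfl }
  refine ⟨_, v, fun a ha => ?_⟩
  have hval : ∀ P : HeightOneSpectrum C, P.valuation Ls (pw a : Ls) = 1 := fun P => by
    have h1 : toAdd (ev (σ (σ.symm P)) (pw a)) = 0 := congrFun (congrArg toAdd ha) (σ.symm P)
    rw [Equiv.apply_symm_apply, toAdd_eq_zero] at h1
    have h2 := congrArg WithZero.unitsWithZeroEquiv.symm h1
    simp only [ev, MonoidHom.comp_apply, MulEquiv.coe_toMonoidHom, MulEquiv.symm_apply_apply, map_one] at h2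
    exact congrArg Units.val h2
  obtain ⟨b, hb⟩ := HeightOneSpectrum.mem_integers_of_valuation_le_one (R := C) Ls (pw a : Ls) fun P => (hval P).le
  -- integral over `O` and over `P`
  let z : L := algebraMap Ls L (pw a : Ls)
  have hzO : IsIntegral O (pw a : Ls) := hb ▸ b.2
  have hzP : IsIntegral P z := by
    show IsIntegral P (algebraMap Ls L (pw a : Ls))
    rw [hpw a]
    exact (IsIntegral.algebraMap (B := L) (IsIntegral.of_finite P (a : A))).pow q
  have hzP' : IsIntegral P (pw a : Ls) :=
    (isIntegral_algHom_iff (Ls.val.restrictScalars P) Subtype.val_injective).1 hzP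
  have hmP := minpoly.isIntegrallyClosed_eq_field_fractions' K hzP'
  have hmO := minpoly.isIntegrallyClosed_eq_field_fractions' K hzO
  have hcoef : ∀ i, ∃ c : k, algebraMap k K c = (minpoly K (pw a : Ls)).coeff i := fun i => by
    set p := (minpoly P (pw a : Ls)).coeff i with hp
    have e1 : (minpoly K (pw a : Ls)).coeff i = algebraMap P K p := by rw [hmP, Polynomial.coeff_map]
    have e2 : vI ((minpoly K (pw a : Ls)).coeff i) ≤ 1 := by
      rw [hmO, Polynomial.coeff_map]
      exact ((minpoly O (pw a : Ls)).coeff i).2
    rw [e1, hvI] at e2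
    by_cases h0 : p = 0
    · exact ⟨0, by rw [map_zero, e1, h0, map_zero]⟩
    simp only [degVal, Valuation.coe_mk, MonoidWithZeroHom.coe_mk, ZeroHom.coe_mk, if_neg h0] at e2
    rw [← WithZero.coe_one, WithZero.coe_le_coe, ← ofAdd_zero, ofAdd_le] at e2
    have h0' : p.totalDegree = 0 := by omega
    refine ⟨p.coeff 0, ?_⟩
    rw [e1, IsScalarTower.algebraMap_apply k P K]
    congr 1
    exact (MvPolynomial.totalDegree_eq_zero_iff_eq_C.1 h0').symm
  have hzk : IsIntegral k (pw a : Ls) := by
    choose c hc using hcoef
    obtain ⟨mk, hmk, -, hmkm⟩ := Polynomial.lifts_and_degree_eq_and_monic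
      ((Polynomial.lifts_iff_coeff_lifts (f := algebraMap k K) (minpoly K (pw a : Ls))).2 fun i => ⟨c i, hc i⟩)
      (minpoly.monic (Algebra.IsIntegral.isIntegral _))
    refine ⟨mk, hmkm, ?_⟩
    rw [← Polynomial.aeval_def, ← Polynomial.aeval_map_algebraMap K, hmk, minpoly.aeval]
  have hzL : IsIntegral k (algebraMap A L (a : A) ^ q) := by
    rw [← hpw a]
    exact hzk.map (Ls.val.restrictScalars k)
  have : IsIntegral k (a : A) := by
    rw [← isIntegral_algHom_iff (IsScalarTower.toAlgHom k A L) (IsFractionRing.injective A L)]
    exact IsIntegral.of_pow (Nat.pos_of_ne_zero hq) hzL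
  exact hconst _ this

end UnitsFinite

end Groth.Agent.AlgGrp79
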