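import Groth.Agent.AlgGrp79.GLFrame
import Mathlib.RingTheory.TensorProduct.MvPolynomial
import Mathlib.AlgebraicGeometry.Geometrically.Integral

/-!
Affine space and the linear action attached to a representation.
-/

set_option autoImplicit false
set_option backward.isDefEq.respectTransparency.types false
universe u

open CategoryTheory CategoryTheory.Limits MonoidalCategory CartesianMonoidalCategory MonObj AlgebraicGeometry
open Groth.Agent.RedPts82 CoordGrp CoactBr
open scoped TensorProduct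

noncomputable section

namespace Groth.Agent.AlgGrp79.VectorAction

open GLnDiag

variable {k : Type u} [Field k] {n : ℕ}

/-- affine space -/
abbrev Aff (k : Type u) [Field k] (n : ℕ) : Over (Spec (CommRingCat.of k)) := sp k (MvPolynomial (Fin n) k)

/-- coordinates of a point -/
def vFn {X : Over (Spec (CommRingCat.of k))} (x : X ⟶ Aff k n) : Fin n → Γ(X.left, ⊤) :=
  fun i => x.left.appTop ((Scheme.ΓSpecIso (CommRingCat.of (MvPolynomial (Fin n) k))).inv (MvPolynomial.X i))

lemma vFn_comp {X Y : Over (Spec (CommRingCat.of k))} (f : Y ⟶ X) (x : X ⟶ Aff k n) :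
    vFn (f ≫ x) = fun i => f.left.appTop (vFn x i) := by
  funext i
  simp [vFn, Scheme.Hom.comp_appTop]

lemma vFn_injective {X : Over (Spec (CommRingCat.of k))} {x y : X ⟶ Aff k n} (h : vFn x = vFn y) : x = y := by
  letI := gAlg X
  rw [eq_affPt_pt x, eq_affPt_pt y]
  congr 2
  exact MvPolynomial.algHom_ext fun i => congrFun h i

lemma vFn_surjective {X : Over (Spec (CommRingCat.of k))} (v : Fin n → Γ(X.left, ⊤)) : ∃ x : X ⟶ Aff k n, vFn x = v := by
  letI := gAlg X
  refine ⟨affPt X ≫ pt (MvPolynomial.aeval v), funext fun i => ?_⟩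
  exact (coAlg_affPt_pt (MvPolynomial.aeval v) (MvPolynomial.X i)).trans (MvPolynomial.aeval_X v i)

lemma lft_Aff : LocallyOfFiniteType (Aff k n).hom := by
  show LocallyOfFiniteType (Spec.map (CommRingCat.ofHom (algebraMap k (MvPolynomial (Fin n) k))))
  rw [HasRingHomProperty.Spec_iff (P := @LocallyOfFiniteType)]
  exact RingHom.finiteType_algebraMap.2 inferInstance

lemma geometricallyIntegral_Aff : GeometricallyIntegral (Aff k n).hom := by
  refine ⟨geometrically_iff_of_commRing.mpr fun K _ _ Y f g h => ?_⟩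
  have : IsDomain (MvPolynomial (Fin n) k ⊗[k] K) :=
    (Algebra.TensorProduct.comm k (MvPolynomial (Fin n) k) K).toRingEquiv.trans
      (MvPolynomial.scalarRTensorAlgEquiv (R := k) (σ := Fin n) (N := K)).toRingEquiv |>.toMulEquiv.isDomain
  let e : Y ≅ Spec (CommRingCat.of (MvPolynomial (Fin n) k ⊗[k] K)) :=
    h.isoPullback ≪≫ pullbackSpecIso k (MvPolynomial (Fin n) k) K
  haveI : Nonempty Y := ⟨e.inv (Nonempty.some inferInstance)⟩
  exact isIntegral_of_isOpenImmersion e.hom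

/-- the linear action of a representation -/
theorem exists_action {G : Over (Spec (CommRingCat.of k))} [GrpObj G] (ρ : G ⟶ sp k (GLn n k)) [IsMonHom ρ] :
    ∃ a : AlgGrp.Action G (Aff k n), ∀ (T : Over (Spec (CommRingCat.of k))) (g : T ⟶ G) (v : T ⟶ Aff k n),
      vFn (lift g v ≫ a.act) = Matrix.mulVec (glFn (g ≫ ρ)) (vFn v) := by
  obtain ⟨act, hact⟩ := vFn_surjective (k := k) (X := G ⊗ Aff k n)
    (Matrix.mulVec (glFn (fst G (Aff k n) ≫ ρ)) (vFn (snd G (Aff k n))))
  have h : ∀ (T : Over (Spec (CommRingCat.of k))) (g : T ⟶ G) (v : T ⟶ Aff k n),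
      vFn (lift g v ≫ act) = Matrix.mulVec (glFn (g ≫ ρ)) (vFn v) := fun T g v => by
    funext i
    rw [vFn_comp, hact, ← lift_fst g v, Category.assoc, glFn_comp (lift g v)]
    conv_rhs => rw [← lift_snd g v, vFn_comp (lift g v)]
    simp [Matrix.mulVec, dotProduct, map_sum]
  refine ⟨{ act := act, one_act := ?_, mul_act := ?_ }, h⟩
  · refine vFn_injective ?_
    have e1 : (η[G] ▷ Aff k n) = lift (fst _ _ ≫ η[G]) (snd _ _) := by ext : 1 <;> simp
    rw [e1, h, toUnit_unique (fst (𝟙_ _) (Aff k n)) (toUnit _), ← one_def', MonObj.one_comp, glFn_one, Matrix.one_mulVec, leftUnitor_hom]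
  · refine vFn_injective ?_
    have hμ : (μ[G] : G ⊗ G ⟶ G) = fst G G * snd G G := by
      rw [Hom.mul_def, lift_fst_snd, Category.id_comp]
    have e1 : (μ[G] ▷ Aff k n) = lift (fst _ _ ≫ μ[G]) (snd _ _) := by ext : 1 <;> simp
    have e2 : (α_ G G (Aff k n)).hom ≫ (G ◁ act) =
        lift (fst _ _ ≫ fst G G) (lift (fst _ _ ≫ snd G G) (snd _ _) ≫ act) := by
      ext : 1
      · simp
      · have e3 : lift (fst _ _ ≫ snd G G) (snd _ _) = (α_ G G (Aff k n)).hom ≫ snd G (G ⊗ Aff k n) := by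
          ext : 1 <;> simp
        simp [e3]
    rw [e1, ← Category.assoc, e2, h, h, h, hμ, MonObj.comp_mul, mul_comp', glFn_mul, Matrix.mulVec_mulVec]

theorem eq_one_of_trivial {G : Over (Spec (CommRingCat.of k))} [GrpObj G] (ρ : G ⟶ sp k (GLn n k)) [IsMonHom ρ]
    (a : AlgGrp.Action G (Aff k n))
    (ha : ∀ (T : Over (Spec (CommRingCat.of k))) (g : T ⟶ G) (v : T ⟶ Aff k n),
      vFn (lift g v ≫ a.act) = Matrix.mulVec (glFn (g ≫ ρ)) (vFn v))
    (h : a.act = snd G (Aff k n)) : ρ = 1 := by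
  classical
  apply glFn_injective
  rw [glFn_one]
  ext i j
  obtain ⟨v, hv⟩ := vFn_surjective (k := k) (X := G) (Pi.single j 1)
  have e := ha G (𝟙 G) v
  rw [h, lift_snd, hv, Category.id_comp, Matrix.mulVec_single_one] at e
  have e2 := congrFun e i
  simp only [Pi.single_apply, Matrix.col_apply] at e2
  rw [← e2, Matrix.one_apply]

theorem exists_fixedPt {G : Over (Spec (CommRingCat.of k))} [GrpObj G] (ρ : G ⟶ sp k (GLn n k)) [IsMonHom ρ]
    (a : AlgGrp.Action G (Aff k n))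
    (ha : ∀ (T : Over (Spec (CommRingCat.of k))) (g : T ⟶ G) (v : T ⟶ Aff k n),
      vFn (lift g v ≫ a.act) = Matrix.mulVec (glFn (g ≫ ρ)) (vFn v)) :
    ∃ o : 𝟙_ (Over (Spec (CommRingCat.of k))) ⟶ Aff k n, a.IsFixedPt o := by
  obtain ⟨o, ho⟩ := vFn_surjective (k := k) (n := n) (X := 𝟙_ (Over (Spec (CommRingCat.of k)))) 0
  refine ⟨o, fun T g => vFn_injective ?_⟩
  have hz : vFn (toUnit T ≫ o) = 0 := by
    rw [vFn_comp, ho]; funext i; exact map_zero (toUnit T).left.appTop.hom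
  rw [ha, hz, Matrix.mulVec_zero]

/-- triviality of all representations gives anti-affineness -/
theorem antiAff_of_reps_trivial (G : Over (Spec (CommRingCat.of k))) [GrpObj G] [LocallyOfFiniteType G.hom] [QuasiCompact G.hom]
    (h : ∀ (n : ℕ) (ρ : G ⟶ sp k (GLn n k)), IsMonHom ρ → ρ = 1) : AntiAff G := by
  have := isSeparated_grp G
  letI := GLnDiag.gAlg G
  let a := NonAbH1.trivialAction G
  refine ⟨const_injective η[G], fun f => ?_⟩
  obtain ⟨V, hfV, _, hV⟩ := ActRep.exists_stable a {f}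
  obtain ⟨n, ρ, hρm, hfix⟩ := ActRep.exists_rep a V hV
  have h1 := ActRep.act_trivial_of_fix a (𝟙 G) f
    ((hfix G (𝟙 G)).1 (by rw [Category.id_comp, h n ρ hρm]) f (hfV f (Finset.mem_singleton_self f))) (𝟙 G) (1 : G ⟶ G)
  have h2 : lift (𝟙 G ≫ 𝟙 G) (1 : G ⟶ G) ≫ a.act = 𝟙 G := by
    show lift (𝟙 G ≫ 𝟙 G) (1 : G ⟶ G) ≫ μ[G] = 𝟙 G
    rw [← Hom.mul_def, Category.id_comp, _root_.mul_one]
  rw [h2, ProdSections.pb_id] at h1
  obtain ⟨r, hr⟩ := ActRep.exists_scalar_one (G := G) (P := G) f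
  exact ⟨r, (h1.trans hr).symm⟩

lemma rep_trivial_of_antiAff {G : Over (Spec (CommRingCat.of k))} [GrpObj G] (hG : AntiAff G) {m : ℕ}
    (ρ : G ⟶ sp k (GLn m k)) [IsMonHom ρ] : ρ = 1 := by
  have : IsAffine (sp k (GLn m k)).left := inferInstanceAs (IsAffine (Spec (CommRingCat.of (GLn m k))))
  rw [eq_const_of_isAffine hG η[G] ρ, IsMonHom.one_hom, one_def']

end Groth.Agent.AlgGrp79.VectorAction
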