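import Groth.Agent.AlgGrp79.ProdDense
import Groth.Agent.AlgGrp79.Cover
import Groth.Agent.RedPts82.Coord

/-!
Conjugation of a normal subgroup by a point over an extension, as an automorphism of its base change.
-/

set_option autoImplicit false
universe u

open CategoryTheory CategoryTheory.Limits MonoidalCategory CartesianMonoidalCategory MonObj AlgebraicGeometry
open Groth.Agent.RedPts82

noncomputable section

namespace Groth.Agent.AlgGrp79

variable {S' S : Scheme.{u}} (f : S' ⟶ S)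

/-- structure map of an object over `S'` seen over `S` -/
def structPt (X : Over S') : (Over.map f).obj X ⟶ Over.mk f := Over.homMk X.hom rfl

lemma map_comp_structPt {X Y : Over S'} (a : X ⟶ Y) : (Over.map f).map a ≫ structPt f Y = structPt f X := by
  ext : 1
  exact Over.w a

lemma toBase_eq_map_comp {X : Over S'} {P : Over S} (a : X ⟶ Red.bc f P) :
    (Over.map f).map a ≫ toBase f (𝟙 (Red.bc f P)) = toBase f a := by
  rw [← toBase_comp, Category.comp_id]

/-- the automorphism of `N_{S'}` given by the action of `x` through `m` -/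
def conjMap {G N : Over S} (m : G ⊗ N ⟶ N) (x : Over.mk f ⟶ G) : Red.bc f N ⟶ Red.bc f N :=
  ofBase f (lift (structPt f _ ≫ x) (toBase f (𝟙 (Red.bc f N))) ≫ m)

lemma toBase_comp_conjMap {G N : Over S} [GrpObj G] [GrpObj N] (iN : N ⟶ G) (m : G ⊗ N ⟶ N)
    (hm : m ≫ iN = fst G N * (snd G N ≫ iN) * (fst G N)⁻¹) (x : Over.mk f ⟶ G) {X : Over S'} (a : X ⟶ Red.bc f N) :
    toBase f (a ≫ conjMap f m x) ≫ iN =
      (structPt f X ≫ x) * (toBase f a ≫ iN) * (structPt f X ≫ x)⁻¹ := by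
  rw [conjMap, toBase_comp, toBase_ofBase, ← Category.assoc, comp_lift, reassoc_of% map_comp_structPt f a,
    toBase_eq_map_comp, Category.assoc, hm, MonObj.comp_mul, MonObj.comp_mul, GrpObj.comp_inv, lift_fst,
    lift_snd_assoc]

theorem exists_conj_iso {G N : Over S} [GrpObj G] [GrpObj N] (iN : N ⟶ G) [IsMonHom iN] [Mono iN]
    (hN : AlgGrp.IsNormalHom iN) (x : Over.mk f ⟶ G) :
    ∃ α : Red.bc f N ≅ Red.bc f N, IsMonHom α.hom ∧ ∀ (X : Over S') (a : X ⟶ Red.bc f N),
      toBase f (a ≫ α.hom) ≫ iN = (structPt f X ≫ x) * (toBase f a ≫ iN) * (structPt f X ≫ x)⁻¹ := by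
  obtain ⟨m, hm⟩ := hN _ (fst G N) (snd G N)
  have hinv : ∀ (y : Over.mk f ⟶ G), conjMap f m y ≫ conjMap f m y⁻¹ = 𝟙 _ := fun y => by
    apply toBase_injective
    rw [← cancel_mono iN, toBase_comp_conjMap f iN m hm.symm, ← Category.id_comp (conjMap f m y),
      toBase_comp_conjMap f iN m hm.symm, GrpObj.comp_inv]
    group
  refine ⟨⟨conjMap f m x, conjMap f m x⁻¹, hinv x, by simpa using hinv x⁻¹⟩, ?_,
    fun X a => toBase_comp_conjMap f iN m hm.symm x a⟩
  refine isMonHom_of_points _ fun X a b => ?_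
  apply toBase_injective
  rw [← cancel_mono iN, toBase_comp_conjMap f iN m hm.symm, toBase_mul, toBase_mul, mul_comp', mul_comp',
    toBase_comp_conjMap f iN m hm.symm, toBase_comp_conjMap f iN m hm.symm]
  group

theorem exists_lift_conj {G N H : Over S} [GrpObj G] [GrpObj N] (iN : N ⟶ G) (j : H ⟶ N)
    (α : Red.bc f N ⟶ Red.bc f N) (β : Red.bc f H ⟶ Red.bc f H) (x : Over.mk f ⟶ G)
    (hα : ∀ (X : Over S') (a : X ⟶ Red.bc f N),
      toBase f (a ≫ α) ≫ iN = (structPt f X ≫ x) * (toBase f a ≫ iN) * (structPt f X ≫ x)⁻¹)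
    (hβ : β ≫ (Over.pullback f).map j = (Over.pullback f).map j ≫ α)
    {T : Over S} (t : T ⟶ Over.mk f) (y : T ⟶ H) :
    ∃ z : T ⟶ H, z ≫ j ≫ iN = (t ≫ x) * (y ≫ j ≫ iN) * (t ≫ x)⁻¹ := by
  let T' : Over S' := Over.mk t.left
  let e : T ⟶ (Over.map f).obj T' := Over.homMk (𝟙 T.left) (by
    show 𝟙 T.left ≫ t.left ≫ f = T.hom
    rw [Category.id_comp]; exact Over.w t)
  let e' : (Over.map f).obj T' ⟶ T := Over.homMk (𝟙 T.left) (by
    show 𝟙 T.left ≫ T.hom = t.left ≫ f
    rw [Category.id_comp]; exact (Over.w t).symm)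
  have he : e ≫ e' = 𝟙 _ := by ext : 1; exact Category.id_comp _
  have ht : e ≫ structPt f T' = t := by ext : 1; exact Category.id_comp _
  let y' : T' ⟶ Red.bc f H := ofBase f (e' ≫ y)
  refine ⟨e ≫ toBase f (y' ≫ β), ?_⟩
  rw [Category.assoc, ← Category.assoc (toBase f _) j iN, ← toBase_comp_map, Category.assoc, hβ, ← Category.assoc y',
    hα, toBase_comp_map, toBase_ofBase, MonObj.comp_mul, MonObj.comp_mul, GrpObj.comp_inv, reassoc_of% ht]
  simp [reassoc_of% he]

end Groth.Agent.AlgGrp79
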